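import Cfsg.Agent.N2.Cl.RD.WLin
import Cfsg.Agent.SM.Ti.Tool
import Cfsg.Agent.H117.LeviB

/-!
# N2 (S3519), defining characteristic: the criterion W (helper69)

`g₀` over `(wordProd ω)⁻¹` permutes the vertex lines and the interiors of the edges.

* `cv A c L` : the vertex of the word `L` (`c` vanishes on `Jx`), `orb A c ω (L, j)` : its image under `g₀ ^ j`;
* `Gd a o m` : `o` vectors generate a `k[a]`-module of dimension at least `m`;
* **`gd`** : `Gd` from lists of orbits (word, length) of vertices and ((node, word), length) of edges;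
* **`dm_le`**, `ev_le` : the bounds for the commutant and the eigenspaces.
-/

set_option autoImplicit false
set_option linter.unusedSectionVars false

namespace Cfsg.Agent.N2C.RD.Rg

open CoxeterSystem Cfsg.Agent.ChevalleyStructure.CoxeterGeom Cfsg.Agent.Tits.Roots Cfsg.Agent.Tits.Core
  Cfsg.Agent.Tits.Exchange Cfsg.Agent.Nodes.Reps Cfsg.Agent.Nodes.BNOf Cfsg.Agent.Nodes.StabComb
  Cfsg.Agent.Nodes.Bruhat Cfsg.Agent.Nodes.OppDec Cfsg.Agent.Nodes.LeviDec Cfsg.Agent.KFacts.RgdOpp
  Cfsg.Agent.Omega.CR Cfsg.Agent.Omega.FOne.Lift.Sd Cfsg.Agent.H911 Cfsg.Agent.H905.Md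
open Cfsg Cfsg.Geo Module
open Cfsg.Agent.H915.LD
open Cfsg.Agent.H905.DC (co fire cf co_mul_simple co_mul_left co_wordProd co_one)
open Cfsg.Agent.N2C.RD.WL

/-! ### combinatorics -/

section comb

variable {I : Type*}

/-- the vertex of a word -/
def cv (A : I → I → ℤ) (c : I → ℤ) (L : List I) : I → ℤ := L.foldl (fire A) c

/-- the orbit of a vertex -/
def orb (A : I → I → ℤ) (c : I → ℤ) (ω : List I) (e : List I × ℕ) : I → ℤ := (fun x => cv A x ω)^[e.2] (cv A c e.1)

/-- the points of a list of orbits -/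
def pts {α : Type*} (L : List (α × ℕ)) : List (α × ℕ) := L.flatMap fun e => (List.range e.2).map fun j => (e.1, j)

/-- the word of a point -/
def wd (ω : List I) (L : List I) : ℕ → List I
  | 0 => L
  | j + 1 => wd ω L j ++ ω

theorem cv_append (A : I → I → ℤ) (c : I → ℤ) (L L' : List I) : cv A c (L ++ L') = cv A (cv A c L) L' := List.foldl_append

theorem orb_eq (A : I → I → ℤ) (c : I → ℤ) (ω L : List I) (j : ℕ) : orb A c ω (L, j) = cv A c (wd ω L j) := by
  induction j with
  | zero => rfl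
  | succ j ih =>
    rw [wd, cv_append, ← ih]
    exact Function.iterate_succ_apply' _ _ _

theorem length_pts {α : Type*} (L : List (α × ℕ)) : (pts L).length = (L.map Prod.snd).sum := by
  induction L with
  | nil => rfl
  | cons e L ih =>
    unfold pts at ih ⊢
    rw [List.flatMap_cons, List.length_append, ih, List.length_map, List.length_range, List.map_cons, List.sum_cons]

theorem mem_pts {α : Type*} {L : List (α × ℕ)} {x : α × ℕ} (h : x ∈ pts L) : ∃ e ∈ L, e.1 = x.1 := by
  obtain ⟨e, he, hx⟩ := List.mem_flatMap.1 h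
  obtain ⟨j, -, rfl⟩ := List.mem_map.1 hx
  exact ⟨e, he, rfl⟩

theorem inj_of_nodup {α β : Type*} {L : List α} {f : α → β} (h : (L.map f).Nodup) {a b : Fin L.length}
    (e : f (L.get a) = f (L.get b)) : a = b := by
  have h2 := List.nodup_iff_injective_get.1 h
  have h3 : (⟨a, by rw [List.length_map]; exact a.2⟩ : Fin (L.map f).length) = ⟨b, by rw [List.length_map]; exact b.2⟩ := by
    apply h2
    simpa using e
  have h4 := congrArg Fin.val h3
  exact Fin.ext h4

variable {W : Type*} [Fintype I] [DecidableEq I] [Group W] {M : CoxeterMatrix I} (cs : CoxeterSystem M W)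
  {A : I → I → ℤ} (h : IsCartan M A)

/-- the vertex of an element of the Weyl group -/
def cw (c : I → ℤ) (w : W) : I → ℤ := fun m => ∑ s, c s * co cs h s w m

theorem cw_one (c : I → ℤ) : cw cs h c 1 = c := by
  funext m
  unfold cw
  rw [Finset.sum_eq_single m]
  · rw [co_one, sr_self, mul_one]
  · intro s _ hs
    rw [co_one, sr_ne (Ne.symm hs), mul_zero]
  · intro h1
    exact absurd (Finset.mem_univ m) h1

theorem cw_mul_simple (c : I → ℤ) (w : W) (j : I) : cw cs h c (w * cs.simple j) = fire A (cw cs h c w) j := by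
  funext m
  simp only [cw, fire, co_mul_simple, Finset.mul_sum, ← Finset.sum_sub_distrib]
  exact Finset.sum_congr rfl fun s _ => by ring

theorem cw_wordProd (c : I → ℤ) (L : List I) : cw cs h c (cs.wordProd L) = cv A c L := by
  induction L using List.reverseRecOn with
  | nil => rw [cs.wordProd_nil, cw_one]; rfl
  | append_singleton L j ih =>
    rw [cs.wordProd_append, cs.wordProd_singleton, cw_mul_simple, ih, cv_append]
    rfl

theorem cw_mul_left {J : Set I} {c : I → ℤ} (hc : ∀ s ∈ J, c s = 0) {v : W} (hv : v ∈ WJ cs J) (w : W) :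
    cw cs h c (v * w) = cw cs h c w := by
  funext m
  refine Finset.sum_congr rfl fun s _ => ?_
  by_cases hs : s ∈ J
  · rw [hc s hs, zero_mul, zero_mul]
  · rw [co_mul_left cs h hs hv]

theorem cw_add (c c' : I → ℤ) (w : W) : cw cs h (c + c') w = cw cs h c w + cw cs h c' w := by
  funext m
  simp only [cw, Pi.add_apply, add_mul, Finset.sum_add_distrib]

theorem cw_edge (c : I → ℤ) (i : I) (L : List I) :
    cv A (c + fire A c i) L = cw cs h c (cs.wordProd L) + cw cs h c (cs.simple i * cs.wordProd L) := by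
  rw [← cw_wordProd cs h, cw_add, ← cs.wordProd_cons, cw_wordProd cs h c (i :: L), cw_wordProd cs h (fire A c i)]
  rfl

theorem cw_of_sameEdge {J : Set I} {c : I → ℤ} (hc : ∀ s ∈ J, c s = 0) {u u' : W} {i i' : I}
    (e : SameEdge cs h J u⁻¹ i u'⁻¹ i') :
    cw cs h c u + cw cs h c (cs.simple i * u) = cw cs h c u' + cw cs h c (cs.simple i' * u') := by
  rcases e with ⟨e1, e2⟩ | ⟨e1, e2⟩
  · rw [inv_inv] at e2
    have h1 : rep cs h (u * u'⁻¹) (sr i') = sr i := by rw [rep_mul_apply, ← e1, rep_apply_inv]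
    have h2 := H117.Levi.conj_simple' h1
    have h3 := cw_mul_left cs h hc e2 u'
    have h4 := cw_mul_left cs h hc e2 (cs.simple i' * u')
    rw [inv_mul_cancel_right] at h3
    rw [show u * u'⁻¹ * (cs.simple i' * u') = cs.simple i * u by rw [← h2]; group] at h4
    rw [h3, h4]
  · rw [inv_inv] at e2
    have h1 : rep cs h (u * (u'⁻¹ * cs.simple i')) (sr i') = sr i := by
      rw [rep_mul_apply, rep_mul_apply, rep_simple_sr, map_neg, ← e1, rep_apply_inv]
    have h2 := H117.Levi.conj_simple' h1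
    have h3 := cw_mul_left cs h hc e2 u'
    have h4 := cw_mul_left cs h hc e2 (cs.simple i' * u')
    have h5 : u * (u'⁻¹ * cs.simple i') * (cs.simple i' * u') = u := by
      rw [mul_assoc, mul_assoc, cs.simple_mul_simple_cancel_left, inv_mul_cancel, mul_one]
    have h6 : u * (u'⁻¹ * cs.simple i') * u' = cs.simple i * u := by
      have h7 : (u * (u'⁻¹ * cs.simple i'))⁻¹ * u = cs.simple i' * u' := by
        rw [inv_mul_eq_iff_eq_mul, h5]
      rw [← h2, mul_assoc _ _ u, h7, mul_assoc _ (cs.simple i') (cs.simple i' * u'), cs.simple_mul_simple_cancel_left]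
    rw [h5] at h4
    rw [h6] at h3
    rw [h3, h4, add_comm]

end comb

/-! ### vertices and edges -/

section rgd

variable {I W Y : Type*} [Fintype I] [DecidableEq I] [Group W] [Group Y] {M : CoxeterMatrix I}
  {cs : CoxeterSystem M W} {A : I → I → ℤ} {h : IsCartan M A} {p : ℕ} {T : Subgroup Y} {n : I → Y}
  {X : (I → ℤ) → Subgroup Y} {k V : Type*} [Field k] [AddCommGroup V] [Module k V]

/-- `o` vectors generate a `k[a]`-module of dimension at least `m` -/
def Gd (a : Module.End k V) (o m : ℕ) : Prop := ∃ S U : Submodule k V, Gn a S U ∧ finrank k S ≤ o ∧ m ≤ finrank k U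

variable (R : RGD cs h p T n X) [Finite Y] [Finite W] [Fact p.Prime] [CharP k p]
  {ρ : Y →* Module.End k V} [FiniteDimensional k V]
  (hirr : ∀ L : Submodule k V, Ivt ρ (GG cs h T X) L → L = ⊥ ∨ L = ⊤)
include R hirr

/-- `H905.Md.dim_ge` for given vectors -/
theorem dim_ge' [Nontrivial V] {α β : Type*} [Fintype α] [Fintype β] (v : α → W) (g : α → Y)
    (hg : ∀ a, Rp cs R.nsys (v a) (g a)) (hv : ∀ a a', a ≠ a' → (v a)⁻¹ * v a' ∉ WJ cs (Jx cs h X ρ))
    (w : β → W) (g' : β → Y) (hg' : ∀ b, Rp cs R.nsys (w b) (g' b)) (i : β → I)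
    (he : ∀ b b', b ≠ b' → ¬ SameEdge cs h (Jx cs h X ρ) (w b) (i b) (w b') (i b'))
    {c : V} (hc : c ∈ D cs h X ρ) (hc0 : c ≠ 0) (z : β → V) (hz : ∀ b, z b ∈ Io cs h T X ρ (i b)) (hz0 : ∀ b, z b ≠ 0) :
    Fintype.card α + Fintype.card β ≤ finrank k ((⨆ a, Submodule.span k {ρ (g a) c}) ⊔
      (⨆ b, Submodule.span k {ρ (g' b) (z b)}) : Submodule k V) := by
  have f1 : ∀ a, Submodule.span k {ρ (g a) c} ≤ (D cs h X ρ).map (ρ (g a)) := fun a =>
    (Submodule.span_singleton_le_iff_mem _ _).2 ⟨c, hc, rfl⟩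
  have f2 : ∀ b, Submodule.span k {ρ (g' b) (z b)} ≤ (Io cs h T X ρ (i b)).map (ρ (g' b)) := fun b =>
    (Submodule.span_singleton_le_iff_mem _ _).2 ⟨z b, hz b, rfl⟩
  have h1 : ∀ a, ∀ x ∈ Submodule.span k {ρ (g a) c},
      (∀ φ ∈ (fx (dualRep ρ) (UN cs h X)).map (dualRep ρ (g a)), φ x = 0) → x = 0 := by
    intro a y hy h0
    obtain ⟨x, hx, rfl⟩ := f1 a hy
    by_contra hx0
    have hx0' : x ≠ 0 := fun h => hx0 (by rw [h, map_zero])
    obtain ⟨φ, hφ, hne⟩ := exists_pair_D R hirr hx hx0'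
    apply hne
    have h2 := h0 _ ⟨φ, hφ, rfl⟩
    rwa [dualRep_apply, rho_inv_rho] at h2
  have h2 : ∀ a a', a ≠ a' → ∀ φ ∈ (fx (dualRep ρ) (UN cs h X)).map (dualRep ρ (g a)),
      ∀ x ∈ Submodule.span k {ρ (g a') c}, φ x = 0 := by
    intro a a' haa φ hφ x hx
    by_contra hne
    exact hv a a' haa (vertex_pair R hirr (hg _) (hg _) hφ (f1 a' hx) hne)
  have h3 : ∀ b, ∀ x ∈ Submodule.span k {ρ (g' b) (z b)},
      (∀ φ ∈ (Les cs h T X ρ {i b}).map (dualRep ρ (g' b)), φ x = 0) → x = 0 := by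
    intro b y hy h0
    obtain ⟨x, hx, rfl⟩ := f2 b hy
    have h4 : x = 0 := by
      refine pair_Le R hirr (J := {i b}) (Io_le_Le (i b) R hx) fun φ hφ => ?_
      have h2 := h0 _ ⟨φ, hφ, rfl⟩
      rwa [dualRep_apply, rho_inv_rho] at h2
    rw [h4, map_zero]
  have h4 : ∀ b b', b ≠ b' → ∀ φ ∈ (Les cs h T X ρ {i b}).map (dualRep ρ (g' b)),
      ∀ x ∈ Submodule.span k {ρ (g' b') (z b')}, φ x = 0 := by
    intro b b' hbb φ hφ x hx
    by_contra hne
    exact he b b' hbb (sameEdge_of_pair R hirr (hg' _) (hg' _) hφ (f2 b' hx) hne)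
  have e1 := sum_le_of_sep h1 h2
  have e2 := sum_le_of_sep h3 h4
  have hdis : (⨆ a, Submodule.span k {ρ (g a) c}) ⊓ (⨆ b, Submodule.span k {ρ (g' b) (z b)}) = ⊥ := by
    rw [eq_bot_iff]
    rintro x ⟨hx, hx'⟩
    rw [Submodule.mem_bot]
    refine eq_zero_of_sep h1 h2 hx fun a φ hφ => ?_
    have h5 : (⨆ b, Submodule.span k {ρ (g' b) (z b)}) ≤ LinearMap.ker φ :=
      iSup_le fun b y hy => vertex_kill R (hg _) (hg' _) hφ (f2 b hy)
    exact h5 hx'
  have e3 := Submodule.finrank_sup_add_finrank_inf_eq (⨆ a, Submodule.span k {ρ (g a) c})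
    (⨆ b, Submodule.span k {ρ (g' b) (z b)})
  rw [hdis, finrank_bot, add_zero] at e3
  have e4 : ∀ a, finrank k (Submodule.span k {ρ (g a) c}) = 1 := fun a => finrank_span_singleton (rho_ne_zero ρ _ hc0)
  have e5 : ∀ b, finrank k (Submodule.span k {ρ (g' b) (z b)}) = 1 := fun b =>
    finrank_span_singleton (rho_ne_zero ρ _ (hz0 b))
  simp only [e4, e5, Finset.sum_const, Finset.card_univ, smul_eq_mul, mul_one] at e1 e2
  omega

omit hirr [FiniteDimensional k V] [Finite Y] [Finite W] [Fact p.Prime] [CharP k p] in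
theorem rp_wd {ω L : List I} {g₀ g : Y} (h0 : Rp cs R.nsys (cs.wordProd ω)⁻¹ g₀) (hg : Rp cs R.nsys (cs.wordProd L)⁻¹ g)
    (j : ℕ) : Rp cs R.nsys (cs.wordProd (wd ω L j))⁻¹ (g₀ ^ j * g) := by
  induction j with
  | zero => rwa [pow_zero, one_mul]
  | succ j ih =>
    rw [wd, cs.wordProd_append, mul_inv_rev, pow_succ', mul_assoc]
    exact h0.mul ih

omit R hirr [Finite Y] [Finite W] [Fact p.Prime] [CharP k p] in
theorem finrank_span_list (l : List V) : finrank k (Submodule.span k {x | x ∈ l}) ≤ l.length := by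
  classical
  have h1 := finrank_span_finset_le_card (R := k) l.toFinset
  rw [List.coe_toFinset] at h1
  exact h1.trans (List.toFinset_card_le l)

/-- **orbits of vertices and edges** -/
theorem gd [Nontrivial V] (hD : finrank k (D cs h X ρ) = 1) {c : I → ℤ} (hc : ∀ s ∈ Jx cs h X ρ, c s = 0) {ω : List I} {g₀ : Y}
    (h0 : Rp cs R.nsys (cs.wordProd ω)⁻¹ g₀) (LV : List (List I × ℕ)) (LE : List ((I × List I) × ℕ))
    (hE : ∀ e ∈ LE, 3 ≤ finrank k (Le cs h T X ρ {e.1.1})) (hV : ((pts LV).map (orb A c ω)).Nodup)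
    (hE' : ((pts LE).map fun e => orb A (c + fire A c e.1.1) ω (e.1.2, e.2)).Nodup) :
    Gd (ρ g₀) (LV.length + LE.length) ((LV.map Prod.snd).sum + (LE.map Prod.snd).sum) := by
  classical
  choose g hg using fun L : List I => exists_rp cs R.nsys (cs.wordProd L)⁻¹
  obtain ⟨x, hx, hx0⟩ := (Submodule.ne_bot_iff _).1 (simp_fx R ρ hirr).ne
  have hz : ∀ i, ∃ z ∈ Io cs h T X ρ i, (3 ≤ finrank k (Le cs h T X ρ {i}) → z ≠ 0) := by
    intro i
    by_cases h1 : Io cs h T X ρ i = ⊥
    · refine ⟨0, zero_mem _, fun h2 => ?_⟩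
      have h3 := finrank_Io R hirr i
      rw [h1, finrank_bot, hD] at h3
      omega
    · obtain ⟨z, hz, hz0⟩ := (Submodule.ne_bot_iff _).1 h1
      exact ⟨z, hz, fun _ => hz0⟩
  choose z hz hz0 using hz
  have key := dim_ge' R hirr (α := Fin (pts LV).length) (β := Fin (pts LE).length)
    (fun a => (cs.wordProd (wd ω ((pts LV).get a).1 ((pts LV).get a).2))⁻¹)
    (fun a => g₀ ^ ((pts LV).get a).2 * g ((pts LV).get a).1) (fun a => rp_wd R h0 (hg _) _) (by
      intro a a' haa hm
      refine haa (inj_of_nodup hV ?_)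
      rw [inv_inv] at hm
      have h1 := cw_mul_left cs h hc hm (cs.wordProd (wd ω ((pts LV).get a').1 ((pts LV).get a').2))
      rw [inv_mul_cancel_right, cw_wordProd, cw_wordProd, ← orb_eq, ← orb_eq] at h1
      exact h1)
    (fun b => (cs.wordProd (wd ω ((pts LE).get b).1.2 ((pts LE).get b).2))⁻¹)
    (fun b => g₀ ^ ((pts LE).get b).2 * g ((pts LE).get b).1.2) (fun b => rp_wd R h0 (hg _) _)
    (fun b => ((pts LE).get b).1.1) (by
      intro b b' hbb hm
      refine hbb (inj_of_nodup hE' ?_)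
      have h1 := cw_of_sameEdge cs h hc hm
      rw [← cw_edge, ← cw_edge, ← orb_eq, ← orb_eq] at h1
      exact h1) hx hx0 (fun b => z ((pts LE).get b).1.1) (fun b => hz _) (fun b => hz0 _ (by
      obtain ⟨e, he, e1⟩ := mem_pts (List.get_mem (pts LE) b)
      rw [← e1]
      exact hE e he))
  rw [Fintype.card_fin, Fintype.card_fin] at key
  rw [← length_pts, ← length_pts]
  refine ⟨Submodule.span k {y | y ∈ (LV.map fun e => ρ (g e.1) x) ++ LE.map fun e => ρ (g e.1.2) (z e.1.1)}, _, ?_,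
    (finrank_span_list _).trans (by rw [List.length_append, List.length_map, List.length_map]), key⟩
  intro L hL hinv
  have hpow : ∀ (j : ℕ) (y : Y) (v : V), ρ y v ∈ L → ρ (g₀ ^ j * y) v ∈ L := by
    intro j y v hv
    induction j with
    | zero => rwa [pow_zero, one_mul]
    | succ j ih =>
      rw [pow_succ', mul_assoc, rho_mul]
      exact hinv _ ih
  refine sup_le (iSup_le fun a => ?_) (iSup_le fun b => ?_)
  · obtain ⟨e, he, e1⟩ := mem_pts (List.get_mem (pts LV) a)
    refine (Submodule.span_singleton_le_iff_mem _ _).2 (hpow _ _ _ (hL (Submodule.subset_span ?_)))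
    exact List.mem_append_left _ (List.mem_map.2 ⟨e, he, by rw [e1]⟩)
  · obtain ⟨e, he, e1⟩ := mem_pts (List.get_mem (pts LE) b)
    refine (Submodule.span_singleton_le_iff_mem _ _).2 (hpow _ _ _ (hL (Submodule.subset_span ?_)))
    exact List.mem_append_right _ (List.mem_map.2 ⟨e, he, by rw [e1]⟩)

end rgd

/-! ### matrices -/

section mat

variable {n : ℕ} {K : Type} [Field K] {Y : Type*} [Group Y] {φ : Y →* GL (Fin n) K} {g : Y} {o m o' m' : ℕ}

theorem Gd.le (h : Gd (lin (acRep φ) g) o m) : m ≤ n := by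
  obtain ⟨S, U, -, -, h2⟩ := h
  have h3 := Submodule.finrank_le U
  rw [Module.finrank_fintype_fun_eq_card, Fintype.card_fin] at h3
  omega

theorem Gd.eig (h : Gd (lin (acRep φ) g) o m) (z : AlgebraicClosure K) :
    finrank (AlgebraicClosure K) ((lin (acRep φ) g).eigenspace z) ≤ o + (n - m) := by
  have h0 := h.le
  obtain ⟨S, U, h1, h2, h3⟩ := h
  have h4 := eig_le h1 z
  rw [Module.finrank_fintype_fun_eq_card, Fintype.card_fin] at h4
  omega

/-- the eigenspaces -/
theorem ev_le (h : Gd (lin (acRep φ) g) o m) (z : K) : ev (φ g) z ≤ o + (n - m) :=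
  (ev_le_eig (AlgebraicClosure K) (φ g) z).trans (h.eig _)

/-- **criterion W**: `(o, m)` counts all orbits, `(o', m')` the long ones -/
theorem dm_le (h : Gd (lin (acRep φ) g) o m) (h' : Gd (lin (acRep φ) g) o' m') :
    dm (φ g) ≤ o' * n + (n - m') * (o + (n - m)) := by
  obtain ⟨S, U, h1, h2, h3⟩ := h'
  have h4 := Cm_le h1 h.eig
  rw [Module.finrank_fintype_fun_eq_card, Fintype.card_fin] at h4
  refine (dm_le_Cm (AlgebraicClosure K) (φ g)).trans (h4.trans ?_)
  exact Nat.add_le_add (Nat.mul_le_mul_right _ h2) (Nat.mul_le_mul_right _ (by omega))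

end mat

section core

variable {I W Y : Type*} [Fintype I] [DecidableEq I] [Group W] [Group Y] {M : CoxeterMatrix I}
  {cs : CoxeterSystem M W} {A : I → I → ℤ} {hA : IsCartan M A} {p : ℕ} {T : Subgroup Y} {nn : I → Y}
  {X : (I → ℤ) → Subgroup Y} (R : RGD cs hA p T nn X) [Finite Y] [Finite W] [hp : Fact p.Prime]
  {n : ℕ} {K : Type} [Field K] [CharP K p] {P : Subgroup (GL (Fin n) K)} (hC : Core P)
  (hG : GG cs hA T X = ⊤) (hT : ∀ s ∈ T, ∀ t ∈ T, s * t = t * s) {φ : Y →* GL (Fin n) K} (hφ : φ.range = P)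
include R hC hG hT hφ

/-- **criterion W for a core**: there is `u ∈ P` with a small commutant -/
theorem exists_dm_le {c : I → ℤ} (hc : ∀ s ∈ Jx cs hA X (lin (acRep φ)), c s = 0) (ω : List I)
    (LV LV' : List (List I × ℕ)) (LE LE' : List ((I × List I) × ℕ))
    (hE : ∀ e ∈ LE ++ LE', 3 ≤ finrank (AlgebraicClosure K) (Le cs hA T X (lin (acRep φ)) {e.1.1}))
    (hV : ((pts (LV ++ LV')).map (orb A c ω)).Nodup)
    (hE' : ((pts (LE ++ LE')).map fun e => orb A (c + fire A c e.1.1) ω (e.1.2, e.2)).Nodup) {o o' m m' : ℕ}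
    (ho : LV.length + LE.length = o) (hm : (LV.map Prod.snd).sum + (LE.map Prod.snd).sum = m)
    (ho' : LV'.length + LE'.length = o') (hm' : (LV'.map Prod.snd).sum + (LE'.map Prod.snd).sum = m') :
    m + m' ≤ n ∧ ∃ u : P, dm (u : GL (Fin n) K) ≤ o * n + (n - m) * (o + o' + (n - (m + m'))) := by
  have hne := hC.nonempty
  have hchar : CharP (AlgebraicClosure K) p := charP_of_injective_algebraMap (algebraMap K _).injective p
  have hirr := ac_irr R hG hT hφ hC.absIrred
  obtain ⟨g, hg⟩ := exists_rp cs R.nsys (cs.wordProd ω)⁻¹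
  have h1 := gd R hirr (finrank_D R hirr hT) hc hg (LV ++ LV') (LE ++ LE') hE hV hE'
  have h2 := gd R hirr (finrank_D R hirr hT) hc hg LV LE (fun e he => hE e (List.mem_append_left _ he)) (by
    unfold pts at hV ⊢
    rw [List.flatMap_append, List.map_append] at hV
    exact hV.of_append_left) (by
    unfold pts at hE' ⊢
    rw [List.flatMap_append, List.map_append] at hE'
    exact hE'.of_append_left)
  rw [ho, hm] at h2
  rw [List.length_append, List.length_append, List.map_append, List.map_append, List.sum_append, List.sum_append,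
    show LV.length + LV'.length + (LE.length + LE'.length) = o + o' by omega,
    show (LV.map Prod.snd).sum + (LV'.map Prod.snd).sum + ((LE.map Prod.snd).sum + (LE'.map Prod.snd).sum) = m + m' by omega] at h1
  exact ⟨h1.le, ⟨φ g, by rw [← hφ]; exact ⟨g, rfl⟩⟩, dm_le h1 h2⟩

end core

end Cfsg.Agent.N2C.RD.Rg
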