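import Cfsg.Agent.N2.Cl.RD.Aut
import Cfsg.Agent.N2.Cl.RD.Rgd
import Cfsg.Agent.N2.Cl.RX.Gen
import Cfsg.Agent.H987.EP.Form
import Cfsg.Agent.H914.Quad

/-!
# N2 (S3519), defining characteristic: the crude criterion in exponent form, symmetry of the support (helper86)

* `Md0.ct_B`, `Md0.ct_e`, **`Md0.ct_dm`** (all kinds at once), **`Md0.ct_sc`**, `Md0.ct_scL` : criteria for the goal;
* **`Md0.ct_opp`** : for `t ≠ L` the support `Jx` is symmetric under the opposition;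
* `Md0.ct_notM` : `PΩ⁺_n(q)` is not contained in `PΩ⁻_n(q)`, `Md0.ct_notP` : and conversely.
-/

set_option autoImplicit false
set_option linter.unusedSectionVars false

namespace Cfsg.Agent.N2C.RD

open Cfsg Cfsg.Geo Cfsg.Agent.H902 Cfsg.Agent.N2C.Cyc Cfsg.Agent.N2C.RX Cfsg.Agent.H915.LD

section md

variable {t : Kd} {n q p T b : ℕ} {K : Type} [Field K] [Fintype K] {P : Subgroup (GL (Fin n) K)} {G : Prop} {c f : P → ℕ}
  (M : Md0 t q p T b P G c f)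
include M

theorem Md0.ct_zz : 0 < zz t q := by
  have := M.q_ge
  cases t
  exacts [show 0 < q - 1 by omega, show 0 < q + 1 by omega, Nat.gcd_pos_of_pos_left _ two_pos,
    Nat.gcd_pos_of_pos_left _ two_pos, Nat.gcd_pos_of_pos_left _ two_pos, Nat.gcd_pos_of_pos_left _ two_pos]

theorem Md0.ct_sq (u : P) : c u ^ 2 ≤ q ^ ec t n (dm (u : GL (Fin n) K)) := by
  have h1 := M.crude u
  rw [mul_pow, mul_comm] at h1
  exact Nat.le_of_mul_le_mul_left (h1.trans (Nat.mul_le_mul_right _ (Nat.pow_le_pow_left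
    (Nat.gcd_le_right _ M.ct_zz) 2))) (pow_pos M.ct_zz 2)

/-- the crude criterion -/
theorem Md0.ct_B (u : P) {D B : ℕ} (hu : dm (u : GL (Fin n) K) ≤ D) (hb : b ≤ B)
    (h : 64 * B ^ 2 * q ^ (3 * ec t n D) ≤ q ^ Gn.mm t n) : G := by
  have hq := M.q_ge
  refine M.good u ((Nat.pow_le_pow_iff_left two_ne_zero).1 (Nat.le_of_mul_le_mul_left ?_ (show 0 < 64 by norm_num)))
  calc 64 * (f u ^ 3 * b) ^ 2 = 64 * b ^ 2 * (f u ^ 2) ^ 3 := by ring
    _ ≤ 64 * B ^ 2 * (q ^ ec t n D) ^ 3 := by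
      have h1 : f u ^ 2 ≤ q ^ ec t n D := (Nat.pow_le_pow_left (M.fc u) 2).trans ((M.ct_sq u).trans
        (Nat.pow_le_pow_right (by omega) (ec_mono t n hu)))
      gcongr
    _ = 64 * B ^ 2 * q ^ (3 * ec t n D) := by ring
    _ ≤ _ := h.trans (Gn.low hq M.dim M.ord)

variable {X : Art.Sh} {a : ℕ} (N : Nd X p a (Soc P))
include N

/-- the crude criterion for the exponents; `k = 4, 6, 8, 10` for `gX = 1, 2, 3, 6` -/
theorem Md0.ct_e {e k : ℕ} (hs : p ^ a ≤ q ^ e) (hk : 16 * gX X p ^ 2 ≤ 2 ^ k) (u : P) {D : ℕ}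
    (hu : dm (u : GL (Fin n) K) ≤ D) (h : 3 * ec t n D + 2 * (e * (dX X + 1)) + k ≤ Gn.mm t n) : G := by
  have hq := M.q_ge
  refine M.ct_B u hu (M.b_le N) ?_
  have h1 := two_mul_le M.prime.two_le a
  calc 64 * (gX X p * a * (p ^ a) ^ dX X) ^ 2 * q ^ (3 * ec t n D)
      = 16 * gX X p ^ 2 * (2 * a * (p ^ a) ^ dX X) ^ 2 * q ^ (3 * ec t n D) := by ring
    _ ≤ q ^ k * (q ^ e * (q ^ e) ^ dX X) ^ 2 * q ^ (3 * ec t n D) := by
      have h2 : 16 * gX X p ^ 2 ≤ q ^ k := hk.trans (Nat.pow_le_pow_left hq k)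
      have h3 : 2 * a ≤ q ^ e := h1.trans hs
      gcongr
    _ = q ^ (3 * ec t n D + 2 * (e * (dX X + 1)) + k) := by ring
    _ ≤ _ := Nat.pow_le_pow_right (by omega) h

/-- **the crude criterion, all kinds** -/
theorem Md0.ct_dm {j k : ℕ} (hs : p ^ a ≤ Fintype.card K ^ j) (hk : 16 * gX X p ^ 2 ≤ 2 ^ k) (u : P) {D : ℕ}
    (hu : dm (u : GL (Fin n) K) ≤ D) (h : 4 * n + 3 * D + 2 * (j * (dX X + 1)) + k ≤ n ^ 2) : G := by
  have h5 := five_le M.dim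
  have h1 : n * (n - 1) + n = n ^ 2 := by
    obtain ⟨m, rfl⟩ : ∃ m, n = m + 1 := ⟨n - 1, by omega⟩
    rw [Nat.add_sub_cancel]
    ring
  rw [M.card] at hs
  cases t
  · exact M.ct_e N (e := j) hs hk u hu (show 3 * (2 * D) + _ + _ ≤ 2 * n ^ 2 - 6 by omega)
  · refine M.ct_e N (e := 2 * j) (by rw [pow_mul]; exact hs) hk u hu ?_
    rw [mul_assoc 2 j]
    show 3 * (2 * (D + n)) + _ + _ ≤ 2 * n ^ 2 - 6
    omega
  all_goals exact M.ct_e N (e := j) hs hk u hu (show 3 * (D + n) + _ + _ ≤ n * (n - 1) by omega)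

/-- **criterion Sc, all kinds** -/
theorem Md0.ct_sc {j k : ℕ} (hs : p ^ a ≤ Fintype.card K ^ j) (hk : 16 * gX X p ^ 2 ≤ 2 ^ k)
    (h : 4 * n + 3 * (n ^ 2 / 4 + 1) + 2 * (j * (dX X + 1)) + k ≤ n ^ 2) : G := by
  obtain ⟨u, hu⟩ := M.small
  exact M.ct_dm N hs hk u hu h

/-- criterion Sc, linear groups -/
theorem Md0.ct_scL (ht : t = .L) {j k : ℕ} (hs : p ^ a ≤ Fintype.card K ^ j) (hk : 16 * gX X p ^ 2 ≤ 2 ^ k)
    (h : 6 * (n ^ 2 / 4 + 1) + 2 * (j * (dX X + 1)) + k + 6 ≤ 2 * n ^ 2) : G := by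
  subst ht
  obtain ⟨u, hu⟩ := M.small
  rw [M.card] at hs
  exact M.ct_e N (e := j) hs hk u hu (show 3 * (2 * (n ^ 2 / 4 + 1)) + _ + _ ≤ 2 * n ^ 2 - 6 by omega)

omit N

/-- the invariant form -/
theorem Md0.ct_form (ht : t ≠ .L) : ∃ (σ : K ≃+* K) (g : (Fin n → K) → (Fin n → K) → K),
    H987.EP.SForm σ g ∧ FixesForm (matrixSet P) g := by
  have hp : Fact p.Prime := ⟨M.prime⟩
  have hc := M.char
  have key : FixQ P → ∃ (σ : K ≃+* K) (g : (Fin n → K) → (Fin n → K) → K),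
      H987.EP.SForm σ g ∧ FixesForm (matrixSet P) g :=
    fun ⟨_, h1, h2⟩ => ⟨_, _, H987.EP.SForm.of_quadratic h1, H914.fixesForm_polar h2⟩
  have h := M.frm
  cases t
  · exact absurd rfl ht
  · obtain ⟨a, -, rfl⟩ := M.pow
    obtain ⟨-, -, σ, g, h1, h2⟩ := M.core.fixU_of_cj p h.1 h.2
    exact ⟨σ, g, H987.EP.SForm.of_unitary h1, h2⟩
  · obtain ⟨g, h1, h2⟩ := h.1
    exact ⟨_, g, H987.EP.SForm.of_symplectic h1, h2⟩
  exacts [key h.1, key h.1, key h.1]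

end md

section ord

theorem ct_gcd (x : ℕ) : 0 < Nat.gcd 4 x ∧ Nat.gcd 4 x ≤ 4 :=
  ⟨Nat.gcd_pos_of_pos_left _ (by norm_num), Nat.gcd_le_left _ (by norm_num)⟩

variable {m q p T b : ℕ} {K : Type} [Field K] [Fintype K] {P : Subgroup (GL (Fin (2 * m)) K)} {G : Prop} {c f : P → ℕ}

theorem ct_pm {x y A N T d e : ℕ} (hA : 0 < A) (h1 : d * N = A * x) (h2 : e * T = A * y) (h : N ∣ T) : x ∣ d * y := by
  obtain ⟨k, rfl⟩ := h
  refine ⟨e * k, Nat.eq_of_mul_eq_mul_left hA ?_⟩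
  calc A * (d * y) = d * (A * y) := by ring
    _ = e * k * (d * N) := by rw [← h2]; ring
    _ = _ := by rw [h1]; ring

theorem ct_A {q : ℕ} (hq : 2 ≤ q) (m : ℕ) : 0 < q ^ (m * (m - 1)) * PP (m - 1) q := by
  refine Nat.mul_pos (pow_pos (by omega) _) (Finset.prod_pos fun i _ => ?_)
  have := Nat.one_lt_pow (n := 2 * (i + 1)) (by omega) (show 1 < q by omega)
  omega

theorem Md0.ct_notM (M : Md0 .M q p T b P G c f) (h : oD .P (2 * m) q * Nat.card (Soc P) = oI .P (2 * m) q) : False := by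
  have hq := M.q_ge
  have h8 : 8 ≤ 2 * m := M.dim.1
  have h1 : Nat.gcd 4 (q ^ (2 * m / 2) - 1) * Nat.card (Soc P) = oP (2 * m / 2) q := h
  have h2 : Nat.gcd 4 (q ^ (2 * m / 2) + 1) * T = oM (2 * m / 2) q := M.ord
  rw [Nat.mul_div_cancel_left _ two_pos] at h1 h2
  have h3 := ct_pm (x := q ^ m - 1) (y := q ^ m + 1) (ct_A hq m) (h1.trans (by unfold oP; ring)) (h2.trans (by unfold oM; ring))
    (M.nb.trans M.bt)
  have h4 : 2 ^ 4 ≤ q ^ m := (Nat.pow_le_pow_left hq 4).trans (Nat.pow_le_pow_right (by omega) (by omega))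
  obtain ⟨h5, h6⟩ := ct_gcd (q ^ m - 1)
  rw [show q ^ m + 1 = (q ^ m - 1) + 2 by omega, mul_add] at h3
  have h7 := Nat.le_of_dvd (by omega) ((Nat.dvd_add_right (dvd_mul_left _ _)).1 h3)
  omega

theorem Md0.ct_notP (M : Md0 .P q p T b P G c f) (h : oD .M (2 * m) q * Nat.card (Soc P) = oI .M (2 * m) q) : False := by
  have hq := M.q_ge
  have h8 : 8 ≤ 2 * m := M.dim.1
  have h1 : Nat.gcd 4 (q ^ (2 * m / 2) + 1) * Nat.card (Soc P) = oM (2 * m / 2) q := h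
  have h2 : Nat.gcd 4 (q ^ (2 * m / 2) - 1) * T = oP (2 * m / 2) q := M.ord
  rw [Nat.mul_div_cancel_left _ two_pos] at h1 h2
  have h3 := ct_pm (x := q ^ m + 1) (y := q ^ m - 1) (ct_A hq m) (h1.trans (by unfold oM; ring)) (h2.trans (by unfold oP; ring))
    (M.nb.trans M.bt)
  have h4 : 2 ^ 4 ≤ q ^ m := (Nat.pow_le_pow_left hq 4).trans (Nat.pow_le_pow_right (by omega) (by omega))
  obtain ⟨h5, h6⟩ := ct_gcd (q ^ m + 1)
  have h7 : q ^ m + 1 ∣ Nat.gcd 4 (q ^ m + 1) * (q ^ m - 1) + Nat.gcd 4 (q ^ m + 1) * 2 := by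
    rw [← mul_add, show q ^ m - 1 + 2 = q ^ m + 1 by omega]
    exact dvd_mul_left _ _
  have h8 := Nat.le_of_dvd (by omega) ((Nat.dvd_add_right h3).1 h7)
  omega

end ord

section opp

open CoxeterSystem Cfsg.Agent.ChevalleyStructure.CoxeterGeom Cfsg.Agent.Tits.Roots Cfsg.Agent.Tits.Core
  Cfsg.Agent.Nodes.Reps Cfsg.Agent.Nodes.BNOf Cfsg.Agent.Nodes.Bruhat Cfsg.Agent.Nodes.LeviDec
  Cfsg.Agent.Omega.CR Cfsg.Agent.Omega.FOne.Lift.Sd Cfsg.Agent.H911 Cfsg.Agent.H905.Md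

variable {t : Kd} {n q p T₀ b : ℕ} {K : Type} [Field K] [Fintype K] {P : Subgroup (GL (Fin n) K)} {G : Prop} {c f : P → ℕ}
  {I W Y : Type*} [Fintype I] [DecidableEq I] [Group W] [Group Y] {M₀ : CoxeterMatrix I}
  {cs : CoxeterSystem M₀ W} {A : I → I → ℤ} {hA : IsCartan M₀ A} {T : Subgroup Y} {nn : I → Y}
  {X : (I → ℤ) → Subgroup Y} [Finite Y] [Finite W] [hp : Fact p.Prime] [CharP K p]

/-- **the support is symmetric** unless `t = L` -/
theorem Md0.ct_opp (M : Md0 t q p T₀ b P G c f) (ht : t ≠ .L) (R : RGD cs hA p T nn X) (hG : GG cs hA T X = ⊤)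
    (hT : ∀ s ∈ T, ∀ t ∈ T, s * t = t * s) {φ : Y →* GL (Fin n) K} (hφ : φ.range = P) {w : W} {τ : Equiv.Perm I}
    (hw : ∀ i, rep cs hA w (sr i) = -sr (τ i)) (i : I) :
    i ∈ Jx cs hA X (lin (acRep φ)) ↔ τ i ∈ Jx cs hA X (lin (acRep φ)) := by
  have hne := M.core.nonempty
  have hchar : CharP (AlgebraicClosure K) p := charP_of_injective_algebraMap (algebraMap K _).injective p
  obtain ⟨σ, g, h1, h2⟩ := M.ct_form ht
  exact H987.EP.mem_Jx_opp R (ac_irr R hG hT hφ M.core.absIrred)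
    (h1.hsd fun y u v => h2 _ ⟨φ y, by rw [← hφ]; exact ⟨y, rfl⟩, rfl⟩ u v) hw i

end opp

end Cfsg.Agent.N2C.RD
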