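import Cfsg.Agent.N2.Cl.RD.St
import Cfsg.Agent.N2.Cl.RD.Crit
import Cfsg.Agent.TwoF.DC.D4.Main
import Cfsg.Agent.H744.Ppd.D4Dim
import Cfsg.Agent.H392.TD.Main
import Cfsg.Agent.H879.Nine.Ctx

/-!
# N2 (S3519), defining characteristic: the row `³D₄` (helper54)

* **`row3D4`** : `Row f3D4`.
-/

set_option autoImplicit false
set_option linter.unusedSectionVars false
set_option maxHeartbeats 400000

namespace Cfsg.Agent.N2C.RD

namespace Td

/-! ### restricted modules of `D₄` -/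

section mod

open Cfsg.Agent.TwoF.DC Cfsg.Agent.TwoF.DC.TE Cfsg.Agent.TwoF.DC.D4 Cfsg.Agent.N2C.RD.Rg Cfsg.Agent.N2C.RD.St

/-- the Cartan matrix -/
def A4 : Fin 4 → Fin 4 → ℤ := ![![2, -1, 0, 0], ![-1, 2, -1, -1], ![0, -1, 2, 0], ![0, -1, 0, 2]]

theorem A4_eq : ∀ j m : Fin 4, A4 j m = gz (cm.getD m []) j := by decide +kernel

/-- four orbits of the Coxeter element -/
def LV : Fin 4 → List (List (Fin 4) × ℕ) :=
  ![[([], 6), ([2], 6), ([3], 6), ([2, 1, 0], 6)], [([], 6), ([1, 0], 6), ([1, 2], 6), ([1, 3], 6)],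
    [([], 6), ([0], 6), ([3], 6), ([0, 1, 2], 6)], [([], 6), ([0], 6), ([2], 6), ([0, 1, 2], 6)]]

theorem LV_ok : ∀ x, ((pts (LV x)).map (orb A4 (tv 4 (mp x)) [3, 2, 0, 1])).Nodup ∧ (LV x).length = 4 ∧
    ((LV x).map Prod.snd).sum = 24 := by decide +kernel

/-- the unit vectors -/
def ee (i : Fin 4) : Fin 4 → ℤ := Pi.single i 1

/-- the weights of a natural module -/
def w8 (b c d : Fin 4) : Fin 8 → Fin 4 → ℤ :=
  ![ee b, -ee b, ee c + -ee d, ee d + -ee c, ee 1 + -ee b, ee b + -ee 1, ee c + ee d + -ee 1, ee 1 + -ee c + -ee d]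

/-- their words -/
def l8 (b c d : Fin 4) : Fin 8 → List (Fin 4) :=
  ![[], [b, 1, c, d, 1, b], [b, 1, d], [b, 1, c], [b], [b, 1, c, d, 1], [b, 1], [b, 1, c, d]]

theorem w8_eq : ∀ b c d : Fin 4, b ≠ 1 → c ≠ 1 → d ≠ 1 → b ≠ c → b ≠ d → c ≠ d → ∀ i, cv A4 (ee b) (l8 b c d i) = w8 b c d i := by
  decide +kernel

theorem len_v : ∀ b : Fin 4, b ≠ 1 → (wv b).length = 8 := by decide +kernel

variable {Φ : Type} [Fintype Φ] [DecidableEq Φ] {p : ℕ} [Fact p.Prime] {k : Type} [Field k] [CharP k p]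
  {R : RC (Fin 4) Φ} (h : Tb R cm rt) {L : Type} [AddCommGroup L] [Module k L] (H : HW R p k L)
include h

theorem wt_mult {a : Fin 4} (ha : a ≠ 1) (h1 : ∀ i, i ≠ a → H.lam i = 0) (h2 : 2 ≤ H.lam a) :
    H.IsWt (tv 4 (mp 1) + ((H.lam a : ℤ) - 2) • (Pi.single a 1 : Fin 4 → ℤ)) := by
  have h5 := (h.x H).isWt_sub H.ext_lz (x := (true, R.zi a)) (by rw [R.pair_zi, H.lz_apply]; omega)
  convert h5 using 1
  funext i
  rw [Pi.sub_apply, R.wt_zi, h.hC, cm_end a i ha, H.lz_apply, Pi.add_apply, Pi.smul_apply]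
  by_cases hi : i = a
  · rw [hi, if_pos rfl, Pi.single_eq_same, smul_eq_mul]; ring
  · rw [if_neg hi, Pi.single_eq_of_ne hi, h1 i hi]; simp

theorem cls' : (∃ a, a ≠ 1 ∧ H.lam = Pi.single a 1) ∨ ∃ x μ', Dom μ' ∧ H.IsWt (tv 4 (mp x) + μ') := by
  by_cases h1 : ∃ x, ∀ i, tv 4 (mp x) i ≤ H.lam i
  · obtain ⟨x, hx⟩ := h1
    exact Or.inr ⟨x, H.lz - tv 4 (mp x), fun i => sub_nonneg.mpr (hx i), by rw [add_sub_cancel]; exact H.isWt_lz⟩
  push Not at h1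
  have h2 : ∀ x, ∃ i, H.lam i = 0 ∧ (x = 1 → i = 1) ∧ (x ≠ 1 → i ≠ 1 ∧ i ≠ x) := fun x => by
    obtain ⟨i, hi⟩ := h1 x
    rcases mp_le x i with h3 | h3
    · omega
    · exact ⟨i, by omega, h3.2⟩
  obtain ⟨a, ha⟩ := H.exists_lam_pos
  have h3 : H.lam 1 = 0 := by
    obtain ⟨i, h3, h4, -⟩ := h2 1
    rwa [h4 rfl] at h3
  have ha1 : a ≠ 1 := by rintro rfl; omega
  have h4 : ∀ i, i ≠ a → H.lam i = 0 := fun i hi => by
    by_contra h4
    have hi1 : i ≠ 1 := by rintro rfl; exact h4 h3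
    obtain ⟨x, hx1, hx⟩ : ∃ x : Fin 4, x ≠ 1 ∧ ∀ j, j ≠ 1 → j ≠ x → j = a ∨ j = i := by
      clear h4 ha; revert a i; decide
    obtain ⟨j, h5, -, h6⟩ := h2 x
    rcases hx j (h6 hx1).1 (h6 hx1).2 with rfl | rfl
    · omega
    · exact h4 h5
  rcases Nat.lt_or_ge (H.lam a) 2 with h5 | h5
  · refine Or.inl ⟨a, ha1, funext fun i => ?_⟩
    by_cases h8 : i = a
    · rw [h8, Pi.single_eq_same]; omega
    · rw [h4 i h8, Pi.single_eq_of_ne h8]
  · exact Or.inr ⟨1, _, fun i => mul_nonneg (by omega) (HW.dom_single a i), wt_mult h H ha1 h4 h5⟩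

theorem d_le {b : Fin 4} (hb : b ≠ 1) (hl : H.lam = Pi.single b 1) : H.d ≤ 8 :=
  (h.minus H (min_of h hb hl) (length_uv 4 b) (lz_eq h hb hl) (chk_v b).1 (cl_v b b hb hb)).1.trans (len_v b hb).le

end mod

/-! ### eight distinct values -/

section vals

open Cfsg.Agent.TwoF.DC

/-- the exponents which give values different from `1` -/
abbrev ok (a b c d : ℤ) : Prop := d = 1 ∨ d = -1 ∨ (b = 0 ∧ c = 0 ∧ (a = 2 ∨ a = -2 ∨ (a = 0 ∧ (d = 2 ∨ d = -2)))) ∨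
  (a = 0 ∧ d = 0 ∧ ((b = 1 ∨ b = 2 ∨ b = -1 ∨ b = -2) ∧ (c = b ∨ c = -b) ∨ (b = 0 ∧ (c = 2 ∨ c = -2)) ∨ (c = 0 ∧ (b = 2 ∨ b = -2))))

theorem ne_zero_of_ok {M : Type} [AddCommGroup M] {Q : ℤ} {W U V E : M} (hW : Q • W = W) (hU : Q • U = U) (hV : Q • V = V)
    (hE : Q • E = -E) (h0 : (2 : ℤ) • E ≠ 0) (h1 : (4 : ℤ) • W ≠ 0) (h2 : (2 : ℤ) • U ≠ 0) (h3 : (2 : ℤ) • V ≠ 0)
    (h4 : (2 : ℤ) • (U + V) ≠ 0) (h5 : (2 : ℤ) • U ≠ (2 : ℤ) • V) {a b c d : ℤ} (ho : ok a b c d) :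
    a • W + b • U + c • V + d • E ≠ 0 := fun h => by
  have h' : a • W + b • U + c • V - d • E = 0 := by
    linear_combination (norm := module) Q • h - a • hW - b • hU - c • hV - d • hE
  rcases ho with rfl | rfl | ⟨rfl, rfl, rfl | rfl | ⟨rfl, rfl | rfl⟩⟩ |
    ⟨rfl, rfl, ⟨rfl | rfl | rfl | rfl, rfl | rfl⟩ | ⟨rfl, rfl | rfl⟩ | ⟨rfl, rfl | rfl⟩⟩
  · exact h0 (by linear_combination (norm := module) h - h')
  · exact h0 (by linear_combination (norm := module) h' - h)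
  · exact h1 (by linear_combination (norm := module) h + h')
  · exact h1 (by linear_combination (norm := module) -h - h')
  · exact h0 (by linear_combination (norm := module) h)
  · exact h0 (by linear_combination (norm := module) -h)
  · exact h4 (by linear_combination (norm := module) h + h)
  · exact h5 (by linear_combination (norm := module) h + h)
  · exact h4 (by linear_combination (norm := module) h)
  · exact h5 (by linear_combination (norm := module) h)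
  · exact h4 (by linear_combination (norm := module) -h - h)
  · exact h5 (by linear_combination (norm := module) -h - h)
  · exact h4 (by linear_combination (norm := module) -h)
  · exact h5 (by linear_combination (norm := module) -h)
  · exact h3 (by linear_combination (norm := module) h)
  · exact h3 (by linear_combination (norm := module) -h)
  · exact h2 (by linear_combination (norm := module) h)
  · exact h2 (by linear_combination (norm := module) -h)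

/-- the exponents of a weight -/
abbrev okw (b c d : Fin 4) (μ : Fin 4 → ℤ) : Prop := ok (μ c + μ d + μ 1) (μ b + μ d + μ 1) (μ b + μ c + μ 1) (μ 1)

set_option synthInstance.maxSize 8192 in
set_option synthInstance.maxHeartbeats 200000 in
theorem w8_ok : ∀ b c d : Fin 4, b ≠ 1 → c ≠ 1 → d ≠ 1 → b ≠ c → b ≠ d → c ≠ d → ∀ i,
    okw b c d (w8 b c d i) ∧ ∀ j, i ≠ j → okw b c d (w8 b c d i - w8 b c d j) := by
  decide +kernel

theorem prod_four {M : Type} [CommMonoid M] (f : Fin 4 → M) {b c d : Fin 4} (hb : b ≠ 1) (hc : c ≠ 1) (hd : d ≠ 1) (h1 : b ≠ c)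
    (h2 : b ≠ d) (h3 : c ≠ d) : ∏ j, f j = f b * f c * f d * f 1 := by
  have h : (Finset.univ : Finset (Fin 4)) = {b, c, d, 1} := by
    revert b c d
    decide
  rw [h, Finset.prod_insert (by simp [*]), Finset.prod_insert (by simp [*]), Finset.prod_pair hd, mul_assoc, mul_assoc]

variable {k : Type} [Field k] {Q : ℕ} {w u v η : kˣ} {b c d : Fin 4} {t : Fin 4 → kˣ}

theorem vals (hb : b ≠ 1) (hc : c ≠ 1) (hd : d ≠ 1) (e1 : b ≠ c) (e2 : b ≠ d) (e3 : c ≠ d) (tb : t b = u * v) (tc : t c = w * v)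
    (td : t d = w * u) (t1 : t 1 = w * u * v * η) (hw : w ^ Q = w) (hu : u ^ Q = u) (hv : v ^ Q = v) (hη : η ^ Q = η⁻¹)
    (h0 : η ^ 2 ≠ 1) (h1 : w ^ 4 ≠ 1) (h2 : u ^ 2 ≠ 1) (h3 : v ^ 2 ≠ 1) (h4 : (u * v) ^ 2 ≠ 1) (h5 : u ^ 2 ≠ v ^ 2) :
    (Function.Injective fun i => wch k (w8 b c d i) t) ∧ ∀ i, wch k (w8 b c d i) t ≠ 1 := by
  have key : ∀ μ, okw b c d μ → wch k μ t ≠ 1 := fun μ hμ e => by
    refine ne_zero_of_ok (M := Additive kˣ) (Q := Q) (W := .ofMul w) (U := .ofMul u) (V := .ofMul v) (E := .ofMul η)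
      ((zpow_natCast w Q).trans hw) ((zpow_natCast u Q).trans hu) ((zpow_natCast v Q).trans hv) ((zpow_natCast η Q).trans hη)
      (fun e => h0 ((zpow_natCast η 2).symm.trans e)) (fun e => h1 ((zpow_natCast w 4).symm.trans e))
      (fun e => h2 ((zpow_natCast u 2).symm.trans e)) (fun e => h3 ((zpow_natCast v 2).symm.trans e))
      (fun e => h4 ((zpow_natCast (u * v) 2).symm.trans e))
      (fun e => h5 ((zpow_natCast u 2).symm.trans (Eq.trans e (zpow_natCast v 2)))) hμ ?_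
    rw [wch_apply, prod_four _ hb hc hd e1 e2 e3, tb, tc, td, t1] at e
    have e' : μ b • (Additive.ofMul u + .ofMul v) + μ c • (Additive.ofMul w + .ofMul v) + μ d • (Additive.ofMul w + .ofMul u) +
        μ 1 • (Additive.ofMul w + .ofMul u + .ofMul v + .ofMul η) = 0 := e
    linear_combination (norm := module) e'
  refine ⟨fun i j e => by_contra fun hij => key _ ((w8_ok b c d hb hc hd e1 e2 e3 i).2 j hij) ?_,
    fun i => key _ (w8_ok b c d hb hc hd e1 e2 e3 i).1⟩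
  have e' : wch k (w8 b c d i) t = wch k (w8 b c d j) t := e
  rw [wch_apply, wch_apply] at e'
  simp only [wch_apply, Pi.sub_apply, zpow_sub, Finset.prod_mul_distrib, Finset.prod_inv_distrib, e', mul_inv_cancel]

end vals

/-! ### elements of the finite group -/

section elt

open Cfsg.Agent.TwoF.DC Cfsg.Agent.TwoF.DC.TE Cfsg.Agent.TwoF.DC.D4 Cfsg.Agent.N2C.RD.Rg Cfsg.Agent.N2C.RD.St

variable {p : ℕ} [hp : Fact p.Prime] {k : Type} [Field k] [IsAlgClosed k] [CharP k p]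

theorem exists_ord (p : ℕ) [CharP k p] {m : ℕ} (hm : ¬ p ∣ m) : ∃ x : kˣ, orderOf x = m := by
  have : NeZero (m : k) := ⟨fun e => hm ((CharP.cast_eq_zero_iff k p m).1 e)⟩
  have h0 : m ≠ 0 := by rintro rfl; exact hm (dvd_zero p)
  obtain ⟨ω, hω⟩ := HasEnoughRootsOfUnity.exists_primitiveRoot k m
  exact ⟨(hω.isUnit h0).unit, by rw [← orderOf_units]; exact hω.eq_orderOf.symm⟩

theorem frob_vals {z : Fin 8 → kˣ} (h1 : Function.Injective z) (h2 : ∀ i, z i ≠ 1) (a : ℕ) :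
    (Function.Injective fun i => ((z i ^ p ^ a : kˣ) : k)) ∧ ∀ i, ((z i ^ p ^ a : kˣ) : k) ≠ 1 :=
  ⟨fun _ _ e => h1 (Units.ext ((iterateFrobenius k p a).injective (by
      simpa only [iterateFrobenius_def, Units.val_pow_eq_pow_val] using e))),
    fun i e => h2 i (Units.ext ((iterateFrobenius k p a).injective (by
      simpa only [iterateFrobenius_def, Units.val_pow_eq_pow_val, Units.val_one, one_pow] using e)))⟩

theorem exists_tor {s : ℕ} (hs : 1 < s) (hd : p ∣ s) {b : Fin 4} (hb : b ≠ 1) : ∃ (t : Fin 4 → kˣ) (η : kˣ) (c d : Fin 4),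
    (∀ i, cv A4 (ee b) (l8 b c d i) = w8 b c d i) ∧ (∀ i, t (tri i) = t i ^ s) ∧ η ^ s = η⁻¹ ∧ η ^ 2 ≠ 1 ∧ wch k (A4 1) t = 1 ∧
      (Function.Injective fun i => wch k (w8 b c d i) (t * Pi.mulSingle 1 η)) ∧ ∀ i, wch k (w8 b c d i) (t * Pi.mulSingle 1 η) ≠ 1 := by
  have h4 : 4 * s ≤ s ^ 3 := by
    rw [pow_succ]
    exact Nat.mul_le_mul_right _ (Nat.pow_le_pow_left hs 2)
  obtain ⟨u, hu⟩ := exists_ord (k := k) p (m := s ^ 3 - 1) fun e =>
    hp.out.one_lt.ne' (Nat.dvd_one.1 ((Nat.dvd_sub_iff_right (by omega) (hd.trans (dvd_pow_self s three_ne_zero))).1 e))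
  obtain ⟨η, hη⟩ := exists_ord (k := k) p (m := s + 1) fun e => hp.out.one_lt.ne' (Nat.dvd_one.1 ((Nat.dvd_add_right hd).1 e))
  have u1 : ((u ^ s) ^ s) ^ s = u := by
    rw [← pow_mul, ← pow_mul, show s * (s * s) = s ^ 3 - 1 + 1 by rw [Nat.sub_add_cancel (by omega)]; ring, pow_succ, ← hu,
      pow_orderOf_eq_one, one_mul]
  have u2 : ∀ m, 0 < m → m ≤ 2 * s + 2 → u ^ m ≠ 1 := fun m h1 h2 => pow_ne_one_of_lt_orderOf h1.ne' (by omega)
  have η1 : η ^ s = η⁻¹ := eq_inv_of_mul_eq_one_left (by rw [← pow_succ, ← hη, pow_orderOf_eq_one])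
  have η2 : η ^ 2 ≠ 1 := pow_ne_one_of_lt_orderOf two_ne_zero (by omega)
  obtain ⟨c, hc⟩ : ∃ c, c = tri b := ⟨_, rfl⟩
  obtain ⟨d, hd⟩ : ∃ d, d = tri c := ⟨_, rfl⟩
  obtain ⟨e0, e1, e2, e3, e4, e5, e6⟩ : c ≠ 1 ∧ d ≠ 1 ∧ b ≠ c ∧ b ≠ d ∧ c ≠ d ∧ tri d = b ∧ ∀ i, i = 1 ∨ i = b ∨ i = c ∨ i = d := by
    rw [hd, hc]
    clear hc
    revert b
    decide
  obtain ⟨v, hv⟩ : ∃ v, v = u ^ s := ⟨_, rfl⟩
  obtain ⟨w, hw⟩ : ∃ w, w = v ^ s := ⟨_, rfl⟩
  have u3 : w ^ s = u := by rw [hw, hv, u1]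
  obtain ⟨t, tb, tc, td, t1⟩ : ∃ t : Fin 4 → kˣ, t b = u * v ∧ t c = w * v ∧ t d = w * u ∧ t 1 = w * u * v :=
    ⟨fun i => if i = b then u * v else if i = c then w * v else if i = d then w * u else w * u * v, if_pos rfl,
      (if_neg e2.symm).trans (if_pos rfl), (if_neg e3.symm).trans ((if_neg e4.symm).trans (if_pos rfl)),
      (if_neg hb.symm).trans ((if_neg e0.symm).trans (if_neg e1.symm))⟩
  refine ⟨t, η, c, d, w8_eq b c d hb e0 e1 e2 e3 e4, fun i => ?_, η1, η2, ?_, vals (Q := s ^ 3) (w := w) (u := u) (v := v) (η := η)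
    hb e0 e1 e2 e3 e4
    (by rw [Pi.mul_apply, Pi.mulSingle_eq_of_ne hb, mul_one, tb]) (by rw [Pi.mul_apply, Pi.mulSingle_eq_of_ne e0, mul_one, tc])
    (by rw [Pi.mul_apply, Pi.mulSingle_eq_of_ne e1, mul_one, td]) (by rw [Pi.mul_apply, Pi.mulSingle_eq_same, t1])
    (by rw [pow_three, pow_mul, pow_mul, u3, ← hv, ← hw]) (by rw [pow_three, pow_mul, pow_mul, u1])
    (by rw [pow_three, pow_mul, pow_mul, ← hw, u3, ← hv]) (by rw [pow_three, pow_mul, pow_mul, η1, inv_pow, η1, inv_inv, η1]) η2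
    (fun e => u2 4 four_pos (by omega) (by rw [← u3, ← pow_mul, mul_comm, pow_mul, e, one_pow])) (u2 2 two_pos (by omega))
    (by rw [hv, ← pow_mul]; exact u2 _ (by omega) (by omega)) (by rw [hv, ← pow_succ', ← pow_mul]; exact u2 _ (by omega) (by omega))
    fun e => ?_⟩
  · rcases e6 i with e | e | e | e <;> rw [e]
    · rw [show tri 1 = 1 from rfl, t1, mul_pow, mul_pow, u3, ← hv, ← hw, mul_comm w, mul_right_comm]
    · rw [← hc, tc, tb, mul_pow, ← hv, ← hw, mul_comm]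
    · rw [← hd, td, tc, mul_pow, u3, ← hw, mul_comm]
    · rw [e5, tb, td, mul_pow, u3, ← hv]
  · have c2 : ∀ j : Fin 4, j ≠ 1 → A4 1 j = -1 := by decide
    rw [wch_apply, prod_four _ hb e0 e1 e2 e3 e4, c2 b hb, c2 c e0, c2 d e1, show A4 1 1 = 2 from rfl, tb, tc, td, t1, zpow_neg_one,
      zpow_neg_one, zpow_neg_one, ← mul_inv, ← mul_inv, inv_mul_eq_one, zpow_two]
    ac_rfl
  · rw [hv, ← pow_mul] at e
    have := pow_injOn_Iio_orderOf (x := u) (show 2 < _ by omega) (show s * 2 < _ by omega) e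
    omega

variable {Φ G : Type} [Fintype Φ] [DecidableEq Φ] [Group G] {D : RDat p (Fin 4) Φ k G} (Q : Tws D)

theorem FrP_κ (a : ℕ) (c : Fin 4 → kˣ) : Q.FrP a (D.κ c) = D.κ (c ^ p ^ a) := by
  have h := Q.GF_κ 1 a c
  rw [map_one, Q.GF_apply, map_one, ← Q.FrP_apply] at h
  exact h

theorem FrP_nw (a : ℕ) (i : Fin 4) : Q.FrP a (D.nw i) = D.nw i := by
  change Q.FrP a (D.x i 1 * D.y i (-1) * D.x i 1) = D.x i 1 * D.y i (-1) * D.x i 1
  rw [map_mul, map_mul, Q.FrP_x, Q.FrP_y, one_pow, neg_one_pow_char_pow]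

variable (hσ : Q.sι = tri)
include hσ

/-- a Coxeter element -/
theorem cox : ∃ s : Q.TT, ∀ a, (Q.FrP a).comp Q.TT.subtype s = D.nwl [3, 2, 0, 1].reverse := by
  refine ⟨⟨_, mul_mem (Q.no_mem_TT (TwoF.DC.orb Q.sι 1)) (Q.no_mem_TT (TwoF.DC.orb Q.sι 0))⟩, fun a => ?_⟩
  change Q.FrP a (Q.po _ D.nw * Q.po _ D.nw) = D.nw 1 * (D.nw 0 * (D.nw 2 * (D.nw 3 * 1)))
  rw [Q.po_one' (by rw [hσ]; rfl) D.nw_mem_Lo, Q.po_three (by rw [hσ]; decide) (by rw [hσ]; rfl) D.nw_mem_Lo, hσ, map_mul, map_mul,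
    map_mul, FrP_nw, FrP_nw, FrP_nw, FrP_nw, mul_one, mul_assoc]
  rfl

variable (h : Tb D.R cm rt) {L : Type} [AddCommGroup L] [Module k L] {H : HW D.R p k L} {r : H.Rep D} {U : Type*} [AddCommGroup U]
  [Module k U] {ρ : Q.TT →* Module.End k U} {θ : L ≃ₗ[k] U} {a : ℕ} (hR : Rs r ((Q.FrP a).comp Q.TT.subtype) ρ θ)
include h hR

/-- large modules -/
theorem gd {x : Fin 4} {μ : Fin 4 → ℤ} (hμ : Dom μ) (hw : H.IsWt (tv 4 (mp x) + μ)) : ∃ s, Rg.Gd (ρ s) 4 24 := by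
  obtain ⟨s, hs⟩ := cox Q hσ
  have h1 : ∀ x : Fin 4, ∀ i, 0 ≤ tv 4 (mp x) i := by decide +kernel
  have h2 := hR.gd (hs a) (fun j m => (A4_eq j m).trans (h.hC m j).symm) (h1 x) hμ hw (LV x) (LV_ok x).1
  rw [(LV_ok x).2.1, (LV_ok x).2.2] at h2
  exact ⟨s, h2⟩

/-- a regular element for a natural module -/
theorem reg {b : Fin 4} (hb : b ≠ 1) (hl : H.lam = Pi.single b 1) : ∃ (s : Q.TT) (z : Fin 8 → k), Function.Injective z ∧
    (∀ i, z i ≠ 1) ∧ ∀ i, (ρ s).HasEigenvalue (z i) := by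
  have hA : ∀ j m, A4 j m = D.R.C m j := fun j m => (A4_eq j m).trans (h.hC m j).symm
  obtain ⟨t, η, c, d, e1, e2, η1, η2, c1, v1, v2⟩ := exists_tor (k := k) Q.one_lt_q (dvd_pow_self p Q.f_pos.ne') hb
  have hf : ∀ t, iterateFrobenius k p Q.f t = t ^ p ^ Q.f := iterateFrobenius_def p Q.f
  have m0 : Q.sι 1 = 1 := by rw [hσ]; rfl
  have m1 : D.κ t ∈ Q.TT := Q.H_le_TT ⟨⟨t, rfl⟩, Q.κ_fix.2 fun i => by rw [hσ, e2]⟩
  have m2 := (Q.xy_mem_one m0 (one_pow _)).1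
  have m3 := (Q.xy_mem_one m0 (a := η + (η⁻¹ : kˣ) - 2) (by
    rw [← hf, map_sub, map_add, map_ofNat, hf, hf, ← Units.val_pow_eq_pow_val, ← Units.val_pow_eq_pow_val, inv_pow, η1, inv_inv,
      add_comm])).2
  rw [show A4 1 = D.R.wt (true, D.R.zi 1) from funext fun j => (hA 1 j).trans (D.R.wt_zi 1 j).symm] at c1
  obtain ⟨γ, δ, e⟩ := conj_hh D 1 η fun e => η2 (Units.ext (by rw [Units.val_pow_eq_pow_val, e]; rfl))
  have c3 : Commute (D.κ t) (D.y 1 γ * D.x 1 δ) := Commute.mul_right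
    ((D.κ_y t 1 γ).trans (by rw [c1, inv_one, Units.val_one, one_mul γ])) ((D.κ_x t 1 δ).trans (by rw [c1, Units.val_one, one_mul δ]))
  have c4 : ∀ {g h u v : G}, Commute g h → u = h * v * h⁻¹ → g * u = h * (g * v) * h⁻¹ := fun h1 h2 => by
    rw [h2, ← mul_assoc, ← mul_assoc, h1.eq, mul_assoc _ _ _, mul_assoc, mul_assoc, mul_assoc]
  have c5 := congrArg (Q.FrP a) (c4 c3 e)
  rw [← D.κ_single, ← map_mul D.κ, map_mul _ _ _⁻¹, map_mul _ _ (D.κ _), map_inv, FrP_κ] at c5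
  refine ⟨⟨_, mul_mem m1 (mul_mem m2 m3)⟩, _, (frob_vals v1 v2 a).1, (frob_vals v1 v2 a).2, fun i => ?_⟩
  have l1 : H.lz = ee b := (lz_eq h hb hl).trans (tv_uv _)
  have l2 := isWt_cv hA H.isWt_lz (l8 b c d i)
  rw [l1, e1] at l2
  have l3 := hR.eig (s := ⟨_, mul_mem m1 (mul_mem m2 m3)⟩) c5 l2
  rwa [map_pow] at l3

end elt

/-! ### the field of the module -/

section deg

open Cfsg Cfsg.Geo Cfsg.Lie Cfsg.Agent.H875.Fn Cfsg.Agent.H905.Md Cfsg.Agent.H650.Ppd Cfsg.Agent.ChevalleyStructure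
open Cfsg.Agent.H744.Ppd Cfsg.Agent.H744.Ppd.D4 Cfsg.Agent.H915.LD

theorem deg {n : ℕ} {F : Type} [Field F] [Fintype F] {P : Subgroup (GL (Fin n) F)} {K : Type} [Field K] [Fintype K] {p : ℕ}
    [hp : Fact p.Prime] [CharP F p] [CharP K p] (hC : Core P) {g : ℕ} (hg : 1 ≤ g) (hK : Fintype.card K = (p ^ g) ^ 3)
    (e : Soc P ≃* twistedD4 K (p ^ g)) : ∃ j, p ^ g ≤ Fintype.card F ^ j ∧ (j = 1 ∨ (64 ≤ n ∧ 8 * j ≤ n)) := by
  have hq : IsPrimePow (p ^ g) := hp.out.isPrimePow.pow (by omega)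
  obtain ⟨f⟩ := Cfsg.Agent.H48.DsChev.d4_equiv hC hq hK e
  obtain ⟨φ, hφ⟩ := D4Fixed.exists_frob hq hK
  have hne : Nonempty (Fin n) := hC.nonempty
  have hθ : (P.subtype.comp f.symm.toMonoidHom).range = P := by
    rw [MonoidHom.range_comp, MonoidHom.range_eq_top.2 f.symm.surjective, ← MonoidHom.range_eq_map, Subgroup.range_subtype]
  have : Finite CoxeterMatrix.G₂.Group := Cfsg.Agent.H249.PPTwD4.finiteW CoxeterMatrix.G₂.toCoxeterSystem
  obtain ⟨j, hj1, hj⟩ := card_pow_eq p (a := g * 3) (by omega) (fun x => pow_eq_of_no_subfield hC.absIrred hC.no_subfield p _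
    (fun g hg => trace_pow (Nodes.RGDTwD4.rgd CoxeterMatrix.G₂.toCoxeterSystem hK hφ p) (GG4 hK hφ)
      Cfsg.Agent.H249.PPTwD4.T_comm hθ hC.absIrred (fun t ht => by rw [pow_mul, ← hK]; exact T_pow t ht) hg) x)
  obtain ⟨a, ha0, ha⟩ := exists_f F p
  have ha' := Nat.card_eq_fintype_card.trans ha
  have hag : a * j = g * 3 := Nat.pow_right_injective hp.out.two_le (show p ^ (a * j) = p ^ (g * 3) by rw [pow_mul, ← ha', hj])
  have key : ∀ i, g ≤ a * i → p ^ g ≤ Fintype.card F ^ i := fun i hi => by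
    rw [ha, ← pow_mul]
    exact Nat.pow_le_pow_right hp.out.pos hi
  rcases Nat.lt_or_ge j 4 with h4 | h4
  · have := Nat.mul_le_mul_left a (show j ≤ 3 by omega)
    exact ⟨1, key 1 (by omega), Or.inl rfl⟩
  have hnode := exists_node p hK hφ hθ hC.absIrred hC.two_le
  have short := fun h1 => short_ge p hK hφ hθ hC.absIrred h1 ha' (f := a * j) (by rw [hag, pow_mul])
    (s := j) (by rw [Nat.gcd_eq_left (Dvd.intro j rfl), mul_comm])
  have h5 : 6 * 2 ^ j ≤ Fintype.card (Fin n) + 6 → ∃ j, p ^ g ≤ Fintype.card F ^ j ∧ (j = 1 ∨ (64 ≤ n ∧ 8 * j ≤ n)) := fun h5 => by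
    have h6 := pow2 j (by omega)
    have h7 := Nat.pow_le_pow_right two_pos h4
    rw [Fintype.card_fin] at h5
    exact ⟨j, key j (by omega), Or.inr ⟨by omega, by omega⟩⟩
  rcases hnode with h1 | ⟨h1, h0⟩
  · exact h5 (short h1)
  by_cases h3 : 3 ∣ j
  · obtain ⟨i, rfl⟩ := h3
    have h6 : g = a * i := by
      rw [mul_left_comm] at hag
      omega
    have h7 := (long_ge' p hK hφ hθ hC.absIrred hq.one_lt h1 h0 (by omega) (j := i) (by omega) ha' (by rw [h6])).1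
    have h8 := pow8 i (by omega)
    have h9 := Nat.pow_le_pow_right (show 0 < 8 by norm_num) (show 2 ≤ i by omega)
    rw [Fintype.card_fin] at h7
    exact ⟨i, key i h6.le, Or.inr ⟨by omega, by omega⟩⟩
  · obtain ⟨a', rfl⟩ : 3 ∣ a := (Nat.prime_three.dvd_mul.1 ⟨g, hag.trans (mul_comm _ _)⟩).resolve_right h3
    refine h5 (long_ge p hK hφ hθ hC.absIrred hq.one_lt h0 ha' rfl ?_)
    obtain rfl : g = a' * j := by
      rw [mul_assoc] at hag
      omega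
    rw [mul_comm 3 a', Nat.gcd_mul_left, show Nat.gcd 3 j = 1 from (Nat.Prime.coprime_iff_not_dvd Nat.prime_three).2 h3, mul_one,
      mul_comm]

end deg

/-! ### the row -/

section row

open Cfsg Cfsg.Geo Cfsg.Agent.N2C.RX Cfsg.Agent.H915.LD Cfsg.Agent.TwoF.DC Cfsg.Agent.TwoF.DC.TE Cfsg.Agent.TwoF.DC.D4
open Cfsg.Agent.N2C.RD.St

theorem num {s g c b T : ℕ} (hs : 2 ≤ s) (hg : 2 * g ≤ s) (hc : c ≤ 4 * (s ^ 3 + 1) ^ 4) (hb : b ≤ 3 * g * s ^ 28)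
    (hT : (s ^ 3) ^ 56 ≤ 64 * T ^ 2) : c ^ 3 * b ≤ T := by
  have h1 : 64 ≤ s ^ 6 := Nat.pow_le_pow_left hs 6
  have h2 : 3 * g ≤ s ^ 2 := by nlinarith
  have h3 : 8 ≤ s ^ 3 := Nat.pow_le_pow_left hs 3
  have h4 : (s ^ 3 + 1) ^ 2 ≤ s * (s ^ 3) ^ 2 := le_trans (by nlinarith) (Nat.mul_le_mul_right _ hs)
  refine (Nat.pow_le_pow_iff_left two_ne_zero).1 (Nat.le_of_mul_le_mul_left (le_trans ?_ hT) (show 0 < 64 by norm_num))
  calc 64 * (c ^ 3 * b) ^ 2 ≤ 64 * ((4 * (s ^ 3 + 1) ^ 4) ^ 3 * (3 * g * s ^ 28)) ^ 2 := by gcongr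
    _ = 64 * (64 * ((s ^ 3 + 1) ^ 2) ^ 6 * (3 * g * s ^ 28)) ^ 2 := by ring
    _ ≤ s ^ 6 * (s ^ 6 * (s * (s ^ 3) ^ 2) ^ 6 * (s ^ 2 * s ^ 28)) ^ 2 := by gcongr
    _ = s ^ 162 := by ring
    _ ≤ _ := by rw [← pow_mul]; exact Nat.pow_le_pow_right (by omega) (by norm_num)

theorem row {t : Kd} {n q p T b : ℕ} {K : Type} [Field K] [Fintype K] {P : Subgroup (GL (Fin n) K)} {G : Prop} {c f : P → ℕ}
    (M : Md0 t q p T b P G c f) {E : Type} [Field E] [Fintype E] [CharP E p] {s : ℕ} (hE : Fintype.card E = s ^ 3)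
    (e : Soc P ≃* Lie.twistedD4 E s) : G := by
  have hp : Fact p.Prime := ⟨M.prime⟩
  have hKp := M.char
  have hC := M.core
  obtain ⟨g, hg, rfl⟩ := exists_f' E M.prime three_ne_zero hE
  have hq : IsPrimePow (p ^ g) := M.prime.isPrimePow.pow (by omega)
  have N := nd_3D4 hC.simple hC.nonabelian M.prime hg hE e
  have hk : 16 * gX .TD4 p ^ 2 ≤ 2 ^ 8 := show 16 * 3 ^ 2 ≤ _ by norm_num
  obtain ⟨j, hj, h1⟩ := deg hC hg hE e
  have sc : 27 ≤ n → G := fun h => M.ct_sc N hj hk (by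
    show _ + 2 * (j * 29) + _ ≤ _
    rcases Nat.lt_or_ge n 64 with h2 | h2
    · obtain rfl : j = 1 := by omega
      interval_cases n <;> norm_num
    · have h3 : 64 * n ≤ n ^ 2 := by rw [sq]; exact Nat.mul_le_mul_right _ h2
      omega)
  have hA : CharP (AlgebraicClosure K) p := charP_of_injective_algebraMap (algebraMap K _).injective p
  obtain ⟨ψ⟩ := H392.TD.exists_embedding E (AlgebraicClosure K) p
  have h2 := S1071.result hq hE
  have h3 := tb4 p (AlgebraicClosure K)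
  have hc := comb4 (p := p) (k := AlgebraicClosure K) hg (Or.inr rfl)
  have := Finite.of_equiv _ e.toEquiv
  obtain ⟨φ, hφ, ⟨L, _, _, H, L', _, _, H', h4⟩ | ⟨L, _, _, H, r, a, θ, hR⟩⟩ := core_two hC e (tw4 p _ g hg tau)
    ⟨h2.1, h2.2, pi_tri hg ψ hE, 1, (by have := finite_Zc (tw4 p (AlgebraicClosure K) g hg tau); exact Nat.card_pos),
      cyc p (S2110.result hq hE), (card_mulAut_le _).trans (by
        rw [S2129.result p g (by rw [hE, ← pow_mul, mul_comm]) hg, one_mul]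
        exact Nat.mul_le_mul_right _ (Nat.mul_le_mul_right _ cent_tau))⟩ hc.ex hc.faith
  · have := Nat.mul_le_mul (eight_le h3 H) (eight_le h3 H')
    exact sc (by omega)
  have hm : ∀ y, φ y ∈ P := fun y => hφ ▸ ⟨y, rfl⟩
  rcases cls' h3 H with ⟨i, hi, hl⟩ | ⟨x, μ, h5, h6⟩
  swap
  · obtain ⟨y, hy⟩ := gd _ rfl h3 hR h5 h6
    have h7 := hy.le
    rcases Nat.lt_or_ge n 27 with h8 | h8
    · obtain rfl : j = 1 := by omega
      refine M.ct_dm N hj hk ⟨φ y, hm y⟩ (Rg.dm_le hy hy) ?_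
      show _ + 2 * (1 * 29) + _ ≤ _
      clear hy hR
      interval_cases n <;> norm_num
    · exact sc h8
  have h5 := d_le h3 H hi hl
  rw [hR.dim, Module.finrank_fintype_fun_eq_card] at h5
  obtain ⟨h6, h7, -, h8, -⟩ := H392.TD.d4_small p hC hq hE e (by omega)
  obtain rfl : n = 8 := (Fintype.card_fin n).symm.trans h6
  obtain ⟨y, z, z1, z2, z3⟩ := reg _ rfl h3 hR hi hl
  obtain ⟨h9, h10⟩ := cyc_of_eig (φ y) z1 z2 z3
  have h11 := (M.cyc ⟨φ y, hm y⟩ (fun _ _ => h9) h10).trans (Nat.mul_le_mul_right _ (Nat.gcd_le_right _ M.ct_zz))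
  rw [mul_comm] at h11
  have h12 := (M.fc _).trans (Nat.le_of_mul_le_mul_left h11 M.ct_zz)
  have h13 := Gn.low M.q_ge M.dim M.ord
  have h14 := M.frm
  have h15 := M.dim
  have h16 := M.card
  rw [← Nat.card_eq_fintype_card, h7] at h16
  have h17 := H879.Nine.sd_of_fixQ h8
  cases t
  · exact absurd h17 h14
  · exact absurd h17 h14.2
  · exact absurd h8 h14.2.2
  · exact absurd h15.2.1 (by norm_num)
  all_goals
    obtain rfl : (p ^ g) ^ 3 = q := h16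
    exact M.good _ (num N.two_le (two_mul_le M.prime.two_le g) h12 (M.b_le N) h13)

end row

end Td

/-- **[N2D-td4]** -/
theorem row3D4 : Row f3D4 := fun _ _ _ _ _ _ _ _ _ _ _ _ _ M ⟨_, _, _, _, _, _, h, ⟨e⟩⟩ => Td.row M.toMd0 h e

end Cfsg.Agent.N2C.RD
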