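import Cfsg.Agent.N2.Cl.RD.Aut
import Cfsg.Agent.N2.Cl.RX.Sieve

/-!
# N2 (S3519), class S in the defining characteristic: the numeric criteria (helper69)

All checks `chk*`, `rng` are evaluated by `decide +kernel`; they are exact for small `q` and uniform for large `q`.
-/

set_option autoImplicit false
set_option linter.unusedSectionVars false

namespace Cfsg.Agent.N2C.RD

open Cfsg Cfsg.Geo Subgroup Cfsg.Agent.N2C.Cyc Cfsg.Agent.H915.LD Cfsg.Agent.N2C.RX Module Finset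

/-! ### the exponent of a prime power -/

def lga (p : ℕ) : ℕ → ℕ → ℕ
  | 0, _ => 0
  | k + 1, x => bif Nat.ble x 1 then 0 else lga p k (x / p) + 1

/-- `lg (p ^ a) = a` -/
def lg (q : ℕ) : ℕ := lga (mf q) q q

theorem lga_eq {p : ℕ} (hp : 2 ≤ p) {k a : ℕ} (h : a ≤ k) : lga p k (p ^ a) = a := by
  induction a generalizing k with
  | zero => cases k <;> rfl
  | succ a ih =>
    obtain ⟨k, rfl⟩ : ∃ k', k = k' + 1 := ⟨k - 1, by omega⟩
    have h1 : 1 < p ^ (a + 1) := Nat.one_lt_pow (by omega) hp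
    rw [lga, show Nat.ble (p ^ (a + 1)) 1 = false from by rw [← Bool.not_eq_true, Nat.ble_eq]; omega, cond_false, pow_succ,
      Nat.mul_div_cancel _ (by omega), ih (by omega)]

theorem lg_eq {p a : ℕ} (hp : p.Prime) (ha : 0 < a) : lg (p ^ a) = a := by
  rw [lg, mf_eq hp ha]
  exact lga_eq hp.two_le (Nat.lt_pow_self hp.one_lt).le

theorem lg_mul {a q q0 : ℕ} (ha : 2 ^ a ≤ q) (hq : q0 ≤ q) : a * q0 ≤ (Nat.log2 (q0 - 1) + 1) * q := by
  have h1 : q0 ≤ 2 ^ (Nat.log2 (q0 - 1) + 1) := by have := Nat.lt_log2_self (n := q0 - 1); omega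
  generalize Nat.log2 (q0 - 1) = L at h1
  rcases le_total a (L + 1) with h | h
  · exact Nat.mul_le_mul h hq
  · obtain ⟨k, rfl⟩ := Nat.exists_eq_add_of_le h
    have h2 : k + 1 ≤ 2 ^ k := Nat.lt_two_pow_self
    calc (L + 1 + k) * q0 ≤ (L + 1) * 2 ^ k * 2 ^ (L + 1) := Nat.mul_le_mul (by nlinarith) h1
      _ = (L + 1) * 2 ^ (L + 1 + k) := by ring
      _ ≤ _ := Nat.mul_le_mul_left _ ha

/-! ### the checks -/

/-- a bound for a fraction: `al * lg q ^ i * q ^ d / be` for all `q`, `bn q / bd q` (used for small `q`); `sk q` : the field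
does not occur -/
structure Bd where
  al : ℕ
  i : ℕ
  d : ℕ
  be : ℕ
  bn : ℕ → ℕ
  bd : ℕ → ℕ
  sk : ℕ → Bool

/-- the bound `al * lg q * q ^ d` -/
def Bd.s (al d : ℕ) (sk : ℕ → Bool := fun _ => false) : Bd := ⟨al, 1, d, 1, fun q => al * lg q ^ 1 * q ^ d, fun _ => 1, sk⟩

/-- the bound `al * lg q * q ^ d` and the bound `bn q` -/
def Bd.x (al d : ℕ) (bn : ℕ → ℕ) (sk : ℕ → Bool := fun _ => false) : Bd := ⟨al, 1, d, 1, bn, fun _ => 1, sk⟩

/-- the bound holds for `x / y` -/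
structure HB (q x y : ℕ) (B : Bd) : Prop where
  sk : B.sk q = false
  pos : 0 < B.be
  un : x * B.be ≤ B.al * lg q ^ B.i * q ^ B.d * y
  ex : x * B.bd q ≤ B.bn q * y

theorem HB.s {q b al d : ℕ} {sk : ℕ → Bool} (h0 : sk q = false) (h : b ≤ al * lg q * q ^ d) : HB q b 1 (.s al d sk) :=
  ⟨h0, one_pos, by simpa [Bd.s] using h, by simpa [Bd.s] using h⟩

theorem HB.x {q b al d : ℕ} {bn : ℕ → ℕ} {sk : ℕ → Bool} (h0 : sk q = false) (h : b ≤ al * lg q * q ^ d) (h1 : b ≤ bn q) :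
    HB q b 1 (.x al d bn sk) :=
  ⟨h0, one_pos, by simpa [Bd.x] using h, by simpa [Bd.x] using h1⟩

/-- a criterion for the goal -/
def Cq (T : ℕ) (G : Prop) (c x y : ℕ) : Prop := 0 < y ∧ (c ^ 3 * x ≤ T * y → G)

/-- the normal form of the bounds for centralisers -/
def NF (t : Kd) (n q c g k w e ν δ : ℕ) : Prop :=
  (c * zz t q) ^ 2 * (q ^ e) ^ (2 * ν) * q ^ (2 * δ) ≤
    (Nat.gcd n (zz t q) ^ g * k) ^ 2 * q ^ w * (q ^ e + 1) ^ (2 * ν) * (q + 1) ^ (2 * δ)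

section

variable (t : Kd) (n : ℕ) (B : Bd) (g k w e ν δ q : ℕ)

def exq : Bool := B.sk q || !Nat.beq (mf q ^ lg q) q || (t.isO && Nat.beq (q % 2) 0) ||
  (Nat.blt 0 (B.bd q) && Nat.ble
    (((Nat.gcd n (zz t q) ^ g * k) ^ 2 * q ^ w * (q ^ e + 1) ^ (2 * ν) * (q + 1) ^ (2 * δ)) ^ 3 * B.bn q ^ 2)
    ((tI t n q / oD t n q * zz t q ^ 3) ^ 2 * (B.bd q ^ 2 * ((q ^ e) ^ (2 * ν) * q ^ (2 * δ)) ^ 3)))

def unq : Bool := frc (3 * w + 2 * (B.d + B.i)) fun x => frc (2 * dimE t n) fun E => Nat.ble x E && Nat.ble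
  (((wmax t n ^ g * k) ^ 2 * (q ^ e + 1) ^ (2 * ν) * (q + 1) ^ (2 * δ)) ^ 3 * (B.al * (Nat.log2 (q - 1) + 1) ^ B.i) ^ 2 *
    lD t n q ^ 2) (lN t q ^ 2 * ((B.be * q ^ B.i) ^ 2 * ((q ^ e) ^ (2 * ν) * q ^ (2 * δ)) ^ 3) * q ^ (E - x))

/-- the check for all `q` -/
def chk1 : Bool := Nat.ble (3 * w + 2 * (B.d + B.i)) (2 * dimE t n) &&
  allU (unq t n B g k w e ν δ) (exq t n B g k w e ν δ) 300 2

variable (D m : ℕ)

/-- `crude`, `dm u ≤ D` -/
def chkC : Bool := chk1 t n B 1 1 (ec t n D) 0 0 0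
/-- `ss`, `dm u ≤ D`, `m` bounds `e2 p u` -/
def chkS : Bool := chk1 t n B 1 (k4 t) (2 * es t D m) 1 (kk t n) 0
/-- any element with `dm u ≤ D` -/
def chkD : Bool := match t with
  | .U => chkS .U n B D 0
  | t => chkC t n B D
/-- `small` -/
def chkSc : Bool := chkD t n B (n ^ 2 / 4 + 1)
/-- `cyc` -/
def chkY : Bool := match t with
  | .L => chk1 .L n B 1 1 (2 * n) 1 0 0
  | .U => chk1 .U n B 1 1 (2 * n) 1 n 0
  | t => chk1 t n B 1 4 (2 * (n / 2)) 1 (n / 2) 0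
/-- `semi`; the orbits on the eigenvalues have length divisible by `k`; `out (ev u 1) (dm u) = false` -/
def chkQ (nn : ℕ → ℕ) (out : ℕ → ℕ → Bool) : Bool :=
  allS (fun m d z => out m d || chk1 t n B 0 (kp t m) (2 * es t d m) e (nn z) (dl t m)) n k n
/-- `semi`, the order `e` of `fr t q` is known -/
def chkP (out : ℕ → ℕ → Bool) : Bool := chkQ t n B k (eq t e) (nu t e) out
/-- `semi`, the order of `fr t q` is not known -/
def chkP' (out : ℕ → ℕ → Bool) : Bool := chkQ t n B k 1 (nu0 t) out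

end

/-- the generic criterion is `gx t n X ≤ n ^ 2` -/
def gx : Kd → ℕ → ℕ → ℕ
  | .L, _, X => 2 * X + 24
  | .U, n, X => 2 * X + 12 * n + 24
  | _, n, X => 4 * X + 16 * n + 12

def Bd.X (B : Bd) : ℕ := 2 * B.d + 2 * B.i + 2 * (Nat.log2 B.al + 1) + 6

def allK (f : Kd → Bool) : Bool := f .L && f .U && f .S && f .O && f .P && f .M

/-- all kinds and all `n ≥ lo` : Scott's lemma or `F t n` -/
def rng (B : Kd → Bd) (F : Kd → ℕ → Bool) (lo : ℕ) : Bool :=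
  allU (fun n => Nat.ble 17 n && allK fun t => Nat.ble (gx t n (B t).X) (n ^ 2))
    (fun n => allK fun t => !dimB t n || F t n || (Nat.ble 17 n && Nat.ble (gx t n (B t).X) (n ^ 2)) || chkSc t n (B t)) 300 lo

/-! ### soundness -/

theorem allK_sound {f : Kd → Bool} (h : allK f = true) (t : Kd) : f t = true := by
  simp only [allK, Bool.and_eq_true] at h
  cases t
  exacts [h.1.1.1.1.1, h.1.1.1.1.2, h.1.1.1.2, h.1.1.2, h.1.2, h.2]

theorem gx_mono {t : Kd} {n m X : ℕ} (h : gx t m X ≤ m ^ 2) (h1 : 17 ≤ m) (h2 : m ≤ n) : gx t n X ≤ n ^ 2 := by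
  obtain ⟨k, rfl⟩ := Nat.exists_eq_add_of_le h2
  cases t <;> simp only [gx] at h ⊢ <;> nlinarith

/-- `n` doubles with `j` -/
theorem big {C A E j j0 n : ℕ} (hC : C * 2 ^ j ≤ 2 * n) (hj : j0 ≤ j) (h1 : 1 ≤ j0) (h2 : 34 ≤ C * 2 ^ j0)
    (h : 4 * (A * j0 + E) + 32 * (C * 2 ^ j0) ≤ (C * 2 ^ j0) ^ 2) : 17 ≤ n ∧ A * j + E + 16 * n ≤ n ^ 2 := by
  obtain ⟨k, rfl⟩ := Nat.exists_eq_add_of_le hj
  rw [pow_add, ← mul_assoc] at hC
  generalize C * 2 ^ j0 = m at hC h h2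
  have h3 : k + 1 ≤ 2 ^ k := Nat.lt_two_pow_self
  generalize 2 ^ k = y at hC h3
  have h4 : A * (j0 + k) + E ≤ (A * j0 + E) * y := by
    calc A * (j0 + k) + E ≤ (A * j0 + E) * (k + 1) := by nlinarith [Nat.mul_le_mul_left (A * k) h1, Nat.zero_le (E * k)]
      _ ≤ _ := Nat.mul_le_mul_left _ h3
  have h5 : m ≤ m * y := Nat.le_mul_of_pos_right _ (by omega)
  have h6 : 4 * ((A * j0 + E) * y) + 32 * (m * y) ≤ (m * y) ^ 2 := by
    calc _ = (4 * (A * j0 + E) + 32 * m) * y := by ring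
      _ ≤ m ^ 2 * y := Nat.mul_le_mul_right _ h
      _ ≤ m ^ 2 * y ^ 2 := Nat.mul_le_mul_left _ (Nat.le_self_pow two_ne_zero y)
      _ = _ := by ring
  generalize m * y = z at hC h5 h6
  obtain ⟨u, hu⟩ := Nat.exists_eq_add_of_le hC
  refine ⟨by omega, ?_⟩
  have h7 : (2 * n) ^ 2 = z ^ 2 + 2 * z * u + u ^ 2 := by rw [hu]; ring
  nlinarith [Nat.mul_le_mul_right u (h2.trans h5)]

section

variable {t : Kd} {n q T : ℕ} {G : Prop} {B : Bd} {c x y g k w e ν δ : ℕ}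

theorem zz_pos' (hq : 2 ≤ q) : 0 < zz t q := by
  cases t <;> simp only [zz] <;> first | omega | exact Nat.gcd_pos_of_pos_left _ two_pos

theorem Cq.two (h : Cq T G c x y) {Z X Y N D : ℕ} (hZ : 0 < Z) (hX : 0 < X) (hD : 0 < D) (h0 : x * D ≤ N * y)
    (h1 : (c * Z) ^ 2 * X ≤ Y) (h2 : Y ^ 3 * N ^ 2 ≤ (T * Z ^ 3) ^ 2 * (D ^ 2 * X ^ 3)) : G := by
  refine h.2 ((Nat.pow_le_pow_iff_left two_ne_zero).1 (Nat.le_of_mul_le_mul_left ?_
    (show 0 < Z ^ 6 * X ^ 3 * D ^ 2 by positivity)))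
  calc Z ^ 6 * X ^ 3 * D ^ 2 * (c ^ 3 * x) ^ 2 = ((c * Z) ^ 2 * X) ^ 3 * (x * D) ^ 2 := by ring
    _ ≤ Y ^ 3 * (N * y) ^ 2 := by gcongr
    _ = Y ^ 3 * N ^ 2 * y ^ 2 := by ring
    _ ≤ _ := Nat.mul_le_mul_right _ h2
    _ = _ := by ring

/-- **the check** -/
theorem NF.fin (h1 : NF t n q c g k w e ν δ) {p : ℕ} (hp : p.Prime) (ha : ∃ a, 0 < a ∧ q = p ^ a) (hd : dimOk t n q)
    (ho : oD t n q * T = oI t n q) (hc : Cq T G c x y) (hB : HB q x y B) (h : chk1 t n B g k w e ν δ = true) : G := by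
  obtain ⟨a, ha, hq⟩ := ha
  have h2 : 2 ≤ q := hq ▸ hp.two_le.trans (Nat.le_self_pow ha.ne' p)
  have h0 : 0 < q := by omega
  have hl : lg q = a := hq ▸ lg_eq hp ha
  rw [chk1, Bool.and_eq_true] at h
  rcases allU_sound h.2 h2 with h | ⟨q0, h3, h4, h⟩
  · have h5 : mf q = p := hq ▸ mf_eq hp ha
    have h6 : tI t n q / oD t n q = T := by rw [tI_eq, ← ho, Nat.mul_div_cancel_left _ (oD_pos h2)]
    simp only [exq, h5, h6, hl, hB.sk, Bool.or_eq_true, Bool.and_eq_true, Nat.blt_eq, nbeq, Nat.beq_eq, Nat.ble_eq] at h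
    rcases h with ((h | h) | h) | h
    · exact absurd h Bool.false_ne_true
    · exact absurd hq.symm h
    · cases t <;> first | exact absurd h.1 Bool.false_ne_true | exact absurd hd.2.2 (by omega)
    · exact hc.two (zz_pos' h2) (by positivity) h.1 hB.ex (by rw [← mul_assoc]; exact h1) h.2
  · simp only [unq, frc_eq, Bool.and_eq_true, Nat.ble_eq] at h
    have h5 := unif2 h4 (low_W hd ho h3 h4) (lD_pos hd h3) h.1 h.2
    have h6 : 0 < q0 := by omega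
    have h7 : (c * zz t q) ^ 2 * q ^ (2 * δ) * (q0 ^ e) ^ (2 * ν) ≤
        (Nat.gcd n (zz t q) ^ g * k) ^ 2 * q ^ w * (q + 1) ^ (2 * δ) * (q0 ^ e + 1) ^ (2 * ν) :=
      ratio (Q := q ^ e) (by positivity) (Or.inr (Nat.pow_le_pow_left h4 e)) le_rfl (by
        rw [mul_right_comm, mul_right_comm _ ((q + 1) ^ (2 * δ))]; exact h1)
    have h8 : (c * zz t q) ^ 2 * (q0 ^ e) ^ (2 * ν) * q0 ^ (2 * δ) ≤
        (Nat.gcd n (zz t q) ^ g * k) ^ 2 * q ^ w * (q0 ^ e + 1) ^ (2 * ν) * (q0 + 1) ^ (2 * δ) :=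
      ratio h6 (Or.inr h4) le_rfl (by rw [mul_right_comm, mul_right_comm _ ((q0 ^ e + 1) ^ (2 * ν))]; exact h7)
    have h9 : lg q * q0 ≤ (Nat.log2 (q0 - 1) + 1) * q :=
      lg_mul (by rw [hl, hq]; exact Nat.pow_le_pow_left hp.two_le a) h4
    refine hc.two (zz_pos' h2) (X := (q0 ^ e) ^ (2 * ν) * q0 ^ (2 * δ)) (D := B.be * q0 ^ B.i)
      (N := B.al * (Nat.log2 (q0 - 1) + 1) ^ B.i * q ^ (B.d + B.i))
      (Y := (wmax t n ^ g * k) ^ 2 * q ^ w * (q0 ^ e + 1) ^ (2 * ν) * (q0 + 1) ^ (2 * δ))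
      (by positivity) (by have := hB.pos; positivity) ?_ ?_ (le_of_eq_of_le (by ring) h5)
    · calc x * (B.be * q0 ^ B.i) = x * B.be * q0 ^ B.i := by ring
        _ ≤ B.al * lg q ^ B.i * q ^ B.d * y * q0 ^ B.i := Nat.mul_le_mul_right _ hB.un
        _ = B.al * (lg q * q0) ^ B.i * q ^ B.d * y := by ring
        _ ≤ B.al * ((Nat.log2 (q0 - 1) + 1) * q) ^ B.i * q ^ B.d * y := by gcongr
        _ = _ := by rw [mul_pow]; ring
    · rw [← mul_assoc]
      exact h8.trans (by gcongr; exact gcd_le_wmax hd)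

theorem NF.of (hq : 1 ≤ q) {v : ℕ} (hv : 2 * v ≤ w) (h : c * zz t q * (q ^ e) ^ ν * q ^ δ ≤
    Nat.gcd n (zz t q) ^ g * k * q ^ v * (q ^ e + 1) ^ ν * (q + 1) ^ δ) : NF t n q c g k w e ν δ :=
  calc _ = (c * zz t q * (q ^ e) ^ ν * q ^ δ) ^ 2 := by ring
    _ ≤ _ := Nat.pow_le_pow_left h 2
    _ = (Nat.gcd n (zz t q) ^ g * k) ^ 2 * q ^ (2 * v) * (q ^ e + 1) ^ (2 * ν) * (q + 1) ^ (2 * δ) := by ring
    _ ≤ _ := by gcongr

end

/-- the multiplicities, any number of orbits -/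
theorem allS_sound' {r : ℕ} [Fact r.Prime] (μ : ZMod r → ℕ) {n k : ℕ} (hk : 0 < k) (hs : ∑ i, μ i = n) (h0 : μ 0 ≠ n)
    (hd : ∀ m, k ∣ (univ.filter fun i => i ≠ 0 ∧ μ i = m).card) {f : ℕ → ℕ → ℕ → Bool} (h : allS f n k n = true) :
    f (μ 0) (∑ i, μ i ^ 2) (univ.filter fun i => i ≠ 0 ∧ μ i ≠ 0).card = true := by
  have hn : ∀ i, μ i ≤ n := fun i => hs ▸ single_le_sum (f := μ) (fun _ _ => Nat.zero_le _) (mem_univ i)
  choose c hc using fun m => hd (m + 1)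
  have key : ∀ F : ℕ → ℕ, F 0 = 0 → ∑ i ∈ univ.erase 0, F (μ i) = k * ∑ m ∈ range n, c m * F (m + 1) := fun F hF => by
    rw [sum_lvl μ hn F hF, mul_sum]
    exact sum_congr rfl fun m _ => by rw [hc, mul_assoc]
  set s := ∑ m ∈ range n, c m * (m + 1) with hs'
  have h1 : μ 0 + k * s = n := by rw [← key (fun m => m) rfl, add_sum_erase _ μ (mem_univ 0), hs]
  have h2 : ∑ i, μ i ^ 2 = μ 0 ^ 2 + k * ∑ m ∈ range n, c m * (m + 1) ^ 2 := by
    rw [← key (fun m => m ^ 2) rfl, add_sum_erase _ (fun i => μ i ^ 2) (mem_univ 0)]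
  have h3 : (univ.filter fun i => i ≠ 0 ∧ μ i ≠ 0).card = k * ∑ m ∈ range n, c m := by
    have h4 := key (fun m => if m ≠ 0 then 1 else 0) rfl
    simp only [Nat.succ_ne_zero, ne_eq, not_false_eq_true, if_true, mul_one] at h4
    rw [← h4, sum_boole, Nat.cast_id]
    congr 1
    ext i
    simp
  have h5 : 0 < s := Nat.pos_of_ne_zero fun e => h0 (by rw [← h1, e, mul_zero, add_zero])
  have h6 : s ≤ n := (Nat.le_mul_of_pos_left s hk).trans (by omega)
  have h7 : ∀ F : ℕ → ℕ, ∑ m ∈ range s, c m * F m = ∑ m ∈ range n, c m * F m := fun F =>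
    sum_subset (range_subset_range.2 h6) fun m hm hm' => by
      have h8 : c m * (m + 1) ≤ s := single_le_sum (f := fun m => c m * (m + 1)) (fun _ _ => Nat.zero_le _) hm
      rw [mem_range] at hm'
      rcases Nat.eq_zero_or_pos (c m) with h9 | h9
      · rw [h9, zero_mul]
      · have := Nat.le_mul_of_pos_left (m + 1) h9
        omega
  have h8 : ∑ m ∈ range s, c m = ∑ m ∈ range n, c m := by simpa using h7 fun _ => 1
  have h9 := allR_sound h (i := s) h5 (by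
    have : s ≤ n / k := (Nat.le_div_iff_mul_le hk).2 (by rw [mul_comm]; omega)
    omega)
  rw [frc_eq] at h9
  have h10 := allP_sound c h9 (h7 _) (by
    rw [h8]
    exact (sum_le_sum fun m _ => Nat.le_mul_of_pos_right _ (Nat.succ_pos m)).trans h6)
  rwa [frc_eq, frc_eq, zero_add, zero_add, h7, h8, show n - k * s = μ 0 by omega, ← h2, ← h3] at h10

section md

variable {t : Kd} {n q p T b : ℕ} {K : Type} [Field K] [Fintype K] {P : Subgroup (GL (Fin n) K)} {G : Prop} {c f : P → ℕ}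
  {B : Bd} {x y D m : ℕ}

theorem eq_one_of_ev {u : GL (Fin n) K} (h : ev u 1 = n) : u = 1 := by
  have h1 : Module.End.eigenspace (Matrix.toLin' (u : Matrix (Fin n) (Fin n) K)) 1 = ⊤ :=
    Submodule.eq_top_of_finrank_eq (by rw [finrank_fintype_fun_eq_card, Fintype.card_fin]; exact h)
  refine Units.ext (Matrix.toLin'.injective (LinearMap.ext fun v => ?_))
  have h2 := Module.End.mem_eigenspace_iff.1 (h1 ▸ Submodule.mem_top (x := v))
  rw [h2, one_smul, Units.val_one, Matrix.toLin'_one, LinearMap.id_apply]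

theorem ev_le_n (u : GL (Fin n) K) (a : K) : ev u a ≤ n :=
  (Submodule.finrank_le _).trans_eq (by rw [finrank_fintype_fun_eq_card, Fintype.card_fin])

/-- conjugacy lifts -/
theorem isConj_lift {u : P} {r j : ℕ} (hr : r.Prime) (h : ¬ r ∣ Nat.card ((scalars (Fin n) K).subgroupOf P)) (hu : orderOf u = r)
    (hj : IsConj (toSoc P u) (toSoc P u ^ j)) : IsConj u (u ^ j) := by
  obtain ⟨g, hg⟩ := isConj_iff.1 hj
  obtain ⟨g, rfl⟩ := toSoc_surjective P g
  have h1 : (u ^ j)⁻¹ * (g * u * g⁻¹) ∈ (toSoc P).ker := by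
    rw [MonoidHom.mem_ker, map_mul, map_mul, map_mul, map_inv, map_inv, map_pow, hg, inv_mul_cancel]
  have h2 : Commute (u ^ j) ((u ^ j)⁻¹ * (g * u * g⁻¹)) := mem_center_iff.1 (ker_toSoc_le P h1) _
  have h3 : ((u ^ j)⁻¹ * (g * u * g⁻¹)) ^ r = 1 := by
    have h4 := h2.mul_pow r
    rwa [mul_inv_cancel_left, conj_pow, ← pow_mul, mul_comm j, pow_mul, ← hu, pow_orderOf_eq_one, one_pow, mul_one,
      mul_inv_cancel, one_mul, hu, eq_comm] at h4
  have h4 := (toSoc P).ker.orderOf_dvd_natCard h1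
  rw [ker_toSoc] at h4
  rcases (Nat.dvd_prime hr).1 (orderOf_dvd_of_pow_eq_one h3) with h5 | h5
  · exact isConj_iff.2 ⟨g, (inv_mul_eq_one.1 (orderOf_eq_one_iff.1 h5)).symm⟩
  · exact absurd (h5 ▸ h4) h

namespace Md0

variable (M : Md0 t q p T b P G c f)
include M

theorem lg_spec : 0 < lg q ∧ q = p ^ lg q := by
  obtain ⟨a, ha, hq⟩ := M.pow
  have h : lg q = a := hq ▸ lg_eq M.prime ha
  rw [h]
  exact ⟨ha, hq⟩

theorem b_pos : 0 < b := Nat.pos_of_dvd_of_pos M.bt (Nat.zero_lt_of_lt M.lt)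

/-- **the bound for `b`** if `s ^ w = q ^ v` -/
theorem bnd {X : H902.Art.Sh} {a w v g k d : ℕ} (N : Nd X p a (Soc P)) (h : (p ^ a) ^ w = q ^ v) (hw : 0 < w) (h1 : gX X p ≤ g)
    (h2 : v ≤ w * k) (h3 : v * dX X ≤ w * d) : b ≤ g * k * lg q * q ^ d := by
  obtain ⟨-, hq⟩ := M.lg_spec
  generalize lg q = l at hq
  subst hq
  rw [← pow_mul, ← pow_mul] at h
  have h4 : a * w = l * v := Nat.pow_right_injective M.prime.two_le h
  have h5 : a ≤ k * l := Nat.le_of_mul_le_mul_right (by nlinarith [Nat.mul_le_mul_left l h2]) hw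
  have h6 : a * dX X ≤ l * d := Nat.le_of_mul_le_mul_right (by
    calc a * dX X * w = l * (v * dX X) := by rw [mul_right_comm, h4, mul_assoc]
      _ ≤ l * (w * d) := Nat.mul_le_mul_left _ h3
      _ = _ := by ring) hw
  refine (M.b_le N).trans ?_
  rw [← pow_mul, ← pow_mul, mul_assoc g]
  exact Nat.mul_le_mul (Nat.mul_le_mul h1 h5) (Nat.pow_le_pow_right M.prime.pos h6)

theorem cq (u : P) : Cq T G (c u) b 1 :=
  ⟨one_pos, fun h => M.good u ((Nat.mul_le_mul_right _ (Nat.pow_le_pow_left (M.fc u) 3)).trans (by rwa [mul_one] at h))⟩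

/-- **PS** -/
theorem cq_syl {u : P} {r A z : ℕ} (hr : r.Prime) (hp : r ≠ p) (hz : ¬ r ∣ zz t q) (hu : orderOf u = r)
    (hb : ¬ r * Nat.card (Soc P) ∣ b) (hc : ∀ g : Soc P, orderOf g = r → ∃ j : ℕ, IsConj g (toSoc P u ^ j))
    (hA : n - ev (u : GL (Fin n) K) 1 ≤ A) (h0 : 0 < z) (hN : z ≤ Nat.card (normalizer (zpowers (toSoc P u) : Set (Soc P)))) :
    Cq T G (c u) (A ^ 3 * Nat.card (Soc P)) (z ^ 3) := by
  refine ⟨by positivity, fun h => M.good u ?_⟩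
  have h1 := M.fsyl u r hr hp hz hu hb hc
  have h2 := M.b_pos
  have h3 := Nat.le_of_dvd h2 M.nb
  refine Nat.le_of_mul_le_mul_left ?_ (show 0 < z ^ 3 * b ^ 2 by positivity)
  calc z ^ 3 * b ^ 2 * (f u ^ 3 * b) = (f u * z * b) ^ 3 := by ring
    _ ≤ (c u * A * Nat.card (Soc P)) ^ 3 :=
        Nat.pow_le_pow_left ((le_trans (by gcongr) h1).trans (by gcongr)) 3
    _ = c u ^ 3 * (A ^ 3 * Nat.card (Soc P)) * Nat.card (Soc P) ^ 2 := by ring
    _ ≤ T * z ^ 3 * b ^ 2 := by gcongr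
    _ = _ := by ring

/-- cyclic Sylow subgroups of prime order -/
theorem conj_of_sq {u : P} {r : ℕ} (hr : r.Prime) (h : ¬ r ^ 2 ∣ Nat.card (Soc P)) (hu : orderOf (toSoc P u) = r) (g : Soc P)
    (hg : orderOf g = r) : ∃ j : ℕ, IsConj g (toSoc P u ^ j) := by
  obtain ⟨z, hz⟩ := syl_conj hr h hu hg
  obtain ⟨j, hj⟩ := mem_powers_iff_mem_zpowers.2 (hz ▸ mem_zpowers (z * g * z⁻¹))
  exact ⟨j, isConj_iff.2 ⟨z, hj.symm⟩⟩

theorem fin {u : P} {g k w e ν δ : ℕ} (h1 : NF t n q (c u) g k w e ν δ) (hc : Cq T G (c u) x y) (hB : HB q x y B)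
    (h : chk1 t n B g k w e ν δ = true) : G := h1.fin M.prime M.pow M.dim M.ord hc hB h

/-- **crude** -/
theorem of_crude (u : P) (hD : dm (u : GL (Fin n) K) ≤ D) (hB : HB q b 1 B) (h : chkC t n B D = true) : G := by
  refine M.fin ?_ (M.cq u) hB h
  have h1 := (M.crude u).trans (Nat.mul_le_mul_left _ (Nat.pow_le_pow_right (by have := M.q_ge; omega) (ec_mono t n hD)))
  simpa only [NF, mul_zero, pow_zero, mul_one, pow_one] using h1

/-- **cyclic matrices** -/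
theorem of_cyc (u : P) (h1 : p = 2 → bil t → ev (u : GL (Fin n) K) 1 = 0)
    (h2 : n ≤ (minpoly K ((u : GL (Fin n) K) : Matrix (Fin n) (Fin n) K)).natDegree) (hc : Cq T G (c u) x y) (hB : HB q x y B)
    (h : chkY t n B = true) : G := by
  have h3 := M.cyc u h1 h2
  have h4 := M.q_ge
  have h5 : ∀ {a z k : ℕ}, a ≤ z * (q + 1) ^ k → a * (q ^ 1) ^ k * q ^ 0 ≤ z * q ^ k * (q ^ 1 + 1) ^ k * (q + 1) ^ 0 := fun h => by
    rw [pow_zero, pow_zero, mul_one, mul_one, pow_one, mul_right_comm]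
    exact Nat.mul_le_mul_right _ h
  cases t
  · refine M.fin (.of (by omega) le_rfl ?_) hc hB h
    simpa only [pow_zero, mul_one, pow_one] using h3.trans (Nat.mul_le_mul_left _ (Nat.sub_le _ _))
  · exact M.fin (.of (by omega) le_rfl (h5 (by rw [pow_one, mul_one]; exact h3))) hc hB h
  all_goals exact M.fin (.of (by omega) le_rfl (h5 (by rw [pow_one, mul_assoc]; exact h3))) hc hB h

/-- **the generic criterion** : `64 b ^ 2 ≤ q ^ X` -/
theorem gen {X : ℕ} (hX : 64 * b ^ 2 ≤ q ^ X) (h : gx t n X ≤ n ^ 2) : G := by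
  obtain ⟨u, hu⟩ := M.small
  have hq := M.q_ge
  have h1 : c u ^ 2 ≤ q ^ ec t n (dm (u : GL (Fin n) K)) := by
    have h1 := M.crude u
    rw [mul_pow, mul_comm] at h1
    exact Nat.le_of_mul_le_mul_left (h1.trans (Nat.mul_le_mul_right _ (Nat.pow_le_pow_left
      (Nat.gcd_le_right _ (zz_pos' hq)) 2))) (pow_pos (zz_pos' hq) 2)
  have h2 : 3 * ec t n (dm (u : GL (Fin n) K)) + X ≤ Gn.mm t n := by
    have h3 : n * (n - 1) + n = n ^ 2 := by rcases n with _ | n <;> simp [sq, mul_add]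
    cases t <;> simp only [ec, Gn.mm, gx] at h ⊢ <;> omega
  refine (M.cq u).2 ((Nat.pow_le_pow_iff_left two_ne_zero).1 (Nat.le_of_mul_le_mul_left ?_ (show 0 < 64 by norm_num)))
  calc 64 * (c u ^ 3 * b) ^ 2 = (c u ^ 2) ^ 3 * (64 * b ^ 2) := by ring
    _ ≤ (q ^ ec t n (dm (u : GL (Fin n) K))) ^ 3 * q ^ X := Nat.mul_le_mul (Nat.pow_le_pow_left h1 3) hX
    _ = q ^ (3 * ec t n (dm (u : GL (Fin n) K)) + X) := by ring
    _ ≤ q ^ Gn.mm t n := Nat.pow_le_pow_right (by omega) h2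
    _ ≤ _ := by rw [mul_one]; exact Gn.low hq M.dim M.ord

/-- the generic criterion, `b ≤ 2 ^ k * lg q ^ i * q ^ d` -/
theorem gen' {k i d : ℕ} (hb : b ≤ 2 ^ k * lg q ^ i * q ^ d) (h : gx t n (2 * d + 2 * i + 2 * k + 6) ≤ n ^ 2) : G := by
  refine M.gen ?_ h
  have h1 := M.q_ge
  have h2 : lg q ≤ q := by
    conv_rhs => rw [M.lg_spec.2]
    exact (Nat.lt_pow_self M.prime.one_lt).le
  calc 64 * b ^ 2 ≤ 2 ^ 6 * (2 ^ k * lg q ^ i * q ^ d) ^ 2 := by gcongr; norm_num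
    _ ≤ q ^ 6 * (q ^ k * q ^ i * q ^ d) ^ 2 := by gcongr
    _ = _ := by ring

/-- **large fields** : `s ^ w = q ^ v`, worst kind -/
theorem gen_j {X : H902.Art.Sh} {a w v d : ℕ} (N : Nd X p a (Soc P)) (h : (p ^ a) ^ w = q ^ v) (hw : 0 < w)
    (h3 : v * dX X ≤ w * d) (hn : 8 * d + 8 * v + 68 + 16 * n ≤ n ^ 2) : G := by
  have h1 := M.bnd (g := 8) (k := 2 ^ v) N h hw ((Nat.le_of_dvd (by norm_num) (Au.gX_cases X p)).trans (by norm_num))
    (Nat.lt_two_pow_self.le.trans (Nat.le_mul_of_pos_left _ hw)) h3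
  refine M.gen' (k := v + 3) (i := 1) (d := d) (h1.trans_eq (by ring)) ?_
  cases t <;> simp only [gx] <;> omega

end Md0

namespace Md

variable (M : Md t q p T b P G c f)
include M

/-- **semisimple elements** -/
theorem of_ss (u : P) (hu : t = .U ∨ (orderOf u).Coprime p) (hD : dm (u : GL (Fin n) K) ≤ D)
    (h1 : t = .S → e2 p (u : GL (Fin n) K) ≤ m) (h2 : t ≠ .S → bil t → m ≤ e2 p (u : GL (Fin n) K)) (hc : Cq T G (c u) x y)
    (hB : HB q x y B) (h : chkS t n B D m = true) : G := by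
  have h3 := M.ss u hu
  have h4 := M.q_ge
  refine M.fin (.of (v := es t (dm (u : GL (Fin n) K)) (e2 p (u : GL (Fin n) K))) (by omega) ?_ (by
    simpa only [pow_zero, mul_one, pow_one] using h3)) hc hB h
  cases t <;> simp only [es]
  · omega
  · omega
  · have := h1 rfl; omega
  all_goals have := h2 (by decide) trivial; omega

/-- **W, CR** : any element with `dm u ≤ D` -/
theorem of_dm (u : P) (hD : dm (u : GL (Fin n) K) ≤ D) (hB : HB q b 1 B) (h : chkD t n B D = true) : G := by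
  cases t
  case U => exact M.of_ss u (Or.inl rfl) hD (fun h => nomatch h) (fun _ h => h.elim) (M.cq u) hB h
  all_goals exact M.of_crude u hD hB h

/-- **Sc** -/
theorem of_sc (hB : HB q b 1 B) (h : chkSc t n B = true) : G := by
  obtain ⟨u, hu⟩ := M.small
  exact M.of_dm u hu hB h

theorem of_Q {u : P} {r e k : ℕ} {nn : ℕ → ℕ} {out : ℕ → ℕ → Bool} (hr : r.Prime) (hp : r ≠ p) (h2 : 2 < r) (hu : orderOf u = r)
    (hz : ¬ r ∣ zz t q) (he : eq t (orderOf ((fr t q : ℤ) : ZMod r)) = 0 ∨ e ≤ eq t (orderOf ((fr t q : ℤ) : ZMod r)))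
    (hn : ∀ z, nu t (orderOf ((fr t q : ℤ) : ZMod r)) z ≤ nn z) (hk0 : 0 < k)
    (hk : ∀ s, orderOf ((fr t q : ℤ) : ZMod r) ∣ s → kb t ∣ s →
      (∀ j : ℕ, IsConj u (u ^ j) → orderOf (j : ZMod r) ∣ s) → k ∣ s)
    (hout : out (ev (u : GL (Fin n) K) 1) (dm (u : GL (Fin n) K)) = false) (hc : Cq T G (c u) x y) (hB : HB q x y B)
    (h : chkQ t n B k e nn out = true) : G := by
  have : Fact r.Prime := ⟨hr⟩
  obtain ⟨μ, m1, m2, m3, m4, m5, m6, m7⟩ := M.semi r u hp h2 hu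
  obtain ⟨s, s1, s2⟩ := exists_stab μ
  have hq := M.q_ge
  have h1 : (q : ZMod r) ≠ 0 := fun h => by
    obtain ⟨f, -, hf⟩ := M.pow
    exact hp ((Nat.prime_dvd_prime_iff_eq hr M.prime).1 (hr.dvd_of_dvd_pow (hf ▸ (ZMod.natCast_eq_zero_iff _ _).1 h)))
  have h3 : ((fr t q : ℤ) : ZMod r) ≠ 0 := by cases t <;> simpa [fr] using h1
  have h4 : kb t ∣ s := by
    have h4 : bil t → 2 ∣ s := fun h => by
      have h5 := s2 (-1) (by simp) fun i => by rw [neg_one_mul, m6 h]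
      rwa [orderOf_neg_one, ZMod.ringChar_zmod_n, if_neg h2.ne'] at h5
    cases t
    · exact one_dvd s
    · exact one_dvd s
    all_goals exact h4 trivial
  have hu1 : u ≠ 1 := fun e => by rw [e, orderOf_one] at hu; omega
  have h5 := allS_sound' μ hk0 m1 (fun e => hu1 (Subtype.ext (eq_one_of_ev (m2 ▸ e))))
    (fun m => (hk s (s2 _ h3 m5) h4 fun j hj => s2 _ (fun e => hu1 (by
      rwa [orderOf_dvd_iff_pow_eq_one.1 (hu ▸ (ZMod.natCast_eq_zero_iff _ _).1 e), isConj_one_left] at hj)) (m4 j hj)).trans (s1 m)) h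
  rw [← m3, m2, hout, Bool.false_or] at h5
  refine M.fin (.of (by omega) le_rfl ?_) hc hB h5
  have h6 := m7 _ _ rfl rfl
  rw [ww, if_neg fun h => hz h.1, m2, mul_right_comm, mul_right_comm _ _ ((q + 1) ^ _)] at h6
  rw [pow_zero, mul_right_comm, mul_right_comm _ _ ((q + 1) ^ _)]
  refine ratio (by positivity) ?_ (hn _) h6
  exact he.imp (fun h => if_pos h) (Nat.pow_le_pow_right (by omega))

omit M in
theorem not_dvd_zz {r : ℕ} (h2 : 2 < r) (hq : 1 ≤ q) (h : orderOf ((fr t q : ℤ) : ZMod r) ≠ 1) : ¬ r ∣ zz t q := fun hd => by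
  have h3 : ¬ r ∣ Nat.gcd 2 (q - 1) := fun h => absurd (Nat.le_of_dvd two_pos (h.trans (Nat.gcd_dvd_left _ _))) (by omega)
  cases t
  · refine h (orderOf_eq_one_iff.2 ?_)
    have h4 := (ZMod.natCast_eq_zero_iff _ _).2 (show r ∣ q - 1 from hd)
    rw [Nat.cast_sub hq, sub_eq_zero] at h4
    simpa [fr] using h4
  · refine h (orderOf_eq_one_iff.2 ?_)
    have h4 := (ZMod.natCast_eq_zero_iff _ _).2 (show r ∣ q + 1 from hd)
    push_cast at h4
    simp only [fr]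
    push_cast
    linear_combination -h4
  all_goals exact h3 hd

/-- **P**, `e` is the order of `fr t q` modulo `r` -/
theorem of_P {u : P} {r e k : ℕ} {out : ℕ → ℕ → Bool} (hr : r.Prime) (hp : r ≠ p) (h2 : 2 < r) (hu : orderOf u = r)
    (he : orderOf ((fr t q : ℤ) : ZMod r) = e) (h1 : e ≠ 1) (hk0 : 0 < k)
    (hk : ∀ s, e ∣ s → kb t ∣ s → (∀ j : ℕ, IsConj u (u ^ j) → orderOf (j : ZMod r) ∣ s) → k ∣ s)
    (hout : out (ev (u : GL (Fin n) K) 1) (dm (u : GL (Fin n) K)) = false) (hc : Cq T G (c u) x y) (hB : HB q x y B)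
    (h : chkP t n B k e out = true) : G := by
  subst he
  exact M.of_Q hr hp h2 hu (not_dvd_zz h2 (by have := M.q_ge; omega) h1) (Or.inr le_rfl) (fun _ => le_rfl) hk0 hk hout hc hB h

/-- **P**, the order of `fr t q` is not used -/
theorem of_P' {u : P} {r k : ℕ} {out : ℕ → ℕ → Bool} (hr : r.Prime) (hp : r ≠ p) (h2 : 2 < r) (hu : orderOf u = r)
    (hz : ¬ r ∣ zz t q) (hk0 : 0 < k)
    (hk : ∀ s, orderOf ((fr t q : ℤ) : ZMod r) ∣ s → kb t ∣ s →
      (∀ j : ℕ, IsConj u (u ^ j) → orderOf (j : ZMod r) ∣ s) → k ∣ s)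
    (hout : out (ev (u : GL (Fin n) K) 1) (dm (u : GL (Fin n) K)) = false) (hc : Cq T G (c u) x y) (hB : HB q x y B)
    (h : chkP' t n B k out = true) : G :=
  M.of_Q hr hp h2 hu hz (by omega) (nu_le t _) hk0 hk hout hc hB h

/-- **the sieve over all kinds and all `n ≥ lo`** -/
theorem sieve {B : Kd → Bd} {F : Kd → ℕ → Bool} {lo : ℕ} (hlo : lo ≤ n) (hB : HB q b 1 (B t)) (hF : F t n = true → G)
    (h : rng B F lo = true) : G := by
  have key : gx t n (B t).X ≤ n ^ 2 → G := M.gen' (by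
    have h1 := hB.un
    rw [mul_one] at h1
    refine ((Nat.le_mul_of_pos_right _ hB.pos).trans h1).trans ?_
    gcongr
    exact Nat.lt_log2_self.le)
  rcases allU_sound h hlo with h | ⟨j, -, h1, h⟩
  · have h1 := allK_sound h t
    simp only [dimB_of M.dim, Bool.not_true, Bool.false_or, Bool.or_eq_true, Bool.and_eq_true, Nat.ble_eq] at h1
    rcases h1 with (h1 | h1) | h1
    exacts [hF h1, key h1.2, M.of_sc hB h1]
  · rw [Bool.and_eq_true, Nat.ble_eq] at h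
    exact key (gx_mono (by simpa using allK_sound h.2 t) h.1 h1)

end Md

end md

/-! ### the order of `fr t q` -/

/-- the order of `-x` if `x` has order `m` -/
def ng (m : ℕ) : ℕ := if m % 2 = 1 then 2 * m else if m % 4 = 2 then m / 2 else m

theorem ord_ng {r m : ℕ} (hr : r.Prime) (h2 : 2 < r) {x : ZMod r} (h : orderOf x = m) (h0 : 0 < m) : orderOf (-x) = ng m := by
  have : Fact r.Prime := ⟨hr⟩
  have h1 : orderOf (-1 : ZMod r) = 2 := by rw [orderOf_neg_one, ZMod.ringChar_zmod_n, if_neg h2.ne']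
  have hodd : ∀ y : ZMod r, orderOf y % 2 = 1 → orderOf (-y) = 2 * orderOf y := fun y hy => by
    rw [← neg_one_mul, (Commute.all _ _).orderOf_mul_eq_mul_orderOf_of_coprime (by
      rw [h1]; exact Nat.coprime_two_left.2 (Nat.odd_iff.2 hy)), h1]
  have hev : ∀ y : ZMod r, orderOf y % 2 = 0 → orderOf (-y) ∣ orderOf y := fun y hy =>
    orderOf_dvd_of_pow_eq_one (by rw [(Nat.even_iff.2 hy).neg_pow, pow_orderOf_eq_one])
  rw [ng]
  split_ifs with h3 h4
  · rw [hodd x (h ▸ h3), h]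
  · obtain ⟨k, rfl⟩ : ∃ k, m = 2 * k := ⟨m / 2, by omega⟩
    rw [Nat.mul_div_cancel_left _ two_pos]
    have h5 : x ^ k = -1 := by
      have h6 : x ^ k * x ^ k = 1 := by rw [← pow_add, ← two_mul, ← h, pow_orderOf_eq_one]
      refine (mul_self_eq_one_iff.1 h6).resolve_left fun h7 => ?_
      have := Nat.le_of_dvd (by omega) (h ▸ orderOf_dvd_of_pow_eq_one h7)
      omega
    have h6 : orderOf (-x) ∣ k :=
      orderOf_dvd_of_pow_eq_one (by rw [(Nat.odd_iff.2 (by omega)).neg_pow, h5, neg_neg])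
    have h7 := hodd (-x) (Nat.odd_iff.1 (Odd.of_dvd_nat (Nat.odd_iff.2 (by omega)) h6))
    rw [neg_neg, h] at h7
    omega
  · have h5 := hev x (by omega)
    rcases Nat.mod_two_eq_zero_or_one (orderOf (-x)) with h6 | h6
    · have h7 := hev (-x) h6
      rw [neg_neg] at h7
      exact h ▸ Nat.dvd_antisymm h5 h7
    · have h7 := hodd (-x) h6
      rw [neg_neg] at h7
      omega

/-- the order of `fr t q` if `q` has order `m` -/
def of : Kd → ℕ → ℕ
  | .U, m => ng m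
  | _, m => m

/-- **the order of `fr t q`** modulo a primitive prime divisor of `p ^ (lg q * m) - 1` -/
theorem ord_fr {t : Kd} {r p q a m : ℕ} (hr : r.Prime) (h2 : 2 < r) (hq : q = p ^ a) (ha : 0 < a) (hm : 0 < m)
    (ho : orderOf ((p : ℕ) : ZMod r) = a * m) : orderOf ((fr t q : ℤ) : ZMod r) = of t m := by
  have h1 : orderOf ((q : ℕ) : ZMod r) = m := by
    rw [hq, ord_pow ho ha.ne', Nat.gcd_mul_right_left, Nat.mul_div_cancel_left _ ha]
  cases t
  case U =>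
    simp only [fr, of]
    push_cast
    exact ord_ng hr h2 h1 hm
  all_goals simpa only [fr, of, Int.cast_natCast] using h1

end Cfsg.Agent.N2C.RD
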