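import Cfsg.Agent.N2.Cl.RD.U45C
import Cfsg.Agent.N2.Cl.RD.Crit
import Cfsg.Agent.N2.Cl.RD.Num
import Cfsg.Agent.H130.U4.Final
import Cfsg.Agent.H876.D3.Main

/-!
# N2 (S3519), defining characteristic: the rows `U₄`, `U₅` (helper82)

**`rowU4`**, **`rowU5`**.
-/

set_option autoImplicit false
set_option maxHeartbeats 400000
set_option linter.unusedSectionVars false

namespace Cfsg.Agent.N2C.RD.U45

open Cfsg Cfsg.Geo Module Cfsg.Agent.TwoF.DC Cfsg.Agent.TwoF.DC.TA Cfsg.Agent.TwoF.DC.TA.I Cfsg.Agent.H915.LD Cfsg.Agent.N2C.RX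
open Cfsg.Agent.H929.U3 (core_psu_cj dvd_of_pow_eq)

theorem le_pow {d j : ℕ} (hd : 4 ≤ d) (hj : 2 ≤ j) : j * d ≤ d ^ j := by
  obtain ⟨i, rfl⟩ := Nat.exists_eq_add_of_le' (show 1 ≤ j by omega)
  rw [pow_succ]
  exact Nat.mul_le_mul_right _ (Nat.lt_pow_self (by omega))

section md

variable {t : Kd} {n q p T b l a : ℕ} [hp : Fact p.Prime] {K : Type} [Field K] [Fintype K] [CharP K p] {P : Subgroup (GL (Fin n) K)}
  {G : Prop} {c f : P → ℕ}

variable (l a P) in
/-- the module is a twist of one restricted module -/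
def One (lam : Fin l → ℕ) : Prop := lam ≠ 0 ∧ (∀ i, lam i < p) ∧ n = dd (rdA p l (AlgebraicClosure K)) lam ∧
  ∀ (r : ℕ) [Fact r.Prime], r ≠ p → r ∣ Nat.card (Soc P) → orderOf (-((p ^ a : ℕ) : ZMod r)) = l + 1 → ∀ m < n,
    Few (AlgebraicClosure K) (-((p ^ a : ℕ) : ZMod r)) lam m → ∃ u : P, orderOf u = r ∧ ev (u : GL (Fin n) K) 1 ≤ m

/-- the field and the weights -/
theorem pre (M : Md0 t q p T b P G c f) {E : Type} [Field E] [Fintype E] [CharP E p] (hE : Fintype.card E = (p ^ a) ^ 2) (ha : 0 < a)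
    (hl : 3 ≤ l) (e : Soc P ≃* PSU (l + 1) E (p ^ a)) {tb : List ℕ} (ht : ∀ s : Fin l → Bool, tb.getD (ix s) 0 ≤ (oc (wv s)).card)
    {d : ℕ} {sy : Bool} (hsy : sy = true ↔ t ≠ .U) (hd : Ck (n := l) tb sy d []) :
    t ≠ .L ∧ ∃ j, p ^ a = q ^ j ∧ (t = .U → j ≠ 2) ∧ (d + 1) ^ j ≤ n ∧
      (n < (d + 1) ^ 2 → ∃ lam, One (p := p) l a P lam ∧ (sy = true → ∀ i, lam i.rev = lam i)) := by
  have hcj := core_psu_cj p M.core (by omega) hE (by omega) e
  have h1 : t ≠ .L := fun h => M.ncj h a hcj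
  obtain ⟨m, hm, rfl⟩ := M.pow
  have key : ∀ w j, Fintype.card K = p ^ w → a = m * j → (sy = true → w = m) → (sy = false → ∃ i, w = 2 * m ∧ j = 2 * i + 1) →
      (d + 1) ^ j ≤ n ∧ (n < (d + 1) ^ 2 → ∃ lam, One (p := p) l a P lam ∧ (sy = true → ∀ i, lam i.rev = lam i)) := by
    intro w j hK hj k1 k2
    obtain ⟨Y, _, _, φ, ψ, ι, pat, X⟩ := setup M.core hK hE ha hl e
    have h2 : ∀ x, sy = true → ∀ i, pat x i.rev = pat x i := fun x h => X.br.sym (j := j) (k1 h ▸ hj) x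
    have h3 : ∀ x, pat x ≠ 0 → d + 1 ≤ dd (rdA p l (AlgebraicClosure K)) (pat x) := fun x h => Nat.succ_le_of_lt
      (not_le.1 fun h3 => List.not_mem_nil (cls ht (X.br.lt x) h hd h3 (h2 x)))
    refine ⟨X.big d.succ_pos h3 hj fun x => ?_, fun h => ?_⟩
    · cases sy
      · obtain ⟨i, rfl, rfl⟩ := k2 rfl
        exact X.br.half Fin.rev_surjective rfl hj x
      · rw [← k1 rfl, X.br.per]
    · obtain ⟨x, h4, h5, h6⟩ := X.one d.succ_pos h3 h
      exact ⟨_, ⟨h4, X.br.lt x, h5, h6⟩, h2 x⟩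
  refine ⟨h1, ?_⟩
  by_cases h2 : t = .U
  · subst h2
    have hK : Fintype.card K = p ^ (2 * m) := M.card.trans (by rw [pow_mul']; rfl)
    obtain ⟨j, hj⟩ : m ∣ a := Nat.dvd_of_mul_dvd_mul_left two_pos
      (dvd_of_pow_eq hp.out.two_le hK (M.core.pow_eq p (by rw [two_mul, pow_add]; exact hcj.fr)))
    obtain ⟨i, rfl | rfl⟩ := j.even_or_odd'
    · refine absurd (SD.of_fr_cj (fun g _ => ?_) hcj) M.frm.2
      rw [hj, ← mul_assoc, mul_comm m, pow_mul, ← hK, FiniteField.pow_card_pow]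
    · exact ⟨_, by rw [hj, pow_mul], fun _ => by omega, key _ _ hK hj (fun h => absurd rfl (hsy.1 h)) fun _ => ⟨i, rfl, rfl⟩⟩
  · obtain ⟨hK, hsd⟩ : Fintype.card K = p ^ m ∧ SD P := by
      have h3 := M.card
      have h4 := M.frm
      cases t
      exacts [absurd rfl h1, absurd rfl h2, ⟨h3, h4.2.1⟩, ⟨h3, h4.2⟩, ⟨h3, h4.2⟩, ⟨h3, h4.2⟩]
    obtain ⟨j, hj⟩ := dvd_of_pow_eq hp.out.two_le hK (M.core.pow_eq p (Fr.of_sd_cj hsd hcj))
    exact ⟨j, by rw [hj, pow_mul], fun h => absurd h h2, key _ _ hK hj (fun _ => rfl) fun h => by rw [hsy.2 h2] at h; cases h⟩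

theorem hb (M : Md0 t (p ^ a) p T b P G c f) (N : Nd (.U (l + 1)) p a (Soc P)) :
    HB (p ^ a) b 1 (.s 2 ((l + 1) ^ 2 - 1)) :=
  HB.s rfl (M.bnd (g := 2) (k := 1) (w := 1) (v := 1) N rfl one_pos le_rfl le_rfl le_rfl)

/-- the criterion for an element of primitive prime order -/
theorem fin (M : Md t (p ^ a) p T b P G c f) (N : Nd (.U (l + 1)) p a (Soc P)) {lam : Fin l → ℕ} (O : One (p := p) l a P lam)
    {k m : ℕ} (hk : PdX (.U (l + 1)) k) (h4 : k = 4 ∨ k = 10) (hg : ng k = l + 1) (hm : m < n)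
    (h : ∀ (r : ℕ) [Fact r.Prime] (x : ZMod r) (ι : (AlgebraicClosure K)ˣ), (ι : AlgebraicClosure K) ^ 2 = -1 → 2 < r →
      orderOf x = l + 1 → Few (AlgebraicClosure K) x lam m)
    (hc : chkP t n (.s 2 ((l + 1) ^ 2 - 1)) (of t k) (of t k) (fun z _ => Nat.blt m z) = true) : G := by
  have ha : 0 < a := N.real.hf
  have h5 : a * 4 ≤ a * k := Nat.mul_le_mul_left _ (by omega)
  obtain ⟨r, hr, h1, -, h2, h3, h6, -⟩ := N.ppd hk (by omega) (by rcases h4 with rfl | rfl <;> omega)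
  have := Fact.mk hr
  have h7 := ord_fr (t := .U) hr (by omega) rfl ha (by omega) h1
  rw [show ((fr .U (p ^ a) : ℤ) : ZMod r) = -((p ^ a : ℕ) : ZMod r) by simp [fr]] at h7
  obtain ⟨z, hz⟩ := IsAlgClosed.exists_pow_nat_eq (-1 : AlgebraicClosure K) two_pos
  obtain ⟨u, h8, h9⟩ := O.2.2.2 r h3 h6 (h7.trans hg) m hm (h r _ (Units.mk0 z (by rintro rfl; simp at hz)) hz (by omega) (h7.trans hg))
  have h10 : 2 ≤ of t k := by rcases h4 with rfl | rfl <;> cases t <;> decide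
  exact M.of_P hr h3 (by omega) h8 (ord_fr hr (by omega) rfl ha (by omega) h1) (by omega) (by omega) (fun _ h _ _ => h)
    (by rw [← Bool.not_eq_true, Nat.blt_eq]; omega) (M.cq u) (hb M.toMd0 N) hc

theorem crudeU (M : Md0 .U q p T b P G c f) {X : H902.Art.Sh} (N : Nd X p a (Soc P)) (hg : gX X p = 2) {j : ℕ} (hj : p ^ a = q ^ j)
    (h : 6 * (n ^ 2 / 4 + 1) + 6 * n + 2 * (j * (dX X + 1)) + 12 ≤ 2 * n ^ 2) : G := by
  obtain ⟨u, hu⟩ := M.small
  exact M.ct_e N (e := j) (k := 6) hj.le (by rw [hg]; norm_num) u hu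
    (show 3 * (2 * (n ^ 2 / 4 + 1 + n)) + _ + 6 ≤ 2 * n ^ 2 - 6 by omega)

theorem crudeS (M : Md0 t q p T b P G c f) (ht : t ≠ .U) {X : H902.Art.Sh} (N : Nd X p a (Soc P)) (hg : gX X p = 2) {j : ℕ}
    (hj : p ^ a = q ^ j) (h : 4 * n + 3 * (n ^ 2 / 4 + 1) + 2 * (j * (dX X + 1)) + 6 ≤ n ^ 2) : G :=
  M.ct_sc N (j := j) (k := 6) (by
    rw [M.card, hj]
    cases t
    case U => exact absurd rfl ht
    all_goals exact le_rfl) (by rw [hg]; norm_num) h

theorem one_of {j : ℕ} (ha : 0 < a) (hj : p ^ a = q ^ j) (h : ¬ 2 ≤ j) : q = p ^ a := by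
  obtain rfl | rfl : j = 0 ∨ j = 1 := by omega
  · exact absurd hj (Nat.one_lt_pow ha.ne' hp.out.one_lt).ne'
  · exact (pow_one q).symm.trans hj.symm

variable {E : Type} [Field E] [Fintype E] [CharP E p]

theorem row4U (M : Md .U q p T b P G c f) (hE : Fintype.card E = (p ^ a) ^ 2) (ha : 0 < a) (N : Nd (.U 4) p a (Soc P))
    (e : Soc P ≃* PSU 4 E (p ^ a)) : G := by
  obtain ⟨-, j, h1, h2, h3, h4⟩ := pre M.toMd0 hE ha le_rfl e tab3 (d := 3) (sy := false) (by simp) (by decide +kernel)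
  have crude := crudeU M.toMd0 N rfl h1
  rw [show dX (.U 4) + 1 = 16 from rfl] at crude
  by_cases hj : 2 ≤ j
  · have h5 := (le_pow le_rfl hj).trans h3
    have h6 := (Nat.pow_le_pow_right (by norm_num) (show 3 ≤ j by have := h2 rfl; omega)).trans h3
    have h7 : 64 * n ≤ n ^ 2 := by rw [sq]; exact Nat.mul_le_mul_right _ h6
    exact crude (by omega)
  obtain rfl := one_of ha h1 hj
  by_cases h18 : 18 ≤ n
  · have h7 : 18 * n ≤ n ^ 2 := by rw [sq]; exact Nat.mul_le_mul_right _ h18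
    exact crude (by omega)
  by_cases h13 : 13 ≤ n
  · refine M.of_sc (hb M.toMd0 N) ?_
    clear * - h18 h13
    obtain rfl | rfl | rfl | rfl | rfl : n = 13 ∨ n = 14 ∨ n = 15 ∨ n = 16 ∨ n = 17 := by omega
    all_goals decide +kernel
  have h5 : 5 ≤ n := M.dim
  obtain rfl : n = 10 := by
    have h6 := H876.D3.core_psu_four p E (by rw [Fintype.card_fin]; omega) hE M.core e
    rw [Fintype.card_fin] at h6
    rcases h6 with h6 | h6 | h6
    exacts [by omega, absurd h6.2 M.frm.2, h6.1]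
  obtain ⟨lam, O, -⟩ := h4 (by norm_num)
  have h6 := cls tab3 O.2.1 O.1 (sy := false) (B := 10) (L := [Pi.single 0 1, Pi.single 1 1, Pi.single 2 1, ![2, 0, 0], ![0, 0, 2]])
    (by decide +kernel) O.2.2.1.ge (fun h => nomatch h)
  simp only [List.mem_cons, List.not_mem_nil, or_false] at h6
  rcases h6 with rfl | rfl | rfl | h6
  iterate 3 exact absurd (O.2.2.1.trans_le (d_le1 _)) (by decide)
  exact fin M N O (k := 4) (m := 4) (by simp [PdX]) (Or.inl rfl) rfl (by norm_num) (fun r _ x ι h1 _ h2 => few4U h1 h2 h6)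
    (by decide +kernel)

theorem row5U (M : Md .U q p T b P G c f) (hE : Fintype.card E = (p ^ a) ^ 2) (ha : 0 < a) (N : Nd (.U 5) p a (Soc P))
    (e : Soc P ≃* PSU 5 E (p ^ a)) : G := by
  obtain ⟨-, j, h1, h2, h3, h4⟩ := pre M.toMd0 hE ha (by norm_num) e tab4 (d := 4) (sy := false) (by simp) (by decide +kernel)
  have crude := crudeU M.toMd0 N rfl h1
  rw [show dX (.U 5) + 1 = 25 from rfl] at crude
  by_cases hj : 2 ≤ j
  · have h5 := (le_pow (by norm_num) hj).trans h3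
    have h6 := (Nat.pow_le_pow_right (by norm_num) (show 3 ≤ j by have := h2 rfl; omega)).trans h3
    have h7 : 125 * n ≤ n ^ 2 := by rw [sq]; exact Nat.mul_le_mul_right _ h6
    exact crude (by omega)
  obtain rfl := one_of ha h1 hj
  by_cases h19 : 19 ≤ n
  · have h7 : 19 * n ≤ n ^ 2 := by rw [sq]; exact Nat.mul_le_mul_right _ h19
    exact crude (by omega)
  have h5 : 5 ≤ n := M.dim
  by_cases h6 : n = 5
  · subst h6
    exact (M.not_nat N.ord_U).elim
  obtain ⟨lam, O, -⟩ := h4 (by omega)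
  have h7 := cls tab4 O.2.1 O.1 (sy := false) (B := 18)
    (L := [Pi.single 0 1, Pi.single 3 1, ![2, 0, 0, 0], ![0, 0, 0, 2], ![0, 1, 0, 0], ![0, 0, 1, 0]])
    (by decide +kernel) (O.2.2.1.ge.trans (by omega)) (fun h => nomatch h)
  simp only [List.mem_cons, List.not_mem_nil, or_false] at h7
  rcases h7 with rfl | rfl | h7
  iterate 2 exact absurd (le_antisymm (O.2.2.1.trans_le (d_le1 _)) h5) h6
  refine fin M N O (k := 10) (m := 0) (by simp [PdX]) (Or.inr rfl) rfl (by omega) (fun r _ x ι h1 h2 h3 => few5U h1 h2 h3 h7) ?_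
  exact (by decide +kernel : ∀ n < 19, 5 < n → chkP .U n (.s 2 24) 5 5 (fun z _ => Nat.blt 0 z) = true) n (by omega) (by omega)

theorem of_bil {k : ℕ} (h : t ≠ .U) : of t k = k := by
  cases t
  case U => exact absurd rfl h
  all_goals rfl

theorem all_of (h1 : t ≠ .L) (h2 : t ≠ .U) (hd : dimOk t n q) {F : Kd → Bool}
    (h : allK (fun t => !dimB t n || t == .L || t == .U || F t) = true) : F t = true := by
  simpa [dimB_of hd, h1, h2] using allK_sound h t

theorem row4S (M : Md t q p T b P G c f) (ht : t ≠ .U) (hE : Fintype.card E = (p ^ a) ^ 2) (ha : 0 < a) (N : Nd (.U 4) p a (Soc P))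
    (e : Soc P ≃* PSU 4 E (p ^ a)) : G := by
  obtain ⟨h0, j, h1, -, h3, h4⟩ := pre M.toMd0 hE ha le_rfl e tab3 (d := 5) (sy := true) (by simpa using ht) (by decide +kernel)
  have crude := crudeS M.toMd0 ht N rfl h1
  rw [show dX (.U 4) + 1 = 16 from rfl] at crude
  by_cases hj : 2 ≤ j
  · have h5 := (le_pow (by norm_num) hj).trans h3
    have h6 := (Nat.pow_le_pow_right (by norm_num) hj).trans h3
    have h7 : 36 * n ≤ n ^ 2 := by rw [sq]; exact Nat.mul_le_mul_right _ h6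
    by_cases h8 : j = 2
    · exact crude (by omega)
    · have h6 := (Nat.pow_le_pow_right (by norm_num) (show 3 ≤ j by omega)).trans h3
      have h7 : 216 * n ≤ n ^ 2 := by rw [sq]; exact Nat.mul_le_mul_right _ h6
      exact crude (by omega)
  obtain rfl := one_of ha h1 hj
  by_cases h23 : 23 ≤ n
  · have h7 : 23 * n ≤ n ^ 2 := by rw [sq]; exact Nat.mul_le_mul_right _ h23
    exact crude (by omega)
  obtain ⟨lam, O, hs⟩ := h4 (by omega)
  have hd := M.dim
  have h13 : 13 ≤ n := by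
    by_contra h13
    have h5 := five_le hd
    have h6 := H876.D3.core_psu_four p E (by rw [Fintype.card_fin]; omega) hE M.core e
    rw [Fintype.card_fin] at h6
    rcases h6 with h6 | ⟨rfl, h6⟩ | ⟨rfl, -⟩
    · omega
    · cases t
      exacts [h0 rfl, ht rfl, M.frm.2.2 (H130.U4.u4_six M.core h6 hE e (Fintype.card_fin _)), absurd hd.1 (by decide),
        absurd hd.1 (by decide), absurd hd.1 (by decide)]
    · obtain rfl := List.mem_singleton.1 (cls tab3 O.2.1 O.1 (sy := true) (B := 10) (L := [Pi.single 1 1]) (by decide +kernel)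
        O.2.2.1.ge hs)
      exact absurd (O.2.2.1.trans_le (d_le1 _)) (by decide)
  have key : ∀ m, m ≤ (if n < 18 then 4 else 8) → (∀ (r : ℕ) [Fact r.Prime] (x : ZMod r) (ι : (AlgebraicClosure K)ˣ),
      (ι : AlgebraicClosure K) ^ 2 = -1 → 2 < r → orderOf x = 4 → Few (AlgebraicClosure K) x lam m) → G := fun m k1 k2 => by
    refine fin M N O (k := 4) (m := if n < 18 then 4 else 8) (by simp [PdX]) (Or.inl rfl) rfl (by split_ifs <;> omega)
      (fun r _ x ι h1 h2 h3 u χ h4 h5 => ?_) ?_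
    · obtain ⟨A, _, μ, S, h6, h7, h8⟩ := k2 r x ι h1 h2 h3 u χ h4 h5
      exact ⟨A, _, μ, S, h6, h7, h8.trans k1⟩
    rw [of_bil ht]
    exact all_of h0 ht hd ((by decide +kernel : ∀ n < 23, 12 < n → allK (fun t => !dimB t n || t == .L || t == .U ||
      chkP t n (.s 2 15) 4 4 fun z _ => Nat.blt (if n < 18 then 4 else 8) z) = true) n (by omega) (by omega))
  have h7 := cls tab3 O.2.1 O.1 (sy := true) (B := 22) (L := [Pi.single 1 1, ![1, 0, 1], ![0, 2, 0]]) (by decide +kernel)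
    (O.2.2.1.ge.trans (by omega)) hs
  simp only [List.mem_cons, List.not_mem_nil, or_false] at h7
  rcases h7 with rfl | rfl | rfl
  · exact absurd (h13.trans (O.2.2.1.trans_le (d_le1 _))) (by decide)
  · exact key 4 (by split_ifs <;> omega) fun r _ x ι h1 _ h2 => few4S h1 h2
  · have h8 : 18 ≤ n := le_trans (by decide +kernel) ((lo_le tab3 O.2.1 O.1).trans O.2.2.1.ge)
    exact key 8 (by rw [if_neg (by omega)]) fun r _ x ι _ h1 h2 => few4T h1 h2

theorem row5S (M : Md t q p T b P G c f) (ht : t ≠ .U) (hE : Fintype.card E = (p ^ a) ^ 2) (ha : 0 < a) (N : Nd (.U 5) p a (Soc P))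
    (e : Soc P ≃* PSU 5 E (p ^ a)) : G := by
  obtain ⟨h0, j, h1, -, h3, h4⟩ := pre M.toMd0 hE ha (by norm_num) e tab4 (d := 19) (sy := true) (by simpa using ht)
    (by decide +kernel)
  have crude := crudeS M.toMd0 ht N rfl h1
  rw [show dX (.U 5) + 1 = 25 from rfl] at crude
  by_cases hj : 2 ≤ j
  · have h5 := (le_pow (by norm_num) hj).trans h3
    have h6 := (Nat.pow_le_pow_right (by norm_num) hj).trans h3
    have h7 : 400 * n ≤ n ^ 2 := by rw [sq]; exact Nat.mul_le_mul_right _ h6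
    exact crude (by omega)
  obtain rfl := one_of ha h1 hj
  by_cases h26 : 26 ≤ n
  · have h7 : 26 * n ≤ n ^ 2 := by rw [sq]; exact Nat.mul_le_mul_right _ h26
    exact crude (by omega)
  obtain ⟨lam, O, hs⟩ := h4 (by omega)
  obtain rfl := List.mem_singleton.1 (cls tab4 O.2.1 O.1 (sy := true) (B := 25) (L := [![1, 0, 0, 1]]) (by decide +kernel)
    (O.2.2.1.ge.trans (by omega)) hs)
  have h8 : 20 ≤ n := le_trans (by decide +kernel) ((lo_le tab4 O.2.1 O.1).trans O.2.2.1.ge)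
  refine fin M N O (k := 10) (m := 5) (by simp [PdX]) (Or.inr rfl) rfl (by omega) (fun r _ x ι h1 _ h2 => few5S h1 h2) ?_
  rw [of_bil ht]
  exact all_of h0 ht M.dim ((by decide +kernel : ∀ n < 26, 19 < n → allK (fun t => !dimB t n || t == .L || t == .U ||
    chkP t n (.s 2 24) 10 10 fun z _ => Nat.blt 5 z) = true) n (by omega) (by omega))

end md

end Cfsg.Agent.N2C.RD.U45

namespace Cfsg.Agent.N2C.RD

/-- **the row `U₄`** -/
theorem rowU4 : Row (fU 4) := by
  rintro t n q p T b K _ _ P G c f M ⟨E, _, _, _, s, hE, h32, ⟨e⟩⟩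
  have hp := Fact.mk M.prime
  have := M.char
  obtain ⟨a, ha, rfl⟩ := exists_f' E M.prime two_ne_zero hE
  have N := nd_U M.core.simple M.core.nonabelian M.prime ha hE (by norm_num) h32 e
  by_cases h : t = .U
  · subst h
    exact U45.row4U M hE ha N e
  · exact U45.row4S M h hE ha N e

/-- **the row `U₅`** -/
theorem rowU5 : Row (fU 5) := by
  rintro t n q p T b K _ _ P G c f M ⟨E, _, _, _, s, hE, h32, ⟨e⟩⟩
  have hp := Fact.mk M.prime
  have := M.char
  obtain ⟨a, ha, rfl⟩ := exists_f' E M.prime two_ne_zero hE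
  have N := nd_U M.core.simple M.core.nonabelian M.prime ha hE (by norm_num) h32 e
  by_cases h : t = .U
  · subst h
    exact U45.row5U M hE ha N e
  · exact U45.row5S M h hE ha N e

end Cfsg.Agent.N2C.RD
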