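import Cfsg.Agent.N2.Cl.RD.U45

/-!
# N2 (S3519), defining characteristic: the rows `U_m`, `m ≥ 6`, by Steinberg's theorem (helper47)

* `Ub.cl` : the degrees of the restricted modules;  `Ub.crI` : eigenfunctions for the exterior powers;
* **`rowUb`** : `Row (fU m)`, `m ≥ 6`.
-/

set_option autoImplicit false
set_option maxHeartbeats 400000
set_option linter.unusedSectionVars false

namespace Cfsg.Agent.N2C.RD.Ub

open Cfsg.Agent.N2C.RD.U45

section wt

open Finset Cfsg.Agent.TwoF.DC Cfsg.Agent.TwoF.DC.TA Cfsg.Agent.TwoF.DC.TA.I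

variable {n : ℕ}

theorem choose_le_mid {N a m : ℕ} (h1 : a ≤ m) (h2 : m + a ≤ N) : N.choose a ≤ N.choose m := by
  have key : ∀ m, a ≤ m → m ≤ N / 2 → N.choose a ≤ N.choose m := by
    intro m h
    induction m, h using Nat.le_induction with
    | base => exact fun _ => le_rfl
    | succ m _ ih => exact fun h => (ih (by omega)).trans (Nat.choose_le_succ_of_lt_half_left (by omega))
  by_cases h : m ≤ N / 2
  · exact key m h1 h
  · rw [← Nat.choose_symm (show m ≤ N by omega)]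
    exact key _ (by omega) (by omega)

theorem two_choose_two (N : ℕ) : 2 * (N + 1).choose 2 = (N + 1) * N := by
  induction N with
  | zero => rfl
  | succ N ih => rw [Nat.choose_succ_succ' (N + 1) 1, Nat.choose_one_right, mul_add, ih]; ring

theorem oc_ge {s t : ℕ} (h : s ≤ t) (ht : t ≤ n + 1) :
    (n + 1).choose s * (n + 1 - s).choose (n + 1 - t) ≤ (oc (ind (ini n s) - ind (fns n t))).card := by
  have h1 : (n + 1).choose s * (n + 1 - s).choose (n + 1 - t) =
      ((powersetCard s (univ : Finset (Fin (n + 1)))).sigma fun X => powersetCard (n + 1 - t) Xᶜ).card := by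
    rw [card_sigma, sum_congr rfl fun X hX => by
      rw [card_powersetCard, card_compl, (mem_powersetCard.1 hX).2, Fintype.card_fin], sum_const, card_powersetCard, card_univ,
      Fintype.card_fin, smul_eq_mul]
  have h2 : ∀ z ∈ (powersetCard s (univ : Finset (Fin (n + 1)))).sigma fun X => powersetCard (n + 1 - t) Xᶜ, Disjoint z.1 z.2 :=
    fun z hz => disjoint_compl_right.mono_right (mem_powersetCard.1 (mem_sigma.1 hz).2).1
  rw [h1]
  refine card_le_card_of_injOn (fun z => ind z.1 - ind z.2) (fun z hz => ?_) fun z hz w hw e => ?_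
  · obtain ⟨π, h3, h4⟩ := exists_perm_pair (h2 z hz) (disjoint_ini_fns (n := n) h)
      (by rw [(mem_powersetCard.1 (mem_sigma.1 hz).1).2, card_ini (by omega)])
      (by rw [(mem_powersetCard.1 (mem_sigma.1 hz).2).2, card_fns ht])
    exact mem_image.2 ⟨π, mem_univ _, by beta_reduce; rw [← ind_comp h3, ← ind_comp h4]; rfl⟩
  · obtain ⟨h3, h4⟩ := ind_sub_inj (h2 z hz) (h2 w hw) e
    exact Sigma.ext h3 (heq_of_eq h4)

theorem tw_two (s t : ℕ) (x : Fin n) (h1 : (x : ℕ) + 1 ≠ s) (h2 : (x : ℕ) + 1 ≠ t) : tw (ind (ini n s) - ind (fns n t)) x = 0 := by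
  simp only [tw, ind_ini, ind_fns, Pi.sub_apply, Fin.val_castSucc, Fin.val_succ]
  omega

theorem oc_one (i : Fin n) : (n + 1).choose (i + 1) ≤ (oc (ind (ini n (i + 1)) - ind (fns n (n + 1)))).card := by
  have h := oc_ge (n := n) (s := i + 1) (t := n + 1) (by omega) le_rfl
  rwa [Nat.sub_self, Nat.choose_zero_right, mul_one] at h

theorem le_ch {N a : ℕ} (h1 : 1 ≤ a) (h2 : a + 1 ≤ N) : N ≤ N.choose a :=
  (Nat.choose_one_right N).ge.trans (choose_le_mid h1 h2)

variable {p : ℕ} [hp : Fact p.Prime] {k : Type} [Field k] [IsAlgClosed k] [CharP k p] {l : Fin n → ℕ} (hl : ∀ i, l i < p) (h0 : l ≠ 0)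
include hl h0

theorem one_le {i : Fin n} (hi : l i ≠ 0) : (n + 1).choose (i + 1) ≤ dd (rdA p n k) l :=
  (oc_one i).trans (d_ge1 hl h0 _ fun x hx => tw_two _ _ x (fun e => hi (Fin.ext (Nat.succ_injective e) ▸ hx)) (by omega))

theorem ge : n + 1 ≤ dd (rdA p n k) l := by
  obtain ⟨i, hi⟩ := Function.ne_iff.1 h0
  exact (le_ch (by omega) (by omega)).trans (one_le hl h0 hi)

theorem two_le {i j : Fin n} (hij : i < j) (hi : l i ≠ 0) (hj : l j ≠ 0) : (n + 1) * n ≤ dd (rdA p n k) l := by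
  have h1 : (i : ℕ) < j := hij
  have h2 := (oc_ge (n := n) (s := i + 1) (t := j + 1) (by omega) (by omega)).trans (d_ge1 (k := k) hl h0 _ fun x hx => tw_two _ _ x
    (fun e => hi (Fin.ext (Nat.succ_injective e) ▸ hx)) fun e => hj (Fin.ext (Nat.succ_injective e) ▸ hx))
  have h3 : n + 1 - (i + 1) ≤ (n + 1 - (i + 1)).choose (n + 1 - (j + 1)) := le_ch (by omega) (by omega)
  refine le_trans ?_ ((Nat.mul_le_mul_left _ h3).trans h2)
  rcases Nat.eq_zero_or_pos i with h4 | h4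
  · rw [h4, Nat.zero_add, Nat.choose_one_right, Nat.add_sub_cancel]
  · rw [← two_choose_two, mul_comm]
    exact Nat.mul_le_mul (choose_le_mid (by omega) (by omega)) (by omega)

theorem dbl_le {i j : Fin n} (hi : 2 ≤ l i) (hj : (j : ℕ) + 1 = i ∨ (i : ℕ) + 1 = j) :
    (n + 1).choose (i + 1) + (n + 1).choose (j + 1) ≤ dd (rdA p n k) l :=
  (Nat.add_le_add (oc_one i) (oc_one j)).trans (d_ge2 hl h0 _ _ i hi
    (fun x hx => tw_two _ _ x (fun e => by rw [show x = i from Fin.ext (Nat.succ_injective e)] at hx; omega) (by omega))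
    fun x hx => tw_two _ _ x (fun e => by
      rw [show x = j from Fin.ext (Nat.succ_injective e), CA, if_neg (by omega), if_pos hj] at hx
      omega) (by omega))

/-- **the degrees** -/
theorem cl : (∃ i, l = Pi.single i 1) ∨ (n + 1) * n ≤ dd (rdA p n k) l ∨
    ∃ i, 2 ≤ l i ∧ ∀ j, l j ≠ 0 → j = i := by
  by_cases h1 : ∃ i j, i < j ∧ l i ≠ 0 ∧ l j ≠ 0
  · obtain ⟨i, j, h2, h3, h4⟩ := h1
    exact Or.inr (Or.inl (two_le hl h0 h2 h3 h4))
  obtain ⟨i, hi⟩ := Function.ne_iff.1 h0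
  have h2 : ∀ j, l j ≠ 0 → j = i := fun j hj => by
    rcases lt_trichotomy j i with h | h | h
    exacts [absurd ⟨j, i, h, hj, hi⟩ h1, h, absurd ⟨i, j, h, hi, hj⟩ h1]
  by_cases h3 : 2 ≤ l i
  · exact Or.inr (Or.inr ⟨i, h3, h2⟩)
  · refine Or.inl ⟨i, funext fun j => ?_⟩
    rw [Pi.single_apply]
    have h4 : l i ≠ 0 := hi
    split_ifs with h5
    · rw [h5]; omega
    · exact not_not.1 fun h => h5 (h2 j h)

/-- all weights -/
theorem clU (hn : 5 ≤ n) : dd (rdA p n k) l = n + 1 ∨ ((n + 1) * n ≤ 2 * dd (rdA p n k) l ∧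
    (n = 5 → dd (rdA p n k) l ≤ 15 → ∃ i : Fin n, ((i : ℕ) = 1 ∨ (i : ℕ) = 3) ∧ l = Pi.single i 1)) := by
  have h1 := two_choose_two n
  rcases cl (k := k) hl h0 with ⟨i, rfl⟩ | h | ⟨i, h2, -⟩
  · have h2 := one_le (k := k) hl h0 (i := i) (by simp)
    have h3 := d_le1 (p := p) (k := k) i
    by_cases h4 : (i : ℕ) = 0
    · rw [h4, Nat.zero_add, Nat.choose_one_right] at h2 h3
      exact Or.inl (le_antisymm h3 h2)
    by_cases h5 : (i : ℕ) + 1 = n
    · rw [h5, Nat.choose_succ_self_right] at h2 h3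
      exact Or.inl (le_antisymm h3 h2)
    have h6 := choose_le_mid (N := n + 1) (a := 2) (m := i + 1) (by omega) (by omega)
    refine Or.inr ⟨by omega, fun h7 h8 => ⟨i, ?_, rfl⟩⟩
    by_contra h9
    subst h7
    rw [show (i : ℕ) = 2 by omega] at h2
    exact absurd (h2.trans h8) (by decide)
  · refine Or.inr ⟨by omega, fun h7 h8 => ?_⟩
    subst h7
    omega
  · have h3 : n + 1 + (n + 1).choose 2 ≤ dd (rdA p n k) l := by
      by_cases h4 : (i : ℕ) + 2 ≤ n
      · have h5 := dbl_le (k := k) hl h0 h2 (j := ⟨i + 1, by omega⟩) (Or.inr rfl)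
        rcases Nat.eq_zero_or_pos i with h6 | h6
        · exact (Nat.add_le_add (le_ch (by omega) (by omega)) (choose_le_mid (by simp) (by simp; omega))).trans h5
        · rw [add_comm]
          exact (Nat.add_le_add (choose_le_mid (by omega) (by omega)) (le_ch (by simp) (by simp; omega))).trans h5
      · exact (Nat.add_le_add (le_ch (by omega) (by omega)) (choose_le_mid (by simp; omega) (by simp; omega))).trans
          (dbl_le (k := k) hl h0 h2 (j := ⟨i - 1, by omega⟩) (Or.inl (by simp; omega)))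
    refine Or.inr ⟨by omega, fun h7 h8 => ?_⟩
    subst h7
    omega

/-- symmetric weights -/
theorem clS (hn : 5 ≤ n) (hs : ∀ i, l i.rev = l i) : (n + 1) * n ≤ dd (rdA p n k) l ∨
    (n = 5 ∧ ∃ i : Fin n, (i : ℕ) = 2 ∧ l = Pi.single i 1) := by
  have key : ∀ i, l i ≠ 0 → (∀ j, l j ≠ 0 → j = i) → (n + 1) * n ≤ dd (rdA p n k) l ∨ (n = 5 ∧ (i : ℕ) = 2) := fun i h1 h2 => by
    have h3 := congrArg Fin.val (h2 i.rev (by rwa [hs]))
    rw [Fin.val_rev] at h3
    refine (show 7 ≤ n ∨ (n = 5 ∧ (i : ℕ) = 2) by omega).imp_left fun h4 => ?_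
    refine le_trans ?_ ((choose_le_mid (N := n + 1) (a := 3) (by omega) (by omega)).trans (one_le hl h0 h1))
    have h5 := Nat.choose_succ_right_eq (n + 1) 2
    have h6 := two_choose_two n
    have h7 : (n + 1).choose 2 * 6 ≤ (n + 1).choose 2 * (n + 1 - 2) := Nat.mul_le_mul_left _ (by omega)
    have h8 : (n + 1).choose (2 + 1) = (n + 1).choose 3 := rfl
    omega
  rcases cl (k := k) hl h0 with ⟨i, h⟩ | h | ⟨i, h2, h3⟩
  · refine (key i (by simp [h]) fun j hj => ?_).imp_right fun h1 => ⟨h1.1, i, h1.2, h⟩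
    by_contra h1
    exact hj (by rw [h, Pi.single_eq_of_ne h1])
  · exact Or.inl h
  · refine Or.inl ((key i (by omega) h3).elim id fun ⟨h4, h5⟩ => ?_)
    have h6 := dbl_le (k := k) hl h0 h2 (j := ⟨i + 1, by omega⟩) (Or.inr rfl)
    subst h4
    simp only [h5] at h6
    exact le_trans (by decide) h6

end wt

section few

open Module Finset Matrix Cfsg.Agent.TwoF.DC Cfsg.Agent.TwoF.DC.TA Cfsg.Agent.TwoF.DC.TA.I
open Cfsg.Agent.H356.TA (DA ld_eq blk)

variable {n : ℕ} {k : Type} [Field k] {u : SLn n k} {lam : Fin (n + 1) → k}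

/-- the eigenvalues on the exterior powers -/
theorem crI (h : Eg u lam) {i : Fin n} {s : ℕ} (hi : (i : ℕ) + 1 = s) :
    CR u (DA i) fun f : Fin s → Fin (n + 1) => if Function.Injective f then ∏ j, lam (f j) else 0 := by
  obtain ⟨C, C', h1, h2⟩ := h
  have hs : s ≤ n + 1 := by omega
  refine ⟨fun f g => (Matrix.of fun b a : Fin s => (g.1 * C) (Fin.castLE hs a) (f b)).det,
    fun y => ⟨fun f => ∏ b, (C' * y.1) (f b) (Fin.castLE hs b), fun g => ?_⟩, fun f g => ?_⟩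
  · have h4 : (g * y).1 = g.1 * C * (C' * y.1) := by rw [val_mul, mul_assoc, ← mul_assoc C, h1, one_mul]
    have h5 : (blk hs (g * y).1)ᵀ = fun b => ∑ x, (C' * y.1) x (Fin.castLE hs b) • fun a => (g.1 * C) (Fin.castLE hs a) x := by
      ext b a
      rw [transpose_apply, blk, of_apply, h4, mul_apply, Finset.sum_apply]
      exact Finset.sum_congr rfl fun _ _ => mul_comm _ _
    rw [DA, hi, ld_eq hs, ← det_transpose, h5]
    refine ((detRowAlternating (n := Fin s) (R := k)).toMultilinearMap.map_sum _).trans (Finset.sum_congr rfl fun f _ => ?_)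
    exact (detRowAlternating (n := Fin s) (R := k)).toMultilinearMap.map_smul_univ _ _
  · beta_reduce
    split_ifs with h3
    · rw [← det_mul_column]
      congr 1
      ext b a
      rw [of_apply, of_apply, of_apply, val_mul, mul_assoc, h2, ← mul_assoc, mul_diagonal, mul_comm]
    · obtain ⟨a, b, h4, h5⟩ := Function.not_injective_iff.1 h3
      rw [zero_mul]
      exact det_zero_of_row_eq h5 (funext fun x => by rw [of_apply, of_apply, h4])

theorem prod_single (g : SLn n k) (j : Fin n) : ∏ i, DA i g ^ (Pi.single j 1 : Fin n → ℕ) i = DA j g := by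
  rw [Finset.prod_eq_single j (fun i _ h => by rw [Pi.single_eq_of_ne h, pow_zero]) (fun h => absurd (mem_univ _) h),
    Pi.single_eq_same, pow_one]

variable {r : ℕ} [hr : Fact r.Prime] [Infinite k] {x : ZMod r} {ι : kˣ}

theorem fw_l2 {c : SLn n k → k} (h : CR u c (l2 lam)) (hi : Function.Injective lam) : Fw u c (n + 1) := by
  classical
  refine ⟨_, _, _, univ.filter fun z => l2 lam z = 1, h, fun z hz => mem_filter.2 ⟨mem_univ _, hz⟩,
    (card_le fun a b b' h1 h2 => hi ?_).trans_eq (Fintype.card_fin _)⟩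
  have key : ∀ a b, l2 lam (a, b) = 1 → lam a * lam b = 1 := fun a b h => by
    rw [l2] at h
    split_ifs at h
    exacts [h, absurd h zero_ne_one]
  have h3 := key _ _ (mem_filter.1 h1).2
  exact mul_left_cancel₀ (left_ne_zero_of_mul_eq_one h3) (h3.trans (key _ _ (mem_filter.1 h2).2).symm)

theorem fewU (hι : (ι : k) ^ 2 = -1) (ho : orderOf x = 5 + 1) {i : Fin 5} (hi : (i : ℕ) = 1 ∨ (i : ℕ) = 3) :
    Few k x (Pi.single i 1) 6 := by
  intro u χ hχ E
  simp only [prod_single]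
  rcases hi with hi | hi
  · exact fw_l2 (E.cr1 hi) (inj_of ho hχ)
  · exact fw_l2 (cr_rev hι (i := 1) (Fin.ext hi) ((E.th ι).cr1 rfl)) (inv_injective.comp (inj_of ho hχ))

/-- coordinates of sums of three sixth roots of unity -/
def ga (g : Fin 6 → ℤ) (f : Fin 3 → Fin 6) : ℤ := g (f 0) + g (f 1) + g (f 2)

def gn (f : Fin 3 → Fin 6) : ℤ :=
  ga ![1, 0, -1, -1, 0, 1] f ^ 2 + ga ![1, 0, -1, -1, 0, 1] f * ga ![0, 1, 1, 0, -1, -1] f + ga ![0, 1, 1, 0, -1, -1] f ^ 2

theorem fewS (h2 : 2 < r) (ho : orderOf x = 5 + 1) {i : Fin 5} (hi : (i : ℕ) = 2) : Few k x (Pi.single i 1) 12 := by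
  intro u χ hχ E
  simp only [prod_single]
  have h0 : x ^ 3 = -1 := by
    refine (mul_self_eq_one_iff.1 ((pow_add x 3 3).symm.trans (show x ^ (5 + 1) = 1 from ho ▸ pow_orderOf_eq_one x))).resolve_left
      fun h => ?_
    exact absurd (ho ▸ orderOf_dvd_of_pow_eq_one h) (by norm_num)
  have h1 : x ^ 2 = x - 1 := by
    refine sub_eq_zero.1 ((mul_eq_zero.1 (show (x + 1) * (x ^ 2 - (x - 1)) = 0 by linear_combination h0)).resolve_left fun h => ?_)
    exact absurd (ho ▸ orderOf_dvd_of_pow_eq_one (show x ^ 2 = 1 by linear_combination (x - 1) * h)) (by norm_num)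
  have h3 : ∀ i : Fin 6, x ^ (i : ℕ) = (![1, 0, -1, -1, 0, 1] i : ℤ) + (![0, 1, 1, 0, -1, -1] i : ℤ) * x := fun i => by
    have a4 : x ^ 4 = -x := by linear_combination x * h0
    have a5 : x ^ 5 = 1 - x := by linear_combination x ^ 2 * h0 - h1
    fin_cases i <;> simp [h0, h1, a4, a5] <;> ring
  refine ⟨_, _, _, univ.filter fun f : Fin 3 → Fin 6 => Function.Injective f ∧ gn f = 0, crI E (s := 3) (by omega), fun f hf => ?_,
    by decide +kernel⟩
  beta_reduce at hf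
  split_ifs at hf with h4
  swap
  · exact absurd hf zero_ne_one
  rw [Fin.prod_univ_three, ← AddChar.map_add_eq_mul, ← AddChar.map_add_eq_mul, h3, h3, h3] at hf
  have h6 : ((gn f : ℤ) : ZMod r) = 0 := by
    have h6 := hχ _ hf
    simp only [gn, ga]
    push_cast
    generalize ((![1, 0, -1, -1, 0, 1] (f 0) : ℤ) : ZMod r) = a1, ((![1, 0, -1, -1, 0, 1] (f 1) : ℤ) : ZMod r) = a2,
      ((![1, 0, -1, -1, 0, 1] (f 2) : ℤ) : ZMod r) = a3, ((![0, 1, 1, 0, -1, -1] (f 0) : ℤ) : ZMod r) = b1,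
      ((![0, 1, 1, 0, -1, -1] (f 1) : ℤ) : ZMod r) = b2, ((![0, 1, 1, 0, -1, -1] (f 2) : ℤ) : ZMod r) = b3 at h6 ⊢
    linear_combination (a1 + a2 + a3 + (b1 + b2 + b3) * (1 - x)) * h6 + (b1 + b2 + b3) ^ 2 * h1
  refine Finset.mem_filter.2 ⟨mem_univ _, h4, ((by decide +kernel : ∀ f : Fin 3 → Fin 6, Function.Injective f →
    gn f = 0 ∨ gn f ∣ 2 ^ 2) f h4).resolve_right fun h7 => ?_⟩
  obtain ⟨w, h7⟩ := h7
  have h8 := congrArg (Int.cast : ℤ → ZMod r) h7
  rw [Int.cast_mul, h6, zero_mul, Int.cast_pow, Int.cast_ofNat] at h8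
  exact pow_ne_zero 2 (two_ne h2) h8

end few

section md

open Cfsg Cfsg.Geo Module Cfsg.Agent.TwoF.DC Cfsg.Agent.TwoF.DC.TA Cfsg.Agent.TwoF.DC.TA.I Cfsg.Agent.H915.LD Cfsg.Agent.N2C.RX
open Cfsg.Agent.H929.U3 (core_psu_cj dvd_of_pow_eq)

variable {t : Kd} {n q p T b l a : ℕ} [hp : Fact p.Prime] {K : Type} [Field K] [Fintype K] [CharP K p] {P : Subgroup (GL (Fin n) K)}
  {G : Prop} {c f : P → ℕ}

/-- the field and the weights -/
theorem pre (M : Md0 t q p T b P G c f) {E : Type} [Field E] [Fintype E] [CharP E p] (hE : Fintype.card E = (p ^ a) ^ 2) (ha : 0 < a)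
    (hl : 3 ≤ l) (e : Soc P ≃* PSU (l + 1) E (p ^ a)) :
    t ≠ .L ∧ ∃ j, p ^ a = q ^ j ∧ (l + 1) ^ j ≤ n ∧
      (n < (l + 1) ^ 2 → ∃ lam, One (p := p) l a P lam ∧ (t ≠ .U → ∀ i, lam i.rev = lam i)) := by
  have hcj := core_psu_cj p M.core (by omega) hE (by omega) e
  have h1 : t ≠ .L := fun h => M.ncj h a hcj
  obtain ⟨m, hm, rfl⟩ := M.pow
  have key : ∀ w j, Fintype.card K = p ^ w → a = m * j → (t ≠ .U → w = m) → (t = .U → ∃ i, w = 2 * m ∧ j = 2 * i + 1) →
      (l + 1) ^ j ≤ n ∧ (n < (l + 1) ^ 2 → ∃ lam, One (p := p) l a P lam ∧ (t ≠ .U → ∀ i, lam i.rev = lam i)) := by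
    intro w j hK hj k1 k2
    obtain ⟨Y, _, _, φ, ψ, ι, pat, X⟩ := setup M.core hK hE ha hl e
    have h2 : ∀ x, t ≠ .U → ∀ i, pat x i.rev = pat x i := fun x h => X.br.sym (j := j) (k1 h ▸ hj) x
    have h3 : ∀ x, pat x ≠ 0 → l + 1 ≤ dd (rdA p l (AlgebraicClosure K)) (pat x) := fun x h => ge (X.br.lt x) h
    refine ⟨X.big l.succ_pos h3 hj fun x => ?_, fun h => ?_⟩
    · by_cases h : t = .U
      · obtain ⟨i, rfl, rfl⟩ := k2 h
        exact X.br.half Fin.rev_surjective rfl hj x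
      · rw [← k1 h, X.br.per]
    · obtain ⟨x, h4, h5, h6⟩ := X.one l.succ_pos h3 h
      exact ⟨_, ⟨h4, X.br.lt x, h5, h6⟩, h2 x⟩
  refine ⟨h1, ?_⟩
  by_cases h2 : t = .U
  · subst h2
    have hK : Fintype.card K = p ^ (2 * m) := M.card.trans (by rw [pow_mul']; rfl)
    obtain ⟨j, hj⟩ : m ∣ a := Nat.dvd_of_mul_dvd_mul_left two_pos
      (dvd_of_pow_eq hp.out.two_le hK (M.core.pow_eq p (by rw [two_mul, pow_add]; exact hcj.fr)))
    obtain ⟨i, rfl | rfl⟩ := j.even_or_odd'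
    · refine absurd (SD.of_fr_cj (fun g _ => ?_) hcj) M.frm.2
      rw [hj, ← mul_assoc, mul_comm m, pow_mul, ← hK, FiniteField.pow_card_pow]
    · exact ⟨_, by rw [hj, pow_mul], key _ _ hK hj (fun h => absurd rfl h) fun _ => ⟨i, rfl, rfl⟩⟩
  · obtain ⟨hK, hsd⟩ : Fintype.card K = p ^ m ∧ SD P := by
      have h3 := M.card
      have h4 := M.frm
      cases t
      exacts [absurd rfl h1, absurd rfl h2, ⟨h3, h4.2.1⟩, ⟨h3, h4.2⟩, ⟨h3, h4.2⟩, ⟨h3, h4.2⟩]
    obtain ⟨j, hj⟩ := dvd_of_pow_eq hp.out.two_le hK (M.core.pow_eq p (Fr.of_sd_cj hsd hcj))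
    exact ⟨j, by rw [hj, pow_mul], key _ _ hK hj (fun _ => rfl) fun h => absurd h h2⟩

theorem exists_three (ha : 1 ≤ a) : ∃ r, r.Prime ∧ 2 < r ∧ r ≠ p ∧ orderOf ((p ^ a : ℕ) : ZMod r) = 3 := by
  by_cases h : p = 2 ∧ a * 3 = 6
  · obtain ⟨rfl, h⟩ := h
    obtain rfl : a = 2 := by omega
    have := Fact.mk Nat.prime_three
    exact ⟨7, by norm_num, by norm_num, by norm_num, orderOf_eq_prime (by decide) (by decide)⟩
  · obtain ⟨r, hr, ho, h1, h2⟩ := H370.Rg.exists_rk (f := a) (k := 3) hp.out (by omega) h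
    exact ⟨r, hr, by omega, fun e => h2 (e ▸ dvd_rfl), H370.Rg.ord_q ho (by omega)⟩

/-- `U₆` : an element of the Levi subgroup `GL₃` -/
theorem fin (M : Md t (p ^ a) p T b P G c f) (N : Nd (.U 6) p a (Soc P)) {lam : Fin 5 → ℕ} (O : One (p := p) 5 a P lam)
    (h0 : t ≠ .L) {m : ℕ} (hm : m < n)
    (h : ∀ (r : ℕ) [Fact r.Prime] (x : ZMod r) (ι : (AlgebraicClosure K)ˣ), (ι : AlgebraicClosure K) ^ 2 = -1 → 2 < r →
      orderOf x = 5 + 1 → Few (AlgebraicClosure K) x lam m)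
    (hc : chkP t n (.s 2 35) 6 (of t 3) (fun z _ => Nat.blt m z) = true) : G := by
  obtain ⟨r, hr, h2, h3, h1⟩ := exists_three (p := p) N.real.hf
  have := Fact.mk hr
  have h4 := N.two_le
  have h5 : ∀ d, r ∣ (p ^ a) ^ d - 1 ↔ 3 ∣ d := fun d => by
    rw [← h1, orderOf_dvd_iff_pow_eq_one, ← ZMod.natCast_eq_zero_iff, Nat.cast_sub (Nat.one_le_pow _ _ (by omega)), Nat.cast_pow,
      Nat.cast_one, sub_eq_zero]
  have h6 : r ∣ Nat.card (Soc P) := by
    have h6 : r ∣ Nat.gcd 6 (p ^ a + 1) * Nat.card (Soc P) := by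
      refine Dvd.dvd.trans (Dvd.dvd.mul_left ?_ _) N.card.symm.dvd
      exact ((h5 6).2 (by norm_num)).trans (Finset.dvd_prod_of_mem
        (fun i => if Even i then (p ^ a) ^ (i + 2) - 1 else (p ^ a) ^ (i + 2) + 1) (a := 4) (s := Finset.range (6 - 1)) (by simp))
    refine (hr.dvd_mul.1 h6).resolve_left fun k => absurd ((h5 2).1 ?_) (by norm_num)
    rw [show (p ^ a) ^ 2 - 1 = (p ^ a) ^ 2 - 1 ^ 2 by rw [one_pow], Nat.sq_sub_sq]
    exact (k.trans (Nat.gcd_dvd_right _ _)).mul_right _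
  have h7 : orderOf (-((p ^ a : ℕ) : ZMod r)) = 5 + 1 := ord_ng hr h2 h1 three_pos
  obtain ⟨z, hz⟩ := IsAlgClosed.exists_pow_nat_eq (-1 : AlgebraicClosure K) two_pos
  obtain ⟨u, h8, h9⟩ := O.2.2.2 r h3 h6 h7 m hm (h r _ (Units.mk0 z (by rintro rfl; simp at hz)) hz h2 h7)
  have h10 : orderOf ((fr t (p ^ a) : ℤ) : ZMod r) = of t 3 := by
    cases t
    case U => exact (show ((fr .U (p ^ a) : ℤ) : ZMod r) = -((p ^ a : ℕ) : ZMod r) by simp [fr]) ▸ h7
    all_goals exact (Int.cast_natCast (R := ZMod r) (p ^ a)).symm ▸ h1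
  refine M.of_P hr h3 h2 h8 h10 (by cases t <;> decide) (by norm_num) (fun s k1 k2 _ => ?_)
    (by rw [← Bool.not_eq_true, Nat.blt_eq]; omega) (M.cq u) (hb M.toMd0 N) hc
  cases t
  · exact absurd rfl h0
  · exact k1
  all_goals exact Nat.Coprime.mul_dvd_of_dvd_of_dvd (show Nat.Coprime 3 2 by norm_num) k1 k2

theorem le_pow' {d j : ℕ} (hd : 4 ≤ d) (hj : 2 ≤ j) : j * d ^ 2 ≤ 2 * d ^ j := by
  obtain ⟨i, rfl⟩ := Nat.exists_eq_add_of_le' hj
  have h : i < d ^ i := Nat.lt_pow_self (by omega)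
  rw [pow_add, ← mul_assoc]
  exact Nat.mul_le_mul_right _ (by omega)

variable {E : Type} [Field E] [Fintype E] [CharP E p]

theorem row (M : Md t q p T b P G c f) (hl : 5 ≤ l) (hE : Fintype.card E = (p ^ a) ^ 2) (ha : 0 < a) (N : Nd (.U (l + 1)) p a (Soc P))
    (e : Soc P ≃* PSU (l + 1) E (p ^ a)) : G := by
  obtain ⟨h0, j, h1, h3, h4⟩ := pre M.toMd0 hE ha (by omega) e
  have hX : dX (.U (l + 1)) + 1 = (l + 1) ^ 2 := Nat.sub_add_cancel (Nat.one_le_pow _ _ l.succ_pos)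
  have h36 : 6 ^ 2 ≤ (l + 1) ^ 2 := Nat.pow_le_pow_left (by omega) 2
  have sq : ∀ k, k ≤ n → k * n ≤ n ^ 2 := fun k hk => by rw [sq]; exact Nat.mul_le_mul_right _ hk
  have big : 36 ≤ n → j * (l + 1) ^ 2 ≤ 2 * n → G := fun k1 k2 => by
    have := sq 36 k1
    by_cases h : t = .U
    · subst h
      exact crudeU M.toMd0 N rfl h1 (by rw [hX]; omega)
    · exact crudeS M.toMd0 h N rfl h1 (by rw [hX]; omega)
  by_cases hj : 2 ≤ j
  · exact big ((h36.trans (Nat.pow_le_pow_right l.succ_pos hj)).trans h3) ((le_pow' (by omega) hj).trans (Nat.mul_le_mul_left _ h3))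
  have hj1 : j * (l + 1) ^ 2 ≤ 1 * (l + 1) ^ 2 := Nat.mul_le_mul_right _ (by omega)
  by_cases h5 : (l + 1) ^ 2 ≤ n
  · exact big (by omega) (by omega)
  obtain rfl := one_of ha h1 hj
  obtain ⟨lam, O, hs⟩ := h4 (by omega)
  have h6 : (l + 1) ^ 2 = (l + 1) * l + (l + 1) := by ring
  by_cases ht : t = .U
  · subst ht
    have crude := crudeU M.toMd0 N rfl h1
    rw [hX] at crude
    rcases clU (k := AlgebraicClosure K) O.2.1 O.1 hl with h7 | ⟨h7, h8⟩
    · obtain rfl : n = l + 1 := O.2.2.1.trans h7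
      exact (M.not_nat N.ord_U).elim
    rw [← O.2.2.1] at h7 h8
    rcases (show l = 5 ∨ l = 6 ∨ 7 ≤ l by omega) with rfl | rfl | h9
    · by_cases h10 : 21 ≤ n
      · have := sq 21 h10
        exact crude (by omega)
      by_cases h11 : n ≤ 15
      · obtain ⟨i, h12, rfl⟩ := h8 rfl h11
        obtain rfl : n = 15 := by omega
        exact fin M N O h0 (m := 6) (by norm_num) (fun r _ x ι k1 _ k2 => fewU k1 k2 h12) (by decide +kernel)
      · refine M.of_sc (hb M.toMd0 N) ?_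
        exact (by decide +kernel : ∀ n < 21, 15 < n → chkSc .U n (.s 2 35) = true) n (by omega) (by omega)
    · by_cases h10 : 23 ≤ n
      · have := sq 23 h10
        exact crude (by omega)
      · refine M.of_sc (hb M.toMd0 N) ?_
        exact (by decide +kernel : ∀ n < 23, 20 < n → chkSc .U n (.s 2 48) = true) n (by omega) (by omega)
    · have h10 : (l + 1) * 7 ≤ (l + 1) * l := Nat.mul_le_mul_left _ h9
      have := sq 28 (by omega)
      exact crude (by omega)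
  rcases clS (k := AlgebraicClosure K) O.2.1 O.1 hl (hs ht) with h7 | ⟨rfl, i, h7, rfl⟩
  · rw [← O.2.2.1] at h7
    have h10 : (l + 1) * 5 ≤ (l + 1) * l := Nat.mul_le_mul_left _ hl
    have := sq 30 (by omega)
    exact crudeS M.toMd0 ht N rfl h1 (by rw [hX]; omega)
  · have h8 := one_le (k := AlgebraicClosure K) O.2.1 O.1 (i := i) (by simp)
    have h9 := d_le1 (p := p) (k := AlgebraicClosure K) i
    rw [← O.2.2.1, h7] at h8 h9
    obtain rfl : n = 20 := le_antisymm h9 h8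
    refine fin M N O h0 (m := 12) (by norm_num) (fun r _ x ι _ k1 k2 => fewS k1 k2 h7) ?_
    rw [of_bil ht]
    exact all_of h0 ht M.dim (by decide +kernel : allK (fun t => !dimB t 20 || t == .L || t == .U ||
      chkP t 20 (.s 2 35) 6 3 fun z _ => Nat.blt 12 z) = true)

end md

end Cfsg.Agent.N2C.RD.Ub

namespace Cfsg.Agent.N2C.RD

/-- **the rows `U_m`, `m ≥ 6`** -/
theorem rowUb : ∀ m, 6 ≤ m → Row (fU m) := by
  rintro m hm t n q p T b K _ _ P G c f M ⟨E, _, _, _, s, hE, h32, ⟨e⟩⟩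
  have hp := Fact.mk M.prime
  have := M.char
  obtain ⟨a, ha, rfl⟩ := exists_f' E M.prime two_ne_zero hE
  obtain ⟨l, rfl⟩ : ∃ l, m = l + 1 := ⟨m - 1, by omega⟩
  exact Ub.row M (by omega) hE ha (nd_U M.core.simple M.core.nonabelian M.prime ha hE (by omega) h32 e) e

end Cfsg.Agent.N2C.RD
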