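import Cfsg.Agent.N2.Cl.RD.Lin
import Cfsg.Agent.N2.Cl.RX.Rp0A

/-!
# N2 (S3519), defining characteristic: Scott's inequality and the lower bound for `dm` (helper38)
-/

set_option autoImplicit false

namespace Cfsg.Agent.N2C.RD

open Cfsg Cfsg.Geo Subgroup Cfsg.Agent.H915.LD Module Matrix

variable {n : ℕ} {K : Type} [Field K] [Finite K] {P : Subgroup (GL (Fin n) K)}

theorem cA_eq_dm' (u : GL (Fin n) K) : SzG.cA (u : Matrix (Fin n) (Fin n) K) = Nat.card K ^ dm u := by
  rw [← cA_eq_dm]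
  exact Nat.card_congr (Equiv.subtypeEquivRight fun X => eq_comm)

theorem gen_of_soc (hC : Core P) {x y : P} (h : closure ({toSoc P x, toSoc P y} : Set (Soc P)) = ⊤) :
    SzG.Gen ((x : GL (Fin n) K) : Matrix (Fin n) (Fin n) K) (y : GL (Fin n) K) := by
  intro Z hZ hx hy
  have hs : ∀ c : K, c • (1 : Matrix (Fin n) (Fin n) K) ∈ Z := fun c => hZ (Subring.mem_center_iff.2 fun g => by simp)
  let H : Subgroup P :=
    { Submonoid.comap ((Units.coeHom _).comp P.subtype) Z.toSubmonoid with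
      inv_mem' := fun {g} hg => by
        have h1 : g⁻¹ = g ^ (orderOf g - 1) := by
          rw [inv_eq_iff_mul_eq_one, ← pow_succ', Nat.sub_add_cancel (orderOf_pos g), pow_orderOf_eq_one]
        rw [h1]
        exact Submonoid.pow_mem _ hg _ }
  have h1 : H = ⊤ := top_of_soc h hx hy fun g hg => by
    obtain ⟨c, hc⟩ := exists_of_toSoc_eq (a := 1) (b := g) ((map_one _).trans (MonoidHom.mem_ker.1 hg).symm)
    show ((g : GL (Fin n) K) : Matrix (Fin n) (Fin n) K) ∈ Z
    rw [hc]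
    exact hs c
  refine eq_top_iff.2 fun M _ => ?_
  have h2 : M ∈ Submodule.span K (matrixSet P) := (H920.span_eq_top hC.absIrred).ge trivial
  induction h2 using Submodule.span_induction with
  | mem M hM =>
    obtain ⟨g, hg, rfl⟩ := hM
    exact h1.ge (mem_top ⟨g, hg⟩)
  | zero => exact Z.zero_mem
  | add a b _ _ ha hb => exact Z.add_mem (ha trivial) (hb trivial)
  | smul c a _ ha =>
    rw [← Matrix.one_mul a, ← Matrix.smul_mul]
    exact Z.mul_mem (hs c) (ha trivial)

/-- **(d)** Scott -/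
theorem scott2 (hC : Core P) {x y : P} (h : closure ({toSoc P x, toSoc P y} : Set (Soc P)) = ⊤) :
    dm (x : GL (Fin n) K) + dm (y : GL (Fin n) K) + dm ((x * y : P) : GL (Fin n) K) ≤ n ^ 2 + 2 := by
  have h2 := SzG.scottM (gen_of_soc hC h)
  rw [cA_eq_dm', cA_eq_dm', cA_eq_dm', ← pow_add, ← pow_add] at h2
  exact (Nat.pow_le_pow_iff_right Finite.one_lt_card).1 h2

/-- **(d)** the lower bound -/
theorem low {x : P} {a : ℕ} (ha : 0 < a) (e : toSoc P x ^ a = 1) : n ^ 2 ≤ a * dm (x : GL (Fin n) K) := by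
  obtain ⟨c, hc⟩ := exists_of_toSoc_eq (a := 1) (b := x ^ a) ((map_one _).trans ((map_pow _ _ _).trans e).symm)
  have h1 := RX.R0.lowM ((x : GL (Fin n) K) : Matrix (Fin n) (Fin n) K) (Polynomial.monic_X_pow_sub_C (c : K) ha.ne') (by
    rw [map_sub, map_pow, Polynomial.aeval_X, Polynomial.aeval_C, Algebra.algebraMap_eq_smul_one, ← Units.val_pow_eq_pow_val,
      ← coe_pow, hc]
    exact sub_self _)
  rw [Polynomial.natDegree_X_pow_sub_C, cA_eq_dm', ← pow_mul, mul_comm] at h1
  exact (Nat.pow_le_pow_iff_right Finite.one_lt_card).1 h1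

end Cfsg.Agent.N2C.RD
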