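import Cfsg.Agent.N2.Cl.RD.Sz
import Cfsg.Agent.N2.Cl.RD.LinS
import Cfsg.Agent.N2.Cl.RX.Rp0
import Cfsg.Agent.N2.Cl.Cyc.Vec

/-!
# N2 (S3519), class S in the defining characteristic: `boxMd` (helper94)
-/

set_option autoImplicit false
set_option linter.unusedSectionVars false
set_option maxHeartbeats 400000

namespace Cfsg.Agent.N2C.RD

open Cfsg Cfsg.Geo Subgroup Module Matrix Cfsg.Agent.DS.Cl Cfsg.Agent.DS.Cl.Fwd
open Cfsg.Agent.N2C.Cyc Cfsg.Agent.N2C.RX
open Cfsg.Agent.N2C.Res (Rep repL repH)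
open Cfsg.Agent.H915.LD (Soc toSoc Cj)
open Cfsg.Agent.TH.Cl (KL KU KSp KO)
open Cfsg.Agent.FP3 (fx)
open Cfsg.Agent.N2C.RX.R0 (card_tw ZI_bil)

namespace Lk

section grp

variable {T S : Type} [Group T] [Finite T] [Group S] [Finite S]

theorem fx_mod (B : Subgroup T) {a : T} {r : ℕ} (hr : r.Prime) (ha : orderOf a = r) :
    fx B a ≡ Nat.card T / Nat.card B [MOD r] := by
  have : Fact r.Prime := ⟨hr⟩
  have h1 : IsPGroup r (zpowers a) := IsPGroup.of_card (n := 1) (by rw [Nat.card_zpowers, ha, pow_one])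
  have h2 := h1.card_modEq_card_fixedPoints (T ⧸ B)
  rw [← B.index_mul_card, Nat.mul_div_cancel _ Nat.card_pos]
  have h3 : Nat.card (MulAction.fixedPoints (zpowers a) (T ⧸ B)) = fx B a :=
    Nat.card_congr (Equiv.subtypeEquivRight fun x => ⟨fun h => h ⟨a, mem_zpowers a⟩,
      fun h y => (zpowers_le.2 h : zpowers a ≤ MulAction.stabilizer T x) y.2⟩)
  exact (h3 ▸ h2).symm

/-- the conjugates in `B` of an element which generates a weakly closed subgroup of the normal subgroup `S` -/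
theorem cc_mul (B : Subgroup T) (ι : S →* T) (hι : Function.Injective ι) (hB : ∀ s, ι s ∈ B)
    (hn : ∀ b ∈ B, ∀ s, b * ι s * b⁻¹ ∈ ι.range) {g : S} {r : ℕ} (hr : r.Prime) (hg : orderOf g = r)
    (hi : ¬ r * Nat.card S ∣ Nat.card B) (hc : ∀ x : S, orderOf x = r → ∃ j : ℕ, IsConj x (g ^ j)) :
    N2.cc B (ι g) * Nat.card (normalizer (zpowers g : Set S)) ≤
      Nat.card {y : zpowers g // IsConj (ι g) (ι y)} * Nat.card S := by
  have hN : (ι.range.subgroupOf B).Normal := ⟨fun x hx b => by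
    obtain ⟨s, hs⟩ := hx
    have h1 := hn b b.2 s
    rwa [hs] at h1⟩
  have hi' : (ι.range.subgroupOf B).index.gcd r = 1 := Nat.coprime_comm.1 (hr.coprime_iff_not_dvd.2 fun k => hi (by
    rw [← (ι.range.subgroupOf B).index_mul_card, Nat.card_congr (subgroupOfEquivOfLe (show ι.range ≤ B by
      rintro _ ⟨s, rfl⟩; exact hB s)).toEquiv, ← Nat.card_congr (MonoidHom.ofInjective hι).toEquiv]
    exact Nat.mul_dvd_mul_right k _))
  have key : ∀ x : {x : T // IsConj (ι g) x ∧ x ∈ B}, ∃ s h : S, ι s = x.1 ∧ h⁻¹ * s * h ∈ zpowers g := fun x => by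
    have h1 : orderOf x.1 = r := by
      obtain ⟨v, hv⟩ := isConj_iff.1 x.2.1
      rw [← hv, show v * ι g * v⁻¹ = MulAut.conj v (ι g) from rfl, MulEquiv.orderOf_eq, orderOf_injective ι hι, hg]
    have h4 : (⟨x.1, x.2.2⟩ : B) ∈ zpowers ((⟨x.1, x.2.2⟩ : B) ^ (ι.range.subgroupOf B).index) := mem_zpowers_pow_iff.2 (by
      rw [← orderOf_coe, h1, hi'])
    obtain ⟨s, hs⟩ : (⟨x.1, x.2.2⟩ : B) ∈ ι.range.subgroupOf B :=
      zpowers_le.2 ((ι.range.subgroupOf B).pow_index_mem _) h4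
    obtain ⟨j, hj⟩ := hc s (by rw [← orderOf_injective ι hι, hs]; exact h1)
    obtain ⟨v, hv⟩ := isConj_iff.1 hj
    exact ⟨s, v⁻¹, hs, by rw [inv_inv, hv]; exact pow_mem (mem_zpowers g) j⟩
  choose s h h1 h2 using key
  rw [N2.cc, ← Nat.card_prod, ← Nat.card_prod]
  refine Nat.card_le_card_of_injective (fun y => (⟨⟨(h y.1 * y.2)⁻¹ * s y.1 * (h y.1 * y.2), ?_⟩, ?_⟩, h y.1 * y.2))
    fun y z e => ?_
  · have h3 := (mem_normalizer_iff.1 (inv_mem y.2.2) _).1 (h2 y.1)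
    rwa [show (y.2 : S)⁻¹ * ((h y.1)⁻¹ * s y.1 * h y.1) * (y.2 : S)⁻¹⁻¹ =
      (h y.1 * y.2)⁻¹ * s y.1 * (h y.1 * y.2) by group] at h3
  · refine y.1.2.1.trans (isConj_iff.2 ⟨(ι (h y.1 * y.2))⁻¹, ?_⟩)
    rw [← h1, inv_inv, ← map_inv, ← map_mul, ← map_mul]
  · have h3 : h y.1 * y.2 = h z.1 * z.2 := (Prod.mk.inj e).2
    have h4 : (h y.1 * y.2)⁻¹ * s y.1 * (h y.1 * y.2) = (h z.1 * z.2)⁻¹ * s z.1 * (h z.1 * z.2) :=
      congrArg (fun w => ((w.1.1 : zpowers g) : S)) e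
    rw [h3, mul_left_inj, mul_right_inj] at h4
    have h5 : y.1 = z.1 := Subtype.ext (by rw [← h1, ← h1, h4])
    rw [h5, mul_right_inj] at h3
    exact Prod.ext h5 (Subtype.ext h3)

end grp

/-- the powers of a matrix of prime order which are conjugate to it -/
theorem pow_le {K : Type} [Field K] [Fintype K] {n r : ℕ} (hr : r.Prime) (hK : (r : K) ≠ 0) {u : GL (Fin n) K}
    (hu : orderOf u = r) {X : Type} (j : X → ℕ) (hj : ∀ x y, (j x : ZMod r) = j y → x = y)
    (hc : ∀ x, IsConj u (u ^ j x)) : Nat.card X ≤ n - ev u 1 := by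
  have : Fact r.Prime := ⟨hr⟩
  obtain ⟨μ, h1, h2⟩ := Sz.exists_mu (RingEquiv.refl _) hK (u := (u : Matrix (Fin n) (Fin n) K)) (by
    rw [← Units.val_pow_eq_pow_val, ← hu, pow_orderOf_eq_one, Units.val_one])
  have h3 := h1.sum
  rw [Fintype.card_fin, ← Finset.add_sum_erase _ _ (Finset.mem_univ 0)] at h3
  have h4 : μ 0 = ev u 1 := h2
  obtain ⟨i, hi, hi'⟩ : ∃ i ∈ Finset.univ.erase (0 : ZMod r), μ i ≠ 0 := by
    by_contra! h5
    rw [Finset.sum_eq_zero h5, add_zero, h4] at h3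
    have h6 := Submodule.eq_top_of_finrank_eq (h3.trans (finrank_fin_fun K).symm)
    have h7 : u = 1 := Units.ext (Matrix.toLin'.injective (LinearMap.ext fun v => by
      have h8 := End.mem_eigenspace_iff.1 (h6.ge (Submodule.mem_top (x := v)))
      rw [h8, one_smul, Units.val_one, Matrix.toLin'_one, LinearMap.id_apply]))
    rw [h7, orderOf_one] at hu
    exact hr.one_lt.ne hu
  have h5 : ∀ x, (j x).Coprime r := fun x => Nat.coprime_comm.1 (hr.coprime_iff_not_dvd.2 fun k => by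
    have h6 := hc x
    rw [orderOf_dvd_iff_pow_eq_one.1 (hu ▸ k), isConj_one_left] at h6
    rw [h6, orderOf_one] at hu
    exact hr.one_lt.ne hu)
  have h6 : ∀ x, μ (j x * i) = μ i := fun x => by
    obtain ⟨v, hv⟩ := isConj_iff.1 (hc x)
    exact h1.conj (v : Matrix (Fin n) (Fin n) K) (j x) (Units.isUnit _)
      (congrArg Units.val (mul_inv_eq_iff_eq_mul.1 hv)) (h5 x) i
  have hi0 := Finset.ne_of_mem_erase hi
  have h7 : Nat.card X ≤ Nat.card ((Finset.univ.erase (0 : ZMod r)).filter fun k => μ k ≠ 0) :=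
    Nat.card_le_card_of_injective (fun x => ⟨j x * i, Finset.mem_filter.2 ⟨Finset.mem_erase.2 ⟨mul_ne_zero
      ((ZMod.isUnit_iff_coprime _ _).2 (h5 x)).ne_zero hi0, Finset.mem_univ _⟩, (h6 x).symm ▸ hi'⟩⟩)
      fun x y e => hj x y (mul_right_cancel₀ hi0 (Subtype.mk.inj e))
  rw [Nat.card_eq_finsetCard, Finset.card_filter] at h7
  have h8 := h7.trans (Finset.sum_le_sum (g := μ) fun k _ => by split_ifs with h <;> omega)
  omega

section gen

variable {A : Type} [Ring A] [StarRing A] [Finite A] {F : FR A} {H N : Subgroup (RingAut A)} {p : ℕ}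
  {K : Type} [Field K] [Fintype K] {n : ℕ} (R : Rep F K n)

/-- **the part without forms** -/
theorem md0_of (c : Ctx F H p) (r : Res F H N) {t : Kd} {q : ℕ} (hp : CharP K p) (hK : Fintype.card K = kq t q)
    (hd : dimOk t n q) (ho : oD t n q * Nat.card F.S = oI t n q) (hF : Frm (R.P N) t q)
    (hj : t = .L → ∀ k, ¬ Cj (R.P N) (p ^ k))
    (hz : ∀ z ∈ ZI F, z ^ zz t q = 1) (hz' : zz t q ≤ Nat.card (ZI F))
    (hs : ∀ u ∈ F.Iso, cO F u ^ 2 ≤ q ^ ec t n (dm (R.gl u)))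
    (hy : ∀ u ∈ F.Iso, (p = 2 → bil t → ev (R.gl u) 1 = 0) → n ≤ (minpoly K (R.ρ u)).natDegree → cO F u ≤ cb t n q) :
    ∃ (c f : R.P N → ℕ) (b : ℕ), Nonempty (Soc (R.P N) ≃* N) ∧
      (∀ u (hu : u ∈ lft F N), c ⟨R.gl u, u, hu, rfl⟩ ≤ N2.cn (el (Res.lft_le F N hu))) ∧
      Md0 t q p (Nat.card F.S) b (R.P N) (Gd F H) c f := by
  have := finAut (A := A)
  obtain ⟨e, he⟩ := R.exists_soc c.span r
  have hC := R.core c.span r
  let ι : Soc (R.P N) →* F.S := (inclusion (Res.le_S r)).comp e.toMonoidHom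
  have hι : Function.Injective ι := (inclusion_injective (Res.le_S r)).comp e.injective
  have h1 : ∀ u (hu : u ∈ lft F N), ι (toSoc _ ⟨R.gl u, u, hu, rfl⟩) = el (Res.lft_le F N hu) :=
    fun u hu => Subtype.ext (he u hu)
  have h2 : Nat.card (Soc (R.P N)) = Nat.card N := Nat.card_congr e.toEquiv
  have hB : ∀ s, ι s ∈ H.subgroupOf F.S := fun s => Res.le_H r (e s).2
  have h3 : ∀ u (hu : u ∈ lft F N), N2.cn (ι (toSoc _ ⟨R.gl u, u, hu, rfl⟩)) * zz t q ≤ Nat.gcd n (zz t q) * cO F u :=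
    fun u hu => h1 u hu ▸ (Nat.mul_le_mul_left _ hz').trans (cn_mul_le (Res.lft_le F N hu) (card_tw R u hz))
  refine ⟨fun u => N2.cn (ι (toSoc _ u)), fun u => fx (H.subgroupOf F.S) (ι (toSoc _ u)), Nat.card (H.subgroupOf F.S),
    ⟨e⟩, fun u hu => (congrArg N2.cn (h1 u hu)).le, c.cf, c.prime, hp, hK, ?_, hd, ho, hC, hF, hj,
    h2 ▸ Res.card_N_lt r c, h2 ▸ Res.card_N_dvd_B r, card_subgroup_dvd_card _,
    (Res.card_B_dvd_aut r).trans (Nat.card_congr (MulAut.congr e).toEquiv).symm.dvd, fun _ => R.card_B_dvd_lin c.span r c.le,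
    fun u h => N2.good_of_le (hB _) le_rfl h, fun u => N2.fx_le_cn _ _,
    fun u s hs h => fx_mod _ hs ((orderOf_injective ι hι _).trans h), ?_, fun x hx => ?_, ?_, ?_, ?_⟩
  · obtain ⟨m, -, hm⟩ := FiniteField.card K p
    have h1 := Fintype.one_lt_card (α := K)
    obtain ⟨f, -, hf⟩ := (Nat.dvd_prime_pow c.prime).1 (show q ∣ p ^ (m : ℕ) by
      rw [← hm, hK]; cases t <;> simp [kq])
    refine ⟨f, Nat.pos_of_ne_zero fun e => ?_, hf⟩
    rw [hK, hf, e] at h1
    cases t <;> simp [kq] at h1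
  · rintro ⟨_, u, hu, rfl⟩ s hs hsp hsz ho hi hc
    have : Fact s.Prime := ⟨hs⟩
    have hu' := Res.lft_le_Iso F N hu
    set U : R.P N := ⟨R.gl u, u, hu, rfl⟩ with hU
    have hm : u ^ s = 1 := R.gl_inj (pow_mem hu' s) (one_mem _) (by
      rw [map_pow, map_one, ← ho]; exact congrArg Subtype.val (pow_orderOf_eq_one U))
    have h4 : ∀ z ∈ ZI F, z ^ s = 1 → z = 1 := fun z h k =>
      (pow_eq_one_iff_of_coprime (hs.coprime_iff_not_dvd.2 hsz)).1 ⟨k, hz z h⟩
    have hg : orderOf (toSoc _ U) = s := orderOf_eq_prime (by rw [← map_pow, ← ho, pow_orderOf_eq_one, map_one]) fun k => by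
      have h5 : cj A u = 1 := congrArg Subtype.val ((h1 u hu).symm.trans ((congrArg ι k).trans (map_one ι)))
      have h6 : U = 1 := Subtype.ext ((congrArg R.gl (h4 u ⟨hu', h5⟩ hm)).trans (map_one _))
      rw [h6, orderOf_one] at ho
      exact hs.one_lt.ne ho
    have h5 := cc_mul (H.subgroupOf F.S) ι hι hB (fun b hb x => ⟨e.symm ⟨_, r.nrm _ hb _ (e x).2⟩,
      Subtype.ext (congrArg (fun y : N => (y : RingAut A)) (e.apply_symm_apply _))⟩) hs hg hi hc
    choose j hj' using fun y : {y : zpowers (toSoc _ U) // IsConj (ι (toSoc _ U)) (ι y)} =>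
      (mem_powers_iff_mem_zpowers.2 y.1.2 : ∃ j : ℕ, toSoc _ U ^ j = y.1)
    have h6 := pow_le hs (fun k => hsp ((Nat.prime_dvd_prime_iff_eq c.prime hs).1
      ((CharP.cast_eq_zero_iff K p s).1 k)).symm) (u := R.gl u) ((orderOf_coe U).trans ho) j
      (fun x y k => Subtype.ext (Subtype.ext (by
        rw [← hj', ← hj', pow_eq_pow_iff_modEq, hg]
        exact (ZMod.natCast_eq_natCast_iff _ _ _).1 k))) fun y => by
      obtain ⟨⟨_, v, hv, rfl⟩, k⟩ := isConj_iff.1 y.2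
      rw [← hj', map_pow, h1 u hu] at k
      have h7 : cj A (v * u * v⁻¹) = cj A (u ^ j y) := by
        rw [map_mul, map_mul, map_inv, map_pow]
        exact congrArg Subtype.val k
      obtain ⟨z, h8, h9⟩ := cj_eq_iff.1 h7
      have hv' := F.comm_le_Iso hv
      have h10 : z = 1 := h4 z (mem_ZI ((mul_mem_cancel_left (pow_mem hu' (j y))).1
        (h9 ▸ mul_mem (mul_mem hv' hu') (inv_mem hv'))) h8) (by
          have h11 := congrArg (· ^ s) h9
          simp only [conj_pow, hm, mul_one, mul_inv_cancel] at h11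
          rw [Commute.mul_pow (units_comm h8 _), ← pow_mul, mul_comm, pow_mul, hm, one_pow, one_mul] at h11
          exact h11.symm)
      rw [h10, mul_one] at h9
      exact isConj_iff.2 ⟨R.gl v, by rw [← map_inv, ← map_mul, ← map_mul, h9, map_pow]⟩
    calc _ = N2.cn (ι (toSoc _ U)) * (N2.cc (H.subgroupOf F.S) (ι (toSoc _ U)) *
          Nat.card (normalizer (zpowers (toSoc _ U) : Set (Soc (R.P N))))) := by
          rw [mul_right_comm, N2.fx_mul, mul_assoc]
      _ ≤ _ := by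
          rw [mul_assoc]
          exact Nat.mul_le_mul_left _ (h5.trans (Nat.mul_le_mul_right _ h6))
  · have := hC.simple
    obtain ⟨y, hy⟩ := FP3.gen (Soc (R.P N)) hC.nonabelian _ hx
    obtain ⟨y, rfl⟩ := H915.LD.toSoc_surjective _ y
    exact ⟨y, scott2 hC hy⟩
  · obtain ⟨u, hu, k⟩ := SzG.res_smallM r R
    refine ⟨⟨R.gl u, u, hu, rfl⟩, (Nat.pow_le_pow_iff_right (Finite.one_lt_card (α := K))).1 ?_⟩
    rw [← cA_eq_dm']
    exact k
  · rintro ⟨_, u, hu, rfl⟩
    refine (Nat.pow_le_pow_left (h3 u hu) 2).trans ?_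
    rw [mul_pow]
    exact Nat.mul_le_mul_left _ (hs u (Res.lft_le_Iso F N hu))
  · rintro ⟨_, u, hu, rfl⟩ k1 k2
    exact (h3 u hu).trans (Nat.mul_le_mul_left _ (hy u (Res.lft_le_Iso F N hu) k1 k2))

end gen

section kinds

variable {K : Type} [Field K] [Fintype K] {V : Type} [AddCommGroup V] [Module K V] [Finite V] {h : HF K V} {F : FR h.EB}
  {n p : ℕ} (b : Basis (Fin n) K V) (hn : 0 < n)

theorem cyc_H {u : h.EB} (k : n ≤ (minpoly K ((repH h F b hn).ρ u)).natDegree) : CycV (h.ap u) := by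
  have : Module.Finite K V := Module.Finite.of_finite
  refine cycV_of_minpoly ?_
  rw [finrank_eq_card_basis b, Fintype.card_fin, ← LinearMap.minpoly_toMatrix b]
  exact k

theorem cO_bil (hτ : ∀ c, h.τ c = c) (hp : p.Prime) [CharP K p] {u : h.EBˣ} (hu : u ∈ F.Iso)
    (k1 : p = 2 → ev ((repH h F b hn).gl u) 1 = 0) (k2 : n ≤ (minpoly K ((repH h F b hn).ρ u)).natDegree) :
    cO F u ≤ 4 * (Fintype.card K + 1) ^ (n / 2) := by
  have : Module.Finite K V := Module.Finite.of_finite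
  obtain ⟨d, h1, h2⟩ : ∃ d : h.EB, d * u = u * d ∧ d + star d = 1 := by
    by_cases h2 : p = 2
    · refine exists_tr_of_unit hu.1 (show IsUnit (h.ap u - 1) from (LinearMap.isUnit_iff_ker_eq_bot _).2 ?_)
      exact Submodule.finrank_eq_zero.1 ((ml_H (F := F) b hn _).symm.trans (k1 h2))
    · refine exists_tr_of_two ?_ _
      have h3 : (2 : K) ≠ 0 := fun e => h2 ((Nat.prime_dvd_prime_iff_eq hp Nat.prime_two).1
        ((CharP.cast_eq_zero_iff K p 2).1 (by exact_mod_cast e)))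
      refine IsUnit.of_mul_eq_one (h.eb ((2 : K)⁻¹ • 1)) (h.ap_ext fun v => ?_)
      rw [two_mul, h.ap_add]
      change (2 : K)⁻¹ • v + (2 : K)⁻¹ • v = v
      rw [← two_smul K, smul_smul, mul_inv_cancel₀ h3, one_smul]
  have h3 := cU_le_bil_four hτ hu.1 (cyc_H b hn k2) h1 h2
  rw [finrank_eq_card_basis b, Fintype.card_fin] at h3
  exact (cO_le_cU F u).trans h3

theorem cO_sq {u : h.EBˣ} (hu : u ∈ F.Iso) : cO F u ^ 2 ≤ Fintype.card K ^ (dm ((repH h F b hn).gl u) + n) :=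
  R0.cO_H h F b hn hu (cA_eq_dm' ((repH h F b hn).gl u))

end kinds

end Lk

open Lk

/-- **[Lnk]** -/
theorem boxMd : BoxMd := by
  refine ⟨fun K _ _ n F H N p k hn c r => ?_, fun K V _ _ _ _ _ h F q H N p k hn c r => ?_,
    fun K V _ _ _ _ _ h F j H N p k hj c r => ?_, fun K V _ _ _ _ _ h F Q H N p t k c r ht hd ho => ?_⟩
  · have h0 : 0 < n := by omega
    have := Res.charP_L h0 c
    have : Fact p.Prime := ⟨c.prime⟩
    obtain ⟨d, f, b, e, h1, h2⟩ := md0_of (repL F h0) c r (t := .L) ‹_› rfl hn ((mul_assoc _ _ _).trans (card_S_L k))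
      (Res.not_sd_L h0 r) (fun _ => Res.not_cj_L h0 r p) (fun _ => ZI_pow_L) (card_ZI_L F h0) (fun u _ => by
        show _ ≤ Fintype.card K ^ (2 * _)
        rw [mul_comm, pow_mul, ← Nat.card_eq_fintype_card, ← cA_eq_dm']
        exact Nat.pow_le_pow_left (R0.cO_le (repL F h0)) 2) fun u _ _ k2 => cO_le_L h0 F (cycV_of_minpoly (by
          rw [finrank_fin_fun, show SB.Fld.prL n K u = Matrix.toLin' ((repL F h0).ρ u) from rfl, Matrix.minpoly_toLin']
          exact k2))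
    exact ⟨K, _, _, _, d, f, b, e, h2, semiD_L h0 h1 c.prime, ssD_L h0 h1⟩
  · have : Module.Finite K V := Module.Finite.of_finite
    have h0 : 0 < finrank K V := by omega
    let b := finBasis K V
    have := Res.charP_H h F b h0 c
    obtain ⟨d, f, m, e, h1, h2⟩ := md0_of (repH h F b h0) c r (t := .U) this k.card hn
      ((mul_assoc _ _ _).trans (card_S_U k)) ⟨Res.cj_U F b h0 k.u k.card N, Res.not_sd_U b h0 k.u r⟩ (fun e => by cases e)
      (fun _ => ZI_pow_U k) (card_ZI_U k) (fun u hu => by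
        rw [ec, pow_mul, ← k.card]
        exact cO_sq b h0 hu) fun u hu _ k2 => (cO_le_cU F u).trans (cU_le_U k.u k.card hu.1 (cyc_H b h0 k2))
    exact ⟨K, _, _, _, d, f, m, e, h2, semiD_U b h0 h1 k c.prime, ssD_U b h0 h1 k⟩
  · have : Module.Finite K V := Module.Finite.of_finite
    have h1 := k.dim
    have h0 : 0 < finrank K V := by omega
    have := nontrivial_of_dim h0
    let b := finBasis K V
    have := Res.charP_H h F b h0 c
    obtain ⟨d, f, m, e, h2, h3⟩ := md0_of (repH h F b h0) c r (t := .S) this rfl ⟨by omega, by omega⟩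
      (by rw [oD, oI, show finrank K V / 2 = j by omega]; exact card_S_Sp k)
      ⟨Res.fixA b h0 k.sp N, Res.sd_H h F b h0 k.sp.1 N, Res.not_fixQ b h0 k.sp r⟩ (fun e => by cases e)
      (ZI_bil k.sp.1).1 (ZI_bil k.sp.1).2 (fun u hu => cO_sq b h0 hu)
      fun u hu k1 k2 => cO_bil b h0 k.sp.1 c.prime hu (fun e => k1 e trivial) k2
    exact ⟨K, _, _, _, d, f, m, e, h3, semiD_S b h0 h2 k c.prime, ssD_S b h0 h2 k c.prime⟩
  · have : Module.Finite K V := Module.Finite.of_finite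
    have h1 := k.dim
    have h0 : 0 < finrank K V := by omega
    have := nontrivial_of_dim h0
    let b := finBasis K V
    have := Res.charP_H h F b h0 c
    obtain ⟨d, f, m, e, h2, h3⟩ := md0_of (repH h F b h0) c r (t := t) (q := Fintype.card K) this
      (by rcases ht with rfl | rfl | rfl <;> rfl) hd ho
      (by rcases ht with rfl | rfl | rfl <;> exact ⟨Res.fixQ b h0 k.o N, Res.sd_H h F b h0 k.o.1 N⟩)
      (by rcases ht with rfl | rfl | rfl <;> exact fun e => by cases e)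
      (by rcases ht with rfl | rfl | rfl <;> exact (ZI_bil k.o.1).1)
      (by rcases ht with rfl | rfl | rfl <;> exact (ZI_bil k.o.1).2)
      (by rcases ht with rfl | rfl | rfl <;> exact fun u hu => cO_sq b h0 hu)
      (by rcases ht with rfl | rfl | rfl <;>
        exact fun u hu k1 k2 => cO_bil b h0 k.o.1 c.prime hu (fun e => k1 e trivial) k2)
    exact ⟨K, _, _, _, d, f, m, e, h3, semiD_O b h0 h2 k ht c.prime, ssD_O b h0 h2 k ht c.prime⟩

/-- the defining characteristic from the rows -/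
theorem sdef_of (R : Rows) : On (pRes qDef) := on_of boxMd R

end Cfsg.Agent.N2C.RD
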