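import Cfsg.Agent.N2.Cl.RD.Defs
import Cfsg.Agent.N2.Cl.RX.Num
import Cfsg.Agent.H889.Enum.Aut
import Cfsg.Agent.H370.Rg.Zsig
import Cfsg.Agent.H902.Zs
import Cfsg.Agent.S1059
import Cfsg.Agent.S1062
import Cfsg.Agent.S1063
import Cfsg.Agent.S1064
import Cfsg.Agent.S1065
import Cfsg.Agent.S1066
import Cfsg.Agent.S1067
import Cfsg.Agent.S1068
import Cfsg.Agent.S1069
import Cfsg.Agent.S1163

/-!
# N2 (S3519), class S in the defining characteristic: orders, automorphism groups, primitive primes (helper86)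

`s = p ^ f`.  `Nd X p f N` : `dd X s * |N| = oX X s`, `|Aut N| = gX X p * f * oX X s`;  `s ^ dX X ≤ 2 * oX X s ≤ 2 * s ^ dX X`.
`PdX X k` : every prime `r` with `orderOf (p : ZMod r) = f * k ≥ 3` divides `|N|` and not `|Out N|`.
-/

set_option autoImplicit false

namespace Cfsg.Agent.N2C.RD

open Cfsg Cfsg.Geo Cfsg.Agent.H902 Cfsg.Agent.H902.Names Cfsg.Agent.N2C.Cyc Cfsg.Agent.N2C.RX Cfsg.Agent.H915.LD Finset
open Cfsg.Agent.H889.Enum (ou)

/-- the dimension -/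
def dX : Art.Sh → ℕ
  | .L m => m ^ 2 - 1
  | .C m => 2 * m ^ 2 + m
  | .U m => m ^ 2 - 1
  | .D m => 2 * m ^ 2 - m
  | .DD m => 2 * m ^ 2 - m
  | .G2 => 14
  | .F4 => 52
  | .E6 => 78
  | .E7 => 133
  | .E8 => 248
  | .TE6 => 78
  | .TD4 => 28
  | .Sz => 5
  | .Ree => 7
  | .TF4 => 26

/-- the graph automorphisms -/
def gX : Art.Sh → ℕ → ℕ
  | .L m, _ => if m = 2 then 1 else 2
  | .C m, p => if m = 2 ∧ p = 2 then 2 else 1
  | .U _, _ => 2
  | .D m, _ => if m = 4 then 6 else 2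
  | .DD _, _ => 2
  | .G2, p => if p = 3 then 2 else 1
  | .F4, p => if p = 2 then 2 else 1
  | .E6, _ => 2
  | .TE6, _ => 2
  | .TD4, _ => 3
  | _, _ => 1

/-- the order of the group of inner-diagonal automorphisms -/
def oX (X : Art.Sh) (s : ℕ) : ℕ := s ^ Art.NN X * Art.num X s

/-- the orders of `s` modulo the prime divisors -/
def PdX : Art.Sh → ℕ → Prop
  | .L m, k => 0 < k ∧ k ≤ m ∧ (k = 1 → m ≤ 4)
  | .C m, k => 0 < k ∧ (k ≤ m ∨ (k % 2 = 0 ∧ k ≤ 2 * m))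
  | .U m, k => 0 < k ∧ (2 * k ≤ m ∨ (k % 2 = 0 ∧ k ≤ m) ∨ (k % 4 = 2 ∧ k ≤ 2 * m)) ∧ (k = 2 → m ≤ 4)
  | .D m, k => 0 < k ∧ (k ≤ m ∨ (k % 2 = 0 ∧ k + 2 ≤ 2 * m))
  | .DD m, k => 0 < k ∧ (k < m ∨ (k % 2 = 0 ∧ k ≤ 2 * m))
  | .G2, k => k ∣ 6
  | .F4, k => k ∣ 8 ∨ k ∣ 12
  | .E6, k => k ∣ 5 ∨ k ∣ 8 ∨ k ∣ 9 ∨ k ∣ 12
  | .E7, k => k ∣ 8 ∨ k ∣ 10 ∨ k ∣ 12 ∨ k ∣ 14 ∨ k ∣ 18
  | .E8, k => k ∣ 14 ∨ k ∣ 18 ∨ k ∣ 20 ∨ k ∣ 24 ∨ k ∣ 30
  | .TE6, k => k ∣ 8 ∨ k = 10 ∨ k ∣ 12 ∨ k = 18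
  | .TD4, k => k ∣ 6 ∨ k = 12
  | .Sz, k => k = 1 ∨ k = 4
  | .Ree, k => k = 1 ∨ k = 2 ∨ k = 6
  | .TF4, k => k ∣ 4 ∨ k = 6 ∨ k = 12

/-- the numerical data of a group of Lie type over the field of `p ^ f` elements -/
structure Nd (X : Art.Sh) (p f : ℕ) (N : Type) [Group N] : Prop where
  real : Art.Real X p f (Nat.card N)
  aut : Nat.card (MulAut N) = gX X p * f * oX X (p ^ f)

namespace Au

theorem gX_cases (X : Art.Sh) (p : ℕ) : gX X p ∣ 6 := by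
  cases X <;> simp only [gX] <;> (try split_ifs) <;> norm_num

theorem odd_pow (k n : ℕ) : (2 * k + 1) ^ n % 4 = (1 + 2 * (n * k % 2)) % 4 := by
  induction n with
  | zero => simp
  | succ n ih =>
    rw [pow_succ, Nat.mul_mod, ih, add_mul, one_mul]
    rcases Nat.mod_two_eq_zero_or_one (n * k) with h | h <;> rcases Nat.mod_two_eq_zero_or_one k with h' | h' <;>
      rw [h, show (2 * k + 1) % 4 = (1 + 2 * (k % 2)) % 4 by omega, Nat.add_mod (n * k), h, h']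

theorem gcd_four (x : ℕ) : Nat.gcd 4 x = Nat.gcd (x % 4) 4 := Nat.gcd_rec 4 x

theorem ou_eq {X : Art.Sh} {p f : ℕ} (hp : p.Prime) (hf : 1 ≤ f) (h : Art.Ok X p f) :
    ou X p f = gX X p * f * Art.dd X (p ^ f) := by
  have h2 : ∀ m, m ≠ 0 → ((2 : ℕ) ^ f) ^ m % 2 = 0 ∧ 0 < (2 ^ f) ^ m := fun m hm =>
    ⟨Nat.even_iff.1 ((even_two.pow_of_ne_zero (by omega)).pow_of_ne_zero hm), by positivity⟩
  have h3 : p ≠ 2 → ∀ m, (p ^ f) ^ m % 4 = (1 + 2 * (m * (p ^ f - 1) / 2 % 2)) % 4 := fun h m => by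
    obtain ⟨k, hk⟩ := (hp.odd_of_ne_two h).pow (n := f)
    rw [hk, odd_pow, Nat.add_sub_cancel, mul_left_comm, Nat.mul_div_cancel_left _ two_pos]
  cases X with
  | L m => exact mul_right_comm _ _ _
  | C m => exact mul_right_comm _ _ _
  | U m => exact mul_right_comm _ _ _
  | D m =>
    have hm : 4 ≤ m := h
    change (if m = 4 then 3 else 1) * (if p = 2 then 2 else if (m * (p ^ f - 1) / 2) % 2 = 0 then 8 else 4) * f =
      (if m = 4 then 6 else 2) * f * Nat.gcd 4 ((p ^ f) ^ m - 1)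
    have k : (if p = 2 then 2 else if (m * (p ^ f - 1) / 2) % 2 = 0 then 8 else 4) = 2 * Nat.gcd 4 ((p ^ f) ^ m - 1) := by
      rw [gcd_four]
      split_ifs with a b
      · subst a
        have := h2 m (by omega)
        obtain c | c : ((2 ^ f) ^ m - 1) % 4 = 1 ∨ ((2 ^ f) ^ m - 1) % 4 = 3 := by omega
        all_goals rw [c]; rfl
      · have := h3 a m
        rw [show ((p ^ f) ^ m - 1) % 4 = 0 by omega]; rfl
      · have := h3 a m
        rw [show ((p ^ f) ^ m - 1) % 4 = 2 by omega]; rfl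
    rw [k]
    split_ifs <;> ring
  | DD m =>
    have hm : 4 ≤ m := h
    change (if p = 2 then 2 else if (m * (p ^ f - 1) / 2) % 2 = 0 then 4 else 8) * f = 2 * f * Nat.gcd 4 ((p ^ f) ^ m + 1)
    have k : (if p = 2 then 2 else if (m * (p ^ f - 1) / 2) % 2 = 0 then 4 else 8) = 2 * Nat.gcd 4 ((p ^ f) ^ m + 1) := by
      rw [gcd_four]
      split_ifs with a b
      · subst a
        have := h2 m (by omega)
        obtain c | c : ((2 ^ f) ^ m + 1) % 4 = 1 ∨ ((2 ^ f) ^ m + 1) % 4 = 3 := by omega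
        all_goals rw [c]; rfl
      · have := h3 a m
        rw [show ((p ^ f) ^ m + 1) % 4 = 2 by omega]; rfl
      · have := h3 a m
        rw [show ((p ^ f) ^ m + 1) % 4 = 0 by omega]; rfl
    rw [k]
    ring
  | G2 => exact (mul_one _).symm
  | F4 =>
    change Nat.gcd 2 p * f = (if p = 2 then 2 else 1) * f * 1
    split_ifs with a
    · rw [a, mul_one]; rfl
    · rw [mul_one, (Nat.coprime_primes Nat.prime_two hp).2 (Ne.symm a)]
  | E6 => exact mul_right_comm _ _ _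
  | E7 => exact (mul_comm _ _).trans (congrArg (· * _) (one_mul f).symm)
  | E8 => exact (mul_one _).symm
  | TE6 => exact mul_right_comm _ _ _
  | TD4 => exact (mul_one _).symm
  | Sz => exact (mul_one _).symm
  | Ree => exact (mul_one _).symm
  | TF4 => exact (mul_one _).symm

section num

variable {s : ℕ}

theorem rmul {c d A x c' d' A' x' : ℕ} (h : c * s ^ A ≤ d * x) (h' : c' * s ^ A' ≤ d' * x') :
    c * c' * s ^ (A + A') ≤ d * d' * (x * x') :=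
  calc _ = c * s ^ A * (c' * s ^ A') := by ring
    _ ≤ _ := Nat.mul_le_mul h h'
    _ = _ := by ring

theorem rsub' {b x : ℕ} (hb : b ≤ x) : (b - 1) * x ≤ b * (x - 1) := by
  rw [Nat.sub_mul, Nat.mul_sub, one_mul, mul_one]
  omega

theorem rsub {b : ℕ} (hb : b ≤ s) (a : ℕ) : (b ^ a - 1) * s ^ a ≤ b ^ a * (s ^ a - 1) := rsub' (Nat.pow_le_pow_left hb a)

theorem rsub1 {b : ℕ} (hb : b ≤ s) : (b - 1) * s ^ 1 ≤ b * (s - 1) := by rw [pow_one]; exact rsub' hb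

theorem rone (a : ℕ) : 1 * s ^ a ≤ 1 * s ^ a := le_rfl

theorem radd (a : ℕ) : 1 * s ^ a ≤ 1 * (s ^ a + 1) := by omega

theorem rfin {c d x y : ℕ} (h : c * y ≤ d * x) (h1 : d ≤ 2 * c) (h0 : 0 < c) : y ≤ 2 * x :=
  Nat.le_of_mul_le_mul_left (h.trans ((Nat.mul_le_mul_right x h1).trans_eq (by ring))) h0

theorem umul {A x A' x' : ℕ} (h : x ≤ s ^ A) (h' : x' ≤ s ^ A') : x * x' ≤ s ^ (A + A') :=
  (Nat.mul_le_mul h h').trans_eq (pow_add _ _ _).symm

theorem usub (a : ℕ) : s ^ a - 1 ≤ s ^ a := Nat.sub_le _ _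

theorem upair' {x y : ℕ} (h : x ≤ y) : (x - 1) * (y + 1) ≤ x * y := by
  rw [Nat.sub_mul, Nat.mul_add, one_mul, mul_one]
  omega

theorem upair (hs : 1 ≤ s) {a b : ℕ} (h : a ≤ b) : (s ^ a - 1) * (s ^ b + 1) ≤ s ^ (a + b) :=
  (upair' (Nat.pow_le_pow_right hs h)).trans_eq (pow_add _ _ _).symm

theorem upair1 (hs : 1 ≤ s) {b : ℕ} (h : 1 ≤ b) : (s - 1) * (s ^ b + 1) ≤ s ^ (1 + b) := by
  simpa only [pow_one] using upair hs h

theorem upair2 (hs : 1 ≤ s) {x A a b : ℕ} (hx : x ≤ s ^ A) (h : a ≤ b) : x * (s ^ a - 1) * (s ^ b + 1) ≤ s ^ (A + (a + b)) :=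
  (mul_assoc _ _ _).trans_le (umul hx (upair hs h))

end num

end Au

open Au

section bridge

variable {m s : ℕ}

theorem oX_L (hm : 1 ≤ m) : (s - 1) * oX (.L m) s = oGL m s := by
  obtain ⟨m, rfl⟩ := Nat.exists_eq_add_of_le' hm
  change (s - 1) * (s ^ ((m + 1) * (m + 1 - 1) / 2) * ∏ i ∈ range m, (s ^ (i + 2) - 1)) = _
  rw [oGL, prod_range_succ', zero_add, pow_one]
  ring

theorem oX_U (hm : 1 ≤ m) : (s + 1) * oX (.U m) s = oGU m s := by
  obtain ⟨m, rfl⟩ := Nat.exists_eq_add_of_le' hm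
  change (s + 1) * (s ^ ((m + 1) * (m + 1 - 1) / 2) * ∏ i ∈ range m, if Even i then s ^ (i + 2) - 1 else s ^ (i + 2) + 1) = _
  rw [oGU, prod_range_succ', zero_add, pow_one, if_pos Even.zero, prod_congr rfl fun i _ =>
    show (if Even (i + 1) then s ^ (i + 1 + 1) + 1 else s ^ (i + 1 + 1) - 1) = if Even i then s ^ (i + 2) - 1 else s ^ (i + 2) + 1 by
      simp only [Nat.even_add_one, ite_not]]
  ring

theorem oX_C : oX (.C m) s = oSp m s := rfl

theorem oX_D : oX (.D m) s = oP m s := (mul_assoc _ _ _).symm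

theorem oX_DD : oX (.DD m) s = oM m s := (mul_assoc _ _ _).symm

end bridge

/-- **upper bound** -/
theorem oX_le {X : Art.Sh} {p f : ℕ} (h2 : 2 ≤ p ^ f) (h : Art.Ok X p f) : oX X (p ^ f) ≤ (p ^ f) ^ dX X := by
  generalize hs : p ^ f = s at h2
  have h1 : 1 ≤ s := by omega
  cases X with
  | L m =>
    have hm : 1 ≤ m := le_trans one_le_two h.1
    exact Nat.le_of_mul_le_mul_left ((oX_L hm).trans_le (oGL_le hm)) (by omega)
  | C m => exact oSp_le m s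
  | U m =>
    have hm : 1 ≤ m := le_trans (by norm_num) h.1
    exact Nat.le_of_mul_le_mul_left ((oX_U hm).trans_le (oGU_le h1 hm)) (by omega)
  | D m =>
    obtain ⟨m, rfl⟩ := Nat.exists_eq_add_of_le' (show 1 ≤ m from le_trans (by norm_num) h)
    exact oX_D.trans_le ((oP_le m s).trans_eq (congrArg _ (Nat.eq_sub_of_add_eq (by ring))))
  | DD m =>
    have hm : 4 ≤ m := h
    obtain ⟨m, rfl⟩ := Nat.exists_eq_add_of_le' (show 1 ≤ m by omega)
    exact oX_DD.trans_le ((oM_le h1 (by omega)).trans_eq (congrArg _ (Nat.eq_sub_of_add_eq (by ring))))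
  | G2 => exact umul le_rfl (umul (usub 2) (usub 6))
  | F4 => exact umul le_rfl (umul (umul (umul (usub 2) (usub 6)) (usub 8)) (usub 12))
  | E6 => exact umul le_rfl (umul (umul (umul (umul (umul (usub 2) (usub 5)) (usub 6)) (usub 8)) (usub 9)) (usub 12))
  | E7 => exact umul le_rfl (umul (umul (umul (umul (umul (umul (usub 2) (usub 6)) (usub 8)) (usub 10)) (usub 12)) (usub 14)) (usub 18))
  | E8 =>
    exact umul le_rfl (umul (umul (umul (umul (umul (umul (umul (usub 2) (usub 8)) (usub 12)) (usub 14)) (usub 18)) (usub 20))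
      (usub 24)) (usub 30))
  | TE6 => exact umul le_rfl (umul (upair2 h1 (umul (upair h1 (by norm_num)) (usub 6)) (by norm_num)) (usub 12))
  | TD4 =>
    change s ^ 12 * ((s ^ 2 - 1) * (s ^ 6 - 1) * (s ^ 8 + s ^ 4 + 1)) ≤ s ^ (12 + (6 + 10))
    refine umul le_rfl ?_
    rw [mul_comm (s ^ 2 - 1), mul_assoc]
    refine umul (usub 6) ?_
    have k1 : s ^ 2 ≤ s ^ 4 := Nat.pow_le_pow_right h1 (by norm_num)
    have k2 : s ^ 6 ≤ s ^ 8 := Nat.pow_le_pow_right h1 (by norm_num)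
    rw [Nat.sub_mul, one_mul, show s ^ 2 * (s ^ 8 + s ^ 4 + 1) = s ^ 10 + s ^ 6 + s ^ 2 by ring]
    omega
  | Sz => exact umul le_rfl (upair1 h1 (by norm_num))
  | Ree => exact umul le_rfl (upair1 h1 (by norm_num))
  | TF4 => exact umul le_rfl (upair2 h1 (upair1 h1 (by norm_num)) (by norm_num))

/-- **lower bound** -/
theorem oX_ge {X : Art.Sh} {p f : ℕ} (h2 : 2 ≤ p ^ f) (h : Art.Ok X p f) : (p ^ f) ^ dX X ≤ 2 * oX X (p ^ f) := by
  have h8 : p = 2 ∧ Odd f ∧ 3 ≤ f → 8 ≤ p ^ f := fun ⟨a, _, b⟩ => a ▸ Nat.pow_le_pow_right (n := 2) two_pos b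
  generalize hs : p ^ f = s at h2 h8
  have h1 : 1 ≤ s := by omega
  cases X with
  | L m =>
    have hm : 1 ≤ m := le_trans one_le_two h.1
    refine Nat.le_of_mul_le_mul_left (?_ : (s - 1) * _ ≤ _) (by omega)
    rw [mul_left_comm, oX_L hm]
    exact oGL_ge' h2 hm
  | C m => exact rfin (oSp_ge' h2 m) (by norm_num) two_pos
  | U m =>
    have hm : 3 ≤ m := h.1
    have k := oGU_ge h2 (show 2 ≤ m by omega)
    rw [← oX_U (by omega), mul_assoc] at k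
    have k1 := Nat.le_of_mul_le_mul_left k (by omega)
    have k2 := Nat.mul_le_mul_right (s ^ (m ^ 2 - 3)) (rsub h2 2)
    have k3 : 9 ≤ m ^ 2 := Nat.pow_le_pow_left hm 2
    rw [mul_assoc, mul_assoc, ← pow_add, show 2 + (m ^ 2 - 3) = m ^ 2 - 1 by omega] at k2
    exact rfin (k2.trans (Nat.mul_le_mul_left _ k1)) (by norm_num) (by norm_num)
  | D m =>
    have hm : 4 ≤ m := h
    obtain ⟨m, rfl⟩ := Nat.exists_eq_add_of_le' (show 1 ≤ m by omega)
    have k := oP_ge h2 (show 3 ≤ m by omega)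
    rw [← oX_D, show 2 * m ^ 2 + 3 * m + 1 = 2 * (m + 1) ^ 2 - (m + 1) from Nat.eq_sub_of_add_eq (by ring)] at k
    exact rfin k (by norm_num) (by norm_num)
  | DD m =>
    have hm : 4 ≤ m := h
    obtain ⟨m, rfl⟩ := Nat.exists_eq_add_of_le' (show 1 ≤ m by omega)
    have k := oM_ge h2 m
    rw [← oX_DD, show 2 * m ^ 2 + 3 * m + 1 = 2 * (m + 1) ^ 2 - (m + 1) from Nat.eq_sub_of_add_eq (by ring)] at k
    exact rfin k (by norm_num) (by norm_num)
  | G2 => exact rfin (rmul (rone 6) (rmul (rsub h2 2) (rsub h2 6))) (by norm_num) (by norm_num)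
  | F4 =>
    exact rfin (rmul (rone 24) (rmul (rmul (rmul (rsub h2 2) (rsub h2 6)) (rsub h2 8)) (rsub h2 12))) (by norm_num) (by norm_num)
  | E6 =>
    exact rfin (rmul (rone 36) (rmul (rmul (rmul (rmul (rmul (rsub h2 2) (rsub h2 5)) (rsub h2 6)) (rsub h2 8)) (rsub h2 9))
      (rsub h2 12))) (by norm_num) (by norm_num)
  | E7 =>
    exact rfin (rmul (rone 63) (rmul (rmul (rmul (rmul (rmul (rmul (rsub h2 2) (rsub h2 6)) (rsub h2 8)) (rsub h2 10)) (rsub h2 12))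
      (rsub h2 14)) (rsub h2 18))) (by norm_num) (by norm_num)
  | E8 =>
    exact rfin (rmul (rone 120) (rmul (rmul (rmul (rmul (rmul (rmul (rmul (rsub h2 2) (rsub h2 8)) (rsub h2 12)) (rsub h2 14))
      (rsub h2 18)) (rsub h2 20)) (rsub h2 24)) (rsub h2 30))) (by norm_num) (by norm_num)
  | TE6 =>
    exact rfin (rmul (rone 36) (rmul (rmul (rmul (rmul (rmul (rsub h2 2) (radd 5)) (rsub h2 6)) (rsub h2 8)) (radd 9))
      (rsub h2 12))) (by norm_num) (by norm_num)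
  | TD4 =>
    exact rfin (rmul (rone 12) (rmul (rmul (rsub h2 2) (rsub h2 6)) (show 1 * s ^ 8 ≤ 1 * (s ^ 8 + s ^ 4 + 1) by omega)))
      (by norm_num) (by norm_num)
  | Sz => exact rfin (rmul (rone 2) (rmul (rsub1 h2) (radd 2))) (by norm_num) (by norm_num)
  | Ree => exact rfin (rmul (rone 3) (rmul (rsub1 h2) (radd 3))) (by norm_num) (by norm_num)
  | TF4 =>
    exact rfin (rmul (rone 12) (rmul (rmul (rmul (rsub1 (h8 h)) (radd 3)) (rsub h2 4)) (radd 6))) (by norm_num) (by norm_num)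

/-! ### the exponent `f` -/

section expo

variable {p : ℕ}

theorem two_mul_le (hp : 2 ≤ p) (f : ℕ) : 2 * f ≤ p ^ f := by
  refine le_trans ?_ (Nat.pow_le_pow_left hp f)
  rcases f with _ | f
  · simp
  · rw [pow_succ']
    exact Nat.mul_le_mul_left 2 f.lt_two_pow_self

theorem mul_le_pow (hp : 2 ≤ p) (f : ℕ) : p * f ≤ p ^ f := by
  rcases f with _ | f
  · simp
  · rw [pow_succ']
    exact Nat.mul_le_mul_left p (Nat.lt_pow_self hp)

theorem sq_le_succ (hp : 2 ≤ p) (f : ℕ) : f ^ 2 ≤ p ^ f + 1 := by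
  refine le_trans ?_ (Nat.succ_le_succ (Nat.pow_le_pow_left hp f))
  by_cases h : f < 4
  · interval_cases f <;> norm_num
  · obtain ⟨k, rfl⟩ := Nat.exists_eq_add_of_le' (not_lt.1 h)
    clear h
    refine Nat.le_succ_of_le ?_
    induction k with
    | zero => norm_num
    | succ k ih =>
      rw [show k + 1 + 4 = k + 4 + 1 by ring, pow_succ 2]
      exact le_trans (Nat.le.intro (k := k ^ 2 + 6 * k + 7) (by ring)) (Nat.mul_le_mul_right 2 ih)

theorem cube_le (hp : 2 ≤ p) (f : ℕ) : f ^ 3 ≤ 4 * p ^ f := by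
  refine le_trans ?_ (Nat.mul_le_mul_left 4 (Nat.pow_le_pow_left hp f))
  by_cases h : f < 4
  · interval_cases f <;> norm_num
  · obtain ⟨k, rfl⟩ := Nat.exists_eq_add_of_le' (not_lt.1 h)
    clear h
    induction k with
    | zero => norm_num
    | succ k ih => rw [show k + 1 + 4 = k + 4 + 1 by ring, pow_succ 2]; nlinarith [Nat.zero_le (k ^ 3), Nat.zero_le (k ^ 2)]

end expo

/-! ### primitive primes -/

theorem Au.dvd_num {X : Art.Sh} {p f k r : ℕ} (h : Art.Ok X p f) (hD : PdX X k) (hr : r.Prime)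
    (ho : orderOf ((p : ℕ) : ZMod r) = f * k) (hfk : 1 ≤ f * k) : r ∣ Art.num X (p ^ f) := by
  have hs : ∀ j, k ∣ j → r ∣ (p ^ f) ^ j - 1 := fun j => (H370.Rg.dvd_q_pow_sub hr ho hfk j).2
  have hn : ∀ j a b, k ∣ j * a → ¬ k ∣ j → (p ^ f) ^ (j * a) - 1 = ((p ^ f) ^ j - 1) * b → r ∣ b := fun j a b h1 h2 h3 =>
    (hr.dvd_mul.1 (h3 ▸ hs _ h1)).resolve_left fun h4 => h2 ((H370.Rg.dvd_q_pow_sub hr ho hfk j).1 h4)
  have ha : ∀ j, k ∣ j * 2 → ¬ k ∣ j → r ∣ (p ^ f) ^ j + 1 := fun j h1 h2 =>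
    hn j 2 _ h1 h2 (by rw [pow_mul, mul_comm, ← Nat.sq_sub_sq, one_pow])
  have hC : ∀ m, 0 < k → k ≤ m ∨ (k % 2 = 0 ∧ k ≤ 2 * m) → r ∣ ∏ i ∈ range m, ((p ^ f) ^ (2 * (i + 1)) - 1) := by
    rintro m h0 (h1 | h1)
    · exact (hs _ ⟨2, by omega⟩).trans (dvd_prod_of_mem _ (mem_range.2 (show k - 1 < m by omega)))
    · exact (hs _ ⟨1, by omega⟩).trans (dvd_prod_of_mem _ (mem_range.2 (show k / 2 - 1 < m by omega)))
  cases X with
  | L m =>
    have hm : 2 ≤ m := h.1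
    obtain ⟨h0, h1, -⟩ := hD
    refine (hs (k - 2 + 2) ?_).trans (dvd_prod_of_mem (fun i => (p ^ f) ^ (i + 2) - 1) (mem_range.2 (show k - 2 < m - 1 by omega)))
    obtain rfl | h2 : k = 1 ∨ 2 ≤ k := by omega
    exacts [one_dvd _, ⟨1, by omega⟩]
  | C m => exact hC m hD.1 hD.2
  | U m =>
    have hm : 3 ≤ m := h.1
    have k1 : ∀ i, i + 2 ≤ m → r ∣ (if Even i then (p ^ f) ^ (i + 2) - 1 else (p ^ f) ^ (i + 2) + 1) → r ∣ Art.num (.U m) (p ^ f) :=
      fun i hi hd => hd.trans (dvd_prod_of_mem (fun i => if Even i then (p ^ f) ^ (i + 2) - 1 else (p ^ f) ^ (i + 2) + 1)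
        (mem_range.2 (show i < m - 1 by omega)))
    obtain ⟨h0, h1 | h1 | h1, -⟩ := hD
    · exact k1 (2 * k - 2) (by omega) (by rw [if_pos ⟨k - 1, by omega⟩]; exact hs _ ⟨2, by omega⟩)
    · exact k1 (k - 2) (by omega) (by rw [if_pos ⟨k / 2 - 1, by omega⟩]; exact hs _ ⟨1, by omega⟩)
    · obtain rfl | h2 : k = 2 ∨ 6 ≤ k := by omega
      · exact k1 0 (by omega) (by rw [if_pos Even.zero]; exact hs _ dvd_rfl)
      · refine k1 (k / 2 - 2) (by omega) ?_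
        rw [if_neg (Nat.not_even_iff.2 (by omega))]
        exact ha _ ⟨1, by omega⟩ fun h3 => absurd (Nat.le_of_dvd (by omega) h3) (by omega)
  | D m =>
    obtain ⟨h0, h1⟩ := hD
    by_cases h2 : k = m
    · exact (hs m (h2 ▸ dvd_rfl)).mul_right _
    · exact (hC (m - 1) h0 (by omega)).mul_left _
  | DD m =>
    obtain ⟨h0, h1⟩ := hD
    by_cases h2 : k = 2 * m
    · exact (ha m ⟨1, by omega⟩ fun h3 => absurd (Nat.le_of_dvd (by omega) h3) (by omega)).mul_right _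
    · exact (hC (m - 1) h0 (by omega)).mul_left _
  | G2 => exact (hs 6 hD).mul_left _
  | F4 =>
    rcases hD with h1 | h1
    exacts [((hs 8 h1).mul_left _).mul_right _, (hs 12 h1).mul_left _]
  | E6 =>
    rcases hD with h1 | h1 | h1 | h1
    exacts [(((((hs 5 h1).mul_left _).mul_right _).mul_right _).mul_right _).mul_right _,
      (((hs 8 h1).mul_left _).mul_right _).mul_right _, ((hs 9 h1).mul_left _).mul_right _, (hs 12 h1).mul_left _]
  | E7 =>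
    rcases hD with h1 | h1 | h1 | h1 | h1
    exacts [(((((hs 8 h1).mul_left _).mul_right _).mul_right _).mul_right _).mul_right _,
      ((((hs 10 h1).mul_left _).mul_right _).mul_right _).mul_right _, (((hs 12 h1).mul_left _).mul_right _).mul_right _,
      ((hs 14 h1).mul_left _).mul_right _, (hs 18 h1).mul_left _]
  | E8 =>
    rcases hD with h1 | h1 | h1 | h1 | h1
    exacts [(((((hs 14 h1).mul_left _).mul_right _).mul_right _).mul_right _).mul_right _,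
      ((((hs 18 h1).mul_left _).mul_right _).mul_right _).mul_right _, (((hs 20 h1).mul_left _).mul_right _).mul_right _,
      ((hs 24 h1).mul_left _).mul_right _, (hs 30 h1).mul_left _]
  | TE6 =>
    rcases hD with h1 | rfl | h1 | rfl
    exacts [(((hs 8 h1).mul_left _).mul_right _).mul_right _,
      (((((ha 5 dvd_rfl (by norm_num)).mul_left _).mul_right _).mul_right _).mul_right _).mul_right _,
      (hs 12 h1).mul_left _, ((ha 9 dvd_rfl (by norm_num)).mul_left _).mul_right _]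
  | TD4 =>
    rcases hD with h1 | rfl
    · exact ((hs 6 h1).mul_left _).mul_right _
    · refine (hn 4 3 ((p ^ f) ^ 8 + (p ^ f) ^ 4 + 1) dvd_rfl (by norm_num) ?_).mul_left _
      rw [Nat.sub_mul, one_mul, show (p ^ f) ^ 4 * ((p ^ f) ^ 8 + (p ^ f) ^ 4 + 1) =
        (p ^ f) ^ (4 * 3) + ((p ^ f) ^ 8 + (p ^ f) ^ 4) by ring]
      omega
  | Sz =>
    rcases hD with rfl | rfl
    exacts [Dvd.dvd.mul_right (by simpa only [pow_one] using hs 1 dvd_rfl) _, (ha 2 dvd_rfl (by norm_num)).mul_left _]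
  | Ree =>
    rcases hD with rfl | rfl | rfl
    exacts [Dvd.dvd.mul_right (by simpa only [pow_one] using hs 1 dvd_rfl) _, (ha 3 (by norm_num) (by norm_num)).mul_left _,
      (ha 3 dvd_rfl (by norm_num)).mul_left _]
  | TF4 =>
    rcases hD with h1 | rfl | rfl
    exacts [((hs 4 h1).mul_left _).mul_right _, (((ha 3 dvd_rfl (by norm_num)).mul_left _).mul_right _).mul_right _,
      (ha 6 dvd_rfl (by norm_num)).mul_left _]

theorem Au.five_le {p e r : ℕ} (hr : r.Prime) (ho : orderOf ((p : ℕ) : ZMod r) = e) (h3 : 3 ≤ e) : 5 ≤ r := by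
  have h1 := H370.Rg.lt_r (f := e) (k := 1) hr (by rw [ho, mul_one]) (by omega)
  have h2 : r ≠ 4 := by rintro rfl; exact absurd hr (by norm_num)
  omega

theorem Au.not_dvd_dd {X : Art.Sh} {p f k r : ℕ} (h : Art.Ok X p f) (hD : PdX X k) (hr : r.Prime)
    (ho : orderOf ((p : ℕ) : ZMod r) = f * k) (h3 : 3 ≤ f * k) : ¬ r ∣ Art.dd X (p ^ f) := by
  have h5 := five_le hr ho h3
  have hs : ∀ {a b : ℕ}, 0 < a → a ≤ 4 → ¬ r ∣ Nat.gcd a b := fun h0 h4 hd =>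
    absurd (Nat.le_of_dvd h0 (hd.trans (Nat.gcd_dvd_left _ _))) (by omega)
  have h1 : ¬ r ∣ 1 := fun hd => absurd (Nat.le_of_dvd one_pos hd) (by omega)
  cases X with
  | L m =>
    obtain ⟨h0, -, h2⟩ := hD
    by_cases h4 : k = 1
    · exact hs (lt_of_lt_of_le two_pos h.1) (h2 h4)
    · exact fun hd => H370.Rg.not_dvd_q_sub hr ho (by omega) (by omega) (hd.trans (Nat.gcd_dvd_right _ _))
  | U m =>
    obtain ⟨h0, -, h2⟩ := hD
    obtain rfl | rfl | h4 : k = 1 ∨ k = 2 ∨ 3 ≤ k := by omega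
    · intro hd
      have k1 := (H370.Rg.dvd_q_pow_sub hr ho (by omega) 1).2 dvd_rfl
      have k2 := Nat.dvd_sub (hd.trans (Nat.gcd_dvd_right _ _)) k1
      have k3 : 0 < p ^ f := pow_pos (Nat.pos_of_ne_zero fun e => H370.Rg.not_dvd_p hr ho (by omega) (by rw [e]; exact dvd_zero r)) f
      rw [pow_one, show p ^ f + 1 - (p ^ f - 1) = 2 by omega] at k2
      exact absurd (Nat.le_of_dvd two_pos k2) (by omega)
    · exact hs (lt_of_lt_of_le three_pos h.1) (h2 rfl)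
    · exact fun hd => H370.Rg.not_dvd_q_add hr ho (by omega) h4 (hd.trans (Nat.gcd_dvd_right _ _))
  | C m => exact hs two_pos (by norm_num)
  | D m => exact hs four_pos le_rfl
  | DD m => exact hs four_pos le_rfl
  | E6 => exact hs three_pos (by norm_num)
  | E7 => exact hs two_pos (by norm_num)
  | TE6 => exact hs three_pos (by norm_num)
  | _ => exact h1

namespace Nd

variable {X : Art.Sh} {p f : ℕ} {N : Type} [Group N] (D : Nd X p f N)

include D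

theorem two_le : 2 ≤ p ^ f := D.real.q_ge

theorem pos : 0 < Nat.card N := Nat.pos_of_ne_zero D.real.M_ne

theorem dd_pos : 0 < Art.dd X (p ^ f) := Nat.pos_of_ne_zero D.real.dd_ne

/-- the exact order -/
theorem card : Art.dd X (p ^ f) * Nat.card N = oX X (p ^ f) := D.real.eq

theorem aut' : Nat.card (MulAut N) = gX X p * f * Art.dd X (p ^ f) * Nat.card N := by rw [D.aut, ← D.card, mul_assoc (_ * f)]

theorem card_le' : Art.dd X (p ^ f) * Nat.card N ≤ (p ^ f) ^ dX X := D.card.trans_le (oX_le D.two_le D.real.ok)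

theorem card_le : Nat.card N ≤ (p ^ f) ^ dX X := (Nat.le_mul_of_pos_left _ D.dd_pos).trans D.card_le'

theorem card_ge : (p ^ f) ^ dX X ≤ 2 * (Art.dd X (p ^ f) * Nat.card N) := D.card ▸ oX_ge D.two_le D.real.ok

/-- **the order of the automorphism group** -/
theorem aut_le : Nat.card (MulAut N) ≤ gX X p * f * (p ^ f) ^ dX X :=
  D.aut.trans_le (Nat.mul_le_mul_left _ (oX_le D.two_le D.real.ok))

theorem aut_le' : p * Nat.card (MulAut N) ≤ gX X p * (p ^ f) ^ (dX X + 1) :=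
  calc _ ≤ p * (gX X p * f * (p ^ f) ^ dX X) := Nat.mul_le_mul_left _ D.aut_le
    _ = gX X p * (p * f * (p ^ f) ^ dX X) := by ring
    _ ≤ gX X p * (p ^ f * (p ^ f) ^ dX X) := by gcongr; exact mul_le_pow D.real.hp.two_le f
    _ = _ := by rw [pow_succ']

theorem aut_le_succ (h : gX X p ≤ p) : Nat.card (MulAut N) ≤ (p ^ f) ^ (dX X + 1) :=
  Nat.le_of_mul_le_mul_left (D.aut_le'.trans (Nat.mul_le_mul_right _ h)) D.real.hp.pos

theorem aut_pos : 0 < Nat.card (MulAut N) := by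
  rw [D.aut']
  exact Nat.mul_pos (Nat.mul_pos (Nat.mul_pos (Nat.pos_of_dvd_of_pos (gX_cases X p) (by norm_num)) D.real.hf) D.dd_pos) D.pos

variable {k r : ℕ}

theorem dvd_of_ord (hD : PdX X k) (hr : r.Prime) (ho : orderOf ((p : ℕ) : ZMod r) = f * k) (h3 : 3 ≤ f * k) : r ∣ Nat.card N :=
  D.real.dvd_of_dvd_num hr (not_dvd_dd D.real.ok hD hr ho h3) (dvd_num D.real.ok hD hr ho (by omega))

theorem not_dvd_of (hr : r.Prime) (h5 : 5 ≤ r) (h1 : ¬ r ∣ f) (h2 : ¬ r ∣ Art.dd X (p ^ f)) :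
    ¬ r * Nat.card N ∣ Nat.card (MulAut N) := fun h => by
  rw [D.aut'] at h
  rcases hr.dvd_mul.1 (Nat.dvd_of_mul_dvd_mul_right D.pos h) with h | h
  · rcases hr.dvd_mul.1 h with h | h
    · have h6 := h.trans (gX_cases X p)
      have := Nat.le_of_dvd (by norm_num) h6
      interval_cases r
      exacts [absurd h6 (by norm_num), absurd hr (by norm_num)]
    · exact h1 h
  · exact h2 h

theorem not_dvd_of_ord (hD : PdX X k) (hr : r.Prime) (ho : orderOf ((p : ℕ) : ZMod r) = f * k) (h3 : 3 ≤ f * k) :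
    ¬ r * Nat.card N ∣ Nat.card (MulAut N) :=
  D.not_dvd_of hr (five_le hr ho h3) (H370.Rg.not_dvd_f hr ho (by omega)) (not_dvd_dd D.real.ok hD hr ho h3)

/-- **primitive primes** -/
theorem ppd (hD : PdX X k) (h3 : 3 ≤ f * k) (h6 : ¬ (p = 2 ∧ f * k = 6)) :
    ∃ r, r.Prime ∧ orderOf ((p : ℕ) : ZMod r) = f * k ∧ f * k < r ∧ 5 ≤ r ∧ r ≠ p ∧ r ∣ Nat.card N ∧
      ¬ r * Nat.card N ∣ Nat.card (MulAut N) := by
  obtain ⟨r, hr, ho, h1, h2⟩ := H370.Rg.exists_rk D.real.hp h3 h6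
  exact ⟨r, hr, ho, h1, five_le hr ho h3, fun e => h2 (e ▸ dvd_rfl), D.dvd_of_ord hD hr ho h3, D.not_dvd_of_ord hD hr ho h3⟩

end Nd

/-! ### the classical orders in the notation of `oD`, `oI` -/

section nat

variable {m p f : ℕ} {N : Type} [Group N]

theorem Nd.ord_L (D : Nd (.L m) p f N) : oD .L m (p ^ f) * Nat.card N = oI .L m (p ^ f) := by
  change Nat.gcd m (p ^ f - 1) * (p ^ f - 1) * _ = oGL m (p ^ f)
  rw [← oX_L (le_trans one_le_two D.real.ok.1), ← D.card, mul_comm _ (p ^ f - 1), mul_assoc]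
  rfl

theorem Nd.ord_U (D : Nd (.U m) p f N) : oD .U m (p ^ f) * Nat.card N = oI .U m (p ^ f) := by
  change Nat.gcd m (p ^ f + 1) * (p ^ f + 1) * _ = oGU m (p ^ f)
  rw [← oX_U (le_trans (by norm_num) D.real.ok.1), ← D.card, mul_comm _ (p ^ f + 1), mul_assoc]
  rfl

theorem Nd.ord_S (D : Nd (.C m) p f N) : oD .S (2 * m) (p ^ f) * Nat.card N = oI .S (2 * m) (p ^ f) := by
  change Nat.gcd 2 (p ^ f - 1) * _ = oSp (2 * m / 2) (p ^ f)
  rw [Nat.mul_div_cancel_left _ two_pos]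
  exact D.card

theorem Nd.ord_O (D : Nd (.C m) p f N) (h : p ^ f % 2 = 1) : oD .O (2 * m + 1) (p ^ f) * Nat.card N = oI .O (2 * m + 1) (p ^ f) := by
  change 2 * _ = oSp ((2 * m + 1) / 2) (p ^ f)
  rw [show (2 * m + 1) / 2 = m by omega, ← oX_C, ← D.card]
  exact congrArg (· * _) (Nat.gcd_eq_left (show 2 ∣ p ^ f - 1 by omega)).symm

theorem Nd.ord_P (D : Nd (.D m) p f N) : oD .P (2 * m) (p ^ f) * Nat.card N = oI .P (2 * m) (p ^ f) := by
  change Nat.gcd 4 ((p ^ f) ^ (2 * m / 2) - 1) * _ = oP (2 * m / 2) (p ^ f)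
  rw [Nat.mul_div_cancel_left _ two_pos, ← oX_D]
  exact D.card

theorem Nd.ord_M (D : Nd (.DD m) p f N) : oD .M (2 * m) (p ^ f) * Nat.card N = oI .M (2 * m) (p ^ f) := by
  change Nat.gcd 4 ((p ^ f) ^ (2 * m / 2) + 1) * _ = oM (2 * m / 2) (p ^ f)
  rw [Nat.mul_div_cancel_left _ two_pos, ← oX_DD]
  exact D.card

end nat

/-! ### the families -/

theorem exists_f (E : Type) [Field E] [Fintype E] (p : ℕ) [CharP E p] : ∃ f, 1 ≤ f ∧ Fintype.card E = p ^ f := by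
  obtain ⟨f, -, h⟩ := FiniteField.card E p
  exact ⟨f, f.2, h⟩

theorem exists_f' (E : Type) [Field E] [Fintype E] {p : ℕ} (hp : p.Prime) [CharP E p] {s k : ℕ} (hk : k ≠ 0)
    (h : Fintype.card E = s ^ k) : ∃ f, 1 ≤ f ∧ s = p ^ f := by
  obtain ⟨g, hg, h1⟩ := exists_f E p
  obtain ⟨f, -, rfl⟩ := (Nat.dvd_prime_pow hp).1 (h1 ▸ h ▸ dvd_pow_self s hk : s ∣ p ^ g)
  refine ⟨f, Nat.pos_of_ne_zero ?_, rfl⟩
  rintro rfl
  rw [pow_zero, one_pow] at h
  exact Fintype.one_lt_card.ne' h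

section fam

variable {N : Type} [Group N] [Finite N] (hs : IsSimpleGroup N) (hna : ¬ IsMulCommutative N) {E : Type} [Field E] [Fintype E]
  {p f m : ℕ}

include hs hna

theorem Nd.of {g : OrdDiv.Grp} {X : Art.Sh} (hg : IsLie g X p f) (h : OrdDiv.Real g N) (hr : Art.Real X p f (Nat.card N)) :
    Nd X p f N :=
  ⟨hr, by
    rw [H889.Enum.card_aut (fun k => hna ⟨⟨k⟩⟩) hg h hr, ou_eq hr.hp hr.hf hr.ok, mul_assoc (_ * f), hr.eq]
    rfl⟩

theorem nd_Sz (hm : 1 ≤ m) (hE : Fintype.card E = 2 ^ (2 * m + 1)) (e : N ≃* Lie.Sz E (2 ^ (m + 1))) : Nd .Sz 2 (2 * m + 1) N :=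
  .of hs hna (.sz 2 _) ⟨E, _, _, m, hm, hE, rfl, ⟨e⟩⟩ ⟨Nat.prime_two, by omega, ⟨rfl, odd_two_mul_add_one m, by omega⟩, by
    rw [Nat.card_congr e.toEquiv, (S1163.result hm hE).1]
    exact (one_mul _).trans (mul_assoc _ _ _)⟩

theorem nd_Ree (hm : 1 ≤ m) (hE : Fintype.card E = 3 ^ (2 * m + 1)) (e : N ≃* Lie.twistedG2 E (3 ^ m)) : Nd .Ree 3 (2 * m + 1) N :=
  .of hs hna (.ree 3 _) ⟨E, _, _, m, hm, hE, rfl, ⟨e⟩⟩ ⟨Nat.prime_three, by omega, ⟨rfl, odd_two_mul_add_one m, by omega⟩, by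
    rw [Nat.card_congr e.toEquiv, S1069.result hE]
    exact (one_mul _).trans (mul_assoc _ _ _)⟩

theorem nd_2F4 (hm : 1 ≤ m) (hE : Fintype.card E = 2 ^ (2 * m + 1)) (e : N ≃* Lie.twistedF4 E (2 ^ m)) : Nd .TF4 2 (2 * m + 1) N :=
  .of hs hna (.tf4 2 _) ⟨E, _, _, m, hm, hE, rfl, ⟨e⟩⟩ ⟨Nat.prime_two, by omega, ⟨rfl, odd_two_mul_add_one m, by omega⟩, by
    rw [Nat.card_congr e.toEquiv, S1068.result hE]
    change 1 * _ = (2 ^ (2 * m + 1)) ^ 12 * (_ * _ * _ * _)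
    ring⟩

variable (hp : p.Prime) (hf : 1 ≤ f)

include hp hf

theorem nd_U (hE : Fintype.card E = (p ^ f) ^ 2) (hm : 3 ≤ m) (h : ¬ (m = 3 ∧ p ^ f = 2)) (e : N ≃* PSU m E (p ^ f)) :
    Nd (.U m) p f N :=
  .of hs hna (.psu m p f) ⟨E, _, _, hE, ⟨e⟩⟩ (Nat.card_congr e.toEquiv ▸ psu_real hp hf hE hm h)

theorem nd_2E6 (hE : Fintype.card E = (p ^ f) ^ 2) (e : N ≃* Lie.twistedE6 E (p ^ f)) : Nd .TE6 p f N :=
  .of hs hna (.te6 p f) ⟨E, _, _, hE, ⟨e⟩⟩ ⟨hp, hf, trivial, by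
    rw [Nat.card_congr e.toEquiv]
    change Nat.gcd 3 (p ^ f + 1) * _ = (p ^ f) ^ 36 * (_ * _ * _ * _ * _ * _)
    rw [S1066.result (hp.isPrimePow.pow (by omega)) hE]
    ring⟩

theorem nd_3D4 (hE : Fintype.card E = (p ^ f) ^ 3) (e : N ≃* Lie.twistedD4 E (p ^ f)) : Nd .TD4 p f N :=
  .of hs hna (.td4 p f) ⟨E, _, _, hE, ⟨e⟩⟩ ⟨hp, hf, trivial, by
    rw [Nat.card_congr e.toEquiv, S1067.result (hp.isPrimePow.pow (by omega)) hE]
    change 1 * _ = (p ^ f) ^ 12 * (_ * _ * _)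
    ring⟩

variable (hE : Fintype.card E = p ^ f)

include hE

theorem nd_A (hm : 2 ≤ m) (h : m = 2 → 4 ≤ Fintype.card E) (e : N ≃* Matrix.ProjectiveSpecialLinearGroup (Fin m) E) :
    Nd (.L m) p f N :=
  .of hs hna (.psl m p f) ⟨E, _, _, hE, ⟨e⟩⟩ (Nat.card_congr e.toEquiv ▸ psl_real hp hf hE hm (hE ▸ h))

theorem nd_C (hm : 2 ≤ m) (h : m = 2 → 3 ≤ Fintype.card E) (e : N ≃* PSp m E) : Nd (.C m) p f N :=
  .of hs hna (.psp m p f) ⟨E, _, _, hE, ⟨e⟩⟩ (Nat.card_congr e.toEquiv ▸ psp_real hp hf hE hm (hE ▸ h))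

theorem nd_B (hm : 3 ≤ m) (h : Odd (Fintype.card E)) (e : N ≃* POmega E (quadFormOdd m E)) : Nd (.C m) p f N :=
  .of hs hna (.oodd m p f hm (hE ▸ h)) ⟨E, _, _, hE, ⟨e⟩⟩ (Nat.card_congr e.toEquiv ▸ oodd_real hp hf hE hm (hE ▸ h))

theorem nd_D (hm : 4 ≤ m) (e : N ≃* POmega E (quadFormPlus m E)) : Nd (.D m) p f N :=
  .of hs hna (.oplus m p f) ⟨E, _, _, hE, ⟨e⟩⟩ (Nat.card_congr e.toEquiv ▸ oplus_real hp hf hE hm)

theorem nd_M (hm : 4 ≤ m) {a b : E} (h : ∀ z₁ z₂ : E, z₁ ^ 2 + a * z₁ * z₂ + b * z₂ ^ 2 = 0 → z₁ = 0 ∧ z₂ = 0)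
    (e : N ≃* POmega E (quadFormMinus (m - 1) E a b)) : Nd (.DD m) p f N :=
  .of hs hna (.ominus m p f) ⟨E, _, _, a, b, hE, h, ⟨e⟩⟩ (Nat.card_congr e.toEquiv ▸ ominus_real hp hf hE hm h)

theorem nd_G2 (h : 3 ≤ Fintype.card E) (e : N ≃* Lie.chevG2.group E) : Nd .G2 p f N :=
  .of hs hna (.g2 p f) ⟨E, _, _, hE, ⟨e⟩⟩ ⟨hp, hf, (hE ▸ h : 3 ≤ p ^ f), by
    rw [Nat.card_congr e.toEquiv, S1059.result hE]
    exact (one_mul _).trans (mul_assoc _ _ _)⟩

theorem nd_F4 (e : N ≃* Lie.chevF4.group E) : Nd .F4 p f N :=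
  .of hs hna (.f4 p f) ⟨E, _, _, hE, ⟨e⟩⟩ ⟨hp, hf, trivial, by
    rw [Nat.card_congr e.toEquiv, S1062.result hE]
    change 1 * _ = (p ^ f) ^ 24 * (_ * _ * _ * _)
    ring⟩

theorem nd_E6 (e : N ≃* Lie.chevE6.group E) : Nd .E6 p f N :=
  .of hs hna (.e6 p f) ⟨E, _, _, hE, ⟨e⟩⟩ ⟨hp, hf, trivial, by
    rw [Nat.card_congr e.toEquiv]
    change Nat.gcd 3 (p ^ f - 1) * _ = (p ^ f) ^ 36 * (_ * _ * _ * _ * _ * _)
    rw [S1063.result hE]
    ring⟩

theorem nd_E7 (e : N ≃* Lie.chevE7.group E) : Nd .E7 p f N :=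
  .of hs hna (.e7 p f) ⟨E, _, _, hE, ⟨e⟩⟩ ⟨hp, hf, trivial, by
    rw [Nat.card_congr e.toEquiv]
    change Nat.gcd 2 (p ^ f - 1) * _ = (p ^ f) ^ 63 * (_ * _ * _ * _ * _ * _ * _)
    rw [S1064.result hE]
    ring⟩

theorem nd_E8 (e : N ≃* Lie.chevE8.group E) : Nd .E8 p f N :=
  .of hs hna (.e8 p f) ⟨E, _, _, hE, ⟨e⟩⟩ ⟨hp, hf, trivial, by
    rw [Nat.card_congr e.toEquiv, S1065.result hE]
    change 1 * _ = (p ^ f) ^ 120 * (_ * _ * _ * _ * _ * _ * _ * _)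
    ring⟩

end fam

/-! ### the order of the Frobenius multiplier -/

theorem ord_pow {r p e a : ℕ} (ho : orderOf ((p : ℕ) : ZMod r) = e) (ha : a ≠ 0) :
    orderOf ((p ^ a : ℕ) : ZMod r) = e / Nat.gcd e a := by
  rw [Nat.cast_pow, orderOf_pow' _ ha, ho]

theorem ord_neg {R : Type*} [Ring R] {x : R} {e : ℕ} (ho : orderOf x = e) : orderOf (-x) ∣ 2 * e ∧ e ∣ 2 * orderOf (-x) := by
  have key : ∀ y : R, orderOf (-y) ∣ 2 * orderOf y := fun y =>
    orderOf_dvd_of_pow_eq_one (by rw [pow_mul, neg_sq, ← pow_mul, mul_comm, pow_mul, pow_orderOf_eq_one, one_pow])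
  exact ⟨ho ▸ key x, ho ▸ by simpa only [neg_neg] using key (-x)⟩

/-! ### consequences for `Md0` -/

section md

variable {t : Kd} {n q p T b : ℕ} {K : Type} [Field K] [Fintype K] {P : Subgroup (GL (Fin n) K)} {G : Prop} {c f : P → ℕ}

theorem Md0.q_ge (M : Md0 t q p T b P G c f) : 2 ≤ q := by
  obtain ⟨a, ha, rfl⟩ := M.pow
  exact M.prime.two_le.trans (Nat.le_self_pow ha.ne' p)

/-- the socle is not the whole group -/
theorem Md0.not_nat (M : Md0 t q p T b P G c f) (h : oD t n q * Nat.card (Soc P) = oI t n q) : False :=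
  M.lt.ne (Nat.eq_of_mul_eq_mul_left (oD_pos M.q_ge) (h.trans M.ord.symm))

variable {X : Art.Sh} {a : ℕ}

theorem Md0.b_le_aut (M : Md0 t q p T b P G c f) (D : Nd X p a (Soc P)) : b ≤ gX X p * a * oX X (p ^ a) :=
  D.aut ▸ Nat.le_of_dvd D.aut_pos M.ba

theorem Md0.b_le (M : Md0 t q p T b P G c f) (D : Nd X p a (Soc P)) : b ≤ gX X p * a * (p ^ a) ^ dX X :=
  (Nat.le_of_dvd D.aut_pos M.ba).trans D.aut_le

/-- elements of prime order lift if the prime does not divide the number of scalars -/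
theorem exists_lift {r : ℕ} (hr : r.Prime) (h : ¬ r ∣ Nat.card ((scalars (Fin n) K).subgroupOf P)) {g : Soc P} (hg : orderOf g = r) :
    ∃ u : P, toSoc P u = g ∧ orderOf u = r := by
  obtain ⟨v, rfl⟩ := toSoc_surjective P g
  have h0 : 0 < Nat.card ((scalars (Fin n) K).subgroupOf P) := Nat.card_pos
  generalize hz : Nat.card ((scalars (Fin n) K).subgroupOf P) = z at h h0
  have h1 : v ^ r ∈ (scalars (Fin n) K).subgroupOf P := by
    rw [← ker_toSoc, MonoidHom.mem_ker, map_pow, ← hg, pow_orderOf_eq_one]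
  have h2 : (v ^ r) ^ z = 1 := by
    rw [← hz]
    exact orderOf_dvd_iff_pow_eq_one.1 (Subgroup.orderOf_dvd_natCard _ h1)
  obtain ⟨j, -, hj⟩ := Nat.exists_mul_mod_eq_one_of_coprime ((Nat.Prime.coprime_iff_not_dvd hr).2 h).symm hr.one_lt
  have h3 : toSoc P (v ^ (z * j)) = toSoc P v := by
    rw [map_pow, ← pow_mod_orderOf, hg, hj, pow_one]
  refine ⟨v ^ (z * j), h3, Nat.dvd_antisymm (orderOf_dvd_of_pow_eq_one ?_) (hg ▸ h3 ▸ orderOf_map_dvd _ _)⟩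
  rw [← pow_mul, mul_comm, ← mul_assoc, pow_mul, pow_mul, h2, one_pow]

theorem not_dvd_scal (hC : Core P) {r : ℕ} (hr : r.Prime) (h : ¬ r ∣ n ∨ ¬ r ∣ Fintype.card K - 1) :
    ¬ r ∣ Nat.card ((scalars (Fin n) K).subgroupOf P) := fun hd => by
  have := Fact.mk hr
  obtain ⟨z, hz⟩ := exists_prime_orderOf_dvd_card' r hd
  rw [← Subgroup.orderOf_coe] at hz
  rcases h with h | h
  · have h1 := orderOf_dvd_of_pow_eq_one (hC.pow_card z.2)
    rw [Fintype.card_fin, hz] at h1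
    exact h h1
  · obtain ⟨x, hx⟩ : ((z : P) : GL (Fin n) K) ∈ scalars (Fin n) K := z.2
    refine h (hz ▸ orderOf_dvd_of_pow_eq_one (Subtype.ext ?_))
    rw [Subgroup.coe_pow, ← hx, ← map_pow, ← Nat.card_eq_fintype_card, ← Nat.card_units, pow_card_eq_one', map_one]
    rfl

/-- **an element of primitive prime order** -/
theorem Md0.ppd (M : Md0 t q p T b P G c f) (D : Nd X p a (Soc P)) {k : ℕ} (hD : PdX X k) (h3 : 3 ≤ a * k)
    (h6 : ¬ (p = 2 ∧ a * k = 6)) : ∃ (r : ℕ) (u : P), r.Prime ∧ orderOf ((p : ℕ) : ZMod r) = a * k ∧ a * k < r ∧ 5 ≤ r ∧ r ≠ p ∧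
      orderOf u = r ∧ r ∣ Nat.card (Soc P) ∧ ¬ r * Nat.card (Soc P) ∣ b := by
  obtain ⟨r, hr, h1, h2, h4, h5, h7, h8⟩ := D.ppd hD h3 h6
  have := Fact.mk hr
  obtain ⟨u, hu⟩ := exists_prime_orderOf_dvd_card' (G := P) r (h7.trans (Subgroup.card_quotient_dvd_card _))
  exact ⟨r, u, hr, h1, h2, h4, h5, hu, h7, fun h => h8 (h.trans M.ba)⟩

end md

end Cfsg.Agent.N2C.RD
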