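import Cfsg.Agent.N2.Cl.RX.Defs
import Cfsg.Agent.N2.Cl.Res.Base
import Cfsg.Agent.CTwoTab.Base

/-!
# N2 (S3519), class S with socle of Lie type in the defining characteristic: interface (helper69)

`Md` collects everything that the rows use of the ring frame, for the matrix group `P` of the lifts.
See `notes/N2/simdef.md`.
-/

set_option autoImplicit false

namespace Cfsg.Agent.N2C.RD

open Cfsg Cfsg.Geo Subgroup Cfsg.Agent.DS.Cl Cfsg.Agent.N2C.Cyc Cfsg.Agent.H915.LD Cfsg.Agent.N2C.RX Module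
open Cfsg.Agent.N2 (Cf)

section

variable {n : ℕ} {K : Type} [Field K]

/-- the dimension of the commutant -/
noncomputable def dm (u : GL (Fin n) K) : ℕ := finrank K (Subalgebra.centralizer K {(u : Matrix (Fin n) (Fin n) K)})

/-- the dimension of the eigenspace -/
noncomputable def ev (u : GL (Fin n) K) (a : K) : ℕ :=
  finrank K (Module.End.eigenspace (Matrix.toLin' (u : Matrix (Fin n) (Fin n) K)) a)

/-- the eigenvalues `1` and `-1` -/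
noncomputable def e2 (p : ℕ) (u : GL (Fin n) K) : ℕ := if p = 2 then ev u 1 else ev u 1 + ev u (-1)

end

/-- the centraliser of a cyclic isometry -/
def cb : Kd → ℕ → ℕ → ℕ
  | .L, n, q => q ^ n - 1
  | .U, n, q => (q + 1) ^ n
  | _, n, q => 4 * (q + 1) ^ (n / 2)

/-- semisimple elements: the exponent of `(q + 1) / q` -/
def kk : Kd → ℕ → ℕ
  | .L, _ => 0
  | .U, n => n
  | _, n => n / 2

/-- semisimple elements: the constant -/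
def k4 : Kd → ℕ
  | .L => 1
  | .U => 1
  | .S => 1
  | _ => 4

section

variable (t : Kd) {n : ℕ} (q p T b : ℕ) {K : Type} [Field K] [Fintype K] (P : Subgroup (GL (Fin n) K)) (G : Prop)
  (c f : P → ℕ)

/-- matrices of prime order; `μ i` is the multiplicity of the eigenvalue `ζ ^ i` -/
def SemiD : Prop := ∀ (r : ℕ) [Fact r.Prime] (u : P), r ≠ p → 2 < r → orderOf u = r →
  ∃ μ : ZMod r → ℕ, ∑ i, μ i = n ∧ μ 0 = ev (u : GL (Fin n) K) 1 ∧ dm (u : GL (Fin n) K) = ∑ i, μ i ^ 2 ∧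
    (∀ j : ℕ, IsConj u (u ^ j) → ∀ i, μ (j * i) = μ i) ∧
    (∀ i, μ ((fr t q : ℤ) * i) = μ i) ∧ (bil t → ∀ i, μ (-i) = μ i) ∧
    ∀ e z : ℕ, orderOf ((fr t q : ℤ) : ZMod r) = e → (Finset.univ.filter fun i => i ≠ 0 ∧ μ i ≠ 0).card = z →
      c u * zz t q * (q ^ eq t e) ^ nu t e z * q ^ dl t (μ 0) ≤
        ww t n q r * kp t (μ 0) * q ^ es t (dm (u : GL (Fin n) K)) (μ 0) * (q ^ eq t e + 1) ^ nu t e z *
          (q + 1) ^ dl t (μ 0)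

/-- elements of order prime to the characteristic; all elements of unitary groups -/
def SsD : Prop := ∀ u : P, t = .U ∨ (orderOf u).Coprime p →
  c u * zz t q * q ^ kk t n ≤
    Nat.gcd n (zz t q) * k4 t * q ^ es t (dm (u : GL (Fin n) K)) (e2 p (u : GL (Fin n) K)) * (q + 1) ^ kk t n

/-- `T` is the order of the simple classical group, `b` is the order of the point stabiliser, `G` is the goal, `c u` is
the order of the centraliser in the simple group of the image of `u`, `f u` is the number of its fixed points -/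
structure Md0 : Prop where
  cf : Cf
  prime : p.Prime
  char : CharP K p
  card : Fintype.card K = kq t q
  pow : ∃ a, 0 < a ∧ q = p ^ a
  dim : dimOk t n q
  ord : oD t n q * T = oI t n q
  core : Core P
  frm : Frm P t q
  ncj : t = .L → ∀ k, ¬ Cj P (p ^ k)
  lt : Nat.card (Soc P) < T
  nb : Nat.card (Soc P) ∣ b
  bt : b ∣ T
  ba : b ∣ Nat.card (MulAut (Soc P))
  bl : ∀ h : Core P, b ∣ Nat.card (H100.Ppd.conjSoc h.absIrred).range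
  good : ∀ u : P, f u ^ 3 * b ≤ T → G
  fc : ∀ u : P, f u ≤ c u
  fmod : ∀ (u : P) (r : ℕ), r.Prime → orderOf (toSoc P u) = r → f u ≡ T / b [MOD r]
  fsyl : ∀ (u : P) (r : ℕ), r.Prime → r ≠ p → ¬ r ∣ zz t q → orderOf u = r → ¬ r * Nat.card (Soc P) ∣ b →
    (∀ g : Soc P, orderOf g = r → ∃ j : ℕ, IsConj g (toSoc P u ^ j)) →
    f u * Nat.card (normalizer (zpowers (toSoc P u) : Set (Soc P))) * b ≤
      c u * (n - ev (u : GL (Fin n) K) 1) * Nat.card (Soc P)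
  scott : ∀ x : P, toSoc P x ≠ 1 → ∃ y : P,
    dm (x : GL (Fin n) K) + dm (y : GL (Fin n) K) + dm ((x * y : P) : GL (Fin n) K) ≤ n ^ 2 + 2
  small : ∃ u : P, dm (u : GL (Fin n) K) ≤ n ^ 2 / 4 + 1
  crude : ∀ u : P, (c u * zz t q) ^ 2 ≤ Nat.gcd n (zz t q) ^ 2 * q ^ ec t n (dm (u : GL (Fin n) K))
  cyc : ∀ u : P, (p = 2 → bil t → ev (u : GL (Fin n) K) 1 = 0) → n ≤ (minpoly K ((u : GL (Fin n) K) : Matrix (Fin n) (Fin n) K)).natDegree →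
    c u * zz t q ≤ Nat.gcd n (zz t q) * cb t n q

/-- all facts -/
structure Md : Prop extends Md0 t q p T b P G c f where
  semi : SemiD t q p P c
  ss : SsD t q p P c

end

/-- [Lnk] the matrix model of the ring frame -/
def BoxMd : Prop := Box fun _ _ _ t n q p F H N => ∃ (K : Type) (_ : Field K) (_ : Fintype K) (P : Subgroup (GL (Fin n) K))
  (c f : P → ℕ) (b : ℕ), Nonempty (Soc P ≃* N) ∧ Md t q p (Nat.card F.S) b P (Gd F H) c f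

/-- a family of groups in characteristic `p` -/
abbrev Fm : Type 1 := ℕ → ∀ (N : Type) [Group N], Prop

/-- a row -/
def Row (X : Fm) : Prop := ∀ (t : Kd) (n q p T b : ℕ) (K : Type) [Field K] [Fintype K] (P : Subgroup (GL (Fin n) K)) (G : Prop)
  (c f : P → ℕ), Md t q p T b P G c f → X p (Soc P) → G

/-- `L_m` -/
def fA (m : ℕ) : Fm := fun p N _ => ∃ (E : Type) (_ : Field E) (_ : Fintype E) (_ : CharP E p),
  (m = 2 → 4 ≤ Fintype.card E) ∧ Nonempty (N ≃* Matrix.ProjectiveSpecialLinearGroup (Fin m) E)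
/-- `U_m` -/
def fU (m : ℕ) : Fm := fun p N _ => ∃ (E : Type) (_ : Field E) (_ : Fintype E) (_ : CharP E p) (s : ℕ),
  Fintype.card E = s ^ 2 ∧ ¬ (m = 3 ∧ s = 2) ∧ Nonempty (N ≃* PSU m E s)
/-- `PSp_2m` -/
def fC (m : ℕ) : Fm := fun p N _ => ∃ (E : Type) (_ : Field E) (_ : Fintype E) (_ : CharP E p),
  (m = 2 → 3 ≤ Fintype.card E) ∧ Nonempty (N ≃* PSp m E)
/-- `Ω_(2m+1)` -/
def fB (m : ℕ) : Fm := fun p N _ => ∃ (E : Type) (_ : Field E) (_ : Fintype E) (_ : CharP E p),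
  Odd (Fintype.card E) ∧ Nonempty (N ≃* POmega E (quadFormOdd m E))
/-- `PΩ⁺_2m` -/
def fD (m : ℕ) : Fm := fun p N _ => ∃ (E : Type) (_ : Field E) (_ : Fintype E) (_ : CharP E p),
  Nonempty (N ≃* POmega E (quadFormPlus m E))
/-- `PΩ⁻_2m` -/
def fM (m : ℕ) : Fm := fun p N _ => ∃ (E : Type) (_ : Field E) (_ : Fintype E) (_ : CharP E p) (a b : E),
  (∀ z₁ z₂ : E, z₁ ^ 2 + a * z₁ * z₂ + b * z₂ ^ 2 = 0 → z₁ = 0 ∧ z₂ = 0) ∧
    Nonempty (N ≃* POmega E (quadFormMinus (m - 1) E a b))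
/-- exceptional Chevalley groups -/
def fX (D : Lie.ChevalleyDatum) (k : ℕ) : Fm := fun p N _ => ∃ (E : Type) (_ : Field E) (_ : Fintype E) (_ : CharP E p),
  k ≤ Fintype.card E ∧ Nonempty (N ≃* D.group E)
/-- `²E₆` -/
def f2E6 : Fm := fun p N _ => ∃ (E : Type) (_ : Field E) (_ : Fintype E) (_ : CharP E p) (s : ℕ), IsPrimePow s ∧
  Fintype.card E = s ^ 2 ∧ Nonempty (N ≃* Lie.twistedE6 E s)
/-- `³D₄` -/
def f3D4 : Fm := fun p N _ => ∃ (E : Type) (_ : Field E) (_ : Fintype E) (_ : CharP E p) (s : ℕ), IsPrimePow s ∧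
  Fintype.card E = s ^ 3 ∧ Nonempty (N ≃* Lie.twistedD4 E s)
def fSz : Fm := fun p N _ => p = 2 ∧ Lie.IsoSuzuki N
def f2F4 : Fm := fun p N _ => p = 2 ∧ Lie.Iso2F4 N
def fRee : Fm := fun p N _ => p = 3 ∧ Lie.IsoRee N

/-- the rows -/
structure Rows : Prop where
  a1 : Row (fA 2)
  a2 : Row (fA 3)
  a3 : Row (fA 4)
  a : ∀ m, 5 ≤ m → Row (fA m)
  u3 : Row (fU 3)
  u4 : Row (fU 4)
  u5 : Row (fU 5)
  u : ∀ m, 6 ≤ m → Row (fU m)
  c2 : Row (fC 2)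
  c3 : Row (fC 3)
  c : ∀ m, 4 ≤ m → Row (fC m)
  b3 : Row (fB 3)
  b : ∀ m, 4 ≤ m → Row (fB m)
  d4 : Row (fD 4)
  d : ∀ m, 5 ≤ m → Row (fD m)
  m4 : Row (fM 4)
  m : ∀ m, 5 ≤ m → Row (fM m)
  g2 : Row (fX Lie.chevG2 3)
  f4 : Row (fX Lie.chevF4 0)
  e6 : Row (fX Lie.chevE6 0)
  e7 : Row (fX Lie.chevE7 0)
  e8 : Row (fX Lie.chevE8 0)
  te6 : Row f2E6
  td4 : Row f3D4
  sz : Row fSz
  tf4 : Row f2F4
  ree : Row fRee

theorem Rows.all (R : Rows) : Row fun p N _ => IsLieTypeChar p N := by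
  intro t n q p T b K _ _ P G c f M h
  rcases h with ⟨E, _, _, _, m, h2, h4, e⟩ | ⟨E, _, _, _, m, h2, h4, e⟩ | ⟨E, _, _, _, m, s, hs, h3, h4, e⟩ |
    ⟨E, _, _, _, m, h3, ho, e⟩ | ⟨E, _, _, _, m, h4, e⟩ | ⟨E, _, _, _, m, x, y, h4, ha, e⟩ | ⟨E, _, _, _, h⟩ |
    ⟨E, _, _, _, s, hs, h⟩ | h | h | h
  · have k : fA m p (Soc P) := ⟨E, _, ‹_›, ‹_›, h4, e⟩
    by_cases h5 : 5 ≤ m
    · exact R.a m h5 _ _ _ _ _ _ _ _ _ _ _ M k
    obtain rfl | rfl | rfl : m = 2 ∨ m = 3 ∨ m = 4 := by omega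
    exacts [R.a1 _ _ _ _ _ _ _ _ _ _ _ M k, R.a2 _ _ _ _ _ _ _ _ _ _ _ M k, R.a3 _ _ _ _ _ _ _ _ _ _ _ M k]
  · have k : fC m p (Soc P) := ⟨E, _, ‹_›, ‹_›, h4, e⟩
    by_cases h5 : 4 ≤ m
    · exact R.c m h5 _ _ _ _ _ _ _ _ _ _ _ M k
    obtain rfl | rfl : m = 2 ∨ m = 3 := by omega
    exacts [R.c2 _ _ _ _ _ _ _ _ _ _ _ M k, R.c3 _ _ _ _ _ _ _ _ _ _ _ M k]
  · have k : fU m p (Soc P) := ⟨E, _, ‹_›, ‹_›, s, hs, h4, e⟩
    by_cases h5 : 6 ≤ m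
    · exact R.u m h5 _ _ _ _ _ _ _ _ _ _ _ M k
    obtain rfl | rfl | rfl : m = 3 ∨ m = 4 ∨ m = 5 := by omega
    exacts [R.u3 _ _ _ _ _ _ _ _ _ _ _ M k, R.u4 _ _ _ _ _ _ _ _ _ _ _ M k, R.u5 _ _ _ _ _ _ _ _ _ _ _ M k]
  · have k : fB m p (Soc P) := ⟨E, _, ‹_›, ‹_›, ho, e⟩
    by_cases h5 : 4 ≤ m
    · exact R.b m h5 _ _ _ _ _ _ _ _ _ _ _ M k
    obtain rfl : m = 3 := by omega
    exact R.b3 _ _ _ _ _ _ _ _ _ _ _ M k
  · have k : fD m p (Soc P) := ⟨E, _, ‹_›, ‹_›, e⟩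
    by_cases h5 : 5 ≤ m
    · exact R.d m h5 _ _ _ _ _ _ _ _ _ _ _ M k
    obtain rfl : m = 4 := by omega
    exact R.d4 _ _ _ _ _ _ _ _ _ _ _ M k
  · have k : fM m p (Soc P) := ⟨E, _, ‹_›, ‹_›, x, y, ha, e⟩
    by_cases h5 : 5 ≤ m
    · exact R.m m h5 _ _ _ _ _ _ _ _ _ _ _ M k
    obtain rfl : m = 4 := by omega
    exact R.m4 _ _ _ _ _ _ _ _ _ _ _ M k
  · rcases h with ⟨h, e⟩ | e | e | e | e
    exacts [R.g2 _ _ _ _ _ _ _ _ _ _ _ M ⟨E, _, ‹_›, ‹_›, h, e⟩, R.f4 _ _ _ _ _ _ _ _ _ _ _ M ⟨E, _, ‹_›, ‹_›, Nat.zero_le _, e⟩,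
      R.e6 _ _ _ _ _ _ _ _ _ _ _ M ⟨E, _, ‹_›, ‹_›, Nat.zero_le _, e⟩,
      R.e7 _ _ _ _ _ _ _ _ _ _ _ M ⟨E, _, ‹_›, ‹_›, Nat.zero_le _, e⟩,
      R.e8 _ _ _ _ _ _ _ _ _ _ _ M ⟨E, _, ‹_›, ‹_›, Nat.zero_le _, e⟩]
  · rcases h with ⟨h, e⟩ | ⟨h, e⟩
    exacts [R.te6 _ _ _ _ _ _ _ _ _ _ _ M ⟨E, _, ‹_›, ‹_›, s, hs, h, e⟩, R.td4 _ _ _ _ _ _ _ _ _ _ _ M ⟨E, _, ‹_›, ‹_›, s, hs, h, e⟩]
  exacts [R.sz _ _ _ _ _ _ _ _ _ _ _ M h, R.tf4 _ _ _ _ _ _ _ _ _ _ _ M h, R.ree _ _ _ _ _ _ _ _ _ _ _ M h]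

/-- **assembly** -/
theorem on_of (b0 : BoxMd) (R : Rows) : On (pRes qDef) := by
  have key : ∀ {t : Kd} {n q p T : ℕ} {N : Type} [Group N] {G : Prop}, IsLieTypeChar p N →
      (∃ (K : Type) (_ : Field K) (_ : Fintype K) (P : Subgroup (GL (Fin n) K)) (c f : P → ℕ) (b : ℕ),
        Nonempty (Soc P ≃* N) ∧ Md t q p T b P G c f) → G := by
    rintro t n q p T N _ G h ⟨K, _, _, P, c, f, b, ⟨e⟩, M⟩
    exact R.all _ _ _ _ _ _ _ _ _ _ _ M (CTwoTab.isLieTypeChar_congr e.symm h)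
  refine ⟨fun K _ _ n F H p k hn c ⟨_, _, N, r, hQ⟩ => ?_, fun K V _ _ _ _ _ f F q H p k hn c ⟨_, _, N, r, hQ⟩ => ?_,
    fun K V _ _ _ _ _ f F j H p k hn c ⟨_, _, N, r, hQ⟩ => ?_, fun K V _ _ _ _ _ f F Q' H p k c ⟨_, _, N, r, hQ⟩ => ?_⟩ <;>
    rw [c.ringChar_eq] at hQ
  · exact key hQ (b0.l K n F H N p k hn c r)
  · exact key hQ (b0.u K V f F q H N p k hn c r)
  · exact key hQ (b0.s K V f F j H N p k hn c r)
  · have h7 := k.dim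
    obtain ⟨t, h1, h2, h3⟩ : ∃ t, (t = .O ∨ t = .P ∨ t = .M) ∧ dimOk t (Module.finrank K V) (Fintype.card K) ∧
        oD t (Module.finrank K V) (Fintype.card K) * Nat.card F.S = oI t (Module.finrank K V) (Fintype.card K) := by
      rcases card_S_O k with ⟨m, h1, h2, h3⟩ | ⟨m, h1, -, h3⟩ | ⟨m, h1, -, h3⟩
      · exact ⟨.O, Or.inl rfl, ⟨h7, by omega, Nat.odd_iff.1 h2⟩, by
          rw [oD, oI, show Module.finrank K V / 2 = m by omega]; exact h3⟩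
      · exact ⟨.P, Or.inr (Or.inl rfl), ⟨by omega, by omega⟩, by
          rw [oD, oI, show Module.finrank K V / 2 = m by omega]; exact h3⟩
      · exact ⟨.M, Or.inr (Or.inr rfl), ⟨by omega, by omega⟩, by
          rw [oD, oI, show Module.finrank K V / 2 = m by omega]; exact h3⟩
    exact key hQ (b0.o K V f F Q' H N p t k c r h1 h2 h3)

end Cfsg.Agent.N2C.RD
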