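import Cfsg.Agent.N2.Cl.RD.A3Tor
import Cfsg.Agent.N2.Cl.RD.Crit
import Cfsg.Agent.H650.Ppd.Psl
import Cfsg.Agent.H887.DS.SixFive
import Cfsg.Agent.H887.DS.Twelve
import Cfsg.Agent.H911.AdAltIrr

/-!
# N2 (S3519), defining characteristic: the rows `L_m`, `m ≥ 4` (helper89)
-/

set_option autoImplicit false
set_option linter.unusedSectionVars false

namespace Cfsg.Agent.N2C.RD.A3

open Matrix CoxeterSystem Cfsg.Agent.ChevalleyStructure.CoxeterGeom Cfsg.Agent.Tits.Roots Cfsg.Agent.Tits.Core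
  Cfsg.Agent.Nodes.Reps Cfsg.Agent.Nodes.BNOf Cfsg.Agent.Nodes.Bruhat Cfsg.Agent.Nodes.LeviDec
  Cfsg.Agent.Omega.CR Cfsg.Agent.Omega.FOne.Lift.Sd Cfsg.Agent.H905.Md Cfsg.Agent.Nodes.RootsA Module
open Cfsg Cfsg.Geo Cfsg.Agent.H902 Cfsg.Agent.N2C.RX Cfsg.Agent.H915.LD Cfsg.Agent.H887.DS
open Cfsg.Agent.H911 (lin)
open Cfsg.Agent.LieRecognition.BNCox (cA)
open Cfsg.Agent.H650.Ppd (edge_pow_of_card dim_ge_list dim_ge_list_two card_ge_A arith_A two_pow_bound)

theorem exists_r {q : ℕ} (hq : 2 ≤ q) : ∃ r, r.Prime ∧ r ≠ 2 ∧ r ≠ 3 ∧ r ∣ q ^ 2 + q + 1 := by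
  obtain ⟨x, h0, h1⟩ : ∃ x, x ≠ 0 ∧ 3 * x + 1 ∣ q ^ 2 + q + 1 := by
    obtain ⟨k, rfl | rfl | rfl⟩ : ∃ k, q = 3 * k ∨ q = 3 * k + 1 ∨ q = 3 * k + 2 := ⟨q / 3, by omega⟩
    exacts [⟨3 * k ^ 2 + k, by omega, 1, by ring⟩, ⟨k ^ 2 + k, by omega, 3, by ring⟩, ⟨3 * k ^ 2 + 5 * k + 2, by omega, 1, by ring⟩]
  obtain ⟨r, hr, h2⟩ := Nat.exists_prime_and_dvd (n := 3 * x + 1) (by omega)
  refine ⟨r, hr, ?_, by rintro rfl; omega, h2.trans h1⟩
  rintro rfl
  have h3 := h2.trans h1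
  have h4 := (Nat.even_mul_succ_self q).two_dvd
  rw [show q ^ 2 + q + 1 = q * (q + 1) + 1 by ring] at h3
  omega

theorem flg_ge (l i j : ℕ) : (l + 1).choose (j + 1) * (j + 1).choose (i + 1) ≤ Fintype.card (Flg l i j) := by
  refine le_trans (le_of_eq ?_) (Fintype.card_le_of_injective
    (fun x : ((Finset.univ : Finset (Fin (l + 1))).powersetCard (j + 1)).sigma fun S => S.powersetCard (i + 1) =>
      (⟨(x.1.2, x.1.1), (Finset.mem_powersetCard.1 (Finset.mem_sigma.1 x.2).2).1,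
        (Finset.mem_powersetCard.1 (Finset.mem_sigma.1 x.2).2).2, (Finset.mem_powersetCard.1 (Finset.mem_sigma.1 x.2).1).2⟩ :
        Flg l i j)) ?_)
  · rw [Fintype.card_coe, Finset.card_sigma, Finset.sum_congr rfl fun S hS => (Finset.card_powersetCard _ S).trans
      (by rw [(Finset.mem_powersetCard.1 hS).2])]
    simp
  · rintro ⟨⟨x, y⟩, _⟩ ⟨⟨x', y'⟩, _⟩ k
    obtain ⟨rfl, rfl⟩ : y = y' ∧ x = x' := by simpa using k
    rfl

theorem two_choose (l : ℕ) : 2 * (l + 1).choose 2 = (l + 1) * l := by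
  rw [Nat.choose_two_right, Nat.add_sub_cancel, Nat.mul_div_cancel' (mul_comm l _ ▸ (Nat.even_mul_succ_self l).two_dvd)]

variable {t : Kd} {n q p T b : ℕ} {K : Type} [Field K] [Fintype K] {P : Subgroup (GL (Fin n) K)} {G : Prop} {c f : P → ℕ}

theorem p6 (M : Md0 t q p T b P G c f) (ht : t ≠ .L) {r : ℕ} (hr : r.Prime) (h2 : r ≠ 2) (h3 : r ≠ 3) (hd : r ∣ q ^ 2 + q + 1)
    (hrp : r ≠ p) {u : P} (hu : u ^ r = 1) : 6 * dm (u : GL (Fin n) K) ≤ 6 * ev (u : GL (Fin n) K) 1 ^ 2 +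
      (n - ev (u : GL (Fin n) K) 1) ^ 2 ∧ 6 ∣ n - ev (u : GL (Fin n) K) 1 := by
  have := Fact.mk hr
  have := M.char
  obtain ⟨μ, D⟩ := exists_muD M.core M.prime ((Nat.coprime_primes hr M.prime).2 hrp) hu
  obtain ⟨h4, h5⟩ := D.fr M
  have key : ∀ i, μ (-(q : ZMod r) * i) = μ i := fun i => by
    cases t
    · exact absurd rfl ht
    · simpa [fr] using h4 i
    all_goals
      rw [neg_mul, h5 trivial]
      simpa [fr] using h4 i
  have hx : (q : ZMod r) ^ 2 + q + 1 = 0 := by exact_mod_cast (ZMod.natCast_eq_zero_iff _ r).2 hd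
  have k : ∀ s : ℕ, s.Prime → r ≠ s → (s : ZMod r) ≠ 0 := fun s hs h e =>
    h ((Nat.prime_dvd_prime_iff_eq hr hs).1 ((ZMod.natCast_eq_zero_iff _ r).1 e))
  have k2 : (2 : ZMod r) ≠ 0 := by exact_mod_cast k 2 Nat.prime_two h2
  have k3 : (3 : ZMod r) ≠ 0 := by exact_mod_cast k 3 Nat.prime_three h3
  let g : (ZMod r)ˣ := Units.mk0 (-(q : ZMod r)) (by grind)
  have hg : orderOf g = 6 := by
    rw [← orderOf_units, Units.val_mk0, orderOf_eq_iff (by omega)]
    refine ⟨by grind, fun m h6 h0 => ?_⟩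
    interval_cases m <;> grind
  have h6 := D.free (Γ := Subgroup.zpowers g) (Subgroup.zpowers_le.2 key) fun g _ i hi _ e =>
    Units.ext (mul_right_cancel₀ hi (e.trans (one_mul i).symm))
  rwa [Nat.card_zpowers, hg] at h6

variable {E : Type} [Field E] [Fintype E] {l : ℕ}

/-- the support -/
abbrev JJ (φ : SpecialLinearGroup (Fin (l + 1)) E →* GL (Fin n) K) : Set (Fin l) :=
  Jx (cA l).toCoxeterSystem (isCartan l) (Nodes.RGDTypeA.X E) (lin (acRep φ))

/-- the interior of an edge -/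
noncomputable abbrev II (φ : SpecialLinearGroup (Fin (l + 1)) E →* GL (Fin n) K) (i : Fin l) : ℕ := finrank (AlgebraicClosure K)
  (Io (cA l).toCoxeterSystem (isCartan l) (Nodes.RGDTypeA.T (Fin (l + 1)) E) (Nodes.RGDTypeA.X E) (lin (acRep φ)) i)

variable (t q p T b P G c f) in
/-- the data -/
structure Cx (j : ℕ) (φ : SpecialLinearGroup (Fin (l + 1)) E →* GL (Fin n) K) : Prop where
  M : Md0 t q p T b P G c f
  nd : ∃ a, Fintype.card E = p ^ a ∧ Nd (.L (l + 1)) p a (Soc P)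
  iso : Nonempty (Soc P ≃* ProjectiveSpecialLinearGroup (Fin (l + 1)) E)
  card : Nat.card E = Nat.card K ^ j
  pos : 1 ≤ j
  range : φ.range = P
  three : 3 ≤ l

namespace Cx

variable {j : ℕ} {φ : SpecialLinearGroup (Fin (l + 1)) E →* GL (Fin n) K} (X : Cx t q p T b P G c f j φ)
include X

theorem ex : ∃ a, Nd (.L (l + 1)) p a (Soc P) ∧ p ^ a ≤ Fintype.card K ^ j ∧ 16 * gX (.L (l + 1)) p ^ 2 ≤ 2 ^ 6 ∧
    dX (.L (l + 1)) + 1 = (l + 1) ^ 2 := by
  obtain ⟨a, h1, h2⟩ := X.nd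
  refine ⟨a, h2, by rw [← h1, ← Nat.card_eq_fintype_card, X.card, Nat.card_eq_fintype_card], ?_,
    Nat.sub_add_cancel (Nat.one_le_pow _ _ l.succ_pos)⟩
  rw [gX, if_neg (by have := X.three; omega)]
  norm_num

theorem cD (u : P) {D : ℕ} (hu : dm (u : GL (Fin n) K) ≤ D) (h : 4 * n + 3 * D + 2 * (j * (l + 1) ^ 2) + 6 ≤ n ^ 2) : G := by
  obtain ⟨a, N, h1, h2, h3⟩ := X.ex
  exact X.M.ct_dm N h1 h2 u hu (by rwa [h3])

theorem cS (h : 4 * n + 3 * (n ^ 2 / 4 + 1) + 2 * (j * (l + 1) ^ 2) + 6 ≤ n ^ 2) : G := by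
  obtain ⟨u, hu⟩ := X.M.small
  exact X.cD u hu h

theorem big1 (h : 30 ≤ n) (h' : j * ((l + 1) * l) ≤ n) : G := by
  refine X.cS ?_
  have h1 : 14 * n + 16 * n ≤ n ^ 2 := by nlinarith
  have h2 : 8 * (l + 1) ^ 2 + 36 ≤ 14 * ((l + 1) * l) := by nlinarith [X.three]
  have h3 : 8 * (j * (l + 1) ^ 2) + 36 ≤ 14 * (j * ((l + 1) * l)) := by nlinarith [X.pos]
  omega

theorem big2 (h : 45 ≤ n) (h' : j * ((l + 1) * l) ≤ 2 * n) : G := by
  refine X.cS ?_
  have h1 : 29 * n + 16 * n ≤ n ^ 2 := by nlinarith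
  have h2 : 8 * (l + 1) ^ 2 + 36 ≤ 14 * ((l + 1) * l) := by nlinarith [X.three]
  have h3 : 8 * (j * (l + 1) ^ 2) + 36 ≤ 14 * (j * ((l + 1) * l)) := by nlinarith [X.pos]
  omega

theorem cL (ht : t = .L) (u : P) {D : ℕ} (hu : dm (u : GL (Fin n) K) ≤ D)
    (h : 6 * D + 2 * (j * (l + 1) ^ 2) + 12 ≤ 2 * n ^ 2) : G := by
  subst ht
  obtain ⟨a, N, h1, h2, h3⟩ := X.ex
  rw [X.M.card] at h1
  exact X.M.ct_e N (e := j) h1 h2 u hu (show 3 * (2 * D) + _ + _ ≤ 2 * n ^ 2 - 6 by rw [h3]; omega)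

theorem cL' (ht : t = .L) (h : 4 * (j * (l + 1) ^ 2) + 36 ≤ n ^ 2) : G := by
  obtain ⟨u, hu⟩ := X.M.small
  exact X.cL ht u hu (by omega)

variable [hp : Fact p.Prime] [CharP K p] [CharP E p] [Finite (cA l).Group] [Nonempty (Fin n)]

omit X in
theorem R : RGD (cA l).toCoxeterSystem (isCartan l) p (Nodes.RGDTypeA.T (Fin (l + 1)) E) (Nodes.RGDTypeA.ns l E)
    (Nodes.RGDTypeA.X E) := Nodes.RGDTypeA.rgd _ _

omit X in
theorem hG : GG (cA l).toCoxeterSystem (isCartan l) (Nodes.RGDTypeA.T (Fin (l + 1)) E) (Nodes.RGDTypeA.X E) = ⊤ :=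
  gg_eq_top (Nodes.RGDTypeA.G1_eq_top _ _)

theorem irr (L : Submodule (AlgebraicClosure K) (Fin n → AlgebraicClosure K)) (hL : Ivt (lin (acRep φ))
    (GG (cA l).toCoxeterSystem (isCartan l) (Nodes.RGDTypeA.T (Fin (l + 1)) E) (Nodes.RGDTypeA.X E)) L) : L = ⊥ ∨ L = ⊤ :=
  ac_irr (R (p := p)) hG slT_comm X.range X.M.core.absIrred L hL

theorem hD : finrank (AlgebraicClosure K) (D (cA l).toCoxeterSystem (isCartan l) (Nodes.RGDTypeA.X E) (lin (acRep φ))) = 1 :=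
  finrank_D (R (p := p)) X.irr slT_comm

theorem le_II (i : Fin l) : finrank (AlgebraicClosure K) (Le (cA l).toCoxeterSystem (isCartan l)
    (Nodes.RGDTypeA.T (Fin (l + 1)) E) (Nodes.RGDTypeA.X E) (lin (acRep φ)) {i}) ≤ II φ i + 2 := by
  simpa only [X.hD] using finrank_Io (R (p := p)) X.irr i

theorem io {i : Fin l} (hi : i ∉ JJ φ) : j ≤ II φ i + 1 ∧ (2 ≤ j → 2 * j ≤ II φ i + 2) := by
  obtain ⟨d, h1, h2⟩ := edge_pow_of_card (R (p := p)) hG slT_comm X.range X.M.core.absIrred (H650.Ppd.nd_A i) hi X.card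
  have h3 := (Nat.pow_le_pow_left h1 j).trans (h2 ▸ X.le_II i)
  exact ⟨by have := Nat.lt_two_pow_self (n := j); omega, fun h => (two_pow_bound h).trans h3⟩

theorem opp (ht : t ≠ .L) (i : Fin l) : i ∈ JJ φ ↔ i.rev ∈ JJ φ := by
  obtain ⟨w, hw⟩ := exists_rep_perm (cs := (cA l).toCoxeterSystem) (h := isCartan l) Fin.revPerm
  refine X.M.ct_opp ht R hG slT_comm X.range (w := w) (τ := Fin.revPerm) (fun i => ?_) i
  rw [← rtA_sr, hw, ← rtA_sr, rtA_neg]
  simp [Fin.rev_castSucc, Fin.rev_succ]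

theorem ex_node : ∃ i, i ∉ JJ φ := exists_not_mem (R (p := p)) X.irr (by
  have := five_le X.M.dim
  rw [X.hD, finrank_fin_fun]
  omega)

theorem one {i : Fin l} (hi : i ∉ JJ φ) : (l + 1).choose (i + 1) + (l + 1).choose 2 * II φ i ≤ n := by
  simpa only [X.hD, mul_one, finrank_fin_fun] using dim_ge_A (R (p := p)) X.irr hi

theorem one_le {i : Fin l} (hi : i ∉ JJ φ) (hJ : ∀ k, k ∉ JJ φ → k = i) (h0 : II φ i = 0) : n ≤ (l + 1).choose (i + 1) := by
  simpa only [X.hD, mul_one, finrank_fin_fun] using dim_le_A (R (p := p)) X.irr hi hJ (by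
    have := X.le_II i
    rw [X.hD]
    omega)

theorem two {i k : Fin l} (h : i.val < k.val) (hi : i ∉ JJ φ) (hk : k ∉ JJ φ) :
    (l + 1).choose (k + 1) * (k + 1 : ℕ).choose (i + 1) + (l + 1).choose 2 * (II φ i + II φ k) ≤ n := by
  have h1 := dim_ge_two (R (p := p)) X.irr h hi hk
  rw [X.hD, mul_one, finrank_fin_fun] at h1
  exact (Nat.add_le_add_right (flg_ge _ _ _) _).trans h1

theorem weyl {z : Fin l → ℤ} (hz : ∀ s ∈ JJ φ, z s = 0) (ω : List (Fin l)) (L : List (List (Fin l) × ℕ))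
    (h : ((Rg.pts (L ++ [])).map (Rg.orb (AA l) z ω)).Nodup) {o m : ℕ} (ho : L.length = o) (hm : (L.map Prod.snd).sum = m) :
    ∃ u : P, dm (u : GL (Fin n) K) ≤ o * n + (n - m) * (o + (n - m)) :=
  (Rg.exists_dm_le (R (p := p)) X.M.core hG slT_comm X.range hz ω L [] [] [] (by simp) h List.nodup_nil (o' := 0) (m' := 0)
    ho hm rfl rfl).2

/-- linear groups -/
theorem lin_case (ht : t = .L) (h : j = 1 → l ≤ 4 → (l + 1).choose 2 ≤ n → G) : G := by
  obtain ⟨e⟩ := X.iso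
  have h3 := X.three
  rcases X.pos.eq_or_lt with rfl | hj
  · rcases Nat.lt_or_ge n ((l + 1).choose 2) with h1 | h1
    · subst ht
      obtain rfl : n = l + 1 := by simpa using card_eq_of_lt p X.M.core (by omega) e (by simpa using h1)
      obtain ⟨a, h1, N⟩ := X.nd
      obtain rfl : q = p ^ a := by
        rw [← h1, ← Nat.card_eq_fintype_card, X.card, pow_one, Nat.card_eq_fintype_card, X.M.card]
        rfl
      exact (X.M.not_nat N.ord_L).elim
    rcases Nat.lt_or_ge l 5 with h2 | h2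
    · exact h rfl (by omega) h1
    have h4 : 5 * (l + 1) ≤ 2 * n := by nlinarith [two_choose l]
    exact X.cL' ht (by nlinarith)
  · have h1 := (arith_A (N := l + 1) (by omega) hj).trans (card_ge_A p X.M.core (by omega) e X.card)
    rw [Fintype.card_fin] at h1
    have h2 : 2 * (j * (l + 1) ^ 2) ≤ (j * (l + 1)) ^ 2 := by nlinarith [Nat.zero_le (j * (l + 1) ^ 2)]
    have h4 : 32 ≤ j * (l + 1) ^ 2 := by nlinarith
    have h5 := Nat.pow_le_pow_left h1 2
    rw [mul_pow] at h5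
    exact X.cL' ht (by omega)

end Cx

theorem exists_cx (M : Md0 t q p T b P G c f) (hl : 3 ≤ l) (h : fA (l + 1) p (Soc P)) : ∃ (E : Type) (_ : Field E) (_ : Fintype E)
    (_ : CharP E p) (j : ℕ) (φ : SpecialLinearGroup (Fin (l + 1)) E →* GL (Fin n) K), Cx t q p T b P G c f j φ := by
  obtain ⟨E, _, _, _, -, ⟨e⟩⟩ := h
  have := Fact.mk M.prime
  have := M.char
  obtain ⟨a, ha, hE⟩ := exists_f E p
  obtain ⟨φ, hφ, -⟩ := psl_cover p M.core.perfect (by omega) (fun h => by omega) e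
  obtain ⟨j, h1, h2⟩ := psl_card p M.core.absIrred M.core.perfect (by omega) (fun h => by omega) e M.core.no_subfield
  exact ⟨E, _, _, ‹_›, j, φ, M, ⟨a, hE, nd_A M.core.simple M.core.nonabelian M.prime ha hE (by omega) (by omega) e⟩, ⟨e⟩,
    h2.symm, h1, hφ, hl⟩

variable [hp : Fact p.Prime] [CharP K p] [CharP E p] [Nonempty (Fin n)] {j : ℕ}

theorem tor4 {φ : SpecialLinearGroup (Fin (3 + 1)) E →* GL (Fin n) K} (X : Cx t q p T b P G c f 1 φ) (ht : t ≠ .L) (h1 : 13 ≤ n)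
    (h2 : n ≤ 22) (ι : E →+* AlgebraicClosure K) (h : ∀ u C C' lam, Dz ι u C C' lam → ev (φ u) 1 ≤ 6) : G := by
  obtain ⟨r, hr, r2, r3, hd⟩ := exists_r X.M.q_ge
  have hrp : r ≠ p := by
    rintro rfl
    obtain ⟨a, ha, rfl⟩ := X.M.pow
    exact hr.one_lt.ne' (Nat.dvd_one.1 ((Nat.dvd_add_right (dvd_add (dvd_pow (dvd_pow_self _ ha.ne') two_ne_zero)
      (dvd_pow_self _ ha.ne'))).1 hd))
  obtain ⟨u, C, C', lam, hu, D⟩ := exists_dz ι p hr hrp r2 r3 (by
    rw [X.card, pow_one, Nat.card_eq_fintype_card, X.M.card]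
    obtain ⟨s, rfl⟩ := Nat.exists_eq_add_of_le' X.M.q_ge
    cases t
    case U => exact hd.trans ⟨(s + 2) ^ 2 - (s + 2) + 1, by
      rw [kq, show (s + 2) ^ 2 = s ^ 2 + 3 * s + 2 + (s + 2) by ring, Nat.add_sub_cancel]; ring⟩
    all_goals exact hd)
  have h3 := h u C C' lam D
  obtain ⟨h4, k, h5⟩ := p6 X.M ht hr r2 r3 hd hrp (u := ⟨φ u, X.range ▸ ⟨u, rfl⟩⟩) (Subtype.ext (by
    rw [SubmonoidClass.coe_pow, ← map_pow, hu, map_one, OneMemClass.coe_one]))
  refine X.cD ⟨φ u, X.range ▸ ⟨u, rfl⟩⟩ le_rfl ?_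
  change 6 * dm (φ u) ≤ 6 * ev (φ u) 1 ^ 2 + (n - ev (φ u) 1) ^ 2 at h4
  change n - ev (φ u) 1 = _ at h5
  change _ + 3 * dm (φ u) + _ + _ ≤ _
  generalize dm (φ u) = d at h4 ⊢
  generalize ev (φ u) 1 = x at h3 h4 h5
  clear X h D
  interval_cases n <;> interval_cases x <;> omega

theorem four [Finite (cA 3).Group] {φ : SpecialLinearGroup (Fin (3 + 1)) E →* GL (Fin n) K} (X : Cx t q p T b P G c f j φ) : G := by
  obtain ⟨e⟩ := X.iso
  have h5 := five_le X.M.dim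
  have hj := X.pos
  have six : n ≠ 6 := by
    rintro rfl
    have h1 := six4 p X.M.core e (by simp)
    have h2 := (H911.Ad.sd_psl4 p X.M.core h1 e (by simp)).2.2.1
    have h3 := X.M.frm
    have h4 := X.M.dim
    cases t
    exacts [h3 h1, h3.2 h1, h3.2.2 h2, absurd h4.1 (by omega), absurd h4.1 (by omega), absurd h4.1 (by omega)]
  by_cases ht : t = .L
  · refine X.lin_case ht fun h1 _ _ => X.cL' ht ?_
    have h2 : 10 ≤ n := by
      by_contra k
      have := dim4 p X.M.core e (by rw [Fintype.card_fin]; omega)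
      rw [Fintype.card_fin] at this
      omega
    subst h1
    nlinarith
  have c4 : j = 1 → 23 ≤ n → G := by
    rintro rfl h
    rcases Nat.lt_or_ge n 30 with h1 | h1
    · refine X.cS ?_
      interval_cases n <;> norm_num
    · exact X.big1 h1 (by omega)
  obtain ⟨ι⟩ := exists_emb E (AlgebraicClosure K) p
  have h02 : (0 : Fin 3) ∈ JJ φ ↔ (2 : Fin 3) ∈ JJ φ := X.opp ht 0
  by_cases h0 : (0 : Fin 3) ∈ JJ φ
  · have hJ : ∀ k, k ∉ JJ φ → k = 1 := fun k hk => by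
      fin_cases k
      exacts [absurd h0 hk, rfl, absurd (h02.1 h0) hk]
    obtain ⟨i, hi⟩ := X.ex_node
    obtain rfl := hJ i hi
    have h1 : 6 + 12 * II φ 1 ≤ n := by
      simpa only [X.hD, finrank_fin_fun] using! dim_ge_list (Cx.R (p := p)) X.irr hi
        [[], [1], [1, 0], [1, 2], [1, 0, 2], [1, 0, 2, 1]] [[], [0], [2], [0, 1], [0, 2], [2, 1], [0, 1, 2], [0, 2, 1], [2, 1, 0],
          [0, 1, 2, 1], [0, 2, 1, 0], [0, 1, 2, 1, 0]] (by decide +kernel) (by decide +kernel)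
    have h2 := X.io hi
    rcases Nat.lt_or_ge (II φ 1) 2 with h3 | h3
    swap
    · exact X.big1 (by omega) (by omega)
    obtain rfl : j = 1 := by omega
    rcases Nat.eq_zero_or_pos (II φ 1) with h4 | h4
    · have h6 : n ≤ 6 := X.one_le hi hJ h4
      omega
    rcases Nat.lt_or_ge n 23 with h6 | h6
    swap
    · exact c4 rfl h6
    obtain ⟨v, hv, hv0, ψ, hψ, x, hx, hxJ, hf⟩ := exists_coef4 p ι X.irr (o := 1) (z := 2) le_rfl rfl rfl
    have hf1 := hf 0 (x 1) 0 0 (fun i => by fin_cases i <;> simp [(hxJ 0).1 h0, (hxJ 2).1 (h02.1 h0)])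
    have h7 := (Ds_le_Le_one ι le_rfl rfl rfl p hv hf1 (hx 1) (i := 1) rfl).trans (X.le_II 1)
    rcases Ds_small hp.out (x 1) (Nat.pos_of_ne_zero (mt (hxJ 1).2 hi)) (by omega) with ⟨r, k, h8, -, h9, h10⟩ | ⟨-, -, -, -, h8⟩
    · rw [h9] at hf1
      obtain rfl | rfl : r = 1 ∨ r = 2 := by omega
      · have h11 := middle_le p X.irr ι hv0 hψ (by rwa [one_mul] at hf1)
        rw [finrank_fin_fun] at h11
        omega
      · exact tor4 X ht (by omega) (by omega) ι fun u C C' lam D => ev_mid (irr_all X.irr) hv0 hψ D p hf1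
    · omega
  have h2 := mt h02.2 h0
  have h1 : 12 + (12 * II φ 0 + 12 * II φ 2) ≤ n := by
    simpa only [X.hD, finrank_fin_fun] using! dim_ge_list_two (Cx.R (p := p)) X.irr h0 h2 (by decide)
      [[], [0], [2], [0, 1], [0, 2], [2, 1], [0, 1, 2], [0, 2, 1], [2, 1, 0], [0, 1, 2, 1], [0, 2, 1, 0], [0, 1, 2, 1, 0]]
      [[], [1], [2], [1, 0], [1, 2], [2, 1], [1, 0, 2], [1, 2, 1], [2, 1, 0], [1, 0, 2, 1], [1, 2, 1, 0], [1, 0, 2, 1, 0]]
      [[], [0], [1], [0, 1], [1, 0], [1, 2], [0, 1, 0], [0, 1, 2], [1, 0, 2], [0, 1, 0, 2], [1, 0, 2, 1], [0, 1, 0, 2, 1]]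
      (by decide +kernel) (by decide +kernel) (by decide +kernel)
  have h3 := X.io h0
  rcases hj.eq_or_lt with rfl | hj'
  swap
  · exact X.big1 (by omega) (by omega)
  rcases Nat.lt_or_ge n 23 with h6 | h6
  swap
  · exact c4 rfl h6
  have h7 : n ≠ 12 := fun k => not_twelve p X.M.core (by omega) (by omega) (by simpa using k) e
  obtain ⟨v, hv, hv0, ψ, hψ, x, y, hx, hy, hx0, hy0, hf⟩ := exists_coef p X.irr ι (by omega) fun i hi => by
    by_contra k
    have h8 := fact_le (Cx.R (p := p)) X.irr fun i' => by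
      obtain rfl : i = 1 := Fin.ext (by change i.val = 1; omega)
      fin_cases i'
      exacts [h0, hi, h2]
    rw [X.hD, finrank_fin_fun] at h8
    exact absurd (h8.trans h6.le) (by decide)
  have pw : ∀ z, z ≠ 0 → (Ds p z).card ≤ 2 → ∃ i, z = p ^ i := fun z h0 h => by
    rcases Ds_small hp.out z (by omega) (by omega) with ⟨r, k, h8, -, h9, h10⟩ | ⟨-, -, -, -, h8⟩
    · exact ⟨k, by rw [h9, show r = 1 by omega, one_mul]⟩
    · omega
  obtain ⟨i, rfl⟩ := pw x (mt (hx0 0 rfl).2 h0)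
    (((Ds_le_Le_zero ι (by omega) p hv hf hx (i := 0) rfl).trans (X.le_II 0)).trans (by omega))
  obtain ⟨k, rfl⟩ := pw y (mt (hy0 2 rfl).2 h2)
    (((Ds_le_Le_last ι (by omega) p hv hf hy (i := 2) rfl).trans (X.le_II 2)).trans (by omega))
  exact tor4 X ht (by omega) (by omega) ι fun u C C' lam D => ev_ends (irr_all X.irr) hv0 hψ D p hf

theorem five [Finite (cA l).Group] {φ : SpecialLinearGroup (Fin (l + 1)) E →* GL (Fin n) K} (X : Cx t q p T b P G c f j φ)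
    (hl : 4 ≤ l) : G := by
  have hj := X.pos
  have hc := two_choose l
  have sg : ∀ {i : Fin l}, i ∉ JJ φ → ∀ s ∈ JJ φ, (Pi.single i 1 : Fin l → ℤ) s = 0 := fun {i} hi s hs =>
    Pi.single_eq_of_ne (fun e : s = i => hi (e ▸ hs)) _
  by_cases ht : t = .L
  · refine X.lin_case ht fun h1 h2 h3 => ?_
    obtain rfl : l = 4 := by omega
    subst h1
    rcases Nat.lt_or_ge n 12 with h4 | h4
    swap
    · exact X.cL' ht (by nlinarith)
    obtain ⟨ι⟩ := exists_emb E (AlgebraicClosure K) p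
    have h5 := sl5 p X.irr ι (by rw [finrank_fin_fun]; omega) (by rw [finrank_fin_fun]; omega)
    rw [finrank_fin_fun] at h5
    obtain ⟨rfl, i, rfl | rfl, hi⟩ | h5 := h5
    · obtain ⟨u, hu⟩ := X.weyl (sg ((hi 1).2 rfl)) [0, 1, 2, 3] [([], 5), ([1], 5)] (by decide +kernel) rfl rfl
      exact X.cL ht u hu (by decide)
    · obtain ⟨u, hu⟩ := X.weyl (sg ((hi 2).2 rfl)) [0, 1, 2, 3] [([], 5), ([2], 5)] (by decide +kernel) rfl rfl
      exact X.cL ht u hu (by decide)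
    · omega
  by_cases h : ∃ i, i ∉ JJ φ ∧ i.val < i.rev.val
  · obtain ⟨i, hi, h1⟩ := h
    have hi' := mt (X.opp ht i).2 hi
    have h2 := X.two h1 hi hi'
    have h3 : 2 * j ≤ II φ i + II φ i.rev + 2 := by
      have := X.io hi
      have := X.io hi'
      omega
    have h4 := i.val_rev
    have h6 : 10 ≤ (l + 1).choose 2 := Nat.choose_le_choose 2 (show 5 ≤ l + 1 by omega)
    rcases Nat.eq_zero_or_pos i.val with h0 | h0
    · rw [show i.rev.val + 1 = l by omega, h0, Nat.choose_succ_self_right, zero_add, Nat.choose_one_right] at h2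
      have h5 : j * ((l + 1) * l) ≤ n := by nlinarith
      rcases Nat.lt_or_ge n 30 with h7 | h7
      swap
      · exact X.big1 h7 h5
      obtain rfl : l = 4 := by nlinarith
      obtain rfl : j = 1 := by omega
      rcases Nat.lt_or_ge n 26 with h8 | h8
      · obtain rfl : i = 0 := Fin.ext h0
        obtain ⟨u, hu⟩ := X.weyl (z := Pi.single 0 1 + Pi.single 3 1) (fun s hs => by
          rw [Pi.add_apply, sg hi s hs, sg (i := 3) hi' s hs, add_zero]) [0, 1, 2, 3]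
          [([], 5), ([0], 5), ([0, 1], 5), ([0, 1, 2], 5)] (by decide +kernel) (o := 4) (m := 20) rfl rfl
        refine X.cD u hu ?_
        clear hu h2
        interval_cases n <;> norm_num
      · refine X.cS ?_
        interval_cases n <;> norm_num
    have h5 : (l + 1).choose 2 * 3 ≤ (l + 1).choose (i.rev + 1) * (i.rev + 1 : ℕ).choose (i + 1) :=
      Nat.mul_le_mul (choose_two_le (by omega) (by omega)) (le_trans (by rw [Nat.choose_succ_self_right]; omega)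
        (Nat.choose_le_choose _ (show i.val + 1 + 1 ≤ _ by omega)))
    exact X.big1 (by omega) (by nlinarith)
  push Not at h
  have hm : ∀ i, i ∉ JJ φ → 2 * i.val + 1 = l := fun i hi => by
    have h1 := h i hi
    have h2 := h _ (mt (X.opp ht i).2 hi)
    rw [Fin.rev_rev] at h2
    have := i.val_rev
    omega
  obtain ⟨i, hi⟩ := X.ex_node
  have h1 := hm i hi
  have h2 := X.one hi
  have h3 := X.io hi
  have h4 : (l + 1).choose 2 ≤ (l + 1).choose (i + 1) := choose_two_le (by omega) (by omega)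
  rcases Nat.lt_or_ge n 45 with h5 | h5
  swap
  · exact X.big2 h5 (by nlinarith)
  have h6 : l < 9 := by
    by_contra k
    have : 45 ≤ (l + 1).choose 2 := Nat.choose_le_choose 2 (show 10 ≤ l + 1 by omega)
    omega
  obtain rfl | rfl : l = 5 ∨ l = 7 := by omega
  swap
  · rw [show i.val = 3 by omega] at h2
    exact absurd ((le_self_add.trans h2).trans h5.le) (by decide)
  obtain rfl : i = 2 := Fin.ext (by change i.val = 2; omega)
  replace h2 : 20 + 15 * II φ 2 ≤ n := h2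
  obtain rfl : j = 1 := by omega
  rcases Nat.eq_zero_or_pos (II φ 2) with h7 | h7
  · have h8 : n ≤ 20 := X.one_le hi (fun k hk => Fin.ext (by have := hm k hk; omega)) h7
    obtain rfl : n = 20 := by omega
    obtain ⟨u, hu⟩ := X.weyl (sg hi) [0, 1, 2, 3, 4] [([], 6), ([2], 6), ([2, 1], 6), ([2, 1, 3], 2)] (by decide +kernel) rfl rfl
    exact X.cD u hu (by decide)
  · exact X.big1 (by omega) (by omega)

end A3

open Cfsg.Agent.LieRecognition.BNCox (cA)
open Cfsg.Agent.Nodes.RootsA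

theorem row_a (m : ℕ) (hm : 4 ≤ m) : Row (fA m) := fun t n q p T b K _ _ P G c f M h => by
  obtain ⟨l, rfl⟩ : ∃ l, m = l + 1 := ⟨m - 1, by omega⟩
  obtain ⟨E, _, _, _, j, φ, X⟩ := A3.exists_cx M.toMd0 (by omega) h
  have := Fact.mk M.prime
  have := M.char
  have := M.core.nonempty
  have : Finite (cA l).Group := finite_W (cA l).toCoxeterSystem (isCartan l)
  rcases Nat.lt_or_ge l 4 with h4 | h4
  · obtain rfl : l = 3 := by omega
    exact A3.four X
  · exact A3.five X h4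

end Cfsg.Agent.N2C.RD
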