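import Cfsg.Agent.N2.Cl.RD.A2A
import Cfsg.Agent.N2.Cl.RD.A3
import Cfsg.Agent.N2.Cl.RD.Num
import Cfsg.Agent.H887.DS.SixTen

/-!
# N2 (S3519), defining characteristic: the row `L₃` (helper38)
-/

set_option autoImplicit false
set_option linter.unusedSectionVars false

namespace Cfsg.Agent.N2C.RD.A2

open Matrix CoxeterSystem Cfsg.Agent.ChevalleyStructure.CoxeterGeom Cfsg.Agent.Tits.Roots Cfsg.Agent.Tits.Core
  Cfsg.Agent.Nodes.Reps Cfsg.Agent.Nodes.BNOf Cfsg.Agent.Nodes.Bruhat Cfsg.Agent.Nodes.LeviDec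
  Cfsg.Agent.Omega.CR Cfsg.Agent.Omega.FOne.Lift.Sd Cfsg.Agent.H905.Md Cfsg.Agent.Nodes.RootsA Module
open Cfsg Cfsg.Geo Cfsg.Agent.H902 Cfsg.Agent.N2C.RX Cfsg.Agent.H915.LD Cfsg.Agent.H887.DS
open Cfsg.Agent.H911 (lin)
open Cfsg.Agent.LieRecognition.BNCox (cA)
open Cfsg.Agent.H650.Ppd (edge_pow_of_card)
open scoped MatrixGroups

theorem free6 {m : ℕ} (h6 : m.Coprime 6) {x : ZMod m} (hx : x ^ 2 - x + 1 = 0) {k : ℕ} (h0 : 0 < k) (hk : k < 6) {i : ZMod m}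
    (h : x ^ k * i = i) : i = 0 := by
  refine ((ZMod.isUnit_iff_coprime 6 m).2 h6.symm).mul_right_eq_zero.1 ?_
  push_cast
  interval_cases k
  · linear_combination (-6 * x) * h + 6 * i * hx
  · linear_combination (-2 * (x + 1)) * h + 2 * i * (x + 2) * hx
  · linear_combination (-3) * h + 3 * i * (x + 1) * hx
  · linear_combination (2 * (x - 2)) * h - 2 * i * (x ^ 3 - x ^ 2 - 2 * x - 1) * hx
  · linear_combination (6 * (x - 1)) * h - 6 * i * (x ^ 4 - x ^ 2 - x) * hx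

theorem ord6 {m : ℕ} (h1 : 1 < m) (h6 : m.Coprime 6) {x : ZMod m} (hx : x ^ 2 - x + 1 = 0) : orderOf x = 6 := by
  have := Fact.mk h1
  rw [orderOf_eq_iff (by omega)]
  exact ⟨by linear_combination (x ^ 4 + x ^ 3 - x - 1) * hx, fun k hk h0 e => one_ne_zero (free6 h6 hx h0 hk (by rw [e, one_mul]))⟩

theorem ord3 {m : ℕ} (h1 : 1 < m) (h6 : m.Coprime 6) {x : ZMod m} (hx : x ^ 2 + x + 1 = 0) : orderOf x = 3 := by
  have h := orderOf_pow' (-x) (n := 4) (by decide)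
  rwa [ord6 h1 h6 (x := -x) (by linear_combination hx), show (-x) ^ 4 = x by linear_combination (x ^ 2 - x) * hx] at h

theorem cop6 {m q : ℕ} (h3 : m.Coprime 3) (hd : m ∣ q ^ 2 + q + 1) : m.Coprime 6 := by
  refine Nat.Coprime.mul_right (m := 2) (n := 3) (Nat.Coprime.coprime_dvd_left hd (Nat.coprime_two_right.2 ?_)) h3
  rw [show q ^ 2 + q + 1 = q * (q + 1) + 1 by ring]
  exact (Nat.even_mul_succ_self q).add_one

theorem exists_r {q : ℕ} (hq : 2 ≤ q) : ∃ r, r.Prime ∧ 4 < r ∧ r.Coprime 3 ∧ r ∣ q ^ 2 + q + 1 := by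
  obtain ⟨r, hr, h2, h3, hd⟩ := A3.exists_r hq
  exact ⟨r, hr, (hr.five_le_of_ne_two_of_ne_three h2 h3), (Nat.coprime_primes hr Nat.prime_three).2 h3, hd⟩

theorem exists_m {q : ℕ} (hq : 5 ≤ q) : ∃ m, 9 < m ∧ m.Coprime 3 ∧ m ∣ q ^ 2 + q + 1 := by
  obtain ⟨x, h0, h1⟩ : ∃ x, 3 ≤ x ∧ 3 * x + 1 ∣ q ^ 2 + q + 1 := by
    obtain ⟨k, rfl | rfl | rfl⟩ : ∃ k, q = 3 * k ∨ q = 3 * k + 1 ∨ q = 3 * k + 2 := ⟨q / 3, by omega⟩
    exacts [⟨3 * k ^ 2 + k, by nlinarith, 1, by ring⟩, ⟨k ^ 2 + k, by nlinarith, 3, by ring⟩,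
      ⟨3 * k ^ 2 + 5 * k + 2, by nlinarith, 1, by ring⟩]
  exact ⟨_, by omega, (Nat.coprime_comm.1 ((Nat.Prime.coprime_iff_not_dvd Nat.prime_three).2 (by omega))), h1⟩

theorem dvd_sq {q m : ℕ} (h : m ∣ q ^ 2 + q + 1) : m ∣ (q ^ 2) ^ 2 + q ^ 2 + 1 := by
  rcases q with _ | q
  · simpa using h
  · exact h.trans ⟨q ^ 2 + q + 1, by ring⟩

variable {t : Kd} {n q p T b : ℕ} {K : Type} [Field K] [Fintype K] {P : Subgroup (GL (Fin n) K)} {G : Prop} {c f : P → ℕ}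

theorem six (M : Md0 t q p T b P G c f) (ht : bil t) {m : ℕ} (h1 : 1 < m) (h3 : m.Coprime 3) (hd : m ∣ q ^ 2 + q + 1)
    (hp : m.Coprime p) {u : P} (hu : u ^ m = 1) : 6 * dm (u : GL (Fin n) K) ≤ 6 * ev (u : GL (Fin n) K) 1 ^ 2 +
      (n - ev (u : GL (Fin n) K) 1) ^ 2 ∧ 6 ∣ n - ev (u : GL (Fin n) K) 1 := by
  have : NeZero m := ⟨by omega⟩
  have := M.char
  obtain ⟨μ, D⟩ := exists_muD M.core M.prime hp hu
  obtain ⟨h4, h5⟩ := D.fr M
  have key : ∀ i, μ (-(q : ZMod m) * i) = μ i := fun i => by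
    rw [neg_mul, h5 ht]
    cases t
    · exact ht.elim
    · exact ht.elim
    all_goals simpa [fr] using h4 i
  have hx : (-(q : ZMod m)) ^ 2 - -(q : ZMod m) + 1 = 0 := by
    have k : (q : ZMod m) ^ 2 + q + 1 = 0 := by exact_mod_cast (ZMod.natCast_eq_zero_iff _ m).2 hd
    linear_combination k
  let g : (ZMod m)ˣ := ⟨-q, 1 + q, by linear_combination -hx, by linear_combination -hx⟩
  have hg : orderOf g = 6 := orderOf_units.symm.trans (ord6 h1 (cop6 h3 hd) hx)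
  have h6 := D.free (Γ := Subgroup.zpowers g) (Subgroup.zpowers_le.2 key) fun y hy i hi _ e => by
    obtain ⟨k, hk, rfl⟩ := Finset.mem_image.1 (mem_zpowers_iff_mem_range_orderOf.1 hy)
    rw [hg, Finset.mem_range] at hk
    rcases k.eq_zero_or_pos with rfl | h0
    · exact pow_zero _
    · exact absurd (free6 (cop6 h3 hd) hx h0 hk (by simpa [g] using e)) hi
  rwa [Nat.card_zpowers, hg] at h6

/-- the degree of the field of the socle -/
def vv : Kd → ℕ → ℕ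
  | .U, j => 2 * j
  | _, j => j

/-- the bound for the stabiliser -/
def BB (j : ℕ) (t : Kd) : Bd := .s (2 * vv t j) (8 * vv t j)

variable {E : Type} [Field E] [Fintype E]

variable (t q p T b P G c f) in
/-- the data -/
structure Cx (j : ℕ) (φ : SL(2 + 1, E) →* GL (Fin n) K) : Prop where
  M : Md t q p T b P G c f
  nd : ∃ a, 1 ≤ a ∧ Fintype.card E = p ^ a ∧ Nd (.L 3) p a (Soc P)
  iso : Nonempty (Soc P ≃* ProjectiveSpecialLinearGroup (Fin (2 + 1)) E)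
  card : Nat.card E = Nat.card K ^ j
  pos : 1 ≤ j
  range : φ.range = P
  ker : φ.ker ≤ Subgroup.center _

namespace Cx

variable {j : ℕ} {φ : SL(2 + 1, E) →* GL (Fin n) K} (X : Cx t q p T b P G c f j φ)
include X

theorem card' : Nat.card E = q ^ vv t j := by
  rw [X.card, Nat.card_eq_fintype_card, X.M.card]
  cases t
  case U => exact (pow_mul ..).symm
  all_goals rfl

theorem hB : HB q b 1 (BB j t) := by
  obtain ⟨a, -, h1, N⟩ := X.nd
  exact .s rfl (X.M.toMd0.bnd N (w := 1) (v := vv t j) (by rw [pow_one, ← h1, ← X.card', Nat.card_eq_fintype_card]) one_pos le_rfl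
    (one_mul _).ge (by rw [one_mul, mul_comm]; rfl))

theorem cop {m : ℕ} (h : m ∣ Nat.card E ^ 2 + Nat.card E + 1) : m.Coprime p := by
  obtain ⟨a, h0, h1, -⟩ := X.nd
  refine Nat.Coprime.coprime_dvd_left h ((Nat.coprime_comm.1 ((Nat.Prime.coprime_iff_not_dvd X.M.prime).2 fun e => ?_)))
  have h2 : p ∣ Nat.card E := by rw [Nat.card_eq_fintype_card, h1]; exact dvd_pow_self p (by omega)
  exact X.M.prime.one_lt.ne' (Nat.dvd_one.1 ((Nat.dvd_add_right (dvd_add (dvd_pow h2 two_ne_zero) h2)).1 e))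

theorem el (y : SL(2 + 1, E)) : φ y ∈ P := X.range ▸ ⟨y, rfl⟩

theorem el_pow {y : SL(2 + 1, E)} {m : ℕ} (h : y ^ m = 1) : (⟨φ y, X.el y⟩ : P) ^ m = 1 :=
  Subtype.ext (by rw [SubmonoidClass.coe_pow, ← map_pow, h, map_one, OneMemClass.coe_one])

/-- elements of prime order -/
theorem useP {k : Type} [Field k] {ι : E →+* k} {r e m : ℕ} {y : SL(2 + 1, E)} {ζ : k} (hr : r.Prime) (D : Dz ι r y ζ)
    (he : orderOf ((fr t q : ℤ) : ZMod r) = e) (h1 : e ≠ 1) (hk : ∀ s, e ∣ s → kb t ∣ s → 6 ∣ s) (hm : ev (φ y) 1 ≤ m)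
    (h : chkP t n (BB j t) 6 e (fun x _ => Nat.blt m x) = true) : G := by
  have := Fact.mk hr
  exact X.M.of_P (u := ⟨φ y, X.el y⟩) hr ((Nat.coprime_primes hr X.M.prime).1 (X.cop D.dvd)) (by have := D.lt; omega)
    (orderOf_eq_prime (X.el_pow D.pow) fun e => D.noncentral (X.ker (congrArg Subtype.val e))) he h1 (by decide)
    (fun s h1 h2 _ => hk s h1 h2) (by rw [← Bool.not_eq_true, Nat.blt_eq]; exact hm.not_gt) (X.M.toMd0.cq _) X.hB h

theorem ex : ∃ a, Nd (.L 3) p a (Soc P) ∧ p ^ a ≤ Fintype.card K ^ j := by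
  obtain ⟨a, -, h1, h2⟩ := X.nd
  exact ⟨a, h2, by rw [← h1, ← Nat.card_eq_fintype_card, X.card, Nat.card_eq_fintype_card]⟩

theorem cD (u : P) {D : ℕ} (hu : dm (u : GL (Fin n) K) ≤ D) (h : 4 * n + 3 * D + 18 * j + 6 ≤ n ^ 2) : G := by
  obtain ⟨a, N, h1⟩ := X.ex
  exact X.M.toMd0.ct_dm N h1 (k := 6) le_rfl u hu (show _ + 2 * (j * 9) + _ ≤ _ by omega)

variable [hp : Fact p.Prime] [CharP K p] [CharP E p] [CharP (AlgebraicClosure K) p] [Nonempty (Fin n)]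

/-- the matrix coefficient -/
theorem coef (ι : E →+* AlgebraicClosure K) :
    (∀ L : Submodule (AlgebraicClosure K) (Fin n → AlgebraicClosure K), (∀ g, ∀ w ∈ L, lin (acRep φ) g w ∈ L) → L = ⊥ ∨ L = ⊤) ∧
    ∃ v ≠ 0, ∃ ψ : Dual (AlgebraicClosure K) (Fin n → AlgebraicClosure K), ψ ≠ 0 ∧ ∃ a b, a < Nat.card E ∧ b < Nat.card E ∧
      (∀ g, ψ (lin (acRep φ) g v) = xi ι a b g) ∧ (a ≠ 0 ∨ b ≠ 0) ∧ 3 * 2 ^ j ≤ n + 3 ∧
      (a ≠ 0 → b ≠ 0 → 6 * 2 ^ j ≤ n + 6 ∧ 3 * ((Ds p a).card + (Ds p b).card) ≤ n + 6) := by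
  have : Finite (cA 2).Group := finite_W (cA 2).toCoxeterSystem (isCartan 2)
  have R := A3.Cx.R (E := E) (l := 2) (p := p)
  have hirr := ac_irr R A3.Cx.hG slT_comm X.range X.M.core.absIrred
  have hD := finrank_D R hirr slT_comm
  obtain ⟨v, hv, hv0, ψ, hψ, x, y, hx, hy, hx0, hy0, hf⟩ := exists_coef p hirr ι le_rfl fun i _ => by
    fin_cases i
    exacts [.inl rfl, .inr rfl]
  have io : ∀ i, i ∉ A3.JJ φ → 2 ^ j ≤ A3.II φ i + 2 := fun i hi => by
    obtain ⟨d, h1, h2⟩ := edge_pow_of_card R A3.Cx.hG slT_comm X.range X.M.core.absIrred (H650.Ppd.nd_A i) hi X.card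
    simpa only [hD] using ((Nat.pow_le_pow_left h1 j).trans h2.ge).trans (finrank_Io R hirr i)
  obtain ⟨i, hi⟩ : ∃ i, i ∉ A3.JJ φ := exists_not_mem R hirr (by
    have := five_le X.M.dim
    rw [hD, finrank_fin_fun]
    omega)
  refine ⟨irr_all hirr, v, hv0, ψ, hψ, x, y, hx, hy, hf, ?_, ?_, fun h0 h1 => ?_⟩
  · fin_cases i
    exacts [.inl (mt (hx0 0 rfl).2 hi), .inr (mt (hy0 1 rfl).2 hi)]
  · have h1 : 3 + 3 * A3.II φ i ≤ n := by
      have k := dim_ge_A R hirr hi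
      rw [hD, finrank_fin_fun] at k
      fin_cases i <;> exact k
    have := io i hi
    omega
  · have k0 := mt (hx0 0 rfl).1 h0
    have k1 := mt (hy0 1 rfl).1 h1
    have h2 : 6 + 3 * (A3.II φ 0 + A3.II φ 1) ≤ n := by
      have k := dim_ge_two R hirr (i := (0 : Fin 2)) (j := (1 : Fin 2)) Nat.one_pos k0 k1
      rwa [hD, finrank_fin_fun, show ((0 : Fin 2) : Fin 2).val = 0 from rfl, show ((1 : Fin 2) : Fin 2).val = 1 from rfl,
        card_flg_2_01] at k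
    have h3 := io 0 k0
    have h4 := io 1 k1
    have h5 : (Ds p x).card ≤ A3.II φ 0 + 2 := by
      simpa only [hD] using (Ds_le_Le_zero ι le_rfl p hv hf hx (i := 0) rfl).trans (finrank_Io R hirr 0)
    have h6 : (Ds p y).card ≤ A3.II φ 1 + 2 := by
      simpa only [hD] using (Ds_le_Le_last ι le_rfl p hv hf hy (i := 1) rfl).trans (finrank_Io R hirr 1)
    omega

/-- linear groups -/
theorem lin_case (ht : t = .L) : G := by
  subst ht
  obtain ⟨e⟩ := X.iso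
  obtain ⟨-, -, -, -, -, -, -, -, -, -, -, hj, -⟩ := X.coef (exists_emb E (AlgebraicClosure K) p).some
  have h5 : 5 ≤ n := X.M.dim
  have hq := X.M.toMd0.q_ge
  have hE : Nat.card E = q ^ j := X.card'
  have key : n < 12 → ∃ φ : SL(2 + 1, E) →* GL (Fin n) K, φ.range = P ∧ ∃ (ι : E →+* AlgebraicClosure K) (a b : ℕ),
      (∀ {m y ζ}, Dz ι m y ζ → (∀ {r i}, r ^ 2 < m → a = r * p ^ i ∧ b = 0 ∨ a = 0 ∧ b = r * p ^ i → dm (φ y) ≤ n) ∧
        (Nat.card E = 4 → m = 7 → p = 2 → a = 3 ∧ b = 0 ∨ a = 0 ∧ b = 3 → dm (φ y) ≤ 2 * n)) ∧ a < Nat.card E ∧ b < Nat.card E ∧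
      ((b = 0 ∧ OneCase p 3 a n ∨ a = 0 ∧ OneCase p 3 b n) ∨ n = 9 ∧ Nat.card E = Nat.card K) := fun h => by
    obtain ⟨φ, h1, -, -, hirr, ι, v, ψ, x, y, hv, hψ, hx, hy, hf, hc⟩ := exists_rep3 p X.M.core e (by simpa using h)
    rw [Fintype.card_fin] at hc
    refine ⟨φ, h1, ι, x, y, fun D => ⟨dm_sym hirr hv hψ D p hf, dm_nine hirr hv hψ D p hf⟩, hx, hy, ?_⟩
    rcases hc with hc | hc | ⟨⟨i, k, rfl, rfl, rfl | h9⟩, -⟩
    exacts [.inl (.inl hc), .inl (.inr hc), absurd (sd_of_lin p h1 (sd_of_eq hirr one_le_two hv hψ hf)) X.M.frm,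
      .inr ⟨h9, card_eq_of_dvd (r := 1) (i := i) X.pos X.card.symm le_rfl hp.out.one_lt
        (by simpa using dvd_zero p hirr hv hψ le_rfl hf)⟩]
  obtain rfl | rfl | h3 : j = 1 ∨ j = 2 ∨ 3 ≤ j := by have := X.pos; omega
  · rcases Nat.lt_or_ge n 8 with h | h
    swap
    · exact X.M.sieve (F := fun t _ => t != .L) h X.hB nofun (by decide +kernel)
    obtain ⟨φ, h1, ι, x, y, hD, -, -, hc⟩ := key (by omega)
    have k : ∀ z, OneCase p 3 z n → n = 6 ∧ ∃ i, z = 2 * p ^ i := by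
      rintro z (⟨r, i, hr, -, rfl, h2⟩ | ⟨-, -, -, -, h2⟩)
      · rcases (choose_cases hr h2).1 rfl (by omega) with ⟨-, h4⟩ | ⟨rfl, h4⟩ | ⟨-, h4⟩
        exacts [by omega, ⟨h4, i, rfl⟩, by omega]
      · omega
    obtain ⟨r, -, h4, h6, hd⟩ := exists_r hq
    obtain ⟨u, ζ, D⟩ := exists_dz ι p h4 h6 (by rwa [hE, pow_one])
    obtain ⟨rfl, i, hi⟩ : n = 6 ∧ ∃ i, x = 2 * p ^ i ∧ y = 0 ∨ x = 0 ∧ y = 2 * p ^ i := by
      rcases hc with (⟨h7, h8⟩ | ⟨h7, h8⟩) | h7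
      exacts [(k _ h8).imp_right fun ⟨i, hi⟩ => ⟨i, .inl ⟨hi, h7⟩⟩, (k _ h8).imp_right fun ⟨i, hi⟩ => ⟨i, .inr ⟨h7, hi⟩⟩, by omega]
    exact X.M.toMd0.of_crude ⟨φ u, h1 ▸ ⟨u, rfl⟩⟩ ((hD D).1 h4 hi) X.hB (by decide +kernel)
  · rcases Nat.lt_or_ge n 10 with h | h
    swap
    · exact X.M.sieve (F := fun t _ => t != .L) h X.hB nofun (by decide +kernel)
    obtain rfl : n = 9 := by omega
    rcases hq.eq_or_lt with rfl | hq
    · obtain ⟨φ, h1, ι, x, y, hD, hx, hy, hc⟩ := key (by omega)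
      obtain rfl : p = 2 := by
        obtain ⟨a, h0, h2⟩ := X.M.pow
        exact (Nat.prime_dvd_prime_iff_eq hp.out Nat.prime_two).1 (h2 ▸ dvd_pow_self p h0.ne')
      have k : ∀ z, z < 4 → OneCase 2 3 z 9 → z = 3 := by
        rintro z hz (⟨r, i, hr, -, rfl, h2⟩ | ⟨i, l, h2, rfl, -⟩)
        · rcases (choose_cases hr h2).1 rfl (by omega) with ⟨-, h4⟩ | ⟨-, h4⟩ | ⟨-, h4⟩ <;> omega
        · have h4 : 2 ^ (i + 1) ≤ 2 ^ l := Nat.pow_le_pow_right two_pos h2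
          have := Nat.two_pow_pos i
          omega
      obtain ⟨u, ζ, D⟩ := exists_dz (m := 7) ι 2 (by decide) (by decide) (by rw [hE]; decide)
      refine X.M.toMd0.of_crude ⟨φ u, h1 ▸ ⟨u, rfl⟩⟩ ((hD D).2 hE rfl rfl ?_) X.hB (by decide +kernel)
      rw [hE] at hx hy hc
      rcases hc with (⟨h7, h8⟩ | ⟨h7, h8⟩) | ⟨-, h7⟩
      exacts [.inl ⟨k _ hx h8, h7⟩, .inr ⟨h7, k _ hy h8⟩, absurd ((Nat.card_eq_fintype_card.trans X.M.card).symm.trans h7.symm) (by decide)]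
    · obtain ⟨s, rfl⟩ : ∃ s, q = s + 1 := ⟨q - 1, by omega⟩
      obtain ⟨r, hr, h4, h6, hd⟩ := exists_r (q := s) (by omega)
      obtain ⟨u, ζ, D⟩ := exists_dz (exists_emb E (AlgebraicClosure K) p).some p h4 h6
        (by rw [hE]; exact hd.trans ⟨(s + 1) ^ 2 + (s + 1) + 1, by ring⟩)
      refine X.useP hr D (ord6 hr.one_lt (cop6 h6 hd) ?_) (by decide) (fun _ h _ => h) (ev_le_n _ _) (by decide +kernel)
      have k : (s : ZMod r) ^ 2 + s + 1 = 0 := by exact_mod_cast (ZMod.natCast_eq_zero_iff _ r).2 hd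
      simp only [fr]
      push_cast
      linear_combination k
  · obtain ⟨a, N, h1⟩ := X.ex
    have h2 : 2 * j + 2 ≤ 2 ^ j := by
      obtain ⟨k, rfl⟩ := Nat.exists_eq_add_of_le' h3
      have := Nat.lt_two_pow_self (n := k)
      rw [pow_add]
      omega
    have h4 : (6 * j + 3) ^ 2 ≤ n ^ 2 := Nat.pow_le_pow_left (by omega) 2
    refine X.M.toMd0.ct_scL N rfl h1 (k := 6) le_rfl (show _ + 2 * (j * 9) + _ + _ ≤ _ from ?_)
    have h6 : 36 * j + 36 ≤ n ^ 2 := by nlinarith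
    omega

/-- the other kinds -/
theorem form_case (ht : t ≠ .L) : G := by
  obtain ⟨e⟩ := X.iso
  obtain ⟨ι⟩ := exists_emb E (AlgebraicClosure K) p
  obtain ⟨hirr, v, hv, ψ, hψ, x, y, hx, hy, hf, h0, -, hb'⟩ := X.coef ι
  have h5 := five_le X.M.dim
  have hq := X.M.toMd0.q_ge
  have hE := X.card'
  have hs : bil t → Cj P (p ^ 0) := fun h g hg => by
    have k := X.M.frm
    rw [pow_zero, pow_one]
    cases t
    exacts [h.elim, h.elim, (k.2.1 g hg).symm, (k.2 g hg).symm, (k.2 g hg).symm, (k.2 g hg).symm]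
  obtain ⟨k, hk⟩ : ∃ k, Cj P (p ^ k) := by
    by_cases h : bil t
    · exact ⟨0, hs h⟩
    obtain ⟨a, -, ha⟩ := X.M.pow
    cases t
    case L => exact absurd rfl ht
    case U => exact ⟨a, ha ▸ X.M.frm.1⟩
    all_goals exact absurd trivial h
  have hx0 : x ≠ 0 := by
    rintro rfl
    exact not_cj_last p hirr hv hψ le_rfl (h0.resolve_left (· rfl)) hf X.range X.M.core.absIrred hk
  have hy0 : y ≠ 0 := by
    rintro rfl
    exact not_cj_zero p hirr hv hψ le_rfl hx0 hf X.range X.M.core.absIrred hk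
  obtain ⟨h1, h2⟩ := hb' hx0 hy0
  rcases Nat.lt_or_ge j 3 with hj | h3
  swap
  · have h4 : 2 * j + 2 ≤ 2 ^ j := by
      obtain ⟨k, rfl⟩ := Nat.exists_eq_add_of_le' h3
      have := Nat.lt_two_pow_self (n := k)
      rw [pow_add]
      omega
    obtain ⟨u, hu⟩ := X.M.small
    have h6 : 42 * n ≤ n ^ 2 := by rw [pow_two]; exact Nat.mul_le_mul_right _ (by omega)
    exact X.cD u hu (by omega)
  obtain ⟨r, hr, h4, h6, hd⟩ := exists_r hq
  have hr0 : (q : ZMod r) ^ 2 + q + 1 = 0 := by exact_mod_cast (ZMod.natCast_eq_zero_iff _ r).2 hd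
  by_cases hU : t = .U
  · subst hU
    obtain rfl | rfl : j = 1 ∨ j = 2 := by have := X.pos; omega
    swap
    · exact X.M.sieve (lo := 18) (F := fun t _ => t != .U) (by omega) X.hB nofun (by decide +kernel)
    rcases Nat.lt_or_ge n 13 with h | h
    swap
    · exact X.M.sieve (F := fun t _ => t != .U) h X.hB nofun (by decide +kernel)
    obtain ⟨u, ζ, D⟩ := exists_dz ι p h4 h6 (by rw [hE]; exact dvd_sq hd)
    refine X.useP hr D (ord6 hr.one_lt (cop6 h6 hd) ?_) (by decide) (fun _ h _ => h) (m := 12) ((ev_le_n _ _).trans (by omega)) ?_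
    · simp only [fr]
      push_cast
      linear_combination hr0
    · clear hf hv hψ hirr hk hs X
      interval_cases n <;> decide +kernel
  have hb : bil t := by
    cases t
    exacts [absurd rfl ht, absurd rfl hU, trivial, trivial, trivial, trivial]
  have hv' : vv t j = j := by
    cases t
    case U => exact absurd rfl hU
    all_goals rfl
  rw [hv'] at hE
  obtain rfl : y = x := by
    by_contra h
    obtain ⟨z, hz⟩ := exists_ne ι h hy hx
    have k := cj_xi p hirr hv hψ hf one_le_two X.range X.M.core.absIrred (hs hb) (up ![z - 1, 0, 0] * lo ![1, 0, 0])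
    rw [xi_up_lo, xi_up_lo] at k
    exact hz (by simpa using k)
  obtain ⟨u, ζ, D⟩ := exists_dz ι p h4 h6 (by
    obtain rfl | rfl : j = 1 ∨ j = 2 := by have := X.pos; omega
    exacts [by rwa [hE, pow_one], by rw [hE]; exact dvd_sq hd])
  have hP : ∀ {m lo k : ℕ}, ev (φ u) 1 ≤ m → lo ≤ n → n < lo + k → allK (fun t => t == .L || t == .U || (List.range' lo k).all fun n =>
      !dimB t n || chkP t n (BB j t) 6 3 fun x _ => Nat.blt m x) = true → G := fun {m lo k} hm k1 k2 h => by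
    refine X.useP hr D (e := 3) (ord3 hr.one_lt (cop6 h6 hd) ?_) (by decide) (fun s k3 k4 => ?_) hm ?_
    · cases t
      case U => exact absurd rfl hU
      all_goals simpa [fr] using hr0
    · have : 2 ∣ s := by
        cases t
        exacts [absurd rfl ht, absurd rfl hU, k4, k4, k4, k4]
      omega
    · have k3 := allK_sound h t
      simp only [Bool.or_eq_true, beq_iff_eq, ht, hU, false_or, List.all_eq_true] at k3
      simpa only [dimB_of X.M.dim, Bool.not_true, Bool.false_eq_true, false_or] using k3 n (List.mem_range'_1.2 ⟨k1, k2⟩)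
  rcases Nat.lt_or_ge n (3 * j + 18) with hn | hn
  swap
  · obtain rfl | rfl : j = 1 ∨ j = 2 := by have := X.pos; omega
    all_goals exact X.M.sieve (F := fun _ _ => false) hn X.hB nofun (by decide +kernel)
  rcases Ds_small hp.out y (by omega) (by omega) with ⟨s, i, k1, k2, rfl, k3⟩ | ⟨i, l, -, rfl, k3⟩
  swap
  · obtain rfl | rfl : j = 1 ∨ j = 2 := by have := X.pos; omega
    all_goals exact hP (lo := 18) (k := 6) (ev_ad hirr hv hψ D p hf rfl rfl) (by omega) (by omega) (by decide +kernel)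
  obtain rfl : j = 1 := by
    have k4 := card_eq_of_dvd X.pos X.card.symm k1 k2 (dvd_zero p hirr hv hψ le_rfl hf)
    exact Nat.pow_right_injective (a := Nat.card K) Finite.one_lt_card (X.card.symm.trans (k4.trans (pow_one _).symm))
  obtain rfl | rfl | rfl : s = 1 ∨ s = 2 ∨ s = 3 := by omega
  · exact hP (m := 8) (lo := 5) (k := 4) ((ev_le_n _ _).trans (le_eight hirr hv hψ D p hf (one_mul _) rfl)) h5
      (by have := le_eight hirr hv hψ D p hf (one_mul _) rfl; omega) (by decide +kernel)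
  · have h7 : n ≠ 12 := fun k => not_twelve p X.M.core (by omega) (by omega) (by simpa using k) e
    exact hP (m := 6) (lo := 13) (k := 8) (ev_sym hirr hv hψ D p hf h4 rfl rfl) (by omega) (by omega) (by decide +kernel)
  · have h7 : 5 ≤ q := by
      obtain ⟨a, k4, rfl⟩ := X.M.pow
      exact (hp.out.five_le_of_ne_two_of_ne_three (by omega) (by omega)).trans (Nat.le_self_pow k4.ne' p)
    obtain ⟨m, k4, k5, k6⟩ := exists_m h7
    obtain ⟨u, ζ, D⟩ := exists_dz ι p (by omega) k5 (by rwa [hE, pow_one])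
    have k7 : ev (φ u) 1 ≤ 10 := ev_sym hirr hv hψ D p hf k4 rfl rfl
    obtain ⟨k8, z, k9⟩ := six X.M.toMd0 hb (by omega) k5 k6 (X.cop D.dvd) (X.el_pow D.pow)
    refine X.cD ⟨φ u, X.el u⟩ le_rfl ?_
    change 6 * dm (φ u) ≤ 6 * ev (φ u) 1 ^ 2 + (n - ev (φ u) 1) ^ 2 at k8
    change n - ev (φ u) 1 = _ at k9
    change _ + 3 * dm (φ u) + _ + _ ≤ _
    generalize dm (φ u) = d at k8 ⊢
    generalize ev (φ u) 1 = w at k7 k8 k9
    obtain rfl | rfl | rfl : n = 18 ∨ n = 19 ∨ n = 20 := by omega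
    all_goals interval_cases w <;> omega

end Cx

end A2

theorem row_a2 : Row (fA 3) := fun t n q p T b K _ _ P G c f M ⟨E, _, _, _, _, ⟨e⟩⟩ => by
  have := Fact.mk M.prime
  have := M.char
  have := M.core.nonempty
  have : CharP (AlgebraicClosure K) p := charP_of_injective_algebraMap (algebraMap K _).injective p
  obtain ⟨a, ha, hE⟩ := exists_f E p
  obtain ⟨φ, hφ, hk, -⟩ := H905.Md.psl_cover (l := 2) p M.core.perfect (by omega) (fun h => by omega) e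
  obtain ⟨j, h1, h2⟩ := H905.Md.psl_card (l := 2) p M.core.absIrred M.core.perfect (by omega) (fun h => by omega) e M.core.no_subfield
  have X : A2.Cx t q p T b P G c f j φ := ⟨M, ⟨a, ha, hE, nd_A M.core.simple M.core.nonabelian M.prime ha hE (by omega) (by omega) e⟩,
    ⟨e⟩, h2.symm, h1, hφ, hk⟩
  exact (em (t = .L)).elim X.lin_case X.form_case

end Cfsg.Agent.N2C.RD
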