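import Cfsg.Agent.N2.Cl.RD.Mn1
import Cfsg.Agent.H948.Ppd.Pminus

/-!
# N2 (S3519), defining characteristic, `PΩ⁻_{2m}`: root data of types `B₃` and `B₄` (helper92)

* `w41`, `w43`, `w30`, `w32`, `two_nodes` : criterion W;  `pl` : criterion PL;  `spin` : the module of degree `8`.
-/

set_option autoImplicit false
set_option linter.unusedSectionVars false
set_option linter.style.longLine false

namespace Cfsg.Agent.N2C.RD.Mn

section abs

open CoxeterSystem Cfsg.Agent.ChevalleyStructure.CoxeterGeom Cfsg.Agent.Tits.Roots Cfsg.Agent.Tits.Core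
  Cfsg.Agent.Tits.Exchange Cfsg.Agent.Nodes.Reps Cfsg.Agent.Nodes.BNOf Cfsg.Agent.Nodes.StabComb
  Cfsg.Agent.Nodes.Bruhat Cfsg.Agent.Nodes.OppDec Cfsg.Agent.Nodes.LeviDec Cfsg.Agent.KFacts.RgdOpp
  Cfsg.Agent.Omega.CR Cfsg.Agent.Omega.FOne.Lift.Sd Cfsg.Agent.H911 Cfsg.Agent.H905.Md Cfsg.Agent.Nodes.RGDLib
open Cfsg Cfsg.Geo Module
open Cfsg.Agent.H915.LD
open Cfsg.Agent.Nodes.TypeC (isCartan A)
open Cfsg.Agent.N2C.RD.Rg

variable {W Y : Type*} [Group W] [Group Y] {p : ℕ} {T : Subgroup Y} [Finite Y] [Finite W] [hp : Fact p.Prime]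
  {n : ℕ} {K : Type} [Field K] [Finite K] [CharP K p] {P : Subgroup (GL (Fin n) K)} {φ : Y →* GL (Fin n) K}

theorem ind_zero {I : Type*} [DecidableEq I] {J : Set I} {i : I} (hi : i ∉ J) : ∀ s ∈ J, (Pi.single i 1 : I → ℤ) s = 0 :=
  fun s hs => Pi.single_eq_of_ne (by rintro rfl; exact hi hs) _

section four

variable {cs : CoxeterSystem (CoxeterMatrix.B 4) W} {nn : Fin 4 → Y} {X : (Fin 4 → ℤ) → Subgroup Y}
  (R : RGD cs (isCartan 4) p T nn X) (hC : Core P) (hG : GG cs (isCartan 4) T X = ⊤)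
  (hT : ∀ s ∈ T, ∀ t ∈ T, s * t = t * s) (hφ : φ.range = P)
include R hC hG hT hφ

theorem w41 (hi : (1 : Fin 4) ∉ Jx cs (isCartan 4) X (lin (acRep φ))) :
    24 ≤ n ∧ ∃ u : P, dm (u : GL (Fin n) K) ≤ 3 * n + (n - 24) * (3 + (n - 24)) :=
  exists_dm_le R hC hG hT hφ (ind_zero hi) [0, 1, 2, 3] [([], 8), ([1], 8), ([1, 2], 8)] [] [] [] (fun e he => absurd he (by simp))
    (by decide +kernel) List.nodup_nil (o := 3) (o' := 0) (m := 24) (m' := 0) rfl rfl rfl rfl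

theorem w43 (hi : (3 : Fin 4) ∉ Jx cs (isCartan 4) X (lin (acRep φ))) :
    16 ≤ n ∧ ∃ u : P, dm (u : GL (Fin n) K) ≤ 2 * n + (n - 16) * (2 + (n - 16)) :=
  exists_dm_le R hC hG hT hφ (ind_zero hi) [0, 1, 2, 3] [([], 8), ([3, 2], 8)] [] [] [] (fun e he => absurd he (by simp))
    (by decide +kernel) List.nodup_nil (o := 2) (o' := 0) (m := 16) (m' := 0) rfl rfl rfl rfl

end four

variable {cs : CoxeterSystem (CoxeterMatrix.B 3) W} {nn : Fin 3 → Y} {X : (Fin 3 → ℤ) → Subgroup Y}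
  (R : RGD cs (isCartan 3) p T nn X) (hC : Core P) (hG : GG cs (isCartan 3) T X = ⊤)
  (hT : ∀ s ∈ T, ∀ t ∈ T, s * t = t * s) (hφ : φ.range = P)
include R hC hG hT hφ

theorem w30 (hi : (0 : Fin 3) ∉ Jx cs (isCartan 3) X (lin (acRep φ)))
    (hd : 3 ≤ finrank (AlgebraicClosure K) (Le cs (isCartan 3) T X (lin (acRep φ)) {0})) :
    18 ≤ n ∧ ∃ u : P, dm (u : GL (Fin n) K) ≤ 3 * n + (n - 18) * (3 + (n - 18)) :=
  exists_dm_le R hC hG hT hφ (ind_zero hi) [0, 1, 2] [([], 6)] [] [((0, []), 6), ((0, [1]), 6)] [] (fun e he => by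
      simp only [List.append_nil, List.mem_cons, List.not_mem_nil, or_false] at he
      rcases he with rfl | rfl <;> exact hd)
    (by decide +kernel) (by decide +kernel) (o := 3) (o' := 0) (m := 18) (m' := 0) rfl rfl rfl rfl

theorem w32 (hi : (2 : Fin 3) ∉ Jx cs (isCartan 3) X (lin (acRep φ)))
    (hd : 3 ≤ finrank (AlgebraicClosure K) (Le cs (isCartan 3) T X (lin (acRep φ)) {2})) :
    20 ≤ n ∧ ∃ u : P, dm (u : GL (Fin n) K) ≤ 3 * n + (n - 18) * (4 + (n - 20)) :=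
  exists_dm_le R hC hG hT hφ (ind_zero hi) [0, 1, 2] [([], 6)] [([2, 1], 2)] [((2, []), 6), ((2, [1]), 6)] [] (fun e he => by
      simp only [List.append_nil, List.mem_cons, List.not_mem_nil, or_false] at he
      rcases he with rfl | rfl <;> exact hd)
    (by decide +kernel) (by decide +kernel) (o := 3) (o' := 1) (m := 18) (m' := 2) rfl rfl rfl rfl

theorem two_nodes {i : Fin 3} (hi : i ∉ Jx cs (isCartan 3) X (lin (acRep φ))) (hi2 : i ≠ 2)
    (h2 : (2 : Fin 3) ∉ Jx cs (isCartan 3) X (lin (acRep φ))) : 24 ≤ n := by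
  have hc : ∀ s ∈ Jx cs (isCartan 3) X (lin (acRep φ)), (Pi.single i 1 + Pi.single 2 1 : Fin 3 → ℤ) s = 0 := fun s hs => by
    rw [Pi.add_apply, ind_zero hi s hs, ind_zero h2 s hs, add_zero]
  obtain rfl | rfl : i = 0 ∨ i = 1 := by
    clear hi hc
    revert i
    decide
  · exact (exists_dm_le R hC hG hT hφ hc [0, 1, 2] [([], 6), ([0], 6), ([0, 1], 6), ([2, 1], 6)] [] [] [] (fun e he => absurd he (by simp))
      (by decide +kernel) List.nodup_nil (o := 4) (o' := 0) (m := 24) (m' := 0) rfl rfl rfl rfl).1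
  · exact (exists_dm_le R hC hG hT hφ hc [0, 1, 2] [([], 6), ([1], 6), ([2], 6), ([2, 1], 6)] [] [] [] (fun e he => absurd he (by simp))
      (by decide +kernel) List.nodup_nil (o := 4) (o' := 0) (m := 24) (m' := 0) rfl rfl rfl rfl).1

/-- criterion PL -/
theorem pl (h1 : (1 : Fin 3) ∉ Jx cs (isCartan 3) X (lin (acRep φ))) (h2 : (2 : Fin 3) ∈ Jx cs (isCartan 3) X (lin (acRep φ)))
    {r : ℕ} (hr : r.Prime) (hrp : r ≠ p) (hrT : ¬ r ∣ Nat.card T) (hd : r ∣ 1 + Nat.card (X (sr 2)))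
    (he : ∀ d, 0 < d → r ∣ Nat.card K ^ d - 1 → 4 ≤ d) :
    ∃ u : P, u ^ r = 1 ∧ 16 + ev (u : GL (Fin n) K) 1 ≤ n ∧ 4 ≤ ev (u : GL (Fin n) K) 1 := by
  obtain ⟨s, hs, hE⟩ := exists_el1 R hr hrp hrT hd
  have hsr : s ^ r = 1 := hs ▸ pow_orderOf_eq_one s
  refine ⟨⟨φ s, by rw [← hφ]; exact ⟨s, rfl⟩⟩, Subtype.ext (by
    show φ s ^ r = 1
    rw [← map_pow, hsr, map_one]), ?_, ?_⟩
  · exact levi_ev R hC hG hT hφ (ind_zero h1) [2] (by simpa using hE) hr hrp hsr [[1], [1, 0], [1, 0, 2, 1], [1, 0, 2, 1, 0]]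
      [![1, 0, 0], ![0, 2, 1]] (by decide +kernel) (by decide +kernel) (by decide +kernel) (by decide +kernel) he
  · refine fix_ev R hC hG hT hφ (ind_zero h1) hE.1 hsr ((Nat.Prime.coprime_iff_not_dvd hr).2 hrT)
      [[], [1, 2, 1], [1, 2, 1, 0], [1, 0, 2, 1, 0, 2, 1]] (fun ω hω i hi m hm => ?_) (by decide +kernel)
    obtain rfl : i = 2 := hi
    have hm2 : m ≠ 2 := fun e => hm (e ▸ h2)
    clear hm
    revert ω m
    decide +kernel

/-- the module of degree `8` -/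
theorem spin (hi : (2 : Fin 3) ∉ Jx cs (isCartan 3) X (lin (acRep φ)))
    (hJ : ∀ j, j ∉ Jx cs (isCartan 3) X (lin (acRep φ)) → j = 2)
    (hd : finrank (AlgebraicClosure K) (Le cs (isCartan 3) T X (lin (acRep φ)) {2}) ≤ 2)
    (hZ : ∀ S : Subgroup Y, T ≤ S → (∀ w, X (rep cs (isCartan 3) w (sr 2)) ≤ S) → ∀ x, IsRoot cs (isCartan 3) x → X x ≤ S) :
    n ≤ 8 := by
  have hne := hC.nonempty
  have hchar : CharP (AlgebraicClosure K) p := charP_of_injective_algebraMap (algebraMap K _).injective p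
  have hirr := ac_irr R hG hT hφ hC.absIrred
  have hD := finrank_D R hirr hT
  have h := dim_le_Z R hirr hi hJ (by rw [hD]; exact hd) hZ
    [[], [2], [2, 1], [2, 1, 0], [2, 1, 2], [2, 1, 0, 2], [2, 1, 0, 2, 1], [2, 1, 0, 2, 1, 2]] (by decide +kernel) (by decide +kernel)
    [![0, 0, 1], ![0, 2, 1], ![2, 2, 1], ![0, 0, -1], ![0, -2, -1], ![-2, -2, -1]] (by decide +kernel) (by decide +kernel)
    [[], [1], [0, 1]] (by decide +kernel) (by decide +kernel)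
  rwa [hD, Module.finrank_fintype_fun_eq_card, Fintype.card_fin] at h

end abs

section gen

open CoxeterSystem Cfsg.Agent.ChevalleyStructure.CoxeterGeom Cfsg.Agent.Tits.Roots Cfsg.Agent.Tits.Core
  Cfsg.Agent.Nodes.Reps Cfsg.Agent.Nodes.BNOf Cfsg.Agent.Nodes.Bruhat Cfsg.Agent.Nodes.RGDLib
open Cfsg.Agent.Nodes Cfsg.Agent.Nodes.WittRoot Cfsg.Agent.Nodes.WittRGD Cfsg.Agent.Nodes.WittAll Cfsg.Agent.Nodes.WittInst
open Cfsg.Agent.Nodes.TypeC (isCartan ee wt exists_of_isRoot)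
open Cfsg.Agent.TitsThree.Siegel Cfsg.Agent.TitsThree.SiegelGen Cfsg.Agent.TitsThree.WittFrame Cfsg.Agent.TitsThree.FrameCN
  Cfsg.Agent.TitsThree.WBridge Cfsg.Agent.TitsThree.KSideO Cfsg.Agent.TitsThree Cfsg.Agent.TitsThree.StdData
open Cfsg.Agent.LieClassical Cfsg.Agent.LieClassical.OrthCore Cfsg.Agent.LieClassical.OrthTrans
open Cfsg.Agent.LieClassical.OrthSimple Cfsg.Agent.LieClassical.OrthFinite Cfsg.Agent.LieClassical.OrthForms
open Cfsg.Agent.Nodes.RGDLift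
open Cfsg.Agent.H156.Ppd (Cov)
open Cfsg.Agent.H948.Ppd Cfsg.Agent.H948.Ppd.Minus

theorem gen_Z {F V : Type*} [Field F] [AddCommGroup V] [Module F V] {H : HForm F V} (Fr : Frame H (Fin 3))
    (hs : ∀ t : F, ∃ p q : Fr.Adm, H.h p.w q.w = t) {W : Type*} [Group W] (cs : CoxeterSystem (CoxeterMatrix.B 3) W)
    {S : Subgroup (V ≃ₗ[F] V)} (h : ∀ w, rg Fr (rep cs (isCartan 3) w (sr 2)) ≤ S) {x : Fin 3 → ℤ}
    (hx : IsRoot cs (isCartan 3) x) : rg Fr x ≤ S := by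
  have hZ : ∀ a, ZG Fr a ≤ S := by
    intro a
    have key : ∀ a : Fin 3 × Bool, ∃ ω ∈ ([[], [2], [1], [1, 2], [0, 1], [0, 1, 2]] : List (List (Fin 3))),
        ee (H925.Nat.rf (TypeC.A 3) 2 ω) = wt a + wt a := by decide +kernel
    obtain ⟨ω, -, e⟩ := key a
    have h1 := h (cs.wordProd ω)
    rwa [H925.Nat.rep_wordProd_sr, rg_eq Fr (Or.inr rfl) e, PG_self] at h1
  obtain ⟨a, b, hab, e⟩ := exists_of_isRoot cs hx
  rw [rg_eq Fr hab e]
  rcases hab with hab | rfl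
  · rw [PG_ne Fr hab]
    rintro _ ⟨t, rfl⟩
    obtain ⟨p, q, e1⟩ := hs (H.σ (-((Fr.η b)⁻¹ * t)))
    have h1 := Fr.Z_mul_Z hab p q
    rw [e1, H.σσ, mul_neg, _root_.neg_neg, mul_inv_cancel_left₀ (Fr.η_ne b)] at h1
    rw [eq_mul_inv_of_mul_eq h1.symm]
    exact mul_mem (mul_mem (hZ a ⟨p, rfl⟩) (hZ b ⟨q, rfl⟩)) (inv_mem (mul_mem (hZ b ⟨q, rfl⟩) (hZ a ⟨p, rfl⟩)))
  · rw [PG_self]
    exact hZ a

variable {K : Type} [Field K] [Finite K] {a b : K}
  (hab : ∀ z₁ z₂ : K, z₁ ^ 2 + a * z₁ * z₂ + b * z₂ ^ 2 = 0 → z₁ = 0 ∧ z₂ = 0)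

theorem adm_surj {m : ℕ} (t : K) :
    ∃ p q : (toFrame (wminus m K a b hab)).Adm, (HO (minusForm m K a b)).h p.w q.w = t := by
  have key : ∀ x y : EE a b, (HO (minusForm m K a b)).h (adm hab x).w (adm (m := m) hab y).w =
      2 * x.re * y.re + a * (x.re * y.im + x.im * y.re) + 2 * b * x.im * y.im := fun x y => by
    rw [HO_h, polar_minusForm]
    simp [adm, ia]
  by_cases h2 : (2 : K) = 0
  · have ha : a ≠ 0 := by
      rintro rfl
      obtain ⟨c, rfl⟩ := FiniteField.isSquare_of_char_two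
        (CharP.ringChar_of_prime_eq_zero Nat.prime_two (by exact_mod_cast h2) : ringChar K = 2) b
      exact one_ne_zero (hab c 1 (by linear_combination (c * c) * h2)).2
    exact ⟨adm hab ⟨a⁻¹ * t, 0⟩, adm hab ⟨0, 1⟩, by rw [key]; field_simp; ring⟩
  · exact ⟨adm hab ⟨2⁻¹ * t, 0⟩, adm hab ⟨1, 0⟩, by rw [key]; field_simp; ring⟩

/-- the root groups of the orbit of the last node generate -/
theorem gen_cov {p : ℕ} [Fact p.Prime] [CharP K p] (hG : Good (minusForm 3 K a b))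
    (hA : AmbT (toFrame (wminus 3 K a b hab)) p (MM hab hG).I) {F : Type} [Field F] {n : ℕ} {P : Subgroup (GL (Fin n) F)}
    {Y : Type} [Group Y] [Finite Y] {f : Y →* (MM hab hG).I} {φ : Y →* GL (Fin n) F} {n₁ : Fin 3 → Y}
    (C : Cov (CoxeterMatrix.B 3).toCoxeterSystem (isCartan 3) p (TB (MM hab hG)) (NB hA (pM hab)) (XB (MM hab hG)) P f φ n₁)
    (S : Subgroup Y) (hT : (TB (MM hab hG)).comap f ≤ S)
    (h : ∀ w, RGDLift.lft p f (XB (MM hab hG) (rep (CoxeterMatrix.B 3).toCoxeterSystem (isCartan 3) w (sr 2))) ≤ S) (x : Fin 3 → ℤ)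
    (hx : IsRoot (CoxeterMatrix.B 3).toCoxeterSystem (isCartan 3) x) : RGDLift.lft p f (XB (MM hab hG) x) ≤ S := by
  have hWf : Finite (CoxeterMatrix.B 3).Group := TypeC.finite_W (CoxeterMatrix.B 3).toCoxeterSystem
  have := finite_GL (K := K) (ν := (Fin 3 ⊕ Fin 3) ⊕ Fin 2)
  have R := rgdB hA (pc_ne hab) (CoxeterMatrix.B 3).toCoxeterSystem
  have h1 := gen_Z (toFrame (wminus 3 K a b hab)) (adm_surj hab) (CoxeterMatrix.B 3).toCoxeterSystem
    (S := (S.map f).map (MM hab hG).I.subtype) (fun w g hg => by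
      have h2 : (⟨g, hA.rg_le _ hg⟩ : (MM hab hG).I) ∈ XB (MM hab hG) _ := hg
      rw [← map_lft C.ker C.cop C.surj (R.pgrp' ((isRoot_sr _ _ 2).act w))] at h2
      exact ⟨_, Subgroup.map_mono (h w) h2, rfl⟩) hx
  intro y hy
  obtain ⟨_, ⟨z, hz, rfl⟩, e⟩ := h1 (map_lft_le p f _ ⟨y, hy, rfl⟩)
  have h2 : z⁻¹ * y ∈ S := hT (by
    rw [Subgroup.mem_comap, map_mul, map_inv, show f z = f y from Subtype.ext e, inv_mul_cancel]
    exact one_mem _)
  rw [← mul_inv_cancel_left z y]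
  exact mul_mem hz h2

end gen

end Cfsg.Agent.N2C.RD.Mn
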