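import Cfsg.Agent.N2.Cl.RD.Mn2
import Cfsg.Agent.N2.Cl.RD.Mn3
import Cfsg.Agent.H218.SdFin
import Cfsg.Agent.H879.Nine.Ctx

/-!
# N2 (S3519), defining characteristic: the rows `PΩ⁻_{2m}` (helper92)

* **`rowM4`** : `Row (fM 4)`;  **`rowM`** : `Row (fM m)`, `m ≥ 5`.
-/

set_option autoImplicit false
set_option linter.unusedSectionVars false
set_option linter.style.longLine false

namespace Cfsg.Agent.N2C.RD

namespace Mn

section md

open Cfsg Cfsg.Geo Cfsg.Agent.N2C.RX Cfsg.Agent.H915.LD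

variable {t : Kd} {n q p T b : ℕ} {K : Type} [Field K] [Fintype K] {P : Subgroup (GL (Fin n) K)} {G : Prop} {c f : P → ℕ}
  (M : Md0 t q p T b P G c f)
include M

theorem sc_y {l a j : ℕ} (N : Nd (.DD (l + 1)) p a (Soc P)) (hs : (p ^ a) ^ 2 ≤ Fintype.card K ^ j) (y : ℕ) (hy : y ≤ n)
    (h : 4 * (j * (2 * l ^ 2 + 3 * l + 2)) + 36 + 16 * y ≤ y ^ 2) : G := by
  have h1 : 16 ≤ y := by
    by_contra h2
    have h3 : y ^ 2 ≤ 16 * y := by rw [sq]; exact Nat.mul_le_mul_right _ (by omega)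
    omega
  obtain ⟨x, rfl⟩ := Nat.exists_eq_add_of_le' h1
  refine sc_ge M N hs hy ?_
  have e1 : 2 * (l + 1) ^ 2 - (l + 1) + 1 = 2 * l ^ 2 + 3 * l + 2 := by
    have : 2 * (l + 1) ^ 2 = 2 * l ^ 2 + 3 * l + 1 + (l + 1) := by ring
    omega
  have e2 : (x + 16) ^ 2 = (x + 16) * x + 16 * (x + 16) := by ring
  rw [e1]
  omega

/-- the natural degree -/
theorem nat {m a : ℕ} (N : Nd (.DD m) p a (Soc P)) (hn : n = 2 * m) (hK : Fintype.card K = p ^ a) (h1 : FixQ P) : False := by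
  subst hn
  have h := M.frm
  have hq := M.card
  have hd := M.dim
  have ho := N.ord_M
  rw [← hK, hq] at ho
  cases t
  · exact h (H879.Nine.sd_of_fixQ h1)
  · exact h.2 (H879.Nine.sd_of_fixQ h1)
  · exact h.2.2 h1
  · have := hd.2.1
    omega
  · exact M.ct_notP ho
  · exact M.not_nat ho

end md

theorem six_le {l : ℕ} (hl : 5 ≤ l) : 6 * l + 2 ≤ 2 ^ l := by
  induction l, hl using Nat.le_induction with
  | base => norm_num
  | succ l hl ih => rw [pow_succ]; omega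

section main

open CoxeterSystem Cfsg.Agent.ChevalleyStructure.CoxeterGeom Cfsg.Agent.Tits.Roots Cfsg.Agent.Tits.Core
  Cfsg.Agent.Nodes.Reps Cfsg.Agent.Nodes.BNOf Cfsg.Agent.Nodes.Bruhat Cfsg.Agent.Nodes.RGDLib
open Cfsg.Agent.Nodes Cfsg.Agent.Nodes.WittRoot Cfsg.Agent.Nodes.WittRGD Cfsg.Agent.Nodes.WittAll Cfsg.Agent.Nodes.WittInst
open Cfsg.Agent.Nodes.TypeC (isCartan)
open Cfsg.Agent.TitsThree.Siegel Cfsg.Agent.TitsThree.SiegelGen Cfsg.Agent.TitsThree.WittFrame Cfsg.Agent.TitsThree.FrameCN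
  Cfsg.Agent.TitsThree.WBridge Cfsg.Agent.TitsThree.KSideO Cfsg.Agent.TitsThree Cfsg.Agent.TitsThree.StdData
open Cfsg.Agent.LieClassical Cfsg.Agent.LieClassical.OrthCore Cfsg.Agent.LieClassical.OrthTrans
open Cfsg.Agent.LieClassical.OrthSimple Cfsg.Agent.LieClassical.OrthFinite Cfsg.Agent.LieClassical.OrthForms
open Cfsg.Agent.H915.LD Cfsg.Agent.H911 Cfsg.Agent.H905.Md Cfsg.Agent.H925.Nat
open Cfsg.Agent.H156.Ppd (Cov lrep exists_cov)
open Cfsg.Agent.Omega.CR Cfsg.Agent.Omega.FOne.Lift.Sd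
open Cfsg Cfsg.Geo QuadraticMap Cfsg.Agent.N2C.RX
open scoped MatrixGroups Matrix
open Cfsg.Agent.H948.Ppd hiding Nd
open Cfsg.Agent.H948.Ppd.Minus

variable {t : Kd} {n q p T₀ b₀ : ℕ} {F : Type} [Field F] [Fintype F] {P : Subgroup (GL (Fin n) F)} {G : Prop} {c g : P → ℕ}
  {K : Type} [Field K] [Fintype K] [hp : Fact p.Prime] [CharP F p] [CharP K p] {a b : K}
  {hab : ∀ z₁ z₂ : K, z₁ ^ 2 + a * z₁ * z₂ + b * z₂ ^ 2 = 0 → z₁ = 0 ∧ z₂ = 0} {l : ℕ} {hG : Good (minusForm l K a b)}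
  {hA : AmbT (toFrame (wminus l K a b hab)) p (MM hab hG).I} {Y : Type} [Group Y] [Finite Y] {f : Y →* (MM hab hG).I}
  {φ : Y →* GL (Fin n) F} {n₁ : Fin l → Y} {e : ℕ}

/-- the last node is in the support -/
theorem caseB (M : Md t q p T₀ b₀ P G c g) (N : Nd (.DD (l + 1)) p e (Soc P)) (hK : Fintype.card K = p ^ e) (hl : 3 ≤ l)
    (C : Cov (CoxeterMatrix.B l).toCoxeterSystem (isCartan l) p (TB (MM hab hG)) (NB hA (pM hab)) (XB (MM hab hG)) P f φ n₁)
    (hT : ∀ s ∈ (TB (MM hab hG)).comap f, ∀ t ∈ (TB (MM hab hG)).comap f, s * t = t * s)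
    (hpow : ∀ t ∈ (TB (MM hab hG)).comap f, t ^ Nat.card K ^ 2 = t) (hS : l = 3 → n = 8 → SD P)
    {i : Fin l} (hi : (i : ℕ) + 1 = l) (hiJ : i ∉ JB (MM hab hG) p f φ) : G := by
  have hC := M.core
  have hWf : Finite (CoxeterMatrix.B l).Group := TypeC.finite_W (CoxeterMatrix.B l).toCoxeterSystem
  have he := N.real.hf
  have hK' : Nat.card K = p ^ e := Nat.card_eq_fintype_card.trans hK
  obtain ⟨j, hj, hjK⟩ := C.exists_j hC hT (a := e * 2) (by omega) (by rw [pow_mul, ← hK']; exact hpow)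
  rw [pow_mul] at hjK
  have hs : (p ^ e) ^ 2 ≤ Fintype.card F ^ j := by rw [← hjK, Nat.card_eq_fintype_card]
  obtain ⟨E, _, _, _, σ', h1, -, N'⟩ := node_last hab hG hA hi
  obtain ⟨σ, -, N₁⟩ := lift_nd C (pc_ne hab) N'
  have hd := edge_pow_B hC C hT hiJ N₁ (s := j) (by rw [h1, hjK, hK'])
  obtain ⟨ε, hε, h3⟩ := bound_last hC C hT hi hiJ
  rw [Fintype.card_fin] at h3
  obtain ⟨x, rfl⟩ : ∃ x, j = x + 1 := ⟨j - 1, by omega⟩
  have h4 := eps_ge hd hε
  have h5 : 2 ^ 3 ≤ 2 ^ l := Nat.pow_le_pow_right two_pos hl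
  rcases Nat.eq_zero_or_pos x with rfl | hx
  swap
  · have h6 : 2 ^ 2 ≤ 2 ^ (l - 1) := Nat.pow_le_pow_right two_pos (by omega)
    have h7 : l * 2 ^ 2 * (2 * x) ≤ l * 2 ^ (l - 1) * ε := by gcongr
    refine sc_y M.toMd0 N hs (8 + l * 2 ^ 2 * (2 * x)) (by omega) ?_
    obtain ⟨u, rfl⟩ := Nat.exists_eq_add_of_le hl
    obtain ⟨v, rfl⟩ := Nat.exists_eq_add_of_le hx
    ring_nf
    omega
  rcases Nat.lt_or_ge l 5 with h6 | h6
  swap
  · refine sc_y M.toMd0 N hs (6 * l + 2) ((six_le h6).trans (by omega)) ?_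
    obtain ⟨u, rfl⟩ := Nat.exists_eq_add_of_le h6
    ring_nf
    omega
  obtain rfl | rfl : l = 3 ∨ l = 4 := by omega
  · obtain rfl : i = 2 := Fin.ext (show (i : ℕ) = 2 by omega)
    rcases Nat.lt_or_ge n 23 with h7 | h7
    swap
    · exact sc_y M.toMd0 N hs 23 h7 (by norm_num)
    rcases Nat.lt_or_ge 2 (dB (MM hab hG) p f φ 2) with h8 | h8
    · obtain ⟨h9, u, hu⟩ := w32 C.rgd hC C.hGG hT C.range hiJ h8
      refine ct_h M.toMd0 N hs u hu ?_
      clear hu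
      interval_cases n <;> norm_num
    have h9 := spin C.rgd hC C.hGG hT C.range hiJ (fun k hk => by_contra fun hk2 => by
      have := two_nodes C.rgd hC C.hGG hT C.range hk hk2 hiJ
      omega) h8 (gen_cov hab hG hA C)
    obtain rfl : n = 8 := by omega
    exact eight M N (by rw [← hjK, zero_add, pow_one, Nat.card_eq_fintype_card]) (hS rfl rfl)
  · obtain rfl : i = 3 := Fin.ext (show (i : ℕ) = 3 by omega)
    rcases Nat.lt_or_ge n 25 with h7 | h7
    swap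
    · exact sc_y M.toMd0 N hs 25 h7 (by norm_num)
    obtain ⟨h9, u, hu⟩ := w43 C.rgd hC C.hGG hT C.range hiJ
    refine ct_h M.toMd0 N hs u hu ?_
    clear hu
    interval_cases n <;> norm_num

/-- type `B₃`, the middle node -/
theorem mid {hG : Good (minusForm 3 K a b)} {hA : AmbT (toFrame (wminus 3 K a b hab)) p (MM hab hG).I} {f : Y →* (MM hab hG).I}
    {n₁ : Fin 3 → Y} (M : Md0 t q p T₀ b₀ P G c g) (N : Nd (.DD (3 + 1)) p e (Soc P)) (hK : Nat.card K = p ^ e) (hF : Nat.card F = p ^ e)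
    (C : Cov (CoxeterMatrix.B 3).toCoxeterSystem (isCartan 3) p (TB (MM hab hG)) (NB hA (pM hab)) (XB (MM hab hG)) P f φ n₁)
    (hT : ∀ s ∈ (TB (MM hab hG)).comap f, ∀ t ∈ (TB (MM hab hG)).comap f, s * t = t * s)
    (hpow : ∀ t ∈ (TB (MM hab hG)).comap f, t ^ Nat.card K ^ 2 = t)
    (h1 : (1 : Fin 3) ∉ JB (MM hab hG) p f φ) (h2 : (2 : Fin 3) ∈ JB (MM hab hG) p f φ) : G := by
  have hWf : Finite (CoxeterMatrix.B 3).Group := TypeC.finite_W (CoxeterMatrix.B 3).toCoxeterSystem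
  have he := N.real.hf
  have hs : (p ^ e) ^ 2 ≤ Fintype.card F ^ 2 := by rw [← hF, Nat.card_eq_fintype_card]
  rcases Nat.lt_or_ge n 27 with h7 | h7
  swap
  · exact sc_y M N hs 27 h7 (by norm_num)
  obtain ⟨r, hr, ho, -, hrp⟩ := H370.Rg.exists_rk (f := e) (k := 4) hp.out (by omega) (by omega)
  have := Fact.mk hr
  have hd := H370.Rg.dvd_q_pow_sub hr ho (by omega)
  have hrp' : r ≠ p := fun e => hrp (e ▸ dvd_rfl)
  obtain ⟨E, _, _, _, σ', h3, -, N'⟩ := node_last hab hG hA (i := 2) rfl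
  obtain ⟨σ, -, N₁⟩ := lift_nd C (pc_ne hab) N'
  have h4 : Nat.card E = Nat.card (RGDLift.lft p f (XB (MM hab hG) (sr 2))) :=
    Nat.card_congr (Equiv.ofBijective (fun x => ⟨σ (SLTwo.U x), (N₁.up _).2 ⟨x, rfl⟩⟩)
      ⟨fun x y h => N₁.U_inj C.rgd (congrArg Subtype.val h), fun y => by
        obtain ⟨x, hx⟩ := (N₁.up _).1 y.2
        exact ⟨x, Subtype.ext hx⟩⟩)
  have h5 : ¬ r ∣ (p ^ e) ^ 2 - 1 := fun h => absurd ((hd 2).1 h) (by norm_num)
  obtain ⟨u, hu, h8, h9⟩ := pl C.rgd M.core C.hGG hT C.range h1 h2 hr hrp' (fun h => h5 (by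
    obtain ⟨⟨x, hx⟩, h6⟩ := exists_prime_orderOf_dvd_card' r h
    rw [← Subgroup.orderOf_coe] at h6
    have h10 := hpow x hx
    have h11 : 1 ≤ (p ^ e) ^ 2 := Nat.one_le_pow _ _ (pow_pos hp.out.pos _)
    rw [hK, ← Nat.sub_add_cancel h11, pow_succ, mul_eq_right] at h10
    exact h6 ▸ orderOf_dvd_of_pow_eq_one h10)) (by
    have h6 := (hd 4).2 dvd_rfl
    rw [show (p ^ e) ^ 4 - 1 = ((p ^ e) ^ 2 + 1) * ((p ^ e) ^ 2 - 1) by
      rw [show (p ^ e) ^ 4 = ((p ^ e) ^ 2) ^ 2 by ring]; exact Nat.sq_sub_sq _ 1] at h6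
    rw [← h4, h3, hK, add_comm]
    exact (hr.dvd_mul.1 h6).resolve_right h5) fun d h0 h6 => Nat.le_of_dvd h0 ((hd d).1 (hF ▸ h6))
  have h10 := dm_ppd M hr hrp' hu (e := 4) (by
    rw [← Nat.card_eq_fintype_card, hF, ord_pow ho (by omega), Nat.gcd_mul_right_left, Nat.mul_div_cancel_left _ (by omega)]) (by norm_num)
  refine ct_h M N hs u le_rfl ?_
  generalize ev (u : GL (Fin n) F) 1 = x at h8 h9 h10
  have h11 : x ≤ 10 := by omega
  have h12 : 20 ≤ n := by omega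
  interval_cases n <;> interval_cases x <;> omega

/-- the last node is not in the support -/
theorem caseA (M : Md0 t q p T₀ b₀ P G c g) (N : Nd (.DD (l + 1)) p e (Soc P)) (hK : Fintype.card K = p ^ e) (hl : 3 ≤ l)
    (C : Cov (CoxeterMatrix.B l).toCoxeterSystem (isCartan l) p (TB (MM hab hG)) (NB hA (pM hab)) (XB (MM hab hG)) P f φ n₁)
    (hT : ∀ s ∈ (TB (MM hab hG)).comap f, ∀ t ∈ (TB (MM hab hG)).comap f, s * t = t * s)
    (hpow : ∀ t ∈ (TB (MM hab hG)).comap f, t ^ Nat.card K ^ 2 = t)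
    (hJ : ∀ i : Fin l, (i : ℕ) + 1 = l → i ∈ JB (MM hab hG) p f φ) : G := by
  have hC := M.core
  have hWf : Finite (CoxeterMatrix.B l).Group := TypeC.finite_W (CoxeterMatrix.B l).toCoxeterSystem
  have he := N.real.hf
  have hK' : Nat.card K = p ^ e := Nat.card_eq_fintype_card.trans hK
  have hlong : ∀ i : Fin l, (i : ℕ) + 1 < l → ∃ σ : SL(2, K) →* Y,
      H948.Ppd.Nd ((TB (MM hab hG)).comap f) (fun x => RGDLift.lft p f (XB (MM hab hG) x)) i σ := by
    intro i hi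
    obtain ⟨σ', -, N'⟩ := node_long hab hG hA hi
    obtain ⟨σ, -, N₁⟩ := lift_nd C (pc_ne hab) N'
    exact ⟨σ, N₁⟩
  obtain ⟨j, hj, hjK⟩ := pow_of_J C.rgd hC C.hGG hT C.range C.gen (a := e) (by omega) fun i => by
    by_cases hi : (i : ℕ) + 1 < l
    · obtain ⟨σ, N₁⟩ := hlong i hi
      exact ⟨K, _, σ, N₁, Or.inr fun x => by rw [← hK, FiniteField.pow_card]⟩
    · obtain ⟨E, _, _, _, σ', -, -, N'⟩ := node_last hab hG hA (i := i) (by omega)
      obtain ⟨σ, -, N₁⟩ := lift_nd C (pc_ne hab) N'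
      exact ⟨E, _, σ, N₁, Or.inl (hJ i (by omega))⟩
  have hs : (p ^ e) ^ 2 ≤ Fintype.card F ^ (j * 2) := by rw [pow_mul, ← hjK, Nat.card_eq_fintype_card]
  have hlt : ∀ i, i ∉ JB (MM hab hG) p f φ → (i : ℕ) + 1 < l := fun i hi => by
    have h1 : (i : ℕ) + 1 ≠ l := fun e => hi (hJ i e)
    omega
  have hedge : ∀ i, i ∉ JB (MM hab hG) p f φ → ∃ m, 2 ≤ m ∧ dB (MM hab hG) p f φ i = m ^ j := fun i hi => by
    obtain ⟨σ, N₁⟩ := hlong i (hlt i hi)
    exact edge_pow_B hC C hT hi N₁ (by rw [hjK, hK'])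
  obtain ⟨x, rfl⟩ : ∃ x, j = x + 1 := ⟨j - 1, by omega⟩
  by_cases hall : ∀ i, i ∉ JB (MM hab hG) p f φ → i = ⟨0, by omega⟩
  · have ho : (⟨0, by omega⟩ : Fin l) ∉ JB (MM hab hG) p f φ := by
      obtain ⟨i, hi⟩ := exists_node hC C hT
      rwa [← hall i hi]
    obtain ⟨ε, hε, h3⟩ := bound_first hC C hT (by omega) rfl ho
    rw [Fintype.card_fin] at h3
    have h4 := eps_ge (hedge _ ho) hε
    rcases Nat.eq_zero_or_pos x with rfl | hx
    · rcases Nat.lt_or_ge 2 (dB (MM hab hG) p f φ ⟨0, by omega⟩) with h8 | h8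
      · rcases hl.eq_or_lt with rfl | h5
        · rcases Nat.lt_or_ge n 27 with h7 | h7
          swap
          · exact sc_y M N hs 27 h7 (by norm_num)
          obtain ⟨h9, u, hu⟩ := w30 C.rgd hC C.hGG hT C.range ho h8
          refine ct_h M N hs u hu ?_
          clear hu
          interval_cases n <;> norm_num
        · have h6 : 2 * l * (l - 1) * 1 ≤ 2 * l * (l - 1) * ε := Nat.mul_le_mul_left _ (by omega)
          refine sc_y M N hs (2 * l + 2 * l * (l - 1) * 1) (by omega) ?_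
          obtain ⟨u, rfl⟩ := Nat.exists_eq_add_of_le' (show 4 ≤ l from h5)
          rw [show u + 4 - 1 = u + 3 from rfl]
          ring_nf
          omega
      have hspan : Submodule.span K (Set.range (mt (MM hab hG).I)) = ⊤ :=
        span_E hG (by rw [Fintype.card_sum, Fintype.card_sum, Fintype.card_fin, Fintype.card_fin]; omega)
      obtain ⟨τ, θ, hθ⟩ := identify_B hC hA (pc_ne hab) (by omega) hspan C hT (o := ⟨0, by omega⟩) rfl hall h8
      have hcj : CjOf (omegaGL (quadFormMinus l F (τ a) (τ b))) P := by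
        refine cjOf_of (mem_omega_iff'' hG) (map_omega_glm τ fun v => ?_) hθ
        rw [coe_minusForm]
        exact quadFormMinus_map τ a b v
      have hab' : ∀ z₁ z₂ : F, z₁ ^ 2 + τ a * z₁ * z₂ + τ b * z₂ ^ 2 = 0 → z₁ = 0 ∧ z₂ = 0 := by
        intro z₁ z₂ hz
        obtain ⟨z₁, rfl⟩ := τ.surjective z₁
        obtain ⟨z₂, rfl⟩ := τ.surjective z₂
        rw [← map_pow, ← map_pow, ← map_mul, ← map_mul, ← map_mul, ← map_add, ← map_add] at hz
        obtain ⟨h1, h2⟩ := hab _ _ ((map_eq_zero τ).1 hz)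
        rw [h1, h2, map_zero]
        exact ⟨rfl, rfl⟩
      have hQ : FixQ P := hcj.fixQ (by
        rw [← coe_minusForm]
        exact H925.isND_of_nondeg (nondeg_minusForm l F (τ a) (τ b) hab'))
      have h5 := hcj.card_eq
      rw [Fintype.card_fin, Fintype.card_sum, Fintype.card_sum, Fintype.card_fin, Fintype.card_fin] at h5
      exact (nat M N (by omega) (by rw [← hjK, zero_add, pow_one, Nat.card_eq_fintype_card]) hQ).elim
    rcases hl.eq_or_lt with rfl | h5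
    · rcases (show 1 ≤ x from hx).eq_or_lt with rfl | h6
      · refine sc_y M N hs 42 ?_ (by norm_num)
        rcases Nat.lt_or_ge 4 (dB (MM hab hG) p f φ ⟨0, by omega⟩) with h8 | h8
        · omega
        · have h7 := d_ge (by omega) (hedge _ ho)
          have h9 := rank_minus hC hab hG (by norm_num) hA C hT (o := ⟨0, by omega⟩) rfl
            (fun i => ⟨hall i, fun h0 => by rw [h0]; exact ho⟩) (by rw [hK', ← hjK]) (by omega)
          rw [Fintype.card_fin] at h9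
          omega
      · refine sc_y M N hs (6 + 24 * x) (by omega) ?_
        obtain ⟨v, rfl⟩ := Nat.exists_eq_add_of_le' (show 2 ≤ x from h6)
        ring_nf
        omega
    · have h6 : 2 * l * 3 * (2 * x) ≤ 2 * l * (l - 1) * ε := by
        gcongr
        omega
      refine sc_y M N hs (8 + 2 * l * 3 * (2 * x)) (by omega) ?_
      obtain ⟨u, rfl⟩ := Nat.exists_eq_add_of_le' (show 4 ≤ l from h5)
      obtain ⟨v, rfl⟩ := Nat.exists_eq_add_of_le' (show 1 ≤ x from hx)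
      ring_nf
      omega
  push Not at hall
  obtain ⟨i, hi, hi0⟩ := hall
  have hi1 : 1 ≤ (i : ℕ) := Nat.one_le_iff_ne_zero.2 fun h => hi0 (Fin.ext h)
  have hi2 := hlt i hi
  have hd := d_ge (by omega) (hedge i hi)
  rcases hl.eq_or_lt with rfl | h5
  · obtain rfl : i = 1 := Fin.ext (show (i : ℕ) = 1 by omega)
    rcases Nat.eq_zero_or_pos x with rfl | hx
    · exact mid M N hK' (by rw [← hjK, zero_add, pow_one]) C hT hpow hi (hJ 2 rfl)
    obtain ⟨ε, hε, h3⟩ := bound_mid hC C hT hi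
    rw [Fintype.card_fin] at h3
    refine sc_y M N hs (12 + 48 * x) (by omega) ?_
    obtain ⟨v, rfl⟩ := Nat.exists_eq_add_of_le' (show 1 ≤ x from hx)
    ring_nf
    omega
  have h3 := bound_all hC C hT hi
  rw [Fintype.card_fin] at h3
  by_cases h6 : l = 4 ∧ (i : ℕ) = 1
  · obtain ⟨rfl, h6⟩ := h6
    obtain rfl : i = 1 := Fin.ext h6
    rcases Nat.eq_zero_or_pos x with rfl | hx
    · rcases Nat.lt_or_ge n 30 with h7 | h7
      swap
      · exact sc_y M N hs 30 h7 (by norm_num)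
      obtain ⟨h9, u, hu⟩ := w41 C.rgd hC C.hGG hT C.range hi
      refine ct_h M N hs u hu ?_
      clear hu
      interval_cases n <;> norm_num
    · have h7 : 24 * dB (MM hab hG) p f φ 1 ≤ 2 * n := h3
      refine sc_y M N hs (24 * (x + 1)) (by omega) ?_
      obtain ⟨v, rfl⟩ := Nat.exists_eq_add_of_le' (show 1 ≤ x from hx)
      ring_nf
      omega
  have h7 : 8 * l ≤ l.choose (i + 1) * 2 ^ ((i : ℕ) + 1) := by
    rcases hi1.eq_or_lt with h8 | h8
    · rw [← h8, Nat.choose_two_right]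
      have h9 : 2 * (l * (l - 1) / 2) = l * (l - 1) := Nat.mul_div_cancel' (Nat.even_mul_pred_self l).two_dvd
      have h10 : l * 4 ≤ l * (l - 1) := Nat.mul_le_mul_left _ (by omega)
      omega
    · rw [mul_comm]
      exact Nat.mul_le_mul (TypeB.le_choose (by omega) hi2) (Nat.pow_le_pow_right two_pos (show 3 ≤ (i : ℕ) + 1 by omega))
  have h8 := (Nat.mul_le_mul h7 hd).trans h3
  refine sc_y M N hs (8 * l * (x + 1)) (by rw [mul_left_comm] at h8; omega) ?_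
  obtain ⟨u, rfl⟩ := Nat.exists_eq_add_of_le' (show 4 ≤ l from h5)
  ring_nf
  omega

omit hp [CharP F p] in
theorem row (M : Md t q p T₀ b₀ P G c g) (hl : 3 ≤ l) (hab : ∀ z₁ z₂ : K, z₁ ^ 2 + a * z₁ * z₂ + b * z₂ ^ 2 = 0 → z₁ = 0 ∧ z₂ = 0)
    (e : Soc P ≃* POmega K (quadFormMinus l K a b)) : G := by
  have hp : Fact p.Prime := ⟨M.prime⟩
  have hFp := M.char
  have hC := M.core
  obtain ⟨e₀, he, hK⟩ := exists_f K p
  have N : Nd (.DD (l + 1)) p e₀ (Soc P) := nd_M hC.simple hC.nonabelian M.prime he hK (by omega) hab e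
  have hG := good_minus (m := l) hab (by omega)
  have hA := ambT_minus hab p (by omega) hG
  have e' := e
  rw [← coe_minusForm] at e'
  have hperf : commutator ↥(MM hab hG).I = ⊤ := H911.Five.commutator_top hG.E_perfect
  obtain ⟨Y, _, _, f, φ, n₁, C⟩ := exists_covB hC hA (pc_ne hab) (by omega) hperf e'
  obtain ⟨hT, hpow⟩ := lift_comm_pow C (pc_ne hab) (torus_comm_minus hab hG (by omega) hA) (N₀ := Nat.card K ^ 2)
    fun i => nodes hab hG hA i
  by_cases hJ : ∀ i : Fin l, (i : ℕ) + 1 = l → i ∈ JB (MM hab hG) p f φ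
  · exact caseA M.toMd0 N hK hl C hT hpow hJ
  · push Not at hJ
    obtain ⟨i, hi, hiJ⟩ := hJ
    exact caseB M N hK hl C hT hpow (fun h1 h2 => H218.SdFin.sd_PO_minus p hC hab hl (by rw [Fintype.card_fin]; omega)
      (by rw [Fintype.card_fin]; omega) e) hi hiJ

end main

end Mn

/-- **[N2D-m]** -/
theorem rowM4 : Row (fM 4) := fun _ _ _ _ _ _ _ _ _ _ _ _ _ M ⟨_, _, _, _, _, _, h, ⟨e⟩⟩ => Mn.row M le_rfl h e

/-- **[N2D-m]** -/
theorem rowM : ∀ m, 5 ≤ m → Row (fM m) :=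
  fun _ hm _ _ _ _ _ _ _ _ _ _ _ _ _ M ⟨_, _, _, _, _, _, h, ⟨e⟩⟩ => Mn.row M (by omega) h e

end Cfsg.Agent.N2C.RD
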