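import Cfsg.Agent.N2.Cl.RD.UMin
import Cfsg.Agent.H905.Sp4Final
import Cfsg.Agent.H953.DpA

/-!
# N2 (S3519), defining characteristic: eigenfunctions on `Sp_4(q ^ 2)` (helper71)

* `Sp u f F l` : the right translates of `f` are combinations of the eigenfunctions `F a` of `u`;
* **`fam`** : `j (F_i) ^ (1 + q)`, at most four eigenfunctions with eigenvalue one.
-/

set_option autoImplicit false
set_option linter.unusedSectionVars false

namespace Cfsg.Agent.N2C.RD.C2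

open Cfsg Cfsg.Agent.H905.Sp4 Cfsg.Agent.N2C.RD.UM Matrix Module
open Cfsg.Agent.TitsThree Cfsg.Agent.TitsThree.Siegel Cfsg.Agent.TitsThree.SpIdent Cfsg.Agent.H62.SpCross

section sp

variable {Y k A B : Type*} [Group Y] [Field k] [Fintype A] [Fintype B]

/-- the right translates of `f` -/
def Sp (u : Y) (f : Y → k) (F : A → Y → k) (l : A → k) : Prop :=
  (∀ y, ∃ c : A → k, ∀ g, f (g * y) = ∑ a, c a * F a g) ∧ ∀ a g, F a (g * u) = l a * F a g

theorem Sp.mul {u : Y} {f f' : Y → k} {F : A → Y → k} {F' : B → Y → k} {l : A → k} {l' : B → k} (h : Sp u f F l)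
    (h' : Sp u f' F' l') : Sp u (fun g => f g * f' g) (fun (x : A × B) g => F x.1 g * F' x.2 g) fun x => l x.1 * l' x.2 := by
  refine ⟨fun y => ?_, fun a g => ?_⟩
  · obtain ⟨c, hc⟩ := h.1 y
    obtain ⟨c', hc'⟩ := h'.1 y
    refine ⟨fun x => c x.1 * c' x.2, fun g => ?_⟩
    show f (g * y) * f' (g * y) = _
    rw [hc, hc', Finset.sum_mul_sum, Fintype.sum_prod_type]
    exact Finset.sum_congr rfl fun a _ => Finset.sum_congr rfl fun b _ => by ring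
  · show F a.1 (g * u) * F' a.2 (g * u) = _
    rw [h.2, h'.2]
    ring

end sp

section count

variable {r : ℕ} [Fact r.Prime] {q : ℕ} (hq : orderOf (q : ZMod r) = 8)
include hq

theorem four : (q : ZMod r) ^ 4 = -1 ∧ (1 : ZMod r) ≠ -1 := by
  have h1 : (q : ZMod r) ^ 4 * (q : ZMod r) ^ 4 = 1 := by rw [← pow_add, show 4 + 4 = 8 from rfl, ← hq, pow_orderOf_eq_one]
  have h2 : (q : ZMod r) ^ 4 ≠ 1 := pow_ne_one_of_lt_orderOf (by norm_num) (by omega)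
  have h3 := (mul_self_eq_one_iff.1 h1).resolve_left h2
  exact ⟨h3, fun h => h2 (h3.trans h.symm)⟩

theorem count {k A : Type*} [Field k] [Fintype A] [DecidableEq k] {ζ : k} (hζ : orderOf ζ = r) (Z : Finset A) (hZ : Z.card ≤ 2)
    (E : A → ℕ) {η : ZMod r} (hη : η ≠ 0) (h0 : ∀ a ∈ Z, (E a : ZMod r) = 0)
    (h1 : ∀ a, a ∉ Z → ∃ e, (E a : ZMod r) = η * ((q : ZMod r) ^ 2) ^ e) :
    (Finset.univ.filter fun x : A × A => ζ ^ E x.1 * (ζ ^ q) ^ E x.2 = 1).card ≤ 4 := by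
  obtain ⟨h4, h2⟩ := four hq
  have hq0 : (q : ZMod r) ≠ 0 := fun h => by
    rw [h, zero_pow (by norm_num), zero_eq_neg] at h4
    exact one_ne_zero h4
  refine (Finset.card_le_card (t := Z ×ˢ Z) fun x hx => ?_).trans (by
    rw [Finset.card_product]
    exact Nat.mul_le_mul hZ hZ)
  have h3 := (Finset.mem_filter.1 hx).2
  rw [← pow_mul, ← pow_add, ← orderOf_dvd_iff_pow_eq_one, hζ, ← ZMod.natCast_eq_zero_iff, Nat.cast_add, Nat.cast_mul] at h3
  by_cases a1 : x.1 ∈ Z <;> by_cases a2 : x.2 ∈ Z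
  · exact Finset.mem_product.2 ⟨a1, a2⟩
  · obtain ⟨e, he⟩ := h1 _ a2
    rw [h0 _ a1, he, zero_add] at h3
    exact absurd h3 (mul_ne_zero hq0 (mul_ne_zero hη (pow_ne_zero _ (pow_ne_zero _ hq0))))
  · obtain ⟨e, he⟩ := h1 _ a1
    rw [h0 _ a2, he, mul_zero, add_zero] at h3
    exact absurd h3 (mul_ne_zero hη (pow_ne_zero _ (pow_ne_zero _ hq0)))
  · obtain ⟨e, he⟩ := h1 _ a1
    obtain ⟨e', he'⟩ := h1 _ a2
    rw [he, he'] at h3
    have h5 : ((q : ZMod r) ^ 2) ^ e = -(q * ((q : ZMod r) ^ 2) ^ e') :=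
      mul_left_cancel₀ hη (by linear_combination h3)
    have h6 : ∀ e : ℕ, (((q : ZMod r) ^ 2) ^ e) ^ 4 = 1 := fun e => by
      rw [← pow_mul, ← pow_mul, show 2 * (e * 4) = 8 * e by ring, pow_mul, ← hq, pow_orderOf_eq_one, one_pow]
    have h7 := h6 e
    rw [h5, Even.neg_pow (by decide), mul_pow, h6, h4, mul_one] at h7
    exact absurd h7.symm h2

end count

variable {E : Type} [Field E] [Fintype E] {k : Type} [Field k] {u : isos (form 2 E)}

theorem eig_map (ι : E →+* k) (τ : k →+* k) {w : Fin 2 ⊕ Fin 2 → k} {z : k} (h : mk ι u.1 *ᵥ w = z • w) :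
    mk (τ.comp ι) u.1 *ᵥ (τ ∘ w) = τ z • (τ ∘ w) := by
  funext a
  have h1 : mk (τ.comp ι) u.1 = (mk ι u.1).map τ := by rw [UM.mk, UM.mk, Matrix.map_map]; rfl
  rw [h1, ← RingHom.map_mulVec, h]
  exact map_mul τ _ _

theorem basis {p a r : ℕ} [Fact p.Prime] [CharP k p] (hr : 0 < r) (hE : Fintype.card E = p ^ a)
    (hs : orderOf ((p ^ a : ℕ) : ZMod r) = 4) (ι : E →+* k) {w : Fin 2 ⊕ Fin 2 → k} {ζ : k} (hζ : orderOf ζ = r) (hw : w ≠ 0) (h : mk ι u.1 *ᵥ w = ζ • w) :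
    ∃ W : Fin 4 → Fin 2 ⊕ Fin 2 → k, (∀ x, ∃ c : Fin 4 → k, ∑ i, c i • W i = x) ∧
      ∀ i : Fin 4, mk ι u.1 *ᵥ W i = ζ ^ (p ^ a) ^ (i : ℕ) • W i := by
  have h1 : ∀ i : ℕ, (iterateFrobenius k p (a * i)).comp ι = ι := fun i => RingHom.ext fun x => by
    rw [RingHom.comp_apply, iterateFrobenius_def, ← map_pow, pow_mul, ← hE, FiniteField.pow_card_pow]
  have h2 : ∀ i : Fin 4, mk ι u.1 *ᵥ (iterateFrobenius k p (a * i) ∘ w) = ζ ^ (p ^ a) ^ (i : ℕ) • (iterateFrobenius k p (a * i) ∘ w) :=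
    fun i => by
      have h3 := eig_map ι (iterateFrobenius k p (a * i)) h
      rwa [h1, iterateFrobenius_def, pow_mul] at h3
  refine ⟨fun i => iterateFrobenius k p (a * i) ∘ w, fun x => ?_, h2⟩
  have h3 := End.eigenvectors_linearIndependent' (toLin' (mk ι u.1)) (fun i : Fin 4 => ζ ^ (p ^ a) ^ (i : ℕ)) (fun i i' e => by
    have h4 := ((isOfFinOrder_iff_pow_eq_one.2 ⟨r, hr, hζ ▸ pow_orderOf_eq_one ζ⟩).pow_eq_pow_iff_modEq).1 e
    rw [hζ, ← ZMod.natCast_eq_natCast_iff, Nat.cast_pow, Nat.cast_pow _ (i' : ℕ)] at h4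
    exact Fin.ext (pow_injOn_Iio_orderOf (by rw [hs]; exact i.2) (by rw [hs]; exact i'.2) h4))
    (fun i => iterateFrobenius k p (a * i) ∘ w) fun i => ⟨End.mem_eigenspace_iff.2 ((toLin'_apply _ _).trans (h2 i)), fun e =>
      hw (funext fun x => (map_eq_zero (iterateFrobenius k p (a * i))).1 (congrFun e x))⟩
  exact (Submodule.mem_span_range_iff_exists_fun k).1
    ((h3.span_eq_top_of_card_eq_finrank (by rw [finrank_fintype_fun_eq_card]; rfl)).ge trivial)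

section fam

variable (ι : E →+* k) {W : Fin 4 → Fin 2 ⊕ Fin 2 → k} (hW : ∀ x, ∃ c : Fin 4 → k, ∑ i, c i • W i = x) {l : Fin 4 → k}
  (hl : ∀ i, mk ι u.1 *ᵥ W i = l i • W i)

include hl in
theorem co_mul (g : isos (form 2 E)) (i : Fin 4) (x : Fin 2 ⊕ Fin 2) : (mk ι (g * u).1 *ᵥ W i) x = l i * (mk ι g.1 *ᵥ W i) x := by
  rw [show mk ι (g * u).1 = mk ι g.1 * mk ι u.1 from mk_mul _ _ _, ← mulVec_mulVec, hl, mulVec_smul]
  rfl

include hW in
theorem co_sum (y : isos (form 2 E)) (v : V4 E) : ∃ c : Fin 4 → k, ∀ (g : isos (form 2 E)) (x : Fin 2 ⊕ Fin 2),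
    ι ((g * y).1 v x) = ∑ i, c i * (mk ι g.1 *ᵥ W i) x := by
  obtain ⟨c, hc⟩ := hW (ι ∘ y.1 v)
  refine ⟨c, fun g x => (congrFun (mk_mulVec ι g.1 (y.1 v)) x).symm.trans ?_⟩
  rw [← hc, mulVec_sum, Finset.sum_apply]
  exact Finset.sum_congr rfl fun i _ => by rw [mulVec_smul]; rfl

include hW hl

theorem sp1 : Sp u (fun g => ι (F1 g.1)) (fun i g => (mk ι g.1 *ᵥ W i) (.inr 0)) l :=
  ⟨fun y => (co_sum ι hW y (Pi.single (.inr 0) 1)).imp fun _ h g => h g _, fun i g => co_mul ι hl g i _⟩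

theorem sp2 : Sp u (fun g => ι (F2 g.1)) (fun (x : Fin 6) g =>
    (mk ι g.1 *ᵥ W (![0, 0, 0, 1, 1, 2] x)) (.inr 0) * (mk ι g.1 *ᵥ W (![1, 2, 3, 2, 3, 3] x)) (.inr 1) -
      (mk ι g.1 *ᵥ W (![0, 0, 0, 1, 1, 2] x)) (.inr 1) * (mk ι g.1 *ᵥ W (![1, 2, 3, 2, 3, 3] x)) (.inr 0))
    fun x => l (![0, 0, 0, 1, 1, 2] x) * l (![1, 2, 3, 2, 3, 3] x) := by
  refine ⟨fun y => ?_, fun i g => ?_⟩
  · obtain ⟨c, hc⟩ := co_sum ι hW y (Pi.single (.inr 0) 1)
    obtain ⟨d, hd⟩ := co_sum ι hW y (Pi.single (.inr 1) 1)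
    refine ⟨fun x => c (![0, 0, 0, 1, 1, 2] x) * d (![1, 2, 3, 2, 3, 3] x) - c (![1, 2, 3, 2, 3, 3] x) * d (![0, 0, 0, 1, 1, 2] x),
      fun g => ?_⟩
    show ι (F2 (g * y).1) = _
    rw [F2, map_sub, map_mul, map_mul, hc, hc, hd, hd]
    simp only [Fin.sum_univ_four, Fin.sum_univ_six, cons_val]
    ring
  · beta_reduce
    rw [co_mul ι hl, co_mul ι hl, co_mul ι hl, co_mul ι hl]
    ring

end fam

/-- **the eigenfunctions** -/
theorem fam [IsAlgClosed k] [DecidableEq k] {p d r : ℕ} [Fact p.Prime] [CharP k p] [hr : Fact r.Prime] (hrp : r ≠ p)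
    (hE : Fintype.card E = p ^ (d * 2)) (hq : orderOf ((p ^ d : ℕ) : ZMod r) = 8) (hu : orderOf u = r) (ι : E →+* k)
    {f : isos (form 2 E) → k} (hf : (∀ g, f g = ι (F1 g.1) ^ (1 + p ^ d)) ∨ ∀ g, f g = ι (F2 g.1) ^ (1 + p ^ d)) :
    ∃ (A : Type) (_ : Fintype A) (F : A → isos (form 2 E) → k) (l : A → k), Sp u f F l ∧
      (Finset.univ.filter fun x => l x = 1).card ≤ 4 := by
  obtain ⟨h4, h2⟩ := four hq
  have hs : orderOf ((p ^ (d * 2) : ℕ) : ZMod r) = 4 := by rw [pow_mul, Nat.cast_pow, orderOf_pow' _ two_ne_zero, hq]; rfl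
  have h1 : ∀ m : ℕ, mk ι (u ^ m).1 = mk ι u.1 ^ m := fun m => by
    induction m with
    | zero => rw [pow_zero, pow_zero]; exact mk_one ι
    | succ m ih => rw [pow_succ, pow_succ, ← ih]; exact mk_mul _ _ _
  obtain ⟨ζ, hζ, w, hw, h⟩ := H953.Dp.exists_eig (M := mk ι u.1) hr.out (fun e => hrp ((Nat.prime_dvd_prime_iff_eq Fact.out hr.out).1
    ((CharP.cast_eq_zero_iff k p r).1 e)).symm) (by rw [← h1, ← hu, pow_orderOf_eq_one]; exact mk_one ι) fun e => by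
      have h3 : u = 1 := Subtype.ext (LinearEquiv.ext fun v => funext fun x => ι.injective (by
        have h5 := congrFun (mk_mulVec ι u.1 v) x
        rw [e, one_mulVec] at h5
        exact h5.symm))
      rw [h3, orderOf_one] at hu
      exact hr.out.one_lt.ne hu
  obtain ⟨W, hW, hl⟩ := basis hr.out.pos hE hs ι hζ hw h
  have h' := eig_map ι (iterateFrobenius k p d) h
  rw [iterateFrobenius_def] at h'
  obtain ⟨W', hW', hl'⟩ := basis hr.out.pos hE hs _ (by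
    rw [Nat.Coprime.orderOf_pow, hζ]
    rw [hζ]
    exact ((Nat.coprime_primes hr.out Fact.out).2 hrp).pow_right _)
    (fun e => hw (funext fun x => (map_eq_zero (iterateFrobenius k p d)).1 (congrFun e x))) h'
  have hm : ∀ x : E, ι x ^ (1 + p ^ d) = ι x * ((iterateFrobenius k p d).comp ι) x := fun x => by
    rw [pow_add, pow_one, RingHom.comp_apply, iterateFrobenius_def]
  have hc : ((p ^ (d * 2) : ℕ) : ZMod r) = ((p ^ d : ℕ) : ZMod r) ^ 2 := by rw [pow_mul, Nat.cast_pow]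
  rcases hf with hf | hf
  · rw [funext fun g => (hf g).trans (hm _)]
    exact ⟨_, inferInstance, _, _, (sp1 ι hW hl).mul (sp1 _ hW' hl'), count hq hζ ∅ (Nat.zero_le _) (fun i : Fin 4 => (p ^ (d * 2)) ^ (i : ℕ))
      one_ne_zero (fun _ h => absurd h (Finset.notMem_empty _)) fun i _ => ⟨i, by rw [Nat.cast_pow, hc, one_mul]⟩⟩
  · rw [funext fun g => (hf g).trans (hm _)]
    refine ⟨_, inferInstance, _, _, (sp2 ι hW hl).mul (sp2 _ hW' hl'), ?_⟩
    simp only [← pow_add]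
    refine count hq hζ {1, 4} (by decide) (fun x : Fin 6 => (p ^ (d * 2)) ^ ((![0, 0, 0, 1, 1, 2] x : Fin 4) : ℕ) +
      (p ^ (d * 2)) ^ ((![1, 2, 3, 2, 3, 3] x : Fin 4) : ℕ)) (η := 1 + ((p ^ d : ℕ) : ZMod r) ^ 2)
      (fun e => h2 (by linear_combination (1 - ((p ^ d : ℕ) : ZMod r) ^ 2) * e + h4)) (fun x hx => ?_) fun x hx => ?_
    all_goals
      rw [Nat.cast_add, Nat.cast_pow _ ((![0, 0, 0, 1, 1, 2] x : Fin 4) : ℕ), Nat.cast_pow _ ((![1, 2, 3, 2, 3, 3] x : Fin 4) : ℕ), hc]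
      generalize ((p ^ d : ℕ) : ZMod r) = Q at h4
      fin_cases x
    · exact absurd hx (by decide)
    · show (Q ^ 2) ^ 0 + (Q ^ 2) ^ 2 = 0
      linear_combination h4
    · exact absurd hx (by decide)
    · exact absurd hx (by decide)
    · show (Q ^ 2) ^ 1 + (Q ^ 2) ^ 3 = 0
      linear_combination Q ^ 2 * h4
    · exact absurd hx (by decide)
    · exact ⟨0, show (Q ^ 2) ^ 0 + (Q ^ 2) ^ 1 = _ by ring⟩
    · exact absurd (by decide) hx
    · exact ⟨3, show (Q ^ 2) ^ 0 + (Q ^ 2) ^ 3 = _ by linear_combination (1 - Q ^ 4) * h4⟩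
    · exact ⟨1, show (Q ^ 2) ^ 1 + (Q ^ 2) ^ 2 = _ by ring⟩
    · exact absurd (by decide) hx
    · exact ⟨2, show (Q ^ 2) ^ 2 + (Q ^ 2) ^ 3 = _ by ring⟩

end Cfsg.Agent.N2C.RD.C2
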