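import Cfsg.Agent.N2.Cl.RD.C2One
import Cfsg.Agent.N2.Cl.RD.C2Cr

/-!
# N2 (S3519), defining characteristic: the row `PSp_4` (helper71)

* **`rowC2`** : `Row (fC 2)`.
-/

set_option autoImplicit false
set_option linter.unusedSectionVars false

namespace Cfsg.Agent.N2C.RD

namespace C2

open Cfsg Cfsg.Geo Cfsg.Agent.H902 Cfsg.Agent.N2C.Cyc Cfsg.Agent.N2C.RX Cfsg.Agent.H915.LD Module
open Cfsg.Agent.H905.Sp4 Cfsg.Agent.H909.Sp4Ker Cfsg.Agent.Nodes.TypeC
open Cfsg.Agent.TitsThree Cfsg.Agent.TitsThree.Siegel Cfsg.Agent.TitsThree.SpIdent Cfsg.Agent.H62.SpCross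
open Cfsg.Agent.H905.Md (acRep acRep_irr card_pow_eq)
open Cfsg.Agent.H911 (lin)
open Cfsg.Agent.H875.Fn (SS two_le_card_SS dvd_of_pow_eq)
open Cfsg.Agent.H650.Ppd (exists_digits)

theorem num {j n : ℕ} (h : (j = 2 ∧ 25 ≤ n) ∨ (3 ≤ j ∧ 4 + 6 * (2 ^ j - 2) ≤ n)) :
    4 * n + 3 * (n ^ 2 / 4 + 1) + 2 * (j * (10 + 1)) + 6 ≤ n ^ 2 := by
  rcases h with ⟨rfl, h⟩ | ⟨h1, h2⟩
  · have h3 : 25 * n ≤ n ^ 2 := by rw [sq]; exact Nat.mul_le_mul_right _ h
    omega
  · have h3 := two_mul_le le_rfl j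
    have h4 : 2 ^ 3 ≤ 2 ^ j := Nat.pow_le_pow_right two_pos h1
    have h5 : 40 * n ≤ n ^ 2 := by rw [sq]; exact Nat.mul_le_mul_right _ (by omega)
    omega

variable {t : Kd} {n q p T b : ℕ} {K : Type} [Field K] [Fintype K] {P : Subgroup (GL (Fin n) K)} {G : Prop} {c f : P → ℕ}
  (M : Md t q p T b P G c f) {a : ℕ} (N : Nd (.C 2) p a (Soc P)) {E : Type} [Field E] [Fintype E] [CharP E p]
  (hE : Fintype.card E = p ^ a)
include M N hE

/-- the twisted tensor products -/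
theorem cr {d : ℕ} (hd : d ≠ 0) (hK : Fintype.card K = p ^ d) (ha : a = d * 2) {φ : isos (form 2 E) →* GL (Fin n) K} (hφ : φ.range = P)
    {ψ : Dual (AlgebraicClosure K) (Fin n → AlgebraicClosure K)} {v : Fin n → AlgebraicClosure K} (h1 : ψ v = 1)
    (ι : E →+* AlgebraicClosure K) (hf : (∀ g, ψ (lin (acRep φ) g v) = ι (F1 g.1) ^ (1 + p ^ d)) ∨
      ∀ g, ψ (lin (acRep φ) g v) = ι (F2 g.1) ^ (1 + p ^ d)) (h16 : 16 ≤ n) (h24 : n ≤ 24) : G := by
  classical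
  have hp : Fact p.Prime := ⟨M.prime⟩
  have hc := M.char
  have hC := M.core
  have hchar : CharP (AlgebraicClosure K) p := charP_of_injective_algebraMap (algebraMap K _).injective p
  have hfin := finite_isos (m := 2) (F := E)
  subst ha
  obtain ⟨r, hr, ho, -, -, hrp, hdv, -⟩ := N.ppd (k := 4) ⟨by norm_num, Or.inr ⟨rfl, le_rfl⟩⟩ (by omega) (by omega)
  have : Fact r.Prime := ⟨hr⟩
  have hq : orderOf ((p ^ d : ℕ) : ZMod r) = 8 := by
    rw [ord_pow ho hd, mul_assoc, Nat.gcd_mul_right_left, Nat.mul_div_cancel_left _ (Nat.pos_of_ne_zero hd)]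
    rfl
  obtain ⟨y, hy⟩ := exists_prime_orderOf_dvd_card' (G := isos (form 2 E)) r (hdv.trans
    ((Subgroup.card_dvd_of_surjective _ (toSoc_surjective P)).trans (hφ ▸ Subgroup.card_range_dvd φ)))
  obtain ⟨A, _, F, l, h2, h3⟩ := fam hrp hE hq hy ι hf
  have h4 := (cr_ev (emb_of (G := ⊤) (fun L hL => acRep_irr hφ (H920.span_eq_top hC.absIrred) rfl L hL)
    (ψ := ψ) (fun e => by rw [e] at h1; exact zero_ne_one h1) (fun e => zero_ne_one ((map_zero ψ).symm.trans (e ▸ h1))) F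
    (fun z _ => (h2.1 z).imp fun _ h g _ => h g) (Subgroup.mem_top y) l fun x g _ => h2.2 x g)).trans h3
  let u : P := ⟨φ y, hφ ▸ ⟨y, rfl⟩⟩
  obtain ⟨μ, hμ⟩ := exists_muD hC M.prime ((Nat.coprime_primes hr M.prime).2 hrp) (u := u) (Subtype.ext (by
    change φ y ^ r = 1
    rw [← map_pow, ← hy, pow_orderOf_eq_one, map_one]))
  let g := ZMod.unitOfCoprime (p ^ d) (((Nat.coprime_primes M.prime hr).2 hrp.symm).pow_left d)
  obtain ⟨k, m, e1, e2, e3⟩ := orb hμ g (by rw [hK]; rfl)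
    (fun x _ i hi e => Units.ext (mul_right_cancel₀ hi (e.trans (one_mul i).symm))) (h := 8) (orderOf_units.symm.trans hq)
  change ev (u : GL (Fin n) K) 1 ≤ 4 at h4
  refine M.ct_dm N (j := 2) (by rw [hK, pow_mul]) (gk' p) u e2.le ?_
  show _ + 2 * (2 * (10 + 1)) + _ ≤ _
  generalize ev (u : GL (Fin n) K) 1 = z at e1 h4
  have h5 : 2 ≤ k := by omega
  have h6 : k ≤ 3 := by omega
  rw [e1]
  interval_cases k <;> interval_cases z <;> omega

/-- the field of the module is a proper subfield -/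
theorem two {d j : ℕ} (hd : d ≠ 0) (hK : Fintype.card K = p ^ d) (ha : a = d * j) (hj : 2 ≤ j) (h3 : 3 ≤ Fintype.card E)
    (e : Soc P ≃* PSp 2 E) : G := by
  have hp : Fact p.Prime := ⟨M.prime⟩
  have hc := M.char
  have hC := M.core
  have hne := hC.nonempty
  have hchar : CharP (AlgebraicClosure K) p := charP_of_injective_algebraMap (algebraMap K _).injective p
  have hfin := finite_isos (m := 2) (F := E)
  have hW : Finite (CoxeterMatrix.B 2).Group := finite_W (CoxeterMatrix.B 2).toCoxeterSystem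
  obtain ⟨φ, hφ⟩ := exists_rep p hC (by rwa [Nat.card_eq_fintype_card]) e
  obtain ⟨ι⟩ := exists_lift_ac (F := K) (K := E) p
  have hdim : finrank (AlgebraicClosure K) (Fin n → AlgebraicClosure K) = n := finrank_fin_fun _
  obtain ⟨c₁, c₂, v, ψ, h1, h2, h0, h4, -, h6, h7, h8⟩ := exists_coef (ρ := lin (acRep φ)) (CoxeterMatrix.B 2).toCoxeterSystem p
    (fun L hL => acRep_irr hφ (H920.span_eq_top hC.absIrred) rfl L hL) (by have := five_le M.dim; omega) ι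
  rw [Nat.card_eq_fintype_card] at h1 h2
  have hv : v ≠ 0 := fun e => zero_ne_one ((map_zero ψ).symm.trans (e ▸ h6))
  have chi : ∀ (l : Eˣ → Fin 2 → Eˣ) (x : ℕ), (∀ s, ι (l s 0) ^ c₁ * ι (l s 0 * l s 1) ^ c₂ = ι s ^ x) →
      p ^ a - 1 ∣ x * (p ^ d - 1) := fun l x h => hE ▸ dvd_of_pow_eq (j := ι) (fun s => by
    obtain ⟨z, hz⟩ := H905.Md.chi_mem (R4 (K := E) (p := p) (CoxeterMatrix.B 2).toCoxeterSystem) (GG4 _) hφ hC.absIrred
      h4 hv h7 (dgY_mem (l s))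
    rw [F1_dg, F2_dg, h] at hz
    rw [← pow_mul, mul_comm, pow_mul, ← hz, ← map_pow, ← hK, FiniteField.pow_card]) (Nat.one_le_pow _ _ M.prime.pos)
  have d1 := chi (fun s => ![s, s⁻¹]) c₁ fun s => by simp
  have d2 := chi (fun s => ![1, s]) c₂ fun s => by simp
  have hker : ∀ r s : IsoPair E, (ψ.comp (lin (acRep φ) (gr r)) : Dual _ _) (lin (acRep φ) (gc s) v) =
      ι (D1 r s) ^ c₁ * ι (D2 r s) ^ c₂ := fun r s => by
    change ψ (lin (acRep φ) (gr r) (lin (acRep φ) (gc s) v)) = _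
    rw [← End.mul_apply, ← map_mul, h8, F1_pair, F2_pair]
  have sc : (j = 2 ∧ 25 ≤ n) ∨ (3 ≤ j ∧ 4 + 6 * (2 ^ j - 2) ≤ n) → G := fun h =>
    M.ct_sc N (j := j) (by rw [hK, ha, pow_mul]) (gk' p) (num h)
  have h4j : 4 ≤ 2 ^ j := Nat.pow_le_pow_right two_pos hj
  have dig : ∀ x, x ≠ 0 → x ≤ Fintype.card E - 1 → p ^ a - 1 ∣ x * (p ^ d - 1) → 2 ^ j ≤ (SS p x).card ∧
      (j = 2 → (SS p x).card < 9 → ∃ ι' : E →+* AlgebraicClosure K, ∀ z, ι z ^ x = ι' z ^ (1 + p ^ d)) := fun x x0 x1 x2 => by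
    obtain ⟨r₀, r1, -, r3, r4⟩ := exists_digits p hd ha x0 (hE ▸ x1) x2
    refine ⟨r4 ▸ Nat.pow_le_pow_left (two_le_card_SS r1) j, fun hj2 h9 => ?_⟩
    subst hj2
    have h10 : (SS p r₀).card < 3 := lt_of_pow_lt_pow_left₀ 2 (by norm_num) (r4 ▸ h9)
    obtain ⟨e, i, he, -, r5, r6⟩ := exists_of_card_le_three (p := p) r1 h10.le
    obtain rfl : e = 1 := by omega
    refine ⟨(iterateFrobenius _ p i).comp ι, fun z => ?_⟩
    rw [RingHom.comp_apply, iterateFrobenius_def, ← pow_mul, r3, r5, Finset.sum_range_succ, Finset.sum_range_one, pow_zero,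
      pow_one, mul_one]
  have sq : ∀ x y, 2 ^ j ≤ x → 2 ^ j ≤ y → 4 + 6 * (2 ^ j - 2) ≤ x * y := fun x y hx hy => by
    refine le_trans ?_ (Nat.mul_le_mul hx hy)
    obtain ⟨z, hz⟩ := Nat.exists_eq_add_of_le h4j
    rw [hz, show 4 + z - 2 = z + 2 by omega]
    nlinarith
  by_cases hc2 : c₂ = 0
  · subst hc2
    have hc1 : c₁ ≠ 0 := fun h => h0 ⟨h, rfl⟩
    have hb := bound_C0 (p := p) ι _ _ (fun r s => by rw [hker, pow_zero, mul_one]) hc1 h1
    rw [hdim] at hb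
    obtain ⟨k1, k2⟩ := dig c₁ hc1 h1 d1
    rcases hj.eq_or_lt with rfl | hj3
    · rcases Nat.lt_or_ge n 25 with h25 | h25
      · obtain ⟨ι', hι⟩ := k2 rfl (by omega)
        exact cr M N hE hd hK ha hφ h6 ι' (Or.inl fun g => by rw [h8, pow_zero, mul_one, hι]) (by omega) (by omega)
      · exact sc (Or.inl ⟨rfl, h25⟩)
    · exact sc (Or.inr ⟨hj3, by omega⟩)
  obtain ⟨k1, k2⟩ := dig c₂ hc2 h2 d2
  by_cases hc1 : c₁ = 0
  · subst hc1
    have hb := bound_A0 (p := p) ι _ _ hker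
    rw [zero_add, Rk_eq h2, hdim] at hb
    have h9 := (sq _ _ k1 k1).trans hb
    rcases hj.eq_or_lt with rfl | hj3
    · rcases Nat.lt_or_ge n 25 with h25 | h25
      · obtain ⟨ι', hι⟩ := k2 rfl (by nlinarith)
        exact cr M N hE hd hK ha hφ h6 ι' (Or.inr fun g => by rw [h8, pow_zero, one_mul, hι]) (by omega) (by omega)
      · exact sc (Or.inl ⟨rfl, h25⟩)
    · exact sc (Or.inr ⟨hj3, h9⟩)
  · have hb := bound_A (p := p) ι _ _ hker hc1
    rw [Rk_eq h2, hdim, Rk] at hb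
    obtain ⟨k3, -⟩ := dig (red (Fintype.card E) (c₁ + c₂)) (red_ne_zero (by omega)) (red_le (by omega) _)
      ((((red_modEq _ _).mul_right _).dvd_iff (by rw [hE])).2 (by rw [add_mul]; exact dvd_add d1 d2))
    have h9 := sq _ _ k3 k1
    rcases hj.eq_or_lt with rfl | hj3
    · exact sc (Or.inl ⟨rfl, by omega⟩)
    · exact sc (Or.inr ⟨hj3, by omega⟩)

end C2

open Cfsg.Agent.N2C.RX Cfsg.Agent.H915.LD in
/-- **[N2D-c2]** -/
theorem rowC2 : Row (fC 2) := by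
  rintro t n q p T b K _ _ P G c f M ⟨E, _, _, _, h3, ⟨e⟩⟩
  have hp : Fact p.Prime := ⟨M.prime⟩
  have hc := M.char
  have hC := M.core
  have h3 := h3 rfl
  have h3' : 3 ≤ Nat.card E := by rwa [Nat.card_eq_fintype_card]
  obtain ⟨a, ha1, ha⟩ := exists_f E p
  have N := nd_C hC.simple hC.nonabelian M.prime ha1 ha le_rfl (fun _ => h3) e
  obtain ⟨hsd, hfr⟩ := H905.Sp4.sd_psp4 p hC h3' e
  have hF := M.frm
  have ht : bil t := by
    cases t
    exacts [hF hsd, hF.2 hsd, trivial, trivial, trivial, trivial]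
  have hK : Fintype.card K = q := M.card.trans (C2.bil_facts ht q 0).2.1
  rw [Nat.card_eq_fintype_card, ha] at hfr
  obtain ⟨j, hj1, hj⟩ := H905.Md.card_pow_eq (F := K) p (by omega) (hC.pow_eq p hfr)
  rw [Nat.card_eq_fintype_card, hK] at hj
  rcases hj1.eq_or_lt with rfl | hj2
  · rw [pow_one] at hj
    refine C2.one M N hj ht (ha.trans hj.symm) (by omega) e ?_
    rcases Nat.lt_or_ge n 13 with h | h
    swap
    · exact Or.inr (Or.inr h)
    have hd := M.dim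
    obtain ⟨-, -, h1⟩ := H905.Sp4.core_psp4 p hC h3' e (by rw [Fintype.card_fin]; omega)
    rw [Fintype.card_fin] at h1
    have h6 : 6 ≤ n := by
      cases t
      exacts [ht.elim, ht.elim, hd.1, by have := hd.1; omega, by have := hd.1; omega, by have := hd.1; omega]
    rcases h1 with ⟨h1, -⟩ | ⟨-, h1, -⟩ | ⟨-, h1, -⟩ | ⟨-, h1, -, h2⟩
    · omega
    · omega
    · exact Or.inl h1
    · refine Or.inr (Or.inl ⟨h1, ?_⟩)
      cases t
      exacts [ht.elim, ht.elim, rfl, (h2 hF.1).elim, (h2 hF.1).elim, (h2 hF.1).elim]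
  · obtain ⟨d, hd, rfl⟩ := M.pow
    rw [← pow_mul] at hj
    exact C2.two M N ha hd.ne' hK (Nat.pow_right_injective M.prime.two_le hj).symm hj2 h3 e

end Cfsg.Agent.N2C.RD
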