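import Cfsg.Agent.N2.Cl.RD.SzRS
import Cfsg.Agent.H909.PpdReeB
import Cfsg.Agent.H708.ReeTw
import Cfsg.Agent.H963.ReeFive
import Cfsg.Agent.N2.Tri.Defs

/-!
# N2 (S3519), defining characteristic: the row of the small Ree groups (helper37)

* `SR.ree_dim` : `|K| ^ j = s`, and `4 ^ j ≤ n` or `s - 2 ≤ n`;  `SR.ree_gen` : the two Coxeter tori generate;
* **`row_reeD : Row fRee`**.
-/

set_option autoImplicit false
set_option linter.unusedSectionVars false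

namespace Cfsg.Agent.N2C.RD

open Cfsg Cfsg.Geo Matrix Cfsg.Agent.H915.LD Cfsg.Agent.H905.Md Cfsg.Agent.N2C.RX Cfsg.Agent.H902
open Cfsg.Agent.H963.ReeSep (IsA ar)

namespace SR

variable {n : ℕ} {K : Type} [Field K] [Fintype K] {P : Subgroup (GL (Fin n) K)} {E : Type} [Field E] [Fintype E] {l : ℕ}

open Cfsg.Agent.ChevalleyStructure.Ree Cfsg.Agent.H141.ReeK Cfsg.Agent.H909.Ppd Cfsg.Agent.H909.ReeKer Cfsg.Agent.H911 in
theorem ree_dim [CharP K 3] (hC : Core P) (hl : 1 ≤ l) (hE : Fintype.card E = 3 ^ (2 * l + 1))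
    (e : Soc P ≃* Lie.twistedG2 E (3 ^ l)) :
    ∃ j, j % 2 = 1 ∧ Fintype.card K ^ j = 3 ^ (2 * l + 1) ∧ (4 ^ j ≤ n ∨ 3 ^ (2 * l + 1) - 2 ≤ n) := by
  have : Fact (Nat.Prime 3) := ⟨Nat.prime_three⟩
  obtain ⟨j, hj0, hj⟩ := card_pow_eq (F := K) 3 (a := 2 * l + 1) (by omega)
    (pow_eq_of_no_subfield hC.absIrred hC.no_subfield 3 _ fun g hg => by
      rw [← hE]
      exact (ree_both hC.absIrred hC.perfect hl hE e hg).1)
  rw [Nat.card_eq_fintype_card] at hj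
  obtain ⟨a, ha, h1, h2, h3⟩ := odd_of_pow Nat.prime_three hj
  refine ⟨j, h3, hj, ?_⟩
  obtain ⟨θ, c⟩ := Normal.exists_ctx hE
  obtain ⟨ι⟩ := H141.ReeK.exists_emb K hE
  obtain ⟨φ, v, ψ, r, hφ, -, hr1, hr2, hψv, hU, hT, -, -, -, hker⟩ := core_coef hC hl hE e c ι
  have hper := period hC hE c ι hφ (by
    rintro rfl
    rw [map_zero] at hψv
    exact zero_ne_one hψv) hU hT
  have h4 : 3 ^ 1 ≤ 3 ^ a := Nat.pow_le_pow_right (by norm_num) ha
  have h5 := Gm_mul a j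
  rw [h2] at h5
  rw [hE, Nat.card_eq_fintype_card, h1, show 3 ^ (2 * l + 1) - 1 = Gm a j * (3 ^ a - 1) by omega] at hper
  obtain ⟨t, rfl⟩ := Nat.dvd_of_mul_dvd_mul_right (by omega) hper
  have h6 := per_le (V := Fin n → AlgebraicClosure K) ι hl hE h2 (t := t) (Nat.pos_of_ne_zero (by rintro rfl; omega))
    (Nat.le_of_mul_le_mul_left (by omega) (Gm_pos (g := a) hj0))
    (f := fun t u w => ψ.comp (lin (acRep φ) (Data.U E (3 ^ l) t u w)))
    (w := fun t u w => lin (acRep φ) (Data.N c * Data.U E (3 ^ l) t u w * Data.N c) v) (by rw [mul_comm t]; exact hker)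
  rwa [Module.finrank_fin_fun, hE] at h6

theorem ree_gen (hl : 1 ≤ l) (hE : Fintype.card E = 3 ^ (2 * l + 1)) :
    ∃ x y : Lie.twistedG2 E (3 ^ l), IsA l (orderOf x) ∧ IsA l (orderOf y) ∧
      Subgroup.closure ({x, y} : Set (Lie.twistedG2 E (3 ^ l))) = ⊤ := by
  have := H125.TwoRee.finite_ree hl hE
  have C := H963.ReeFive.ctx_of_equiv hl hE (MulEquiv.refl _)
  have key : ∀ A : Subgroup (Lie.twistedG2 E (3 ^ l)), IsCyclic A → ∃ x : Lie.twistedG2 E (3 ^ l), orderOf x = Nat.card A :=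
    fun A h => by
      obtain ⟨x, hx⟩ := (Subgroup.isCyclic_iff_exists_zpowers_eq_top A).1 h
      exact ⟨x, by rw [← Nat.card_zpowers, hx]⟩
  obtain ⟨A, a1, a2, -⟩ := C.torA
  obtain ⟨B, b1, b2, -⟩ := C.torB
  obtain ⟨x, hx⟩ := key A a1
  obtain ⟨y, hy⟩ := key B b1
  rw [a2] at hx
  rw [b2] at hy
  refine ⟨x, y, Or.inl hx, Or.inr hy, ?_⟩
  by_contra h
  obtain ⟨r, hr⟩ := H125.ReeSub.exists_zs l
  have h1 := (H125.ReeFull.cop_factor l).mul_dvd_of_dvd_of_dvd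
    (hx ▸ Subgroup.orderOf_dvd_natCard _ (Subgroup.subset_closure (k := {x, y}) (Or.inl rfl)))
    (hy ▸ Subgroup.orderOf_dvd_natCard _ (Subgroup.subset_closure (k := {x, y}) (Or.inr rfl)))
  have h2 := (Nat.le_of_dvd Nat.card_pos h1).trans
    (H125.TwoRee.card_le_of_dvd hl hE hr _ h (hr.dvd_Q.trans (H125.ReeFull.factor l ▸ h1)))
  have h3 := (IsA.facts (m := l) (Or.inl rfl) hl).1
  have h4 := Nat.le_of_mul_le_mul_right h2 (Nat.succ_pos _)
  omega

theorem nine_le {a : ℕ} (h : 3 ≤ a) : 9 * a ≤ 3 ^ a := by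
  induction a, h using Nat.le_induction with
  | base => norm_num
  | succ a _ ih => rw [pow_succ]; omega

theorem num6 {n e d : ℕ} (h1 : 14 ≤ n) (h2 : n ≤ 20) (h3 : 2 * e ≤ n) (h : 6 * d ≤ 6 * e ^ 2 + (n - e) ^ 2 ∧ 6 ∣ n - e) :
    3 * d + 4 * n + 2 * 8 + 6 ≤ n ^ 2 := by
  obtain ⟨h4, k, h5⟩ := h
  obtain rfl : n = e + 6 * k := by omega
  have h6 : k ≤ 3 := by omega
  have h7 : e ≤ 10 := by omega
  rw [Nat.add_sub_cancel_left] at h4
  interval_cases k <;> interval_cases e <;> omega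

end SR

open SR Xc

/-- **the row of the small Ree groups** -/
theorem row_reeD : Row fRee := by
  rintro t n q p T b K _ _ P G c f M ⟨rfl, E, _, _, l, hl, hE, ⟨e⟩⟩
  have := M.char
  have hC := M.core
  have D := nd_Ree hC.simple hC.nonabelian hl hE e
  obtain ⟨j, hj, h1, h2⟩ := ree_dim hC hl hE e
  have h4 : 9 * b ≤ (3 ^ (2 * l + 1)) ^ 8 := by
    rw [pow_succ' _ 7]
    refine (Nat.mul_le_mul_left 9 (M.toMd0.b_le D)).trans ?_
    rw [← mul_assoc]
    exact Nat.mul_le_mul_right _ (le_trans (le_of_eq (congrArg (9 * ·) (one_mul _))) (nine_le (by omega)))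
  have hb : b ≤ Fintype.card K ^ (8 * j) := by
    rw [mul_comm 8, pow_mul, h1]
    omega
  have h27 := (ar hl).q27
  rcases h2 with h2 | h2
  swap
  · obtain ⟨a, ha, h3, -⟩ := odd_of_pow Nat.prime_three h1
    have h5 := nine_le (a := 2 * l + 1) (by omega)
    refine sc M.toMd0 (δ := 16 * l + 6) ?_ ?_
    · refine le_trans (Nat.le_of_mul_le_mul_left (h4.trans_eq (b := _) (c := 9 * 3 ^ (16 * l + 6)) (by ring)) (by norm_num))
        (Nat.pow_le_pow_left ?_ _)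
      exact h3 ▸ Nat.le_self_pow (by omega) 3
    · have h6 : 25 * n ≤ n ^ 2 := by rw [sq]; exact Nat.mul_le_mul_right _ (by omega)
      omega
  by_cases h3 : 3 ≤ j
  · have h5 := H909.ReeKer.four_mul_le h3
    exact sc_mul M.toMd0 hb (by omega) (x := 12) (y := 9) (by omega) (by omega) (by norm_num)
  obtain rfl : j = 1 := by omega
  by_cases h21 : 21 ≤ n
  · have h6 : 21 * n ≤ n ^ 2 := by rw [sq]; exact Nat.mul_le_mul_right _ h21
    exact sc M.toMd0 hb (by omega)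
  have hbil := bil_of M.toMd0 fun g hg => (ree_both hC.absIrred hC.perfect hl hE e hg).2
  have hq : q ^ 1 = 3 ^ (2 * l + 1) := G2.card_bil M.toMd0 hbil ▸ h1
  obtain ⟨φ, hφ, -⟩ := H708.ReeSix.exists_hom hC hl hE e
  let ψ : Lie.twistedG2 E (3 ^ l) →* P := φ.codRestrict P fun x => hφ ▸ ⟨x, rfl⟩
  have hψ : Function.Surjective ψ := fun ⟨g, hg⟩ => by
    obtain ⟨x, rfl⟩ : g ∈ φ.range := hφ ▸ hg
    exact ⟨x, rfl⟩
  obtain ⟨x, y, hx, hy, h5⟩ := ree_gen hl hE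
  have h6 := ev_add_le hC (x := ψ x) (y := ψ y)
    (N2.Tg.closure_pair_map ((toSoc P).comp ψ) ((toSoc_surjective P).comp hψ) h5) 1 1
  obtain ⟨z, hz, h7⟩ : ∃ z, IsA l (orderOf z) ∧ 2 * ev ((ψ z : P) : GL (Fin n) K) 1 ≤ n := by
    by_cases k : 2 * ev ((ψ x : P) : GL (Fin n) K) 1 ≤ n
    exacts [⟨x, hx, k⟩, ⟨y, hy, by omega⟩]
  obtain ⟨a1, a2, a3, -⟩ := hz.facts hl
  have a4 : (orderOf z).Coprime 3 := Nat.coprime_comm.1 (Nat.prime_three.coprime_iff_not_dvd.2 (by omega))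
  have a5 : ψ z ^ orderOf z = 1 := by rw [← map_pow, pow_orderOf_eq_one, map_one]
  have h8 := G2.six M.toMd0 hbil (by omega)
    (Nat.Coprime.mul_left (k := orderOf z) (Nat.prime_two.coprime_iff_not_dvd.2 (by omega)) a4.symm) a4 a5 (j := 1)
    (Or.inr (hq ▸ hz.dvd))
  by_cases h14 : 14 ≤ n
  · exact crit M.toMd0 _ le_rfl hb (num6 h14 (by omega) h7 h8)
  have h9 := H708.ReeSix.ree_eq_seven hC hl hE e (by rw [Fintype.card_fin]; omega)
  rw [Fintype.card_fin] at h9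
  subst h9
  obtain rfl : t = .O := by
    have hd := M.dim
    cases t
    exacts [hbil.elim, hbil.elim, absurd hd.2 (by decide), rfl, absurd hd.1 (by decide), absurd hd.1 (by decide)]
  rw [pow_one] at hq
  rw [← hq] at h4 h27
  obtain ⟨h10, h11⟩ := h8
  have h12 : ev ((ψ z : P) : GL (Fin 7) K) 1 = 1 := by omega
  refine fin8 M.toMd0 _ (sq_bd (a := 28) (b := 27) (y := 3) (z := 1) (by omega) (by norm_num) (by omega) ?_
    (c_ss M (Or.inl rfl) (Nat.odd_iff.2 a3) a4 a5) (by norm_num; omega)) (y := 8) (by omega) (by decide)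
  rw [h12] at h10 ⊢
  omega

end Cfsg.Agent.N2C.RD
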