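import Cfsg.Agent.N2.Cl.RD.Part
import Cfsg.Agent.N2.Cl.RD.A2
import Cfsg.Agent.N2.Cl.RD.RowC2
import Cfsg.Agent.N2.Cl.RD.Mn4
import Cfsg.Agent.N2.Cl.RD.SzRR

/-!
# N2 (S3519), defining characteristic: the rows that are left (helper69)
-/

set_option autoImplicit false

namespace Cfsg.Agent.N2C.RD

theorem part2 (u4 : Row (fU 4)) (u5 : Row (fU 5)) (u : ∀ m, 6 ≤ m → Row (fU m)) (c3 : Row (fC 3)) (b3 : Row (fB 3))
    (td4 : Row f3D4) : On (pRes qDef) :=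
  part row_a2 u4 u5 u rowC2 c3 b3 rowM4 rowM td4 row_szD row_reeD

end Cfsg.Agent.N2C.RD
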