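import Cfsg.Agent.N2.Cl.Sz.Mu

/-!
# N2 (S3519): the eigenvectors of an element of order `r ∣ q ^ 2 + q + 1` of `Sp₆(q)` (helper36)
-/

set_option autoImplicit false
set_option linter.unusedSectionVars false

namespace Cfsg.Agent.N2C.RD.C3

section eig

open Matrix Module Cfsg.Agent.N2C.Sz

variable {E k : Type} [Field E] [Fintype E] [Field k] [IsAlgClosed k]

theorem sub3 : ∀ s : Finset (Fin 6), s.card = 3 → s = {0, 1, 2} ∨ s = {3, 4, 5} ∨ s ∈ ([{0, 1, 3}, {0, 1, 4}, {0, 1, 5}, {0, 2, 3},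
    {0, 2, 4}, {0, 2, 5}, {0, 3, 4}, {0, 3, 5}, {0, 4, 5}, {1, 2, 3}, {1, 2, 4}, {1, 2, 5}, {1, 3, 4}, {1, 3, 5}, {1, 4, 5},
    {2, 3, 4}, {2, 3, 5}, {2, 4, 5}] : List (Finset (Fin 6))) := by
  decide +kernel

theorem exists_eig (j : E →+* k) (p : ℕ) [hp : Fact p.Prime] [CharP E p] [CharP k p] {r : ℕ} (hr : r.Prime) (h2 : r ≠ 2)
    (h3 : r ≠ 3) (hrp : r ≠ p) (hd : r ∣ Fintype.card E ^ 2 + Fintype.card E + 1) {m : symplecticGroup (Fin 3) E}
    (hm : m ^ r = 1) (hm1 : m ≠ 1) : ∃ (w : Fin 6 → Fin 3 ⊕ Fin 3 → k) (l : Fin 6 → k), Submodule.span k (Set.range w) = ⊤ ∧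
      (∀ a, m.1.map j *ᵥ w a = l a • w a) ∧ ∀ s : Finset (Fin 6), s.card = 3 → ∏ a ∈ s, l a = 1 → s = {0, 1, 2} ∨ s = {3, 4, 5} := by
  have : NeZero r := ⟨hr.ne_zero⟩
  have : NeZero (r : k) := ⟨fun e => hrp ((Nat.prime_dvd_prime_iff_eq hp.out hr).1 ((CharP.cast_eq_zero_iff k p r).1 e)).symm⟩
  obtain ⟨ζ, hζ⟩ := HasEnoughRootsOfUnity.exists_primitiveRoot k r
  obtain ⟨a, -, ha⟩ := FiniteField.card E p
  obtain ⟨σ, hσ⟩ : ∃ σ : k →+* k, ∀ w, σ w = w ^ Fintype.card E := ⟨iterateFrobenius k p a, fun w => by rw [ha]; rfl⟩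
  obtain ⟨N, hN⟩ : ∃ N, m.1.map j = N := ⟨_, rfl⟩
  have hNr : N ^ r = 1 := by
    rw [← hN, ← RingHom.mapMatrix_apply, ← map_pow, ← SubmonoidClass.coe_pow, hm, OneMemClass.coe_one, map_one]
  have hN1 : N ≠ 1 := fun e => hm1 (Subtype.ext (map_injective j.injective (by
    change m.1.map j = (1 : Matrix _ _ E).map j
    rw [hN, e, Matrix.map_one _ (map_zero j) (map_one j)])))
  have e1 : ∀ c, ml N c ≠ 0 → ml N (σ c) ≠ 0 := fun c h => by
    rwa [← ml_map σ, ← hN, Matrix.map_map, show ⇑σ ∘ ⇑j = j from funext fun x => by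
      rw [Function.comp_apply, hσ, ← map_pow, FiniteField.pow_card], hN] at h
  have e2 : ∀ c, c ≠ 0 → ml N c ≠ 0 → ml N c⁻¹ ≠ 0 := fun c h0 h => by
    have h4 : Nᵀ * J (Fin 3) k * N = J (Fin 3) k := by
      have h5 := congrArg (fun A => A.map j) (SymplecticGroup.mem_iff'.1 m.2)
      simp only [Matrix.map_mul, transpose_map, hN] at h5
      have h6 : (J (Fin 3) E).map j = J (Fin 3) k := by
        rw [J, J, fromBlocks_map, Matrix.map_zero _ (map_zero j), Matrix.map_one _ (map_zero j) (map_one j),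
          Matrix.map_neg _ (map_neg j), Matrix.map_one _ (map_zero j) (map_one j)]
      rwa [h6] at h5
    rwa [ml_inv (isUnit_det_J _ _).ne_zero h4 (inv_mul_cancel₀ h0), ml_transpose]
  obtain ⟨x, hx, x1, xr⟩ : ∃ x, ml N x ≠ 0 ∧ x ≠ 1 ∧ IsPrimitiveRoot x r := by
    by_contra h
    refine hN1 (toLinAlgEquiv'.injective (ext_sp hζ hr.pos (T := toLinAlgEquiv' N) (by rw [← map_pow, hNr, map_one])
      fun b v hv => ?_))
    rw [End.mem_eigenspace_iff.1 hv, map_one, End.one_apply]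
    by_cases h0 : v = 0
    · rw [h0, smul_zero]
    by_cases h1 : ζ ^ (b : ℕ) = 1
    · rw [h1, one_smul]
    refine absurd ⟨_, ml_ne_zero.2 ⟨v, h0, End.mem_eigenspace_iff.1 hv⟩, h1, hζ.pow_of_coprime _ ?_⟩ h
    exact (Nat.coprime_of_lt_prime (fun e => h1 (by rw [e, pow_zero])) b.2 hr).symm
  obtain ⟨y, hy⟩ : ∃ y, σ x = y := ⟨_, rfl⟩
  obtain ⟨z, hz⟩ : ∃ z, σ y = z := ⟨_, rfl⟩
  have h1 : x * y * z = 1 := by
    rw [← hz, ← hy, hσ, hσ, ← pow_mul, ← (xr.pow_eq_one_iff_dvd _).2 hd]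
    ring
  have h4 : σ z = x := by
    have k := congrArg σ h1
    rw [map_mul, map_mul, hy, hz, map_one] at k
    linear_combination x * k - σ z * h1
  have y1 : y ≠ 1 := fun e => x1 (σ.injective (by rw [hy, e, map_one]))
  have z1 : z ≠ 1 := fun e => y1 (σ.injective (by rw [hz, e, map_one]))
  have x2 : x * x ≠ 1 := fun e =>
    h2 ((Nat.prime_dvd_prime_iff_eq hr Nat.prime_two).1 ((xr.pow_eq_one_iff_dvd 2).1 ((pow_two x).trans e)))
  have y2 : y * y ≠ 1 := fun e => x2 (σ.injective (by rw [map_mul, hy, e, map_one]))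
  have z2 : z * z ≠ 1 := fun e => y2 (σ.injective (by rw [map_mul, hz, e, map_one]))
  have xy : x ≠ y := fun e => h3 ((Nat.prime_dvd_prime_iff_eq hr Nat.prime_three).1 ((xr.pow_eq_one_iff_dvd 3).1 (by
    rw [← h1, ← hz, ← e, hy, ← e]
    ring)))
  have yz : y ≠ z := fun e => xy (σ.injective (by rw [hy, hz, e]))
  have zx : z ≠ x := fun e => yz (σ.injective (by rw [hz, h4, e]))
  have x0 : x ≠ 0 := by rintro rfl; simp at h1
  have y0 : y ≠ 0 := by rintro rfl; simp at h1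
  have z0 : z ≠ 0 := by rintro rfl; simp at h1
  have hy' := hy ▸ e1 x hx
  have hz' := hz ▸ e1 y hy'
  obtain ⟨x', hx'⟩ : ∃ x', x' = x⁻¹ := ⟨_, rfl⟩
  obtain ⟨y', hy''⟩ : ∃ y', y' = y⁻¹ := ⟨_, rfl⟩
  obtain ⟨z', hz''⟩ : ∃ z', z' = z⁻¹ := ⟨_, rfl⟩
  have hl : ∀ a, ∃ v, v ≠ 0 ∧ N *ᵥ v = ![x, y, z, x', y', z'] a • v := fun a => ml_ne_zero.1 (by
    fin_cases a
    exacts [hx, hy', hz', hx' ▸ e2 x x0 hx, hy'' ▸ e2 y y0 hy', hz'' ▸ e2 z z0 hz'])
  replace hx' : x * x' = 1 := hx' ▸ mul_inv_cancel₀ x0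
  replace hy'' : y * y' = 1 := hy'' ▸ mul_inv_cancel₀ y0
  replace hz'' : z * z' = 1 := hz'' ▸ mul_inv_cancel₀ z0
  choose w w0 hw using hl
  clear hx hy' hz' e1 e2 hy hz h4 hσ xr
  refine ⟨w, _, ?_, hN ▸ hw, fun s hs h => ?_⟩
  · refine LinearIndependent.span_eq_top_of_card_eq_finrank (End.eigenvectors_linearIndependent' (toLin' N) _ ?_ w
      fun a => ⟨End.mem_eigenspace_iff.2 (hw a), w0 a⟩) (by simp)
    clear hw
    intro a b
    fin_cases a <;> fin_cases b <;> simp <;> grind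
  · clear hw
    rcases sub3 s hs with h5 | h5 | h5
    exacts [Or.inl h5, Or.inr h5, by
      simp only [List.mem_cons, List.not_mem_nil, or_false] at h5
      rcases h5 with rfl | rfl | rfl | rfl | rfl | rfl | rfl | rfl | rfl | rfl | rfl | rfl | rfl | rfl | rfl | rfl | rfl | rfl <;>
        simp at h <;> grind]

end eig

end Cfsg.Agent.N2C.RD.C3
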