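import Cfsg.Agent.N2.Cl.RD.Lin
import Cfsg.Agent.H927.LDMaster
import Cfsg.Agent.H269.Ppd.Master
import Cfsg.Agent.H925.NatTor
import Cfsg.Agent.H650.Ppd.Edge
import Cfsg.Agent.H117.LeviC

/-!
# N2 (S3519), defining characteristic: the minors of a Witt frame (helper64)

`Fr` a Witt frame of rank `n`, `o` a node, `Mx Fr o g` the matrix `h(g e_i, f_j)`, `i, j ≤ o`.

* `Mx_mul_R`, `Mx_mul_L`, `det_pg`, `Bi` : the invariance of the minor;
* **`coef`** : `o` the only node outside `J`: `ψ (ρ g v) = j (det (Mx g)) ^ c`;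
* **`emb`** : the family of eigenfunctions of an element with a spanning family of eigenvectors.
-/

set_option autoImplicit false
set_option linter.unusedSectionVars false

namespace Cfsg.Agent.N2C.RD.UM

open CoxeterSystem Cfsg.Agent.ChevalleyStructure.CoxeterGeom Cfsg.Agent.Tits.Roots Cfsg.Agent.Nodes.TypeC
open Cfsg.Agent.Nodes.Comb Cfsg.Agent.Nodes.Reps Cfsg.Agent.Nodes.WittRoot Cfsg.Agent.Nodes.BNOf
open Cfsg.Agent.Nodes.WittRGD Cfsg.Agent.Nodes.RGDLib Cfsg.Agent.Nodes.OppDec Cfsg.Agent.Nodes.Bruhat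
open Cfsg.Agent.Omega.CR Cfsg.Agent.Omega.FOne.Lift.Sd Cfsg.Agent.Nodes.StabComb Cfsg.Agent.Tits.Core
open Cfsg.Agent.Tits.Exchange Cfsg.Agent.H905.Md Cfsg.Agent.KFacts.RgdOpp
open Cfsg.Agent.TitsThree Cfsg.Agent.TitsThree.Siegel Cfsg.Agent.TitsThree.WittFrame
  Cfsg.Agent.TitsThree.WittWeyl Cfsg.Agent.TitsThree.FrameCN
open Cfsg.Agent.H650.Ppd (Nd)
open Cfsg.Agent.H911.SLTwo (U Lo hh)
open scoped MatrixGroups

theorem det_tri {ι K : Type*} [Fintype ι] [LinearOrder ι] [Field K] {M : Matrix ι ι K} (hd : ∀ i, M i i = 1)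
    (h : (∀ i j, j < i → M i j = 0) ∨ ∀ i j, i < j → M i j = 0) : M.det = 1 := by
  rcases h with h | h
  · rw [Matrix.det_of_isUpperTriangular fun i j hij => h i j hij]
    exact Finset.prod_eq_one fun i _ => hd i
  · rw [Matrix.det_of_isLowerTriangular M fun i j hij => h i j hij]
    exact Finset.prod_eq_one fun i _ => hd i

variable {K : Type*} [Field K] {V : Type*} [AddCommGroup V] [Module K V] {H : HForm K V} {n : ℕ}

theorem sum_left {α : Type*} [Fintype α] (a : α → K) (v : α → V) (w : V) :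
    H.h (∑ m, a m • v m) w = ∑ m, a m * H.h (v m) w := by
  classical
  refine Finset.induction_on (Finset.univ : Finset α) ?_ fun x s hx ih => ?_
  · rw [Finset.sum_empty, Finset.sum_empty, H.zero_left]
  · rw [Finset.sum_insert hx, Finset.sum_insert hx, H.add_left, H.smul_left, ih]

theorem sum_right {α : Type*} [Fintype α] (a : α → K) (v : V) (w : α → V) :
    H.h v (∑ m, a m • w m) = ∑ m, H.σ (a m) * H.h v (w m) := by
  classical
  refine Finset.induction_on (Finset.univ : Finset α) ?_ fun x s hx ih => ?_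
  · rw [Finset.sum_empty, Finset.sum_empty, H.zero_right]
  · rw [Finset.sum_insert hx, Finset.sum_insert hx, H.add_right, H.smul_right, ih]

/-- the indices of the minor -/
abbrev Ix (o : Fin n) : Type := {i : Fin n // i ≤ o}

variable (Fr : Frame H (Fin n)) (o : Fin n)

/-- the matrix of the minor -/
def Mx (g : V ≃ₗ[K] V) : Matrix (Ix o) (Ix o) K := Matrix.of fun i j => H.h (g (Fr.b (i.1, true))) (Fr.b (j.1, false))

/-- `u` stabilises the span of the first vectors -/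
def St (s : Bool) (u : V ≃ₗ[K] V) : Prop := ∀ i : Ix o, ∃ a : Ix o → K, u (Fr.b (i.1, s)) = ∑ m, a m • Fr.b (m.1, s)

variable {Fr o}

theorem h_bf (x : Fin n × Bool) (i : Fin n) : H.h (Fr.b x) (Fr.b (i, false)) = if x = (i, true) then 1 else 0 := by
  obtain ⟨j, s⟩ := x
  rw [Fr.hb]
  by_cases h : j = i
  · subst h
    cases s <;> simp
  · rw [if_neg (fun h' => h h'.1), if_neg (fun h' => h (congrArg Prod.fst h'))]

theorem h_eb (i : Fin n) (x : Fin n × Bool) : H.h (Fr.b (i, true)) (Fr.b x) = if x = (i, false) then 1 else 0 := by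
  obtain ⟨j, s⟩ := x
  rw [Fr.hb]
  by_cases h : j = i
  · subst h
    cases s <;> simp
  · rw [if_neg (fun h' => h h'.1.symm), if_neg (fun h' => h (congrArg Prod.fst h'))]

theorem h_ef (i j : Ix o) : H.h (Fr.b (i.1, true)) (Fr.b (j.1, false)) = if i = j then 1 else 0 := by
  rw [h_bf]
  by_cases h : i = j
  · rw [if_pos h, if_pos (by rw [h])]
  · rw [if_neg h, if_neg fun e => h (Subtype.ext (congrArg Prod.fst e))]

theorem Mx_apply (g : V ≃ₗ[K] V) (i j : Ix o) : Mx Fr o g i j = H.h (g (Fr.b (i.1, true))) (Fr.b (j.1, false)) := rfl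

theorem Mx_one : Mx Fr o 1 = 1 := by
  ext i j
  rw [Matrix.one_apply, ← h_ef (Fr := Fr)]
  rfl

theorem Mx_mul_R {u : V ≃ₗ[K] V} (hu : St Fr o true u) (g : V ≃ₗ[K] V) : Mx Fr o (g * u) = Mx Fr o u * Mx Fr o g := by
  ext i j
  obtain ⟨a, ha⟩ := hu i
  rw [Matrix.mul_apply, Mx_apply, mul_apply', ha, map_sum]
  simp only [map_smul]
  rw [sum_left]
  refine Finset.sum_congr rfl fun m _ => ?_
  rw [Mx_apply u, ha, sum_left, Mx_apply]
  simp only [h_ef, mul_ite, mul_one, mul_zero, Finset.sum_ite_eq', Finset.mem_univ, if_true]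

theorem Mx_mul_L {u : V ≃ₗ[K] V} (hi : H.IsIso u) (hu : St Fr o false u⁻¹) (g : V ≃ₗ[K] V) :
    Mx Fr o (u * g) = Mx Fr o g * Mx Fr o u := by
  have key : ∀ v w : V, H.h (u v) w = H.h v (u⁻¹ w) := by
    intro v w
    rw [← hi v (u⁻¹ w)]
    congr 1
    exact (u.apply_symm_apply w).symm
  ext i j
  obtain ⟨a, ha⟩ := hu j
  rw [Matrix.mul_apply, Mx_apply, mul_apply', key, ha, sum_right]
  refine Finset.sum_congr rfl fun m _ => ?_
  rw [Mx_apply u, key, ha, sum_right, Mx_apply, mul_comm]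
  simp only [h_ef, mul_ite, mul_one, mul_zero, Finset.sum_ite_eq, Finset.mem_univ, if_true]

theorem St.of_smul {s : Bool} {u : V ≃ₗ[K] V} (h : ∀ i : Ix o, ∃ (c t : K) (m : Ix o), u (Fr.b (i.1, s)) =
    c • Fr.b (i.1, s) + t • Fr.b (m.1, s)) : St Fr o s u := by
  intro i
  obtain ⟨c, t, m, e⟩ := h i
  refine ⟨Pi.single i c + Pi.single m t, ?_⟩
  simp only [Pi.add_apply, add_smul, Finset.sum_add_distrib, Pi.single_apply, ite_smul, zero_smul, Finset.sum_ite_eq',
    Finset.mem_univ, if_true]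
  exact e

theorem St.mul {s : Bool} {u u' : V ≃ₗ[K] V} (h : St Fr o s u) (h' : St Fr o s u') : St Fr o s (u * u') := by
  intro i
  obtain ⟨a, ha⟩ := h' i
  choose c hc using h
  refine ⟨fun m => ∑ l, a l * c l m, ?_⟩
  rw [mul_apply', ha, map_sum]
  simp only [map_smul, hc, Finset.smul_sum, Finset.sum_smul, smul_smul]
  exact Finset.sum_comm

theorem St.of_mono {s : Bool} {u : V ≃ₗ[K] V} (h : Mono Fr u id) : St Fr o s u := by
  refine St.of_smul fun i => ?_
  obtain ⟨l, -, e⟩ := h (i.1, s)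
  exact ⟨l, 0, i, by rw [zero_smul, add_zero]; exact e⟩

/-- the action of a root element on the frame -/
theorem pg_apply {a b : Fin n × Bool} (hab : Ok a b) {g : V ≃ₗ[K] V} (hg : g ∈ PG Fr a b) :
    H.IsIso g ∧ (∀ z, z ≠ ng a → z ≠ ng b → g (Fr.b z) = Fr.b z) ∧
      (a ≠ b → ∃ t : K, g (Fr.b (ng a)) = Fr.b (ng a) + t • Fr.b b) ∧
      (a ≠ b → ∃ t : K, g (Fr.b (ng b)) = Fr.b (ng b) + t • Fr.b a) := by
  rcases hab with h | rfl
  · rw [PG_ne Fr h] at hg
    obtain ⟨t, rfl⟩ := hg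
    refine ⟨Fr.isIso_X _ _ _, fun z h1 h2 => X_apply_of_ne Fr h h1 h2 t,
      fun _ => ⟨-(H.ε⁻¹ * Fr.η a * Fr.η b * H.σ t), ?_⟩, fun _ => ⟨t, X_apply_neg Fr h t⟩⟩
    exact (X_apply_neg' Fr h t).trans (by rw [sub_eq_add_neg, ← neg_smul]; rfl)
  · rw [PG_self] at hg
    obtain ⟨p, rfl⟩ := hg
    exact ⟨Fr.isIso_Z _ _, fun z h1 _ => Z_apply_of_ne Fr h1 p, fun h => absurd rfl h, fun h => absurd rfl h⟩

/-- the root groups which stabilise the span -/
def Cd (o : Fin n) (s : Bool) (a b : Fin n × Bool) : Prop := ∀ i ≤ o, a = (i, !s) → ∃ m ≤ o, b = (m, s)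

theorem Cd.ng {s : Bool} {a b : Fin n × Bool} (h : Cd o s a b) : Cd o (!s) (ng a) (ng b) := by
  intro i hi e
  obtain ⟨m, hm, e'⟩ := h i hi (by rw [← ng_ng a, e]; simp [Cfsg.Agent.Nodes.TypeC.ng])
  exact ⟨m, hm, by rw [e']; rfl⟩

theorem st_pg {s : Bool} {a b : Fin n × Bool} (hab : Ok a b) (h1 : Cd o s a b) (h2 : Cd o s b a) {u : V ≃ₗ[K] V}
    (hu : u ∈ PG Fr a b) : St Fr o s u := by
  obtain ⟨-, g1, g2, g3⟩ := pg_apply hab hu
  have e0 : ∀ (i : Fin n) (a : Fin n × Bool), (i, s) = ng a → a = (i, !s) := fun i a e => by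
    rw [← ng_ng a, ← e]
    rfl
  refine St.of_smul fun i => ?_
  by_cases ha : (i.1, s) = ng a
  · obtain ⟨m, hm, e⟩ := h1 i.1 i.2 (e0 _ _ ha)
    obtain ⟨t, ht⟩ := g2 (by rw [e0 _ _ ha, e]; cases s <;> simp)
    exact ⟨1, t, ⟨m, hm⟩, by rw [one_smul, ha, ht, e]⟩
  by_cases hb : (i.1, s) = ng b
  · obtain ⟨m, hm, e⟩ := h2 i.1 i.2 (e0 _ _ hb)
    obtain ⟨t, ht⟩ := g3 (by rw [e0 _ _ hb, e]; cases s <;> simp)
    exact ⟨1, t, ⟨m, hm⟩, by rw [one_smul, hb, ht, e]⟩
  exact ⟨1, 0, i, by rw [one_smul, zero_smul, add_zero, g1 _ ha hb]⟩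

theorem det_pg {a b : Fin n × Bool} (hab : Ok a b) {u : V ≃ₗ[K] V} (hu : u ∈ PG Fr a b) : (Mx Fr o u).det = 1 := by
  rcases hab with h | rfl
  · rw [PG_ne Fr h] at hu
    obtain ⟨t, rfl⟩ := hu
    obtain ⟨c, d, e⟩ : ∃ c d : K, ∀ i j : Ix o, Mx Fr o (Fr.X a b t) i j = (if i = j then 1 else 0) +
        c * ((if a = (i.1, false) then 1 else 0) * if b = (j.1, true) then 1 else 0) +
        d * ((if b = (i.1, false) then 1 else 0) * if a = (j.1, true) then 1 else 0) := by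
      refine ⟨Fr.sc b t, -(H.ε⁻¹ * H.σ (Fr.sc b t)), fun i j => ?_⟩
      rw [Mx_apply, X_apply Fr h, H.sub_left, H.add_left, H.smul_left, H.smul_left, h_ef, h_eb, h_eb, h_bf, h_bf]
      ring
    obtain ⟨x, s⟩ := a
    obtain ⟨y, s'⟩ := b
    have h' : x ≠ y := h
    refine det_tri (fun i => ?_) ?_
    · rw [e]
      by_cases hx : x = i.1
      · have hy : ¬ y = i.1 := fun hy => h' (hx.trans hy.symm)
        simp [hy]
      · simp [hx]
    · have key : ∀ i j : Ix o, i ≠ j → ¬ (s = false ∧ s' = true ∧ x = i.1 ∧ y = j.1) →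
          ¬ (s' = false ∧ s = true ∧ y = i.1 ∧ x = j.1) → Mx Fr o (Fr.X (x, s) (y, s') t) i j = 0 := by
        intro i j hij h1 h2
        rw [e, if_neg hij]
        have h3 : ((if (x, s) = (i.1, false) then 1 else 0) * if (y, s') = (j.1, true) then 1 else 0 : K) = 0 := by
          split_ifs with c1 c2
          · exact absurd ⟨congrArg Prod.snd c1, congrArg Prod.snd c2, congrArg Prod.fst c1, congrArg Prod.fst c2⟩ h1
          all_goals simp
        have h4 : ((if (y, s') = (i.1, false) then 1 else 0) * if (x, s) = (j.1, true) then 1 else 0 : K) = 0 := by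
          split_ifs with c1 c2
          · exact absurd ⟨congrArg Prod.snd c1, congrArg Prod.snd c2, congrArg Prod.fst c1, congrArg Prod.fst c2⟩ h2
          all_goals simp
        rw [h3, h4]
        ring
      by_cases hs : (s = false ∧ x < y) ∨ (s = true ∧ y < x)
      · refine Or.inl fun i j hij => key i j hij.ne' ?_ ?_
        all_goals
          have h5 : j.1 < i.1 := hij
          rintro ⟨rfl, h6, rfl, rfl⟩
          rcases hs with ⟨h7, h8⟩ | ⟨h7, h8⟩
          all_goals first | exact absurd (h5.trans h8) (lt_irrefl _) | simp_all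
      · refine Or.inr fun i j hij => key i j hij.ne ?_ ?_
        all_goals
          have h5 : i.1 < j.1 := hij
          rintro ⟨rfl, h6, rfl, rfl⟩
          first | exact hs (Or.inl ⟨rfl, h5⟩) | exact hs (Or.inr ⟨h6, h5⟩)
  · rw [PG_self] at hu
    obtain ⟨p, rfl⟩ := hu
    have e : Mx Fr o (Fr.Z a p) = 1 := by
      ext i j
      rw [Mx_apply, Z_apply, H.add_left, H.sub_left, H.add_left, H.smul_left, H.smul_left, H.smul_left, h_ef, h_eb, h_bf,
        Fr.h0 _ _ (Fr.ok_mem p.ok), Fr.h0' _ (Fr.ok_mem p.ok), Matrix.one_apply]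
      by_cases h : a = (i.1, false)
      · rw [if_neg (show ¬ a = (j.1, true) by rw [h]; simp)]
        ring
      · rw [if_neg h]
        ring
    rw [e, Matrix.det_one]

variable (Fr o) in
/-- the isometries which stabilise both spans, with minor one -/
def Bi : Subgroup (V ≃ₗ[K] V) where
  carrier := {u | H.IsIso u ∧ (∀ s, St Fr o s u ∧ St Fr o s u⁻¹) ∧ (Mx Fr o u).det = 1}
  one_mem' := ⟨fun _ _ => rfl, fun _ => ⟨St.of_mono Mono.one, St.of_mono Mono.one⟩, by rw [Mx_one, Matrix.det_one]⟩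
  mul_mem' := by
    rintro a b ⟨a1, a2, a3⟩ ⟨b1, b2, b3⟩
    refine ⟨HForm.IsIso.mul _ a1 b1, fun s => ⟨(a2 s).1.mul (b2 s).1, ?_⟩, ?_⟩
    · rw [mul_inv_rev]
      exact (b2 s).2.mul (a2 s).2
    · rw [Mx_mul_R (b2 true).1, Matrix.det_mul, a3, b3, mul_one]
  inv_mem' := by
    rintro a ⟨a1, a2, a3⟩
    refine ⟨HForm.IsIso.inv _ a1, fun s => ⟨(a2 s).2, by rw [inv_inv]; exact (a2 s).1⟩, ?_⟩
    have h1 := congrArg Matrix.det (Mx_mul_R (a2 true).2 a)
    rw [mul_inv_cancel, Mx_one, Matrix.det_one, Matrix.det_mul, a3, mul_one] at h1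
    exact h1.symm

theorem pg_le {a b : Fin n × Bool} (hab : Ok a b) (h1 : ∀ s, Cd o s a b) (h2 : ∀ s, Cd o s b a) : PG Fr a b ≤ Bi Fr o :=
  fun _ hu => ⟨(pg_apply hab hu).1, fun s => ⟨st_pg hab (h1 s) (h2 s) hu, st_pg hab (h1 s) (h2 s) (inv_mem hu)⟩, det_pg hab hu⟩

/-! ### roots -/

/-- partial sums -/
def ps (m : Fin n) (x : Fin n → ℤ) : ℤ := ∑ k ∈ Finset.Iic m, x k

theorem ps_add (m : Fin n) (x y : Fin n → ℤ) : ps m (x + y) = ps m x + ps m y := Finset.sum_add_distrib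

theorem ps_ee (m : Fin n) (x : Fin n → ℤ) : ps m (ee x) = (if (m : ℕ) + 1 < n then 1 else 2) * x m := by
  have h1 : ∀ k, ee x k = ∑ j, x j * bt j k := by
    intro k
    simp [ee, Finset.sum_apply]
  unfold ps
  simp only [h1]
  rw [Finset.sum_comm]
  simp only [← Finset.mul_sum, sum_bt]
  rw [Finset.sum_eq_single m]
  · simp only [if_true]
    split_ifs <;> ring
  · intro j _ hj
    simp [Ne.symm hj]
  · simp

theorem ps_wt (m : Fin n) (a : Fin n × Bool) : ps m (wt a) = if a.1 ≤ m then (if a.2 then 1 else -1) else 0 := by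
  unfold ps wt
  rw [Finset.sum_pi_single']
  simp only [Finset.mem_Iic]

theorem cd_pos {x : Fin n → ℤ} (hx : 0 ≤ x) {a b : Fin n × Bool} (e : ee x = wt a + wt b) : Cd o true a b := by
  rintro i hi rfl
  have h1 := ps_ee i x
  have h2 : 0 ≤ x i := hx i
  rw [e, ps_add, ps_wt, ps_wt] at h1
  obtain ⟨m, s⟩ := b
  have h3 : m ≤ i ∧ s = true := by
    by_contra h3
    simp only [le_refl, if_true, Bool.not_true, Bool.false_eq_true, if_false] at h1
    split_ifs at h1 with c1 c2 c3 <;> first | omega | exact h3 ⟨‹_›, ‹_›⟩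
  exact ⟨m, h3.1.trans hi, by rw [h3.2]⟩

theorem cd_sr {i : Fin n} (hi : i ≠ o) (s : Bool) : Cd o s (i, true) (nx i) ∧ Cd o s (nx i) (i, true) := by
  cases s
  · refine ⟨fun m hm e => ?_, fun m hm e => ?_⟩
    · obtain rfl : i = m := congrArg Prod.fst e
      have h1 : (i : ℕ) < o := (lt_of_le_of_ne hm hi : i < o)
      have h2 : (i : ℕ) + 1 < n := by have := o.2; omega
      exact ⟨⟨i + 1, h2⟩, h1, dif_pos h2⟩
    · exfalso
      by_cases h2 : (i : ℕ) + 1 < n
      · rw [show nx i = (⟨i + 1, h2⟩, false) from dif_pos h2] at e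
        simp at e
      · rw [show nx i = (i, true) from dif_neg h2] at e
        obtain rfl : i = m := congrArg Prod.fst e
        have h1 : (i : ℕ) < o := (lt_of_le_of_ne hm hi : i < o)
        have := o.2
        omega
  · exact ⟨cd_pos (sr_nonneg i) (ee_sr i), cd_pos (sr_nonneg i) ((ee_sr i).trans (add_comm _ _))⟩

theorem sup_le_Bi {i : Fin n} (hi : i ≠ o) : rg Fr (sr i) ⊔ rg Fr (-sr i) ≤ Bi Fr o := by
  rw [rg_sr, rg_neg_sr]
  refine sup_le (pg_le (ok_nx i) (fun s => (cd_sr hi s).1) fun s => (cd_sr hi s).2) (pg_le (ok_nx i).ng (fun s => ?_) fun s => ?_)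
  · simpa using (cd_sr hi (!s)).1.ng
  · simpa using (cd_sr hi (!s)).2.ng

section rgd

variable {W Y : Type*} [Group W] [Group Y] {cs : CoxeterSystem (CoxeterMatrix.B n) W} {p : ℕ} {T : Subgroup Y}
  {nn : Fin n → Y} {X : (Fin n → ℤ) → Subgroup Y}

/-- `Y` acts by isometries of the frame -/
structure Re (Fr : Frame H (Fin n)) (T : Subgroup Y) (nn : Fin n → Y) (X : (Fin n → ℤ) → Subgroup Y)
    (τ : Y →* (V ≃ₗ[K] V)) : Prop where
  iso : ∀ y, H.IsIso (τ y)
  tor : ∀ t ∈ T, Mono Fr (τ t) id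
  mono : ∀ i, Mono Fr (τ (nn i)) (sg i)
  root : ∀ x, ∀ y ∈ X x, τ y ∈ rg Fr x
  sup : ∀ i, nn i ∈ X (sr i) ⊔ X (-sr i)

variable {τ : Y →* (V ≃ₗ[K] V)} (hR : Re Fr T nn X τ)
include hR

theorem Re.bi {i : Fin n} (hi : i ≠ o) {y : Y} (hy : y ∈ X (sr i) ⊔ X (-sr i)) : τ y ∈ Bi Fr o := by
  have h1 : X (sr i) ⊔ X (-sr i) ≤ (Bi Fr o).comap τ :=
    sup_le (fun y hy => sup_le_Bi hi (Subgroup.mem_sup_left (hR.root _ y hy)))
      fun y hy => sup_le_Bi hi (Subgroup.mem_sup_right (hR.root _ y hy))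
  exact h1 hy

theorem Re.exists_pi (hN : NSys (CoxeterMatrix.B n) T nn) (w : W) : ∃ π : Fin n × Bool → Fin n × Bool, Act cs w π ∧
    (∀ x, π (ng x) = ng (π x)) ∧ Function.Injective π ∧ ∀ k : Y, Rp cs hN w k → Mono Fr (τ k) π := by
  have hmain := cs.simple_induction_left (p := fun w => ∃ π : Fin n × Bool → Fin n × Bool, Act cs w π ∧
    (∀ x, π (ng x) = ng (π x)) ∧ Function.Injective π ∧
    ∀ k : Y, Rp cs hN w k → Mono Fr (τ k) π) w
  refine hmain ?_ fun w i ih => ?_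
  · refine ⟨id, Act.one, fun _ => rfl, Function.injective_id, fun k hk => ?_⟩
    exact hR.tor _ hk.mem_of_one
  · obtain ⟨π, h1, h2, h3, h4⟩ := ih
    refine ⟨fun x => sg i (π x), (act_simple i).mul h1, fun x => ?_, fun x y hxy => ?_, fun k hk => ?_⟩
    · change sg i (π (ng x)) = _
      rw [h2, sg_ng]
    · apply h3
      have h5 : sg i (sg i (π x)) = sg i (sg i (π y)) := congrArg (sg i) hxy
      rwa [sg_sg, sg_sg] at h5
    · have h5 := (rp_simple cs hN i).inv.mul hk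
      rw [inv_mul_cancel_left] at h5
      have h6 := (hR.mono i).mul (h4 _ h5)
      rwa [← map_mul, mul_inv_cancel_left] at h6

theorem Re.of_det (hN : NSys (CoxeterMatrix.B n) T nn) {w : W} {g : Y} (hg : Rp cs hN w g) (h : (Mx Fr o (τ g)).det ≠ 0)
    (x : Fin n → ℤ) : rep cs (isCartan n) w x o = x o := by
  obtain ⟨π, h1, h2, h3, h4⟩ := hR.exists_pi (cs := cs) hN w
  have h5 : ∀ i : Ix o, ∃ j : Ix o, π (i.1, true) = (j.1, true) := by
    intro i
    by_contra hne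
    refine h (Matrix.det_eq_zero_of_row_eq_zero i fun j => ?_)
    obtain ⟨l, -, e⟩ := h4 g hg (i.1, true)
    rw [Mx_apply, e, H.smul_left, h_bf, if_neg fun e' => hne ⟨j, e'⟩, mul_zero]
  choose f hf using h5
  have h6 : Function.Surjective f := Finite.surjective_of_injective fun i j e =>
    Subtype.ext (congrArg Prod.fst (h3 ((hf i).trans (e ▸ (hf j).symm))))
  have h7 : ∀ a, ps o (wt (π a)) = ps o (wt a) := by
    rintro ⟨i, s⟩
    by_cases hi : i ≤ o
    · have h8 := hf ⟨i, hi⟩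
      have h9 := (f ⟨i, hi⟩).2
      cases s
      · rw [show (i, false) = ng (i, true) from rfl, h2, h8, ps_wt, ps_wt]
        simp [hi, h9]
      · rw [h8, ps_wt, ps_wt]
        simp [hi, h9]
    · rw [ps_wt, ps_wt, if_neg hi, if_neg]
      intro h8
      obtain ⟨m, hm⟩ := h6 ⟨_, h8⟩
      have h9 := hf m
      rw [hm] at h9
      rcases eq_or_ng (a := π (i, s)) (b := π (m.1, true)) (by rw [h9]) with e | e
      · exact hi (by rw [show i = m.1 from congrArg Prod.fst (h3 e)]; exact m.2)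
      · rw [← h2] at e
        exact hi (by rw [show i = m.1 from congrArg Prod.fst (h3 e)]; exact m.2)
  have h8 : ∀ j, rep cs (isCartan n) w (sr j) o = sr j o := by
    intro j
    have h9 := ps_ee o (rep cs (isCartan n) w (sr j))
    rw [h1 _ _ _ (ee_sr j), ps_add, h7, h7, ← ps_add, show wt (j, true) + wt (nx j) = ee (sr j) from (ee_sr j).symm, ps_ee] at h9
    split_ifs at h9 <;> omega
  have h9 : (LinearMap.proj o).comp (rep cs (isCartan n) w) = LinearMap.proj o :=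
    (Pi.basisFun ℤ (Fin n)).ext fun j => by
      rw [Pi.basisFun_apply]
      exact h8 j
  exact LinearMap.congr_fun h9 x

variable (R : RGD cs (isCartan n) p T nn X) [Finite Y] [Finite W] [Fact p.Prime] {k E : Type*} [Field k] [CharP k p]
  [IsAlgClosed k] [AddCommGroup E] [Module k E] [FiniteDimensional k E] [Nontrivial E] {ρ : Y →* Module.End k E}
  (hirr : ∀ L : Submodule k E, Ivt ρ (GG cs (isCartan n) T X) L → L = ⊥ ∨ L = ⊤)
  (hT : ∀ s ∈ T, ∀ t ∈ T, s * t = t * s) (hG : G1 cs (isCartan n) X = ⊤)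
include R hirr hT hG

/-- **The matrix coefficient.** -/
theorem Re.coef (hJ : ∀ i, i ∈ Jx cs (isCartan n) X ρ ↔ i ≠ o) {F : Type*} [Field F] {σ : SL(2, F) →* Y} (N : H650.Ppd.Nd T X o σ)
    (ι : F →+* K) (hΔ : ∀ A, (Mx Fr o (τ (σ A))).det = ι (A.1 0 0)) (j : K →+* k) {c : ℕ} (hc : c ≠ 0) {v : E}
    (hv : v ∈ D cs (isCartan n) X ρ) {χ : Y → k} (hχ : ∀ t ∈ T, ρ t v = χ t • v) (hχ' : ∀ s : Fˣ, χ (σ (hh s)) = j (ι s) ^ c)
    {ψ : Module.Dual k E} (hψ : ψ ∈ fx (dualRep ρ) (UN cs (isCartan n) X)) (h1 : ψ v = 1) (g : Y) :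
    ψ (ρ g v) = j (Mx Fr o (τ g)).det ^ c := by
  have hv0 : v ≠ 0 := by
    rintro rfl
    rw [map_zero] at h1
    exact zero_ne_one h1
  have hTr : ∀ t ∈ T, ∀ g, (Mx Fr o (τ (g * t))).det = (Mx Fr o (τ g)).det * (Mx Fr o (τ t)).det := fun t ht g => by
    rw [map_mul, Mx_mul_R (St.of_mono (hR.tor t ht)), Matrix.det_mul, mul_comm]
  have hT0 : ∀ t ∈ T, (Mx Fr o (τ t⁻¹)).det * (Mx Fr o (τ t)).det = 1 := fun t ht => by
    rw [← hTr t ht, inv_mul_cancel, map_one, Mx_one, Matrix.det_one]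
  refine H927.LD.master R hirr hT hG (Ξ := fun g => j (Mx Fr o (τ g)).det ^ c) ?_ ?_ ?_ ?_ ?_ ?_ hv ?_ ?_ ?_ hψ h1 g
  · simp only [map_one, Mx_one, Matrix.det_one, one_pow]
  · rintro x ⟨hx, h0⟩ u hu g
    obtain ⟨a, b, hab, e⟩ := exists_of_isRoot cs hx
    have h2 := hR.root x u hu
    rw [rg_eq Fr hab e] at h2
    rw [map_mul, Mx_mul_R (st_pg hab (cd_pos h0 e) (cd_pos h0 (e.trans (add_comm _ _))) h2), Matrix.det_mul, det_pg hab h2, one_mul]
  · rintro x ⟨hx, h0⟩ u hu g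
    obtain ⟨a, b, hab, e⟩ := exists_of_isRoot cs hx
    have h2 := hR.root _ u hu
    rw [rg_eq Fr hab.ng (by rw [ee_neg, e, wt_ng, wt_ng, neg_add])] at h2
    rw [map_mul, Mx_mul_L (hR.iso u) (st_pg hab.ng (cd_pos h0 e).ng (cd_pos h0 (e.trans (add_comm _ _))).ng (inv_mem h2)),
      Matrix.det_mul, det_pg hab.ng h2, mul_one]
  · intro t ht g
    rw [map_mul, Mx_mul_L (hR.iso t) (by rw [← map_inv]; exact St.of_mono (hR.tor _ (inv_mem ht))), Matrix.det_mul, map_mul,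
      mul_pow, mul_comm]
  · intro t ht g
    rw [hTr t ht, map_mul, mul_pow]
  · intro i hi g
    obtain ⟨h2, h3, h4⟩ := hR.bi ((hJ i).1 hi) (hR.sup i)
    rw [map_mul, Mx_mul_L h2 (h3 false).2, Matrix.det_mul, h4, mul_one]
  · exact fun i hi => H269.Ppd.fix_of_mem hi hv (hR.sup i)
  · intro w g hg h0
    refine (mem_WJ_iff (h := isCartan n)).2 fun x i hi => ?_
    obtain rfl : i = o := by
      by_contra h2
      exact hi ((hJ i).2 h2)
    exact hR.of_det R.nsys hg (fun h2 => h0 (by simp only [h2, map_zero, zero_pow hc])) x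
  · let S : Subgroup Y :=
      { carrier := {t | t ∈ T ∧ χ t = j (Mx Fr o (τ t)).det ^ c}
        one_mem' := ⟨one_mem _, by rw [H269.Ppd.chi_one hv0 hχ, map_one, Mx_one, Matrix.det_one, map_one, one_pow]⟩
        mul_mem' := by
          rintro a b ⟨ha, ha'⟩ ⟨hb, hb'⟩
          exact ⟨mul_mem ha hb, by rw [H269.Ppd.chi_mul hv0 hχ ha hb, ha', hb', hTr b hb, map_mul, mul_pow]⟩
        inv_mem' := by
          rintro a ⟨ha, ha'⟩
          refine ⟨inv_mem ha, ?_⟩
          have h2 := H269.Ppd.chi_mul hv0 hχ (inv_mem ha) ha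
          rw [inv_mul_cancel, H269.Ppd.chi_one hv0 hχ] at h2
          have h3 := congrArg (fun x => j x ^ c) (hT0 a ha)
          simp only [map_mul, mul_pow, map_one, one_pow] at h3
          rw [← ha'] at h3
          have h4 : χ a ≠ 0 := fun h => by
            rw [h, mul_zero] at h2
            exact one_ne_zero h2
          exact mul_right_cancel₀ h4 (h2.symm.trans h3.symm) }
    have hle : T ≤ S := by
      refine (H925.Nat.T_le_iSup R hG).trans (iSup_le fun i => ?_)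
      rintro t ⟨ht, htT⟩
      refine ⟨htT, ?_⟩
      have h2 : ψ (ρ t v) = χ t := by rw [hχ t htT, map_smul, h1, smul_eq_mul, mul_one]
      by_cases hi : i = o
      · subst hi
        obtain ⟨A, rfl⟩ : t ∈ σ.range := by
          refine (sup_le (fun y hy => ?_) fun y hy => ?_ : X (sr i) ⊔ X (-sr i) ≤ σ.range) ht
          · obtain ⟨a, rfl⟩ := (N.up y).1 hy
            exact ⟨_, rfl⟩
          · obtain ⟨a, rfl⟩ := (N.lo y).1 hy
            exact ⟨_, rfl⟩
        have h3 : A.1 0 0 ≠ 0 := fun h => by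
          have h4 := hT0 _ htT
          rw [hΔ, h, map_zero, mul_zero] at h4
          exact zero_ne_one h4
        rw [hΔ, ← h2]
        conv_lhs => rw [H117.Levi.gauss_of_ne A (Units.mk0 _ h3) rfl]
        rw [map_mul σ, map_mul σ, rho_mul, rho_mul,
          hv _ (RGD.le_Sup (S := RGD.Pos cs (isCartan n)) ⟨isRoot_sr cs _ i, sr_nonneg i⟩ ((N.up _).2 ⟨_, rfl⟩)),
          ((mem_fx_dual ρ).1 hψ _ (X_le_UN (isRoot_sr cs _ i).neg (neg_nonpos.2 (sr_nonneg i)) ((N.lo _).2 ⟨_, rfl⟩))), hχ _ (N.tor _), map_smul, h1,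
          smul_eq_mul, mul_one, hχ']
        rfl
      · rw [(hR.bi hi ht).2.2, map_one, one_pow, ← h2, H269.Ppd.fix_of_mem ((hJ i).2 hi) hv ht, h1]
    intro t ht
    rw [hχ t ht, (hle ht).2]

end rgd

/-! ### eigenfunctions -/

section eig

open Matrix

variable {ν : Type*} [Fintype ν] [DecidableEq ν] {k : Type*} [Field k] (j : K →+* k)

/-- the matrix over `k` -/
noncomputable def mk (g : (ν → K) ≃ₗ[K] (ν → K)) : Matrix ν ν k := (LinearMap.toMatrix' (g : (ν → K) →ₗ[K] (ν → K))).map j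

theorem mk_mul (g g' : (ν → K) ≃ₗ[K] (ν → K)) : mk j (g * g') = mk j g * mk j g' := by
  rw [mk, mk, mk, ← Matrix.map_mul, ← LinearMap.toMatrix'_mul]
  rfl

theorem mk_one : mk j (1 : (ν → K) ≃ₗ[K] (ν → K)) = 1 := by
  rw [mk, show ((1 : (ν → K) ≃ₗ[K] (ν → K)) : (ν → K) →ₗ[K] (ν → K)) = 1 from rfl, LinearMap.toMatrix'_one,
    Matrix.map_one _ (map_zero j) (map_one j)]

theorem mk_mulVec (g : (ν → K) ≃ₗ[K] (ν → K)) (x : ν → K) : mk j g *ᵥ (j ∘ x) = j ∘ g x := by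
  funext a
  rw [mk, ← RingHom.map_mulVec, LinearMap.toMatrix'_mulVec]
  rfl

variable {H : HForm K (ν → K)} (Fr : Frame H (Fin n)) (o : Fin n)

/-- the functionals `h(·, f_m)` -/
def Cm : Matrix (Ix o) ν k := Matrix.of fun m a => j (H.h (Pi.single a 1) (Fr.b (m.1, false)))

theorem Cm_mulVec (x : ν → K) (m : Ix o) : (Cm j Fr o *ᵥ (j ∘ x)) m = j (H.h x (Fr.b (m.1, false))) := by
  conv_rhs => rw [pi_eq_sum_univ' x, sum_left, map_sum]
  exact Finset.sum_congr rfl fun a _ => by rw [map_mul, mul_comm]; rfl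

/-- the minor as an alternating form -/
noncomputable def Dk (g : (ν → K) ≃ₗ[K] (ν → K)) : (ν → k) [⋀^Ix o]→ₗ[k] k :=
  Matrix.detRowAlternating.compLinearMap (Cm j Fr o * mk j g).mulVecLin

theorem Dk_mul (g u : (ν → K) ≃ₗ[K] (ν → K)) (x : Ix o → ν → k) :
    Dk j Fr o (g * u) x = Dk j Fr o g fun i => mk j u *ᵥ x i := by
  simp only [Dk, AlternatingMap.compLinearMap_apply, Matrix.mulVecLin_apply, mk_mul, Matrix.mulVec_mulVec, Matrix.mul_assoc]

theorem Dk_eq (g : (ν → K) ≃ₗ[K] (ν → K)) : Dk j Fr o g (fun i => j ∘ Fr.b (i.1, true)) = j (Mx Fr o g).det := by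
  rw [RingHom.map_det, Dk, AlternatingMap.compLinearMap_apply]
  refine congrArg Matrix.det ?_
  ext i m
  rw [Matrix.mulVecLin_apply, ← Matrix.mulVec_mulVec, mk_mulVec, Cm_mulVec]
  rfl

variable {Fr o} {Y E : Type*} [Group Y] [AddCommGroup E] [Module k E] [FiniteDimensional k E] {ρ : Y →* Module.End k E}
  {τ : Y →* ((ν → K) ≃ₗ[K] (ν → K))}

open Classical in
/-- **the eigenfunctions** -/
theorem emb (hirr : ∀ L : Submodule k E, Ivt ρ ⊤ L → L = ⊥ ∨ L = ⊤) {ψ : Module.Dual k E} {v : E} (h1 : ψ v = 1)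
    (hco : ∀ g, ψ (ρ g v) = j (Mx Fr o (τ g)).det) {α : Type*} [Fintype α] {w : α → ν → k}
    (hw : Submodule.span k (Set.range w) = ⊤) {u : Y} {l : α → k} (hl : ∀ a, mk j (τ u) *ᵥ w a = l a • w a) :
    Emb (ρ u) (coef ρ ⊤ ψ) (trl k ⟨u, Subgroup.mem_top u⟩) (fun (f : Ix o → α) g => Dk j Fr o (τ g) (w ∘ f))
      fun f => if Function.Injective f then ∏ i, l (f i) else 0 := by
  refine emb_of (G := ⊤) hirr (v := v) (fun h => by rw [h] at h1; exact zero_ne_one h1)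
    (fun h => by rw [h, map_zero] at h1; exact zero_ne_one h1) (fun (f : Ix o → α) g => Dk j Fr o (τ g) (w ∘ f))
    (fun y _ => ?_) (Subgroup.mem_top u) _ fun f g _ => ?_
  · have h2 : ∀ i : Ix o, ∃ c : α → k, ∑ a, c a • w a = mk j (τ y) *ᵥ (j ∘ Fr.b (i.1, true)) := fun i =>
      (Submodule.mem_span_range_iff_exists_fun k).1 (hw ▸ Submodule.mem_top)
    choose c hc using h2
    refine ⟨fun f => ∏ i, c i (f i), fun g _ => ?_⟩
    rw [hco, map_mul, ← Dk_eq, Dk_mul]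
    simp only [← hc]
    refine ((Dk j Fr o (τ g)).toMultilinearMap.map_sum fun i a => c i a • w a).trans (Finset.sum_congr rfl fun f _ => ?_)
    exact (Dk j Fr o (τ g)).toMultilinearMap.map_smul_univ (fun i => c i (f i)) (w ∘ f)
  · split_ifs with hf
    · rw [map_mul, Dk_mul]
      simp only [Function.comp_apply, hl]
      exact (Dk j Fr o (τ g)).toMultilinearMap.map_smul_univ (fun i => l (f i)) (w ∘ f)
    · rw [zero_mul]
      exact (Dk j Fr o _).map_eq_zero_of_not_injective _ fun h => hf h.of_comp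

/-- **no fixed vectors** -/
theorem eE_zero (hirr : ∀ L : Submodule k E, Ivt ρ ⊤ L → L = ⊥ ∨ L = ⊤) {ψ : Module.Dual k E} {v : E} (h1 : ψ v = 1)
    (hco : ∀ g, ψ (ρ g v) = j (Mx Fr o (τ g)).det) {α : Type*} [Fintype α] {w : α → ν → k}
    (hw : Submodule.span k (Set.range w) = ⊤) {u : Y} {l : α → k} (hl : ∀ a, mk j (τ u) *ᵥ w a = l a • w a) {z : k} (hz : z ≠ 0)
    (h : ∀ f : Ix o → α, Function.Injective f → ∏ i, l (f i) ≠ z) : eE (ρ u) z = 0 := by
  classical
  refine Nat.le_zero.1 (((emb j hirr h1 hco hw hl).eE_le z).trans_eq ?_)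
  rw [Finset.card_eq_zero, Finset.filter_eq_empty_iff]
  intro f _
  split_ifs with hf
  exacts [h f hf, hz.symm]

end eig

end Cfsg.Agent.N2C.RD.UM
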