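import Cfsg.Agent.N2.Cl.RD.C3B
import Cfsg.Agent.N2.Cl.RD.C3E
import Cfsg.Agent.N2.Cl.RD.UMin

/-!
# N2 (S3519), defining characteristic: the module of the last node of `Sp₆` (helper36)

* `eE_le_two` : the fixed space of an element of order `r ∣ q ^ 2 + q + 1` on the third exterior power;
* `exists_frC` : the frame with the extra property.
-/

set_option autoImplicit false
set_option linter.unusedSectionVars false

namespace Cfsg.Agent.N2C.RD.C3

theorem emb_restrict {k V M A B : Type*} [Field k] [AddCommGroup V] [Module k V] [AddCommGroup M] [Module k M] {T : Module.End k V}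
    {Θ : V →ₗ[k] M} {S : Module.End k M} {F : A → M} {lam : A → k} (h : Emb T Θ S F lam) (i : B → A)
    (hi : ∀ a, F a ∈ Submodule.span k (Set.range (F ∘ i))) : Emb T Θ S (F ∘ i) (lam ∘ i) :=
  ⟨h.inj, h.comm, fun b => h.eig (i b), fun v => (Submodule.span_le.2 (Set.range_subset_iff.2 hi)) (h.span v)⟩

open CoxeterSystem Cfsg.Agent.ChevalleyStructure.CoxeterGeom Cfsg.Agent.Tits.Roots Cfsg.Agent.Tits.Core
  Cfsg.Agent.Nodes.Reps Cfsg.Agent.Nodes.BNOf Cfsg.Agent.Nodes.Bruhat Cfsg.Agent.Nodes.RGDLib Cfsg.Agent.Nodes.StabComb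
  Cfsg.Agent.Nodes.OppDec Cfsg.Agent.Nodes.LeviDec Cfsg.Agent.KFacts.RgdOpp
open Cfsg.Agent.Nodes Cfsg.Agent.Nodes.WittRoot Cfsg.Agent.Nodes.WittRGD Cfsg.Agent.Nodes.WittAll Cfsg.Agent.Nodes.WittInst
open Cfsg.Agent.Nodes.TypeC (isCartan ee wt Ok)
open Cfsg.Agent.TitsThree.Siegel Cfsg.Agent.TitsThree.WittFrame Cfsg.Agent.TitsThree.FrameCN Cfsg.Agent.TitsThree
open Cfsg.Agent.H915.LD Cfsg.Agent.H911 Cfsg.Agent.H905.Md Cfsg.Agent.H925.Nat Cfsg.Agent.Nodes.RGDLift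
open Cfsg.Agent.H156.Ppd (Cov lrep exists_cov)
open Cfsg.Agent.Omega.CR Cfsg.Agent.Omega.FOne.Lift.Sd
open Cfsg Cfsg.Geo
open scoped MatrixGroups Matrix
open Cfsg.Agent.H948.Ppd Cfsg.Agent.N2C.RD.Cb Cfsg.Agent.N2C.RD.UM
open Cfsg.Agent.H62.FrameSL (phiL phiL_apply linL_apply phiL_up phiL_lo phiL_e)

section minor

variable {E k : Type} [Field E] [Field k] (j : E →+* k) {Y V : Type} [Group Y] [AddCommGroup V] [Module k V] [FiniteDimensional k V]
  {ρ : Y →* Module.End k V} {τ : Y →* ((Fin 3 ⊕ Fin 3 → E) ≃ₗ[E] (Fin 3 ⊕ Fin 3 → E))}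

theorem eE_le_two (hirr : ∀ L : Submodule k V, Ivt ρ ⊤ L → L = ⊥ ∨ L = ⊤) {ψ : Module.Dual k V} {v : V} (h1 : ψ v = 1)
    (hco : ∀ g, ψ (ρ g v) = j (Mx (SpIdent.frame 3 E) 2 (τ g)).det) {w : Fin 6 → Fin 3 ⊕ Fin 3 → k}
    (hw : Submodule.span k (Set.range w) = ⊤) {u : Y} {l : Fin 6 → k} (hl : ∀ a, mk j (τ u) *ᵥ w a = l a • w a)
    (h : ∀ s : Finset (Fin 6), s.card = 3 → ∏ a ∈ s, l a = 1 → s = {0, 1, 2} ∨ s = {3, 4, 5}) : eE (ρ u) 1 ≤ 2 := by
  classical
  have c3 : Fintype.card (Ix (2 : Fin 3)) = 3 := by decide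
  let i : {s : Finset (Fin 6) // s.card = 3} → Ix (2 : Fin 3) → Fin 6 := fun s o => s.1.orderEmbOfFin s.2 o.1
  have hi : ∀ s, Function.Injective (i s) := fun s => (s.1.orderEmbOfFin s.2).injective.comp Subtype.val_injective
  have hi' : ∀ s, Finset.univ.image (i s) = s.1 := fun s => Finset.eq_of_subset_of_card_le
    (Finset.image_subset_iff.2 fun o _ => s.1.orderEmbOfFin_mem s.2 o.1)
    (by rw [Finset.card_image_of_injective _ (hi s), Finset.card_univ, c3, s.2])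
  refine ((emb_restrict (emb j hirr h1 hco hw hl) i fun f => ?_).eE_le 1).trans ?_
  · by_cases hf : Function.Injective f
    · let s : {s : Finset (Fin 6) // s.card = 3} :=
        ⟨Finset.univ.image f, by rw [Finset.card_image_of_injective _ hf, Finset.card_univ, c3]⟩
      have h2 : Set.range f = Set.range (i s) := by
        rw [← Set.image_univ, ← Set.image_univ, ← Finset.coe_univ, ← Finset.coe_image, ← Finset.coe_image, hi' s]
      let π : Equiv.Perm (Ix (2 : Fin 3)) :=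
        ((Equiv.ofInjective f hf).trans (Equiv.setCongr h2)).trans (Equiv.ofInjective _ (hi s)).symm
      have h3 : w ∘ f = (w ∘ i s) ∘ π := funext fun o => congrArg w
        (Equiv.apply_ofInjective_symm (hi s) (Equiv.setCongr h2 (Equiv.ofInjective f hf o))).symm
      refine Submodule.mem_span.2 fun L hL => ?_
      have h4 := L.smul_mem (((Equiv.Perm.sign π : ℤˣ) : ℤ) : k) (hL ⟨s, rfl⟩)
      convert h4 using 1
      funext g
      rw [h3, AlternatingMap.map_perm, Pi.smul_apply, Units.smul_def, zsmul_eq_mul]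
      rfl
    · rw [show (fun g : (⊤ : Subgroup Y) => Dk j (SpIdent.frame 3 E) 2 (τ g) (w ∘ f)) = 0 from funext fun g =>
        (Dk j _ 2 _).map_eq_zero_of_not_injective _ fun h => hf h.of_comp]
      exact zero_mem _
  · refine (Finset.card_le_card_of_injOn (t := {{0, 1, 2}, {3, 4, 5}}) Subtype.val (fun s hs => ?_)
      Subtype.val_injective.injOn).trans Finset.card_le_two
    have h2 := (Finset.mem_filter.1 hs).2
    rw [Function.comp_apply, if_pos (hi s), ← Finset.prod_image (hi s).injOn, hi'] at h2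
    simpa using h s.1 s.2 h2

theorem det_phiL (A : SL(2, E)) : (Mx (SpIdent.frame 3 E) 2 (phiL (SpIdent.frame 3 E) 2 A)).det = A.1 0 0 := by
  rw [show Mx (SpIdent.frame 3 E) 2 (phiL (SpIdent.frame 3 E) 2 A) =
    Matrix.diagonal fun i => if i = ⟨2, le_rfl⟩ then A.1 0 0 else 1 from ?_, Matrix.det_diagonal, Finset.prod_ite_eq',
    if_pos (Finset.mem_univ _)]
  ext i m
  rw [Mx_apply, Matrix.diagonal_apply]
  by_cases hi : i = ⟨2, le_rfl⟩
  · subst hi
    rw [phiL_e, HForm.add_left, HForm.smul_left, HForm.smul_left, H62.FrameSL.hs, mul_zero, add_zero, if_pos rfl,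
      h_ef (⟨2, le_rfl⟩ : Ix (2 : Fin 3)) m, mul_ite, mul_one, mul_zero]
  · have h1 : i.1 ≠ 2 := fun e => hi (Subtype.ext e)
    rw [phiL_apply, linL_apply, H62.FrameSL.hn _ h1, H62.FrameSL.hn _ h1, if_neg hi]
    simp only [mul_zero, add_zero, zero_smul, h_ef]

end minor

variable {n : ℕ} {K : Type} [Field K] [Finite K] {P : Subgroup (GL (Fin n) K)} {E : Type} [Field E] [Fintype E]
  (p : ℕ) [hp : Fact p.Prime] [hKp : CharP K p] [hEp : CharP E p]

theorem ex_C (hC : Core P) {hA : AmbT (SpIdent.frame 3 E) p (KInstSp.model 3 E).I} {Y : Type} [Group Y] [Finite Y]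
    {f : Y →* (KInstSp.model 3 E).I} {φ : Y →* GL (Fin n) K} {n₁ : Fin 3 → Y}
    (C : Cov (cB 3) (isCartan 3) p (TB (KInstSp.model 3 E)) (NB hA (SpIdent.adm 1)) (XB (KInstSp.model 3 E)) P f φ n₁)
    (hT : ∀ s ∈ (TB (KInstSp.model 3 E)).comap f, ∀ t ∈ (TB (KInstSp.model 3 E)).comap f, s * t = t * s) :
    Ex p (Fintype.card E) ((TB (KInstSp.model 3 E)).comap f) (fun x => RGDLift.lft p f (XB (KInstSp.model 3 E) x)) φ := by
  refine fun hJ hd => Or.inr fun r s hr h2 h3 hrp hq hs hsT => ?_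
  have hne := hC.nonempty
  have hWf : Finite (CoxeterMatrix.B 3).Group := TypeC.finite_W (cB 3)
  have := finite_GL (K := E) (ν := Fin 3 ⊕ Fin 3)
  have hchar : CharP (AlgebraicClosure K) p := charP_of_injective_algebraMap (algebraMap K _).injective p
  have hp0 : (SpIdent.adm (m := 3) (1 : E)).c ≠ 0 := one_ne_zero
  have R₀ := rgdB hA hp0 (cB 3) (M := KInstSp.model 3 E) (p := p)
  have hn : ∀ i, ∃ y ∈ RGDLift.lft p f (XB (KInstSp.model 3 E) (sr i)) ⊔ RGDLift.lft p f (XB (KInstSp.model 3 E) (-sr i)),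
      f y = NB hA (SpIdent.adm 1) i := fun i => by
    change _ ∈ Subgroup.map f _
    rw [Subgroup.map_sup, map_lft C.ker C.cop C.surj (R₀.pgrp i), map_lft C.ker C.cop C.surj (R₀.pgrp' (isRoot_sr _ _ i).neg),
      ← Subgroup.subgroupOf_sup (hA.rg_le _) (hA.rg_le _)]
    exact nn_mem_sup _ i
  choose n₂ hn₂ hn₃ using hn
  have R := rgd_lift C.ker C.cop C.surj R₀ hn₃
  have hR : Re (SpIdent.frame 3 E) _ n₂ (fun x => RGDLift.lft p f (XB (KInstSp.model 3 E) x))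
      ((KInstSp.model 3 E).I.subtype.comp f) :=
    ⟨fun y => (f y).2, fun t (ht : t ∈ (TB (KInstSp.model 3 E)).comap f) => ht.2, fun i => by
      change Mono _ (f (n₂ i)).1 _
      rw [hn₃]
      exact mono_nn hp0 i, fun x y hy => map_lft_le p f (XB (KInstSp.model 3 E) x) ⟨y, hy, rfl⟩, hn₂⟩
  have hnx : TypeC.nx (2 : Fin 3) = (2, true) := rfl
  obtain ⟨σ', h4, N'⟩ := exists_nd (Fr := SpIdent.frame 3 E) (G0 := (KInstSp.model 3 E).I) hA.rg_le (i := 2)
    (phiL (SpIdent.frame 3 E) 2) (fun y => by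
    rw [Nodes.WittRGD.rg_sr, hnx, PG_self, H650.Ppd.mem_ZG]
    constructor
    · rintro ⟨t, e⟩
      exact ⟨-t, (phiL_up 2 (-t)).trans (by rw [_root_.neg_neg, e])⟩
    · rintro ⟨t, rfl⟩
      exact ⟨-t, phiL_up 2 t⟩) (fun y => by
    rw [Nodes.WittRGD.rg_neg_sr, hnx, PG_self, H650.Ppd.mem_ZG]
    constructor
    · rintro ⟨t, e⟩
      exact ⟨t, (phiL_lo 2 t).trans e.symm⟩
    · rintro ⟨t, rfl⟩
      exact ⟨t, phiL_lo 2 t⟩) (H650.Ppd.mono_phiL_hh 2)
  obtain ⟨σ, h5, N⟩ := lift_nd C hp0 N'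
  have hirr := ac_irr R C.hGG hT C.range hC.absIrred
  obtain ⟨v, hv, hv0, χ, hχ⟩ := exists_chi R hirr hT
  obtain ⟨ψ, hψ, h6⟩ := exists_pair_D R hirr hv hv0
  obtain ⟨j⟩ := H875.Psl2.exists_emb K E p
  obtain ⟨c, Φ, hM, hc⟩ := H650.Ppd.exists_edge_model R hirr (finrank_D R hirr hT) (H650.Ppd.Nd.ofH948 N) ((hJ 2).2 rfl) j hv hv0 hχ
  obtain ⟨t, rfl⟩ := H875.Psl2.eq_pow_of_card_two p (le_antisymm ((hM.finrank p).symm.le.trans hd)
    (H875.Fn.two_le_card_SS hM.ne_zero))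
  have h7 : ((ψ v)⁻¹ • ψ) v = 1 := inv_mul_cancel₀ h6
  have hco := hR.coef R hirr hT C.gen (o := 2) (fun i => not_not.symm.trans (not_congr (hJ i))) (H650.Ppd.Nd.ofH948 N)
    (RingHom.id E) (fun A => by
      change (Mx _ _ (f (σ A)).1).det = _
      rw [h5, h4, det_phiL]
      rfl) ((iterateFrobenius _ p t).comp j) one_ne_zero hv hχ (fun s => by rw [hc, pow_one]; rfl)
    (Submodule.smul_mem _ _ hψ) h7
  let g : Y →* Matrix.symplecticGroup (Fin 3) E := SpIdent.toSp.comp f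
  obtain ⟨w, l, h8, h9, h10⟩ := exists_eig ((iterateFrobenius _ p t).comp j) p hr h2 h3 hrp hq (m := g s)
    (by rw [← map_pow, hs, map_one]) fun h => hsT (by
      have h11 : f s = 1 := SpIdent.toSp_injective (h.trans (map_one _).symm)
      rw [Subgroup.mem_comap, h11]
      exact one_mem _)
  rw [ev_ac_one]
  exact eE_le_two _ (C.hGG ▸ hirr) h7 (fun g => (hco g).trans (pow_one _)) h8 h9 h10

theorem exists_frC (hC : Core P) (e : Soc P ≃* PSp 3 E) :
    ∃ (Y : Type) (_ : Group Y) (_ : Finite Y) (T : Subgroup Y) (nn : Fin 3 → Y) (X : (Fin 3 → ℤ) → Subgroup Y)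
      (φ : Y →* GL (Fin n) K) (j : ℕ), Fb 3 p E P (Nonempty (E ≃+* K) ∧ n = 2 * 3) T nn X φ j ∧ Ex p (Fintype.card E) T X φ := by
  have := hC.nonempty
  have hWf : Finite (CoxeterMatrix.B 3).Group := TypeC.finite_W (CoxeterMatrix.B 3).toCoxeterSystem
  have hA : AmbT (SpIdent.frame 3 E) p (KInstSp.model 3 E).I := AmbT.of_amb Nodes.WittU.amb_Sp p
  have hp0 : (SpIdent.adm (m := 3) (1 : E)).c ≠ 0 := one_ne_zero
  have hperf : commutator ↥(KInstSp.model 3 E).I = ⊤ := commutator_isos le_rfl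
  obtain ⟨Y, _, _, f, φ, n₁, C⟩ := exists_covB hC hA hp0 (by omega) hperf e
  have hrg : ∀ x, Nodes.WittRoot.rg (SpIdent.frame 3 E) x ≤ (KInstSp.model 3 E).I := fun x => hA.rg_le x
  have hT' : ∀ s ∈ TB (KInstSp.model 3 E), ∀ t ∈ TB (KInstSp.model 3 E), s * t = t * s := by
    intro s hs t ht
    apply Subtype.ext
    exact torus_comm hA.V0 (Or.inl rfl) (hA.iso _ s.2) (hA.iso _ t.2) hs.2 ht.2
  have hnd : ∀ i, ∃ σ' : SL(2, E) →* (KInstSp.model 3 E).I,
      H948.Ppd.Nd (TB (KInstSp.model 3 E)) (XB (KInstSp.model 3 E)) i σ' := by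
    intro i
    obtain ⟨σ, h⟩ := H650.Ppd.nd_Sp (G0 := (KInstSp.model 3 E).I) hrg i
    exact ⟨σ, h.up, h.lo, h.tor⟩
  obtain ⟨hT, hpow⟩ := lift_comm_pow (N₀ := Nat.card E) C hp0 hT' (fun i => by
    obtain ⟨σ', h⟩ := hnd i
    refine ⟨E, inferInstance, inferInstance, inferInstance, σ', h, fun x => ?_⟩
    rw [Nat.card_eq_fintype_card, FiniteField.pow_card])
  obtain ⟨j, hj, hjK⟩ := H650.Ppd.exists_card p hC (by omega) (Or.inl le_rfl) e
  refine ⟨Y, inferInstance, inferInstance, _, n₁, _, φ, j, ⟨C.rgd, C.hGG, hT, hpow, C.range, fun i => ?_, exists_node hC C hT,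
    hj, hjK, fun g hg => (psp_both p hC.absIrred hC.perfect (by omega) (Or.inl le_rfl) e hg).2, fun o ho h1 h2 => ?_⟩,
    ex_C p hC C hT⟩
  · obtain ⟨σ', h⟩ := hnd i
    obtain ⟨σ, -, h'⟩ := lift_nd C hp0 h
    exact ⟨σ, h'⟩
  · obtain ⟨τ, θ, -⟩ := identify_B hC hA hp0 (by omega)
      (span_of_matrixSet mem_spGL_iff' (H931.spGL_absIrreducible (by omega))) C hT ho h1 h2
    have h3 := LinearEquiv.finrank_eq θ
    rw [Module.finrank_fintype_fun_eq_card, Module.finrank_fintype_fun_eq_card, Fintype.card_sum, Fintype.card_fin,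
      Fintype.card_fin] at h3
    exact ⟨⟨τ⟩, by omega⟩

end Cfsg.Agent.N2C.RD.C3
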