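import Cfsg.Agent.N2.Cl.RD.C3A
import Cfsg.Agent.N2.Cl.RD.C3C
import Cfsg.Agent.N2.Cl.RD.C3S
import Cfsg.Agent.H924.D5N

/-!
# N2 (S3519), defining characteristic: the rows `PSp₆`, `Ω₇` (helper36)

* **`row_c3`** : `Row (fC 3)`, **`row_b3`** : `Row (fB 3)`.
-/

set_option autoImplicit false
set_option linter.unusedSectionVars false

namespace Cfsg.Agent.N2C.RD

namespace C3

open Cfsg Cfsg.Geo Cfsg.Agent.H902 Cfsg.Agent.N2C.Cyc Cfsg.Agent.N2C.RX Cfsg.Agent.H915.LD Cfsg.Agent.N2C.RD.Cb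
open CoxeterSystem Cfsg.Agent.ChevalleyStructure.CoxeterGeom Cfsg.Agent.Tits.Roots Cfsg.Agent.Tits.Core
  Cfsg.Agent.Nodes Cfsg.Agent.Omega.CR Cfsg.Agent.Omega.FOne.Lift.Sd Cfsg.Agent.H911 Cfsg.Agent.H905.Md
open Cfsg.Agent.H925.Nat (mAB3_eq)

theorem num {j n : ℕ} (h : (30 ≤ n ∧ 15 * j ≤ n) ∨ (36 ≤ n ∧ 12 * j ≤ n)) :
    4 * n + 3 * (n ^ 2 / 4 + 1) + 2 * (j * (21 + 1)) + 4 ≤ n ^ 2 := by
  rcases h with ⟨h1, h2⟩ | ⟨h1, h2⟩
  · have : 30 * n ≤ n ^ 2 := by nlinarith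
    omega
  · have : 36 * n ≤ n ^ 2 := by nlinarith
    omega

variable {t : Kd} {n q p T₀ b : ℕ} {K : Type} [Field K] [Fintype K] {P : Subgroup (GL (Fin n) K)} {G : Prop} {c f : P → ℕ}
  {E : Type} [Field E] [Fintype E] [hp : Fact p.Prime] [hKp : CharP K p] [hEp : CharP E p] {Z : Prop} {Y : Type} [Group Y]
  [Finite Y] {T : Subgroup Y} {a j : ℕ} {nn : Fin 3 → Y} {X : (Fin 3 → ℤ) → Subgroup Y} {φ : Y →* GL (Fin n) K}
  (B : Fb 3 p E P Z T nn X φ j) (hC : Core P)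
include B hC

theorem edges {i : Fin 3} (hi : i ∉ JJ 3 X φ) (hd : 3 ≤ dd T X φ i) (LV : List (List (Fin 3) × ℕ)) (LE : List (List (Fin 3) × ℕ))
    (hV : ((Rg.pts LV).map (Rg.orb (TypeC.A 3) (fun s => if s = i then 1 else 0) [0, 1, 2])).Nodup)
    (hE : ((Rg.pts (LE.map fun e => ((i, e.1), e.2))).map fun e => Rg.orb (TypeC.A 3) ((fun s => if s = i then 1 else 0) +
      H905.DC.fire (TypeC.A 3) (fun s => if s = i then 1 else 0) e.1.1) [0, 1, 2] (e.1.2, e.2)).Nodup) {o m : ℕ}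
    (ho : LV.length + (LE.map fun e => ((i, e.1), e.2)).length = o)
    (hm : (LV.map Prod.snd).sum + ((LE.map fun e => ((i, e.1), e.2)).map Prod.snd).sum = m) :
    m ≤ n ∧ ∃ u : P, dm (u : GL (Fin n) K) ≤ o * n + (n - m) * (o + (n - m)) := by
  have hWf : Finite (CoxeterMatrix.B 3).Group := TypeC.finite_W (cB 3)
  exact Rg.exists_dm_le B.rgd hC B.gg B.comm B.range (c := fun s => if s = i then 1 else 0)
    (fun s hs => if_neg (by rintro rfl; exact hi hs)) [0, 1, 2] LV [] (LE.map fun e => ((i, e.1), e.2)) [] (fun e he => by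
      rw [List.append_nil] at he
      obtain ⟨e, -, rfl⟩ := List.mem_map.1 he
      exact hd)
    (by rw [List.append_nil]; exact hV) (by rw [List.append_nil]; exact hE) (o := o) (o' := 0) (m := m) (m' := 0) ho hm rfl rfl

omit hC in
theorem exists_s {r : ℕ} (h : Pr (Fintype.card E) r) (hrp : r ≠ p) :
    ∃ s, orderOf s = r ∧ Rg.El (cB 3) (TypeC.isCartan 3) T X {i | i ∈ [0, 1]} s := by
  have hWf : Finite (CoxeterMatrix.B 3).Group := TypeC.finite_W (cB 3)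
  have h0 : 1 ≤ Fintype.card E := Fintype.card_pos
  have hX : ∀ i, Nat.card (X (sr i)) = Fintype.card E := fun i => by rw [B.card_X, Nat.card_eq_fintype_card]
  have h1 : ¬ r ∣ 1 + Fintype.card E := fun k => absurd (h.le two_pos h0 (by
    rw [show Fintype.card E ^ 2 - 1 = Fintype.card E ^ 2 - 1 ^ 2 by rw [one_pow], Nat.sq_sub_sq, add_comm]
    exact k.mul_right _)) (by norm_num)
  rw [show {i : Fin 3 | i ∈ [0, 1]} = {0, 1} by ext; simp]
  refine Rg.exists_el2 B.rgd h.prime hrp (B.not_dvd_T h.prime fun k => absurd (h.le one_pos h0 (by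
      rwa [pow_one, ← Nat.card_eq_fintype_card])) (by norm_num)) ?_ (by rwa [hX]) (by rwa [hX])
  rw [Rg.card_A2 B.rgd (by decide) (by rw [mAB3_eq]; rfl) (by rw [mAB3_eq]; rfl) (hX 0) (hX 1)]
  exact ((show r ∣ 1 + Fintype.card E + Fintype.card E ^ 2 by
    rw [show 1 + Fintype.card E + Fintype.card E ^ 2 = Fintype.card E ^ 2 + Fintype.card E + 1 by ring]
    exact h.dvd).mul_left _).mul_right _

omit hC in
theorem row (M : Md t q p T₀ b P G c f) (hx : Ex p (Fintype.card E) T X φ) (N : Nd (.C 3) p a (Soc P))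
    (hE : Fintype.card E = p ^ a) (hZ : ¬ Z) (h12 : n ≤ 12 → H924.D5.EightStrong p P)
    (hg : ∃ g : Soc P, Fintype.card E ^ 3 - 1 ∣ Nat.gcd 2 (Fintype.card E - 1) * orderOf g) : G := by
  have hWf : Finite (CoxeterMatrix.B 3).Group := TypeC.finite_W (cB 3)
  have hC := M.core
  have hs : Fintype.card K ^ j = p ^ a := by rw [← Nat.card_eq_fintype_card, B.card, Nat.card_eq_fintype_card, hE]
  have hk := gk (m := 3) le_rfl p
  have i3 : ∀ i : Fin 3, i = 0 ∨ i = 1 ∨ i = 2 := by decide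
  rcases B.pos.eq_or_lt with rfl | hj
  swap
  · refine M.ct_sc N hs.ge hk (num ?_)
    obtain ⟨i, hi⟩ := B.node
    have h1 : 2 * j ≤ dd T X φ i := by
      obtain ⟨d, h1, h2⟩ := B.edge hC hi
      rw [h2]
      exact two_mul_le h1 j
    obtain rfl | rfl | rfl := i3 i
    · obtain ⟨ε, h2, h3⟩ := B.first hC (by omega) rfl hi
      omega
    · have h2 : 12 * dd T X φ 1 ≤ 2 * n := B.all hC hi
      have h3 := (edges B hC hi (by omega) [([], 6), ([1], 6)] [([], 6), ([0], 6), ([0, 1], 6), ([2, 1], 6)]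
        (by rw [mAB3_eq]; decide +kernel) (by rw [mAB3_eq]; decide +kernel) (o := 6) (m := 36) rfl rfl).1
      omega
    · obtain ⟨ε, h2, h3⟩ := B.last hC rfl hi
      omega
  rw [pow_one] at hs
  have hq : q = p ^ a := by
    rw [← hs, M.card]
    rcases bil_of M.toMd0 B.sd with rfl | rfl | rfl | rfl <;> rfl
  have hs' : p ^ a ≤ Fintype.card K ^ 1 := by rw [hs, pow_one]
  rcases Nat.lt_or_ge n 13 with h1 | h1
  · have h2 := h12 (by omega)
    obtain rfl : n = 8 := (Fintype.card_fin n).symm.trans h2.1.1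
    obtain ⟨g, hg⟩ := hg
    rw [hE, ← hq] at hg
    refine eight M N hq B.sd ?_ hg
    rintro rfl
    exact M.frm.2.2 (h2.fixQ M.frm.1)
  rcases Nat.lt_or_ge 24 n with h2 | h2
  · refine M.ct_sc N hs' hk ?_
    have h3 : 25 * n ≤ n ^ 2 := by nlinarith
    show _ + 2 * (1 * (21 + 1)) + _ ≤ _
    omega
  have W : ∀ {i : Fin 3}, i ∉ JJ 3 X φ → i = 0 ∨ i = 2 → 3 ≤ dd T X φ i → G := fun {i} hi h0 hd => by
    obtain ⟨h3, u, hu⟩ := edges B hC hi hd [([], 6)] [([], 6), ([1], 6)]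
      (by rw [mAB3_eq]; rcases h0 with rfl | rfl <;> decide +kernel)
      (by rw [mAB3_eq]; rcases h0 with rfl | rfl <;> decide +kernel) (o := 3) (m := 18) rfl rfl
    refine M.ct_dm N hs' hk u hu ?_
    show _ + 2 * (1 * (21 + 1)) + _ ≤ _
    clear hu
    interval_cases n <;> norm_num
  obtain ⟨r, hr, -⟩ := exists_pr M.prime N
  have hrp := hr.ne N.real.hf rfl
  obtain ⟨s, hsr, hel⟩ := exists_s B (hE ▸ hr) hrp
  have hsr' : s ^ r = 1 := hsr ▸ pow_orderOf_eq_one s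
  have fin : ev (φ s) 1 + 7 ≤ n → G := fun h => by
    have := Fact.mk hr.prime
    refine mid M B.sd (hq ▸ hr) (u := ⟨φ s, B.range ▸ ⟨s, rfl⟩⟩) (orderOf_eq_prime
      (Subtype.ext (by rw [Subgroup.coe_pow, ← map_pow, hsr', map_one]; rfl)) fun e => ?_) N hq h1 h2 h
    have h3 : ev (1 : GL (Fin n) K) 1 = n := by
      rw [ev, Units.val_one, Matrix.toLin'_one, show Module.End.eigenspace (LinearMap.id : Module.End K (Fin n → K)) 1 = ⊤ from
        eq_top_iff.2 fun v _ => Module.End.mem_eigenspace_iff.2 (one_smul _ _).symm, finrank_top, Module.finrank_fin_fun]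
    rw [show φ s = 1 from congrArg Subtype.val e, h3] at h
    omega
  have he : ∀ d, 0 < d → r ∣ Nat.card K ^ d - 1 → 3 ≤ d := fun d h3 h4 =>
    hr.le h3 (by have := N.two_le; omega) (by rwa [Nat.card_eq_fintype_card, hs] at h4)
  by_cases i1 : (1 : Fin 3) ∈ JJ 3 X φ
  swap
  · have h3 : 9 + ev (φ s) 1 ≤ n := Rg.levi_ev B.rgd hC B.gg B.comm B.range (c := fun s => if s = 1 then 1 else 0)
      (fun s hs => if_neg (by rintro rfl; exact i1 hs)) [0, 1] hel hr.prime hrp hsr' [[], [1, 2], [1, 0, 2, 1, 2]] [![2, 4, 3]]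
      (by rw [mAB3_eq]; decide +kernel) (by rw [mAB3_eq]; decide +kernel) (by rw [mAB3_eq]; decide +kernel)
      (by rw [mAB3_eq]; decide +kernel) he
    exact fin (by omega)
  by_cases i2 : (2 : Fin 3) ∈ JJ 3 X φ
  · have h3 : ∀ i, i ∉ JJ 3 X φ → i = 0 := fun i hi => by
      rcases i3 i with rfl | rfl | rfl
      exacts [rfl, absurd i1 hi, absurd i2 hi]
    obtain ⟨i, hi⟩ := B.node
    obtain rfl := h3 i hi
    exact W hi (Or.inl rfl) (not_le.1 fun h => hZ (B.nat 0 rfl h3 h))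
  by_cases i0 : (0 : Fin 3) ∈ JJ 3 X φ
  swap
  · have h3 : 9 + ev (φ s) 1 ≤ n := Rg.levi_ev B.rgd hC B.gg B.comm B.range (c := fun s => if s = 1 then 0 else 1)
      (fun s hs => if_pos (by
        rcases i3 s with rfl | rfl | rfl
        exacts [absurd hs i0, rfl, absurd hs i2])) [0, 1] hel hr.prime hrp hsr' [[], [2], [0, 1, 2]] [![2, 4, 3]]
      (by rw [mAB3_eq]; decide +kernel) (by rw [mAB3_eq]; decide +kernel) (by rw [mAB3_eq]; decide +kernel)
      (by rw [mAB3_eq]; decide +kernel) he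
    exact fin (by omega)
  rcases Nat.lt_or_ge 2 (dd T X φ 2) with h3 | h3
  · exact W i2 (Or.inr rfl) h3
  rcases hx (fun i => ⟨fun hi => by
    rcases i3 i with rfl | rfl | rfl
    exacts [absurd i0 hi, absurd i1 hi, rfl], fun e => e ▸ i2⟩) h3 with h4 | h4
  · omega
  have h5 := h4 r s hr.prime hr.two hr.three hrp (hE ▸ hr.dvd) hsr' fun h => hel.2 ∅ (Set.empty_subset _)
    (Set.Nonempty.ne_empty ⟨0, by simp⟩).symm (LeviDec.LJ_le_PJ (Subgroup.mem_sup_left h))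
  exact fin (by omega)

end C3

open Cfsg.Agent.H924.D5

/-- **[N2D-c3b3]** -/
theorem row_c3 : Row (fC 3) := by
  rintro t n q p T b K _ _ P G c f M ⟨E, _, _, _, h3, ⟨e⟩⟩
  have hp := Fact.mk M.prime
  have hK := M.char
  obtain ⟨a, ha, hE⟩ := exists_f E p
  have N := nd_C M.core.simple M.core.nonabelian M.prime ha hE (by omega) h3 e
  obtain ⟨Y, _, _, T', nn, X, φ, j, B, hx⟩ := C3.exists_frC p M.core e
  have hZ : ¬ (Nonempty (E ≃+* K) ∧ n = 2 * 3) := fun ⟨⟨τ⟩, h⟩ =>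
    Cb.natC M.toMd0 N (by omega) h ((Fintype.card_congr τ.toEquiv).symm.trans hE) B.sd
  obtain ⟨g, hg⟩ := C3.exists_psp p hE
  exact C3.row B M hx N hE hZ (fun h => (psp6' M.core (by rwa [Fintype.card_fin]) e).resolve_left fun k =>
    hZ ⟨k.1, by simpa using k.2.card_eq⟩) ⟨e.symm g, by rwa [MulEquiv.orderOf_eq]⟩

/-- **[N2D-c3b3]** -/
theorem row_b3 : Row (fB 3) := by
  rintro t n q p T b K _ _ P G c f M ⟨E, _, _, _, h3, ⟨e⟩⟩
  have hp := Fact.mk M.prime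
  have hK := M.char
  obtain ⟨a, ha, hE⟩ := exists_f E p
  have N := nd_B M.core.simple M.core.nonabelian M.prime ha hE (by omega) h3 e
  obtain ⟨Y, _, _, T', nn, X, φ, j, B, hx⟩ := C3.exists_frB p M.core h3 e
  have hZ : ¬ (Nonempty (E ≃+* K) ∧ n = 2 * 3 + 1) := fun ⟨⟨τ⟩, h⟩ =>
    Cb.natB M.toMd0 N h ((Fintype.card_congr τ.toEquiv).symm.trans hE) B.sd
  have h2 : (2 : E) ≠ 0 := fun h20 => by
    have h4 := FiniteField.even_card_of_char_two (CharP.ringChar_of_prime_eq_zero Nat.prime_two (by exact_mod_cast h20) :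
      ringChar E = 2)
    have := Nat.odd_iff.1 h3
    omega
  obtain ⟨g, hg⟩ := C3.exists_po p hE h2
  refine C3.row B M hx N hE hZ (fun h => (po7' M.core (by rwa [Fintype.card_fin]) h2 e).resolve_left fun k =>
    hZ ⟨k.1, by simpa using k.2.card_eq⟩) ⟨e.symm g, ?_⟩
  obtain ⟨k, hk⟩ := h3
  rw [MulEquiv.orderOf_eq, show Nat.gcd 2 (Fintype.card E - 1) = 2 by rw [hk, Nat.add_sub_cancel, Nat.gcd_mul_right_right]]
  exact hg

end Cfsg.Agent.N2C.RD
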