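import Cfsg.Agent.N2.Cl.RD.Defs
import Cfsg.Agent.N2.Cl.RD.LinA
import Cfsg.Agent.N2.Cl.Sz.Mu
import Cfsg.Agent.H905.MdG

/-!
# N2 (S3519), defining characteristic: `dm`, `ev` and the representation over the algebraic closure (helper38)

* (a) `dm_eq`, `ev_eq`, `dm_ac`, `ev_ac`, `cA_eq_dm`, conjugation;
* (c) `cr_dim`, `cr_ev`, `cr_dm`, `cr_dm_one`, `cr_cyc`;
* (d) `eE_add_le`; (e) `MuD`, `exists_muD`, `MuD.dm_le`, `MuD.free`, `e2_odd`; (f) `sq_le`.
-/

set_option autoImplicit false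
set_option linter.unusedSectionVars false

namespace Cfsg.Agent.N2C.RD

open Cfsg Cfsg.Geo Subgroup Cfsg.Agent.H915.LD Cfsg.Agent.N2C.RX Module Matrix
open Cfsg.Agent.N2C.Sz (ml ml_map ml_conj mu mu_mu mu_eq mu_tw ex ex_apply exists_root)
open Cfsg.Agent.H905.Md (acRep acRep_apply acRep_irr)
open Cfsg.Agent.H911 (lin lin_apply)
open scoped Kronecker

section ext

variable {K k : Type} [Field K] [Field k] {ι : Type} [Fintype ι] [DecidableEq ι]

/-- the matrix of the commutator map -/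
def adM (M : Matrix ι ι K) : Matrix (ι × ι) (ι × ι) K := (1 : Matrix ι ι K) ⊗ₖ M - Mᵀ ⊗ₖ (1 : Matrix ι ι K)

theorem adM_map (f : K →+* k) (M : Matrix ι ι K) : (adM M).map f = adM (M.map f) := by
  ext ⟨a, b⟩ ⟨c, d⟩
  simp [adM, Matrix.one_apply, apply_ite f]

/-- matrices as vectors -/
def vL (ι K : Type) [Field K] : Matrix ι ι K ≃ₗ[K] (ι × ι → K) where
  toFun := vec
  invFun v := Matrix.of fun i j => v (j, i)
  map_add' := vec_add
  map_smul' := vec_smul
  left_inv _ := rfl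
  right_inv _ := rfl

theorem cen_eq_ml (M : Matrix ι ι K) : finrank K (Subalgebra.centralizer K {M}) = ml (adM M) 0 := by
  rw [ml, ← Subalgebra.finrank_toSubmodule, ← (vL ι K).finrank_map_eq]
  refine congrArg (fun S : Submodule K (ι × ι → K) => finrank K S) ?_
  ext v
  obtain ⟨X, rfl⟩ := (vL ι K).surjective v
  rw [Submodule.mem_map_equiv, LinearEquiv.symm_apply_apply, End.mem_eigenspace_iff, zero_smul, toLinAlgEquiv'_apply, adM,
    sub_mulVec, show vL ι K X = vec X from rfl, kronecker_mulVec_vec, kronecker_mulVec_vec, ← vec_sub, vec_eq_zero_iff,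
    transpose_one, Matrix.mul_one, Matrix.one_mul, transpose_transpose, sub_eq_zero]
  simp [Subalgebra.mem_centralizer_iff]

theorem dE_toLin (M : Matrix ι ι K) : dE (toLin' M) = finrank K (Subalgebra.centralizer K {M}) := by
  rw [dE, ← Subalgebra.finrank_toSubmodule, ← Subalgebra.finrank_toSubmodule, ← (toLin' (R := K)).finrank_map_eq]
  refine congrArg (fun S : Submodule K (End K (ι → K)) => finrank K S) ?_
  ext X
  obtain ⟨X, rfl⟩ := (toLin' (R := K) (m := ι) (n := ι)).surjective X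
  rw [Submodule.mem_map_equiv, LinearEquiv.symm_apply_apply, Subalgebra.mem_toSubmodule, Subalgebra.mem_toSubmodule, mem_cen,
    End.mul_eq_comp, End.mul_eq_comp, ← toLin'_mul, ← toLin'_mul, toLin'.injective.eq_iff]
  simp [Subalgebra.mem_centralizer_iff]

variable {n : ℕ}

/-- **(a)** -/
theorem dm_eq (f : K →+* k) (u : GL (Fin n) K) : dm u = dE (toLin' ((u : Matrix (Fin n) (Fin n) K).map f)) := by
  rw [dE_toLin, cen_eq_ml, ← adM_map, ← map_zero f, ml_map, dm, cen_eq_ml]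

/-- **(a)** -/
theorem ev_eq (f : K →+* k) (u : GL (Fin n) K) (a : K) : ev u a = eE (toLin' ((u : Matrix (Fin n) (Fin n) K).map f)) (f a) :=
  (ml_map f _ a).symm

theorem cA_eq_dm [Finite K] (u : GL (Fin n) K) : Cyc.cA (u : Matrix (Fin n) (Fin n) K) = Nat.card K ^ dm u := by
  rw [dm, ← Module.natCard_eq_pow_finrank]
  exact Nat.card_congr (Equiv.subtypeEquivRight fun X => by simp [Subalgebra.mem_centralizer_iff, eq_comm])

variable {Y : Type*} [Group Y] (φ : Y →* GL (Fin n) K)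

theorem dm_ac (g : Y) : dm (φ g) = dE (lin (acRep φ) g) := dm_eq (algebraMap K (AlgebraicClosure K)) (φ g)

theorem ev_ac (g : Y) (a : K) : ev (φ g) a = eE (lin (acRep φ) g) (algebraMap K (AlgebraicClosure K) a) :=
  ev_eq (algebraMap K (AlgebraicClosure K)) (φ g) a

theorem ev_ac_one (g : Y) : ev (φ g) 1 = eE (lin (acRep φ) g) 1 := by rw [ev_ac, map_one]

theorem inj_ac (g : Y) : Function.Injective (lin (acRep φ) g) :=
  (End.isUnit_iff _).1 ((Group.isUnit g).map _) |>.1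

variable {φ}

theorem eE_conj {g g' : Y} (h : IsConj g g') (a : AlgebraicClosure K) : eE (lin (acRep φ) g) a = eE (lin (acRep φ) g') a := by
  obtain ⟨c, hc⟩ := h
  exact ml_conj ((Group.isUnit (c : Y)).map (acRep φ)) (by rw [← map_mul, ← map_mul, hc.eq]) a

theorem ev_conj {g g' : Y} (h : IsConj g g') (a : K) : ev (φ g) a = ev (φ g') a := by rw [ev_ac, ev_ac, eE_conj h]

theorem dm_conj [Finite K] {u u' : GL (Fin n) K} (h : IsConj u u') : dm u = dm u' := by
  obtain ⟨c, rfl⟩ := isConj_iff.1 h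
  refine Nat.pow_right_injective (Finite.one_lt_card (α := K)) ?_
  show Nat.card K ^ _ = Nat.card K ^ _
  rw [← cA_eq_dm, ← cA_eq_dm, ← Sz.cA_map (MulSemiringAction.toRingEquiv _ _ (ConjAct.toConjAct c))]
  rfl

theorem le_minpoly {g : Y} {Z : Finset (AlgebraicClosure K)} (h : Dg (lin (acRep φ) g) Z)
    (h1 : ∀ z ∈ Z, eE (lin (acRep φ) g) z ≤ 1) : n ≤ (minpoly K (φ g : Matrix (Fin n) (Fin n) K)).natDegree := by
  have h2 := h.le_natDegree h1 (f := (minpoly K (φ g : Matrix (Fin n) (Fin n) K)).map (algebraMap K (AlgebraicClosure K)))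
    (Polynomial.map_ne_zero (minpoly.ne_zero_of_finite _ _)) (by
      have h3 := Polynomial.aeval_algHom_apply ((toLinAlgEquiv' (R := AlgebraicClosure K) (n := Fin n)).toAlgHom.restrictScalars K |>.comp
        (AlgHom.mapMatrix (Algebra.ofId K (AlgebraicClosure K)))) (φ g : Matrix (Fin n) (Fin n) K)
        (minpoly K (φ g : Matrix (Fin n) (Fin n) K))
      rw [minpoly.aeval, map_zero] at h3
      rw [Polynomial.aeval_map_algebraMap]
      exact h3)
  rwa [Polynomial.natDegree_map, Module.finrank_fin_fun] at h2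

section cr

variable {M A : Type*} [AddCommGroup M] [Module (AlgebraicClosure K) M] [Fintype A] [DecidableEq (AlgebraicClosure K)] {s : Y}
  {Θ : (Fin n → AlgebraicClosure K) →ₗ[AlgebraicClosure K] M} {S : End (AlgebraicClosure K) M} {F : A → M}
  {lam : A → AlgebraicClosure K} (h : Emb (lin (acRep φ) s) Θ S F lam)
include h

/-- **(c)** `h` comes from `emb_of` -/
theorem cr_dim : n ≤ Fintype.card A := (Module.finrank_fin_fun _).symm.trans_le h.finrank_le

theorem cr_ev : ev (φ s) 1 ≤ (Finset.univ.filter fun a => lam a = 1).card := (ev_ac_one φ s).trans_le (h.eE_le 1)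

theorem cr_dm_sum : dm (φ s) ≤ ∑ z ∈ Finset.univ.image lam, (Finset.univ.filter fun a => lam a = z).card ^ 2 :=
  (dm_ac φ s).trans_le (h.dg.dE_le.trans (Finset.sum_le_sum fun z _ => Nat.pow_le_pow_left (h.eE_le z) 2))

theorem cr_dm {m : ℕ} (hm : ∀ z, (Finset.univ.filter fun a => lam a = z).card ≤ m) : dm (φ s) ≤ m * n := by
  have h1 := h.dg.dE_le_mul fun z _ => (h.eE_le z).trans (hm z)
  rwa [← dm_ac, Module.finrank_fin_fun] at h1

theorem cr_dm_one {m : ℕ} (hm : ∀ z, z ≠ 1 → (Finset.univ.filter fun a => lam a = z).card ≤ m) :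
    dm (φ s) ≤ ev (φ s) 1 ^ 2 + m * (n - ev (φ s) 1) := by
  have h1 := h.dg.dE_le_one 1 fun z _ hz => (h.eE_le z).trans (hm z hz)
  rwa [← dm_ac, ← ev_ac_one, Module.finrank_fin_fun] at h1

theorem cr_cyc (hl : Function.Injective lam) : n ≤ (minpoly K (φ s : Matrix (Fin n) (Fin n) K)).natDegree :=
  le_minpoly h.dg fun z _ => (h.eE_le z).trans (Finset.card_le_one.2 fun _ ha _ hb =>
    hl ((Finset.mem_filter.1 ha).2.trans (Finset.mem_filter.1 hb).2.symm))

end cr

end ext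

section core

variable {n : ℕ} {K : Type} [Field K] {P : Subgroup (GL (Fin n) K)}

theorem top_of_soc {x y : P} (h : closure ({toSoc P x, toSoc P y} : Set (Soc P)) = ⊤) {H : Subgroup P} (hx : x ∈ H) (hy : y ∈ H)
    (hk : (toSoc P).ker ≤ H) : H = ⊤ := by
  have h1 : H.map (toSoc P) = ⊤ := eq_top_iff.2 (h.ge.trans ((closure_le _).2 (by
    rintro _ (rfl | rfl)
    · exact mem_map_of_mem _ hx
    · exact mem_map_of_mem _ hy)))
  rw [← sup_eq_left.2 hk, ← comap_map_eq, h1, comap_top]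

theorem irr_ac (hC : Core P) (L : Submodule (AlgebraicClosure K) (Fin n → AlgebraicClosure K))
    (hL : ∀ t ∈ (⊤ : Subgroup P), ∀ v ∈ L, lin (acRep P.subtype) t v ∈ L) : L = ⊥ ∨ L = ⊤ :=
  acRep_irr P.range_subtype (H920.span_eq_top hC.absIrred) rfl L hL

/-- **(d)** two elements whose images generate the socle -/
theorem eE_add_le (hC : Core P) {x y : P} (h : closure ({toSoc P x, toSoc P y} : Set (Soc P)) = ⊤) (a b : AlgebraicClosure K) :
    eE (lin (acRep P.subtype) x) a + eE (lin (acRep P.subtype) y) b ≤ n := by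
  refine (Submodule.finrank_add_finrank_le_of_disjoint (Submodule.disjoint_def.2 fun v hx hy => ?_)).trans_eq
    (Module.finrank_fin_fun _)
  by_contra hv
  let H : Subgroup P :=
    { carrier := {g | ∃ c : AlgebraicClosure K, lin (acRep P.subtype) g v = c • v}
      one_mem' := ⟨1, by rw [map_one, one_smul]; rfl⟩
      mul_mem' := by
        rintro g g' ⟨c, hc⟩ ⟨d, hd⟩
        exact ⟨d * c, by rw [map_mul, End.mul_apply, hd, map_smul, hc, smul_smul]⟩
      inv_mem' := by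
        rintro g ⟨c, hc⟩
        have h0 : c ≠ 0 := by
          rintro rfl
          exact hv (inj_ac P.subtype g (by rw [hc, zero_smul, map_zero]))
        exact ⟨c⁻¹, inj_ac P.subtype g (by
          rw [← End.mul_apply, ← map_mul, mul_inv_cancel, map_one, map_smul, hc, smul_smul, inv_mul_cancel₀ h0, one_smul]
          rfl)⟩ }
  have h1 : H = ⊤ := top_of_soc h ⟨a, End.mem_eigenspace_iff.1 hx⟩ ⟨b, End.mem_eigenspace_iff.1 hy⟩ fun g hg => by
    obtain ⟨c, hc⟩ := exists_of_toSoc_eq (a := 1) (b := g) ((map_one _).trans (MonoidHom.mem_ker.1 hg).symm)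
    refine ⟨algebraMap K _ c, ?_⟩
    rw [lin_apply, acRep_apply, show (P.subtype g : Matrix (Fin n) (Fin n) K) = (c : K) • 1 from hc]
    ext i
    simp [mulVec, dotProduct, Matrix.one_apply, apply_ite (algebraMap K (AlgebraicClosure K))]
  rcases irr_ac hC (Submodule.span _ {v}) (fun t _ w hw => by
    obtain ⟨c, rfl⟩ := Submodule.mem_span_singleton.1 hw
    obtain ⟨d, hd⟩ := h1.ge (mem_top t)
    rw [map_smul, hd]
    exact Submodule.smul_mem _ _ (Submodule.smul_mem _ _ (Submodule.mem_span_singleton_self v))) with h2 | h2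
  · exact hv (Submodule.span_singleton_eq_bot.1 h2)
  · have h3 := finrank_span_singleton (K := AlgebraicClosure K) hv
    have h4 := hC.two_le
    rw [h2, finrank_top, Module.finrank_fin_fun] at h3
    rw [Fintype.card_fin] at h4
    omega

theorem ev_add_le (hC : Core P) {x y : P} (h : closure ({toSoc P x, toSoc P y} : Set (Soc P)) = ⊤) (a b : K) :
    ev (x : GL (Fin n) K) a + ev (y : GL (Fin n) K) b ≤ n := by
  have h1 := eE_add_le hC h (algebraMap K _ a) (algebraMap K _ b)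
  rwa [← ev_ac, ← ev_ac] at h1

/-- **(f)** -/
theorem sq_le [Finite K] (hC : Core P) : n ^ 2 ≤ Nat.card (Soc P) := by
  have := Fintype.ofFinite (Soc P)
  choose s hs using toSoc_surjective P
  have h1 := finrank_le_of_span_eq_top (R := K) (v := fun x => ((s x : GL (Fin n) K) : Matrix (Fin n) (Fin n) K))
    (eq_top_iff.2 ((H920.span_eq_top hC.absIrred).ge.trans (Submodule.span_le.2 (by
      rintro _ ⟨g, hg, rfl⟩
      obtain ⟨c, hc⟩ := exists_of_toSoc_eq (hs (toSoc P ⟨g, hg⟩))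
      show (g : Matrix (Fin n) (Fin n) K) ∈ _
      rw [show (g : Matrix (Fin n) (Fin n) K) = _ from hc]
      exact Submodule.smul_mem _ _ (Submodule.subset_span ⟨_, rfl⟩)))))
  rwa [Module.finrank_matrix, Fintype.card_fin, finrank_self, mul_one, ← sq, ← Nat.card_eq_fintype_card] at h1

theorem e2_odd {p m : ℕ} [CharP K p] (hp : p.Prime) {u : GL (Fin n) K} (hu : u ^ m = 1) (hm : Odd m) : e2 p u = ev u 1 := by
  rw [e2]
  split_ifs with h2
  · rfl
  · have h1 : End.eigenspace (toLin' (u : Matrix (Fin n) (Fin n) K)) (-1) = ⊥ := (Submodule.eq_bot_iff _).2 fun v hv => by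
      have h3 := Sz.pow_apply_eig (End.mem_eigenspace_iff.1 hv) m
      rw [← toLin'_pow, ← Units.val_pow_eq_pow_val, hu, Units.val_one, toLin'_one, hm.neg_one_pow] at h3
      have h4 : (2 : K) • v = 0 := by rw [two_smul]; nth_rewrite 1 [show v = (-1 : K) • v from h3]; simp
      exact (smul_eq_zero.1 h4).resolve_left fun e =>
        h2 ((Nat.prime_dvd_prime_iff_eq hp Nat.prime_two).1 ((CharP.cast_eq_zero_iff K p 2).1 (by exact_mod_cast e)))
    rw [show ev u (-1) = 0 by rw [ev, h1, finrank_bot], add_zero]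

/-- **(e)** `μ i` is the multiplicity of the eigenvalue `ζ ^ i` of `u` -/
structure MuD (p : ℕ) [Fintype K] (u : P) {m : ℕ} [NeZero m] (μ : ZMod m → ℕ) : Prop where
  sum : ∑ i, μ i = n
  zero : μ 0 = ev (u : GL (Fin n) K) 1
  dm : dm (u : GL (Fin n) K) = ∑ i, μ i ^ 2
  eig : ∃ ζ : AlgebraicClosure K, IsPrimitiveRoot ζ m ∧ ∀ i, μ i = eE (lin (acRep P.subtype) u) (ζ ^ i.val)
  conj : ∀ j : ℕ, j.Coprime m → IsConj u (u ^ j) → ∀ i, μ (j * i) = μ i
  frob : ∀ i, μ (Fintype.card K * i) = μ i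
  cj : ∀ k, Cj P (p ^ k) → ∀ i, μ (-((p ^ k : ℕ) * i)) = μ i
  neg : SD P → ∀ i, μ (-i) = μ i

theorem exists_muD [Fintype K] (hC : Core P) {p : ℕ} (hp : p.Prime) [CharP K p] {u : P} {m : ℕ} [NeZero m] (hm : m.Coprime p)
    (hu : u ^ m = 1) : ∃ μ : ZMod m → ℕ, MuD p u μ := by
  have : Fact p.Prime := ⟨hp⟩
  obtain ⟨L, _, _, _, ζ, hζ⟩ := exists_root K (m := m) fun e =>
    (Nat.Prime.coprime_iff_not_dvd hp).1 hm.symm ((CharP.cast_eq_zero_iff K p m).1 e)
  have : CharP L p := charP_of_injective_algebraMap (algebraMap K L).injective p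
  let e := RingEquiv.refl (Matrix (Fin n) (Fin n) K)
  have h1 : ((u : GL (Fin n) K) : Matrix (Fin n) (Fin n) K) ^ m = 1 := by
    rw [← Units.val_pow_eq_pow_val, ← coe_pow, hu]; rfl
  have M := mu_mu (e := e) hζ h1
  have cj : ∀ k, Cj P (p ^ k) → ∀ i : ZMod m,
      mu e ζ m ((u : GL (Fin n) K) : Matrix (Fin n) (Fin n) K) (-((p ^ k : ℕ) * i)) = mu e ζ m _ i := fun k hk i => by
    obtain ⟨J, c, -, hJ⟩ := H920.exists_gram_of_trace hC.absIrred (iterateFrobeniusEquiv K p k) (fun a => by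
      rw [iterateFrobeniusEquiv_def, iterateFrobeniusEquiv_def, ← pow_mul, ← pow_add]
      exact hC.pow_eq p (by rw [pow_add]; exact hk.fr) a) fun g hg => (hk g hg).symm
    refine mu_tw hζ.pow_eq_one (iterateFrobenius L p k) (iterateFrobenius K p k) (fun _ => rfl) (fun _ => rfl)
      (J := (J : Matrix (Fin n) (Fin n) K)ᵀ) (by rw [det_transpose]; exact J.det_ne_zero) ?_ i
    have h2 := congrArg transpose (hJ u u.2)
    rwa [transpose_mul, transpose_mul, transpose_transpose, ← Matrix.mul_assoc] at h2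
  refine ⟨mu e ζ m ((u : GL (Fin n) K) : Matrix (Fin n) (Fin n) K), M.sum.trans (Fintype.card_fin n),
    mu_eq (c := 1) (by rw [ZMod.val_zero, pow_zero, map_one]), ?_, ?_, fun j hj hc i => ?_, M.frob, cj, fun h i => ?_⟩
  · refine Nat.pow_right_injective (Finite.one_lt_card (α := K)) ?_
    show Nat.card K ^ _ = Nat.card K ^ _
    rw [← cA_eq_dm, M.card, Nat.card_eq_fintype_card]
  · let f : L →ₐ[K] AlgebraicClosure K := IsAlgClosed.lift
    refine ⟨f ζ, hζ.map_of_injective f.injective, fun i => ?_⟩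
    rw [mu, ← ml_map (f : L →+* AlgebraicClosure K), ex_apply, Matrix.map_map, map_pow,
      show ⇑(f : L →+* AlgebraicClosure K) ∘ algebraMap K L = algebraMap K (AlgebraicClosure K) from funext f.commutes]
    rfl
  · obtain ⟨c, hc⟩ := hc
    refine M.conj (((c : P) : GL (Fin n) K) : Matrix (Fin n) (Fin n) K) j (Units.isUnit _) ?_ hj i
    rw [← Units.val_pow_eq_pow_val, ← Units.val_mul, ← Units.val_mul, ← coe_pow, ← coe_mul, ← coe_mul, hc.eq]
  · simpa using cj 0 (fun g hg => by rw [pow_zero, pow_one, h g hg]) i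

/-- the invariances of the kind -/
theorem MuD.fr [Fintype K] {t : Kd} {q p T b : ℕ} {G : Prop} {c f : P → ℕ} (M : Md0 t q p T b P G c f) {u : P} {m : ℕ} [NeZero m]
    {μ : ZMod m → ℕ} (h : MuD p u μ) : (∀ i, μ ((fr t q : ℤ) * i) = μ i) ∧ (bil t → ∀ i, μ (-i) = μ i) := by
  have h1 := h.frob
  have h2 := M.frm
  obtain ⟨a, -, rfl⟩ := M.pow
  rw [M.card] at h1
  cases t
  · exact ⟨fun i => by simpa [RX.fr, kq] using h1 i, False.elim⟩
  · exact ⟨fun i => by simpa [RX.fr] using h.cj a h2.1 i, False.elim⟩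
  · exact ⟨fun i => by simpa [RX.fr, kq] using h1 i, fun _ => h.neg h2.2.1⟩
  all_goals exact ⟨fun i => by simpa [RX.fr, kq] using h1 i, fun _ => h.neg h2.2⟩

variable {m : ℕ} [NeZero m] {μ : ZMod m → ℕ}

/-- the units which leave `μ` invariant -/
def St (μ : ZMod m → ℕ) : Subgroup (ZMod m)ˣ where
  carrier := {g | ∀ i, μ (g * i) = μ i}
  one_mem' i := by rw [Units.val_one, one_mul]
  mul_mem' {a b} ha hb i := by rw [Units.val_mul, mul_assoc, ha, hb]
  inv_mem' {a} ha i := by rw [← ha, Units.mul_inv_cancel_left]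

theorem sum_erase (μ : ZMod m → ℕ) : ∑ i ∈ Finset.univ.erase 0, μ i = ∑ i, μ i - μ 0 := by
  rw [← Finset.add_sum_erase _ _ (Finset.mem_univ 0), Nat.add_sub_cancel_left]

/-- every eigenvalue other than one has at least `h` companions -/
theorem sq_le_of {h : ℕ} (H : ∀ i, i ≠ 0 → μ i ≠ 0 → ∃ O : Finset (ZMod m), h ≤ O.card ∧ ∀ j ∈ O, j ≠ 0 ∧ μ j = μ i) :
    h * ∑ i, μ i ^ 2 ≤ h * μ 0 ^ 2 + (∑ i, μ i - μ 0) ^ 2 := by
  rw [← Finset.add_sum_erase _ _ (Finset.mem_univ 0), mul_add, ← sum_erase, Finset.mul_sum, pow_two (∑ _ ∈ _, _), Finset.sum_mul]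
  refine Nat.add_le_add_left (Finset.sum_le_sum fun i hi => ?_) _
  by_cases h0 : μ i = 0
  · simp [h0]
  obtain ⟨O, h1, h2⟩ := H i (Finset.ne_of_mem_erase hi) h0
  rw [pow_two, mul_left_comm]
  refine Nat.mul_le_mul_left _ ((Nat.mul_le_mul_right _ h1).trans (le_trans (le_of_eq ?_)
    (Finset.sum_le_sum_of_subset (s := O) fun j hj => Finset.mem_erase.2 ⟨(h2 j hj).1, Finset.mem_univ _⟩)))
  rw [Finset.sum_congr rfl fun j hj => (h2 j hj).2, Finset.sum_const, smul_eq_mul]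

/-- a group of units which acts freely on the eigenvalues other than one -/
theorem free_of {Γ : Subgroup (ZMod m)ˣ} (hΓ : Γ ≤ St μ) (H : ∀ g ∈ Γ, ∀ i, i ≠ 0 → μ i ≠ 0 → (g : ZMod m) * i = i → g = 1) :
    Nat.card Γ * ∑ i, μ i ^ 2 ≤ Nat.card Γ * μ 0 ^ 2 + (∑ i, μ i - μ 0) ^ 2 ∧ Nat.card Γ ∣ ∑ i, μ i - μ 0 := by
  classical
  have := Fintype.ofFinite Γ
  have inj : ∀ i, i ≠ 0 → μ i ≠ 0 → Function.Injective fun g : Γ => (g.1 : ZMod m) * i := fun i h0 h1 g g' e => by
    have e1 : (g.1 : ZMod m) * i = (g'.1 : ZMod m) * i := e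
    refine Subtype.ext (inv_mul_eq_one.1 (H _ (Γ.mul_mem (Γ.inv_mem g.2) g'.2) i h0 h1 ?_))
    rw [Units.val_mul, mul_assoc, ← e1, Units.inv_mul_cancel_left]
  have ne : ∀ (g : (ZMod m)ˣ) i, i ≠ 0 → (g : ZMod m) * i ≠ 0 := fun g i h0 e => h0 ((Units.mul_right_eq_zero g).1 e)
  refine ⟨sq_le_of fun i h0 h1 => ⟨Finset.univ.image fun g : Γ => (g.1 : ZMod m) * i, ?_, fun j hj => ?_⟩, ?_⟩
  · rw [Finset.card_image_of_injective _ (inj i h0 h1), Finset.card_univ, Nat.card_eq_fintype_card]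
  · obtain ⟨g, -, rfl⟩ := Finset.mem_image.1 hj
    exact ⟨ne _ i h0, hΓ g.2 i⟩
  · rw [← sum_erase, ← Finset.sum_fiberwise (g := fun i : ZMod m => (Quotient.mk (MulAction.orbitRel Γ (ZMod m)) i))]
    refine Finset.dvd_sum fun o _ => ?_
    obtain ⟨i, rfl⟩ := Quotient.exists_rep o
    have hm : ∀ j, j ∈ (Finset.univ.erase 0).filter (fun j => Quotient.mk (MulAction.orbitRel Γ (ZMod m)) j =
        Quotient.mk (MulAction.orbitRel Γ (ZMod m)) i) ↔ j ≠ 0 ∧ ∃ g : Γ, (g.1 : ZMod m) * i = j := fun j => by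
      rw [Finset.mem_filter, Finset.mem_erase, Quotient.eq, MulAction.orbitRel_apply, and_iff_left (Finset.mem_univ j)]
      rfl
    rw [Finset.sum_congr rfl (g := fun _ => μ i) fun j hj => by
      obtain ⟨-, g, rfl⟩ := (hm j).1 hj
      exact hΓ g.2 i, Finset.sum_const, smul_eq_mul]
    by_cases h1 : μ i = 0
    · rw [h1, mul_zero]; exact dvd_zero _
    by_cases h0 : i = 0
    · rw [Finset.card_eq_zero.2 (Finset.eq_empty_of_forall_notMem fun j hj => by
        obtain ⟨h2, g, rfl⟩ := (hm j).1 hj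
        exact h2 (by rw [h0, mul_zero])), zero_mul]
      exact dvd_zero _
    refine Dvd.dvd.mul_right (dvd_of_eq ?_) _
    rw [Nat.card_eq_fintype_card, ← Finset.card_univ, ← Finset.card_image_of_injective _ (inj i h0 h1)]
    congr 1
    ext j
    rw [hm, Finset.mem_image]
    exact ⟨fun ⟨g, _, e⟩ => ⟨e ▸ ne _ i h0, g, e⟩, fun ⟨_, g, e⟩ => ⟨g, Finset.mem_univ _, e⟩⟩

variable [Fintype K] {p : ℕ} {u : P}

theorem MuD.dm_le (M : MuD p u μ) {h : ℕ}
    (H : ∀ i, i ≠ 0 → μ i ≠ 0 → ∃ O : Finset (ZMod m), h ≤ O.card ∧ ∀ j ∈ O, j ≠ 0 ∧ μ j = μ i) :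
    h * RD.dm (u : GL (Fin n) K) ≤ h * ev (u : GL (Fin n) K) 1 ^ 2 + (n - ev (u : GL (Fin n) K) 1) ^ 2 := by
  have h1 := sq_le_of H
  rwa [← M.dm, M.sum, M.zero] at h1

theorem MuD.free (M : MuD p u μ) {Γ : Subgroup (ZMod m)ˣ} (hΓ : Γ ≤ St μ)
    (H : ∀ g ∈ Γ, ∀ i, i ≠ 0 → μ i ≠ 0 → (g : ZMod m) * i = i → g = 1) :
    Nat.card Γ * RD.dm (u : GL (Fin n) K) ≤ Nat.card Γ * ev (u : GL (Fin n) K) 1 ^ 2 + (n - ev (u : GL (Fin n) K) 1) ^ 2 ∧
      Nat.card Γ ∣ n - ev (u : GL (Fin n) K) 1 := by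
  have h1 := free_of hΓ H
  rwa [← M.dm, M.sum, M.zero] at h1

/-- **(G2)** `u` and a conjugate generate the socle -/
theorem MuD.half (M : MuD p u μ) (hC : Core P) {y : P} (hy : IsConj u y)
    (h : closure ({toSoc P u, toSoc P y} : Set (Soc P)) = ⊤) (i j : ZMod m) : μ i + μ j ≤ n := by
  obtain ⟨ζ, -, e⟩ := M.eig
  rw [e i, e j, eE_conj hy (ζ ^ j.val)]
  exact eE_add_le hC h _ _

end core

end Cfsg.Agent.N2C.RD
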