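import Cfsg.Agent.N2.Cl.RD.Num
import Cfsg.Agent.N2.Cl.RD.Lin
import Cfsg.Agent.H875.PslTwo

/-!
# N2 (S3519), defining characteristic, the row `L₂` (helper69)

The element is a generator of a subgroup of the non-split torus; its eigenvalues are read off the model `H875.Fn`.
-/

set_option autoImplicit false
set_option linter.unusedSectionVars false

namespace Cfsg.Agent.N2C.RD.A1

open Cfsg Cfsg.Geo Cfsg.Agent.H915.LD Cfsg.Agent.N2C.RX Module Finset Matrix Cfsg.Agent.H875 Cfsg.Agent.H875.Fn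

/-! ### counting -/

/-- the multiplicity of the eigenvalue with exponent `z` -/
def cnt (S : Finset ℕ) (N z : ℕ) : ℕ := (S.filter fun m => 2 * m % N = z % N).card

/-- the sum of the squares -/
def DD (S : Finset ℕ) (N : ℕ) : ℕ := ∑ m ∈ S, cnt S N (2 * m)

/-- `SS`, computable -/
def S2 (p r : ℕ) : Finset ℕ := (range (r + 1)).filter fun m => r.factorial / (m.factorial * (r - m).factorial) % p ≠ 0

theorem S2_eq (p r : ℕ) : S2 p r = SS p r :=
  filter_congr fun m hm => by
    rw [← Nat.choose_eq_factorial_div_factorial (Nat.lt_succ_iff.1 (mem_range.1 hm)), Ne, ← Nat.dvd_iff_mod_eq_zero]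

theorem cnt_le_two {p r N h : ℕ} (h1 : ∀ m m', 2 * m ≡ 2 * m' [MOD N] → m ≡ m' [MOD h]) (h2 : r < 2 * h) (z : ℕ) :
    cnt (SS p r) N z ≤ 2 := by
  refine (card_le_card_of_injOn (t := range 2) (fun m => m / h) (fun m hm => ?_) fun m hm m' hm' e => ?_).trans_eq (card_range 2)
  · have h3 := (mem_SS.1 (mem_filter.1 hm).1).1
    exact mem_range.2 ((Nat.div_lt_iff_lt_mul (by omega)).2 (by omega))
  · have h3 : m % h = m' % h := h1 m m' ((mem_filter.1 hm).2.trans (mem_filter.1 hm').2.symm)
    rw [← Nat.div_add_mod m h, ← Nat.div_add_mod m' h, h3, show m / h = m' / h from e]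

theorem cnt_le_one {S : Finset ℕ} {N : ℕ} (h1 : ∀ m ∈ S, ∀ m' ∈ S, 2 * m ≡ 2 * m' [MOD N] → m = m') (z : ℕ) : cnt S N z ≤ 1 :=
  card_le_one.2 fun m hm m' hm' => h1 m (mem_filter.1 hm).1 m' (mem_filter.1 hm').1
    ((mem_filter.1 hm).2.trans (mem_filter.1 hm').2.symm)

/-- **digits** -/
theorem digits {p : ℕ} [hp : Fact p.Prime] (h2 : p ≠ 2) (f : ℕ) : ∀ r m m' : ℕ, m ∈ SS p r → m' ∈ SS p r →
    (2 * m' = 2 * m + p ^ f + 1 ∨ 2 * m' + 1 = 2 * m + p ^ f) → ((p + 1) / 2) ^ f ≤ (SS p r).card := by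
  induction f with
  | zero => exact fun r _ _ _ _ _ => card_SS_pos r
  | succ f ih =>
    intro r m m' hm hm' h
    have h0 := hp.out.pos
    have hodd : p % 2 = 1 := hp.out.eq_two_or_odd.resolve_left h2
    have e : r = r % p + p * (r / p) := (Nat.mod_add_div r p).symm
    have k1 : r % p < p ^ 1 := by rw [pow_one]; exact Nat.mod_lt _ h0
    have k2 : p ^ 1 ∣ p * (r / p) := by rw [pow_one]; exact dvd_mul_right _ _
    have key : ∀ x ∈ SS p r, x % p ≤ r % p ∧ x / p ∈ SS p (r / p) := fun x hx => by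
      rw [e, mem_SS_add k1 k2, pow_one] at hx
      refine ⟨(mem_SS.1 hx.1).1, mem_SS_p_mul.1 ?_⟩
      rw [show p * (x / p) = x - x % p from (Nat.sub_eq_of_eq_add (Nat.div_add_mod x p).symm).symm]
      exact hx.2
    obtain ⟨a1, a2⟩ := key m hm
    obtain ⟨b1, b2⟩ := key m' hm'
    have c1 := Nat.mod_add_div m p
    have c2 := Nat.mod_add_div m' p
    have c3 := Nat.mod_lt r h0
    rw [e, card_SS_add k1 k2, card_SS_lt c3, card_SS_p_mul, pow_succ']
    rw [pow_succ'] at h
    generalize m % p = x at *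
    generalize m' % p = x' at *
    generalize m / p = y at *
    generalize m' / p = y' at *
    have c4 : p ^ f % 2 = 1 := Nat.odd_iff.1 ((Nat.odd_iff.2 hodd).pow)
    generalize p ^ f = Q at *
    subst c1 c2
    have c5 : 2 * y' = 2 * y + Q + 1 ∨ 2 * y' + 1 = 2 * y + Q := by
      by_contra hc
      rcases (by omega : 2 * y + Q + 3 ≤ 2 * y' ∨ 2 * y' + 3 ≤ 2 * y + Q) with h3 | h3 <;>
        have h4 := Nat.mul_le_mul_left p h3 <;> rcases h with h | h <;> nlinarith
    refine Nat.mul_le_mul ?_ (ih _ y y' a2 b2 c5)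
    have c6 : 2 * (p * y') = 2 * (p * y) + p * Q + p ∨ 2 * (p * y') + p = 2 * (p * y) + p * Q :=
      c5.imp (fun h => by have := congrArg (p * ·) h; linarith) fun h => by have := congrArg (p * ·) h; linarith
    omega

/-! ### the torus -/

theorem exists_pre {E k : Type*} [Field E] [Fintype E] [Field k] (j : E →+* k) {t : k} (h : t ^ Fintype.card E = t) :
    ∃ a, j a = t := by
  classical
  by_contra hc
  have h1 : 1 < Fintype.card E := Fintype.one_lt_card
  have h2 := Polynomial.card_le_degree_of_subset_roots (p := (Polynomial.X ^ Fintype.card E - Polynomial.X : Polynomial k))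
    (Z := insert t (univ.image j)) fun z hz => (Polynomial.mem_roots (FiniteField.X_pow_card_sub_X_ne_zero k h1)).2 (by
      rcases mem_insert.1 hz with rfl | hz
      · simp [h]
      · obtain ⟨a, -, rfl⟩ := mem_image.1 hz
        simp [← map_pow, FiniteField.pow_card])
  rw [FiniteField.X_pow_card_sub_X_natDegree_eq k h1, card_insert_of_notMem (by simpa using hc),
    card_image_of_injective _ j.injective, card_univ] at h2
  omega

theorem Emb.eE_eq {k V M A : Type*} [Field k] [AddCommGroup V] [Module k V] [FiniteDimensional k V] [AddCommGroup M] [Module k M]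
    [Fintype A] [DecidableEq k] {T : End k V} {Θ : V →ₗ[k] M} {S : End k M} {F : A → M} {lam : A → k} (h : Emb T Θ S F lam)
    (hc : finrank k V = Fintype.card A) (z : k) : eE T z = (univ.filter fun a => lam a = z).card := by
  by_cases hz : z ∈ univ.image lam
  · refine (sum_eq_sum_iff_of_le fun z _ => h.eE_le z).1 ?_ z hz
    rw [h.dg.sum, hc, ← card_eq_sum_card_image, card_univ]
  · refine le_antisymm (h.eE_le z) ?_
    rw [filter_false_of_mem fun a _ (e : lam a = z) => hz (e ▸ mem_image_of_mem _ (mem_univ a))]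
    exact Nat.zero_le _

variable {E k V : Type} [Field E] [Fintype E] [Field k] [AddCommGroup V] [Module k V] {j : E →+* k} {p : ℕ} [hp : Fact p.Prime]
  [CharP E p] [CharP k p] {R : SpecialLinearGroup (Fin 2) E →* End k V} {r : ℕ} {Φ : V →ₗ[k] (E × E → k)}

theorem exists_emb (h : IsModel j R r Φ) {x : kˣ} (h1 : x ^ (Fintype.card E + 1) = 1) (h2 : x ^ 2 ≠ 1) :
    ∃ (g : SpecialLinearGroup (Fin 2) E) (F : SS p r → E × E → k),
      Emb (R g) Φ (act E k g) F fun m => ((x ^ r / x ^ (2 * (m : ℕ)) : kˣ) : k) := by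
  obtain ⟨f, -, hf⟩ := FiniteField.card E p
  obtain ⟨y, hy⟩ : ∃ y : k, x * y = 1 := ⟨_, x.mul_inv⟩
  have h3 : (x : k) ^ Fintype.card E = y := mul_left_cancel₀ x.ne_zero (by
    rw [hy, ← pow_succ', ← Units.val_pow_eq_pow_val, h1, Units.val_one])
  have h4 : y ^ Fintype.card E = x := mul_left_cancel₀ (pow_ne_zero (Fintype.card E) x.ne_zero) (by
    rw [← mul_pow, hy, one_pow, h3, mul_comm, hy])
  obtain ⟨t, ht⟩ := exists_pre j (t := x + y) (by rw [hf, add_pow_char_pow, ← hf, h3, h4, add_comm])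
  have h5 : (x : k) - y ≠ 0 := sub_ne_zero.2 fun e => h2 (Units.ext (by rw [Units.val_pow_eq_pow_val, sq]; nth_rw 2 [e]; exact hy))
  let g : SpecialLinearGroup (Fin 2) E := ⟨!![0, -1; 1, t], by simp [det_fin_two]⟩
  let l : k → E × E → k := fun a v => j v.1 - a * j v.2
  have hl : ∀ a : k, a ^ 2 - (x + y) * a + 1 = 0 → ∀ v, l a (vm v g) = a * l a v := fun a ha v => by
    simp only [l, vm, g, of_apply, cons_val', cons_val_zero, cons_val_one, cons_val_fin_one, map_add, map_mul, map_neg, map_one,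
      map_zero, ht]
    linear_combination (j v.2) * ha
  refine ⟨g, fun m v => l x v ^ (r - m) * l y v ^ (m : ℕ), h.inj, h.act g, fun m => funext fun v => ?_, fun v => ?_⟩
  · rw [act_apply, hl x (by linear_combination -hy), hl y (by linear_combination -hy), Pi.smul_apply, smul_eq_mul, mul_pow,
      mul_pow, mul_mul_mul_comm]
    congr 1
    obtain ⟨c, hc⟩ := Nat.exists_eq_add_of_le (mem_SS.1 m.2).1
    rw [Units.val_div_eq_div_val, Units.val_pow_eq_pow_val, Units.val_pow_eq_pow_val, eq_div_iff (pow_ne_zero _ x.ne_zero)]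
    generalize (m : ℕ) = a at hc
    subst hc
    rw [Nat.add_sub_cancel_left]
    calc (x : k) ^ c * y ^ a * x ^ (2 * a) = x ^ (a + c) * (x * y) ^ a := by ring
      _ = _ := by rw [hy, one_pow, mul_one]
  · refine Submodule.span_le.2 ?_ (h.mem v)
    rintro _ ⟨c, rfl⟩
    obtain ⟨α, β, e1, e2⟩ : ∃ α β : k, α + β = j c.1 ∧ -(α * x + β * y) = j c.2 :=
      ⟨-(j c.2 + y * j c.1) / (x - y), j c.1 + (j c.2 + y * j c.1) / (x - y), by ring, by field_simp; ring⟩
    have h6 : pw j r c = ∑ m ∈ range (r + 1), (β ^ m * α ^ (r - m) * (r.choose m : k)) •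
        fun v => l x v ^ (r - m) * l y v ^ m := by
      funext v
      rw [pw, show j (v.1 * c.1 + v.2 * c.2) = β * l y v + α * l x v by
        simp only [l, map_add, map_mul, ← e1, ← e2]; ring, add_pow, Finset.sum_apply]
      exact sum_congr rfl fun m _ => by simp only [Pi.smul_apply, smul_eq_mul]; ring
    rw [h6]
    refine Submodule.sum_mem _ fun m hm => ?_
    by_cases hd : p ∣ r.choose m
    · rw [(CharP.cast_eq_zero_iff k p _).2 hd, mul_zero, zero_smul]
      exact Submodule.zero_mem _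
    · exact Submodule.smul_mem _ _ (Submodule.subset_span ⟨⟨m, mem_SS'.2 hd⟩, rfl⟩)

/-- the data of an element of the torus -/
structure Tr {n : ℕ} {K : Type} [Field K] (u : GL (Fin n) K) (S : Finset ℕ) (r N : ℕ) : Prop where
  pow : u ^ N = 1
  dm : dm u ≤ DD S N
  one : ev u 1 = cnt S N r
  neg : ∀ h, N = 2 * h → ev u (-1) = cnt S N (r + h)
  mul : ∀ M, (∀ z, cnt S N z ≤ M) → RD.dm u ≤ M * n ∧ ∀ a, ev u a ≤ M

theorem exists_tr {n : ℕ} {K : Type} [Field K] [IsAlgClosed k] {i : K →+* k} {ρ : SpecialLinearGroup (Fin 2) E →* GL (Fin n) K}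
    {Φ : (Fin n → k) →ₗ[k] (E × E → k)} (h : IsModel j (Fn.lin ρ i) r Φ) (hn : n = (SS p r).card) {N : ℕ}
    (hN : N ∣ Fintype.card E + 1) (h2 : 2 < N) : ∃ g, Tr (ρ g) (SS p r) r N := by
  classical
  obtain ⟨f, -, hf⟩ := FiniteField.card E p
  have : NeZero (N : k) := ⟨fun e => by
    have h3 := ((CharP.cast_eq_zero_iff k p _).1 e).trans hN
    rw [hf, Nat.dvd_add_right (dvd_pow_self p f.ne_zero)] at h3
    exact hp.out.one_lt.ne' (Nat.dvd_one.1 h3)⟩
  have : NeZero N := ⟨by omega⟩
  obtain ⟨ζ, hζ⟩ := HasEnoughRootsOfUnity.exists_primitiveRoot k N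
  obtain ⟨x, rfl⟩ := hζ.isUnit (by omega)
  have ho : orderOf x = N := (IsPrimitiveRoot.coe_units_iff.1 hζ).eq_orderOf.symm
  obtain ⟨g, F, e⟩ := exists_emb (p := p) h (x := x) (orderOf_dvd_iff_pow_eq_one.1 (ho ▸ hN)) fun h3 => by
    have := Nat.le_of_dvd two_pos (ho ▸ orderOf_dvd_of_pow_eq_one h3)
    omega
  have hc : finrank k (Fin n → k) = Fintype.card (SS p r) := by rw [finrank_fin_fun, Fintype.card_coe, hn]
  have key : ∀ z : ℕ, (univ.filter fun m : SS p r => ((x ^ r / x ^ (2 * (m : ℕ)) : kˣ) : k) = (x ^ r / x ^ z : kˣ)).card =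
      cnt (SS p r) N z := fun z => by
    rw [cnt, ← card_image_of_injective _ Subtype.val_injective]
    congr 1
    ext m
    simp only [mem_image, mem_filter, mem_univ, true_and, Units.val_inj, div_right_inj, pow_eq_pow_iff_modEq, ho, Subtype.exists,
      exists_and_left, exists_prop]
    exact ⟨fun ⟨a, h1, h3, h4⟩ => h4 ▸ ⟨h3, h1⟩, fun h1 => ⟨m, h1.2, h1.1, rfl⟩⟩
  have hT : Fn.lin ρ i g = toLin' ((ρ g : Matrix (Fin n) (Fin n) K).map i) := rfl
  refine ⟨g, ?_, ?_, ?_, fun c hc' => ?_, fun M hM => ?_⟩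
  · rw [← map_pow]
    have h3 : Fn.lin ρ i (g ^ N) = 1 := LinearMap.ext fun v => h.inj (by
      rw [h.act, End.one_apply]
      refine (Submodule.span_le (p := LinearMap.eqLocus (act E k (g ^ N)) LinearMap.id)).2 ?_ (e.span v)
      rintro _ ⟨m, rfl⟩
      have h4 := aeval_eig (e.eig m) (Polynomial.X ^ N)
      rw [Polynomial.aeval_X_pow, Polynomial.eval_pow, Polynomial.eval_X, ← map_pow, ← Units.val_pow_eq_pow_val, div_pow, ← pow_mul, ← pow_mul, mul_comm r, mul_comm _ N, pow_mul, pow_mul, ← ho,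
        pow_orderOf_eq_one, one_pow, one_pow, div_one, Units.val_one, one_smul, ho] at h4
      exact h4)
    refine Units.ext (Matrix.map_injective i.injective (toLin'.injective ?_))
    exact h3.trans (by simp [toLin'_one, End.one_eq_id])
  · rw [dm_eq i, ← hT]
    refine e.dg.dE_le.trans ((sum_le_sum fun z _ => Nat.pow_le_pow_left (e.eE_le z) 2).trans_eq ?_)
    rw [DD, ← sum_coe_sort (SS p r), sum_congr rfl fun (m : SS p r) _ => (key (2 * m)).symm,
      sum_comp fun z => (univ.filter fun m : SS p r => ((x ^ r / x ^ (2 * (m : ℕ)) : kˣ) : k) = z).card]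
    exact sum_congr rfl fun z _ => sq _
  · rw [ev_eq i, ← hT, Emb.eE_eq e hc, ← key, div_self', map_one, Units.val_one]
  · have h3 : (x : k) ^ c = -1 := (IsPrimitiveRoot.pow (by omega) hζ (hc'.trans (mul_comm _ _))).eq_neg_one_of_two_right
    rw [ev_eq i, ← hT, Emb.eE_eq e hc, ← key, pow_add, div_mul_cancel_left, Units.val_inv_eq_inv_val, Units.val_pow_eq_pow_val, h3,
      map_neg, map_one, inv_neg, inv_one]
  · have h3 : ∀ z, eE (Fn.lin ρ i g) z ≤ M := fun z => (e.eE_le z).trans (by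
      rcases (univ.filter fun m : SS p r => ((x ^ r / x ^ (2 * (m : ℕ)) : kˣ) : k) = z).eq_empty_or_nonempty with h4 | ⟨m, h4⟩
      · rw [h4]; exact Nat.zero_le _
      · rw [← (mem_filter.1 h4).2, key]; exact hM _)
    refine ⟨?_, fun a => by rw [ev_eq i]; exact h3 _⟩
    have h4 := e.dg.dE_le_mul fun z _ => h3 z
    rwa [finrank_fin_fun, hT, ← dm_eq] at h4

/-! ### the checks -/

def bj (j n : ℕ) : Bd := .s j (3 * j) fun q => Nat.blt (q ^ j) n

def lu : Kd → Bool
  | .L => true
  | .U => true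
  | _ => false

def np (j n : ℕ) : Bool := allR (fun d => !Nat.beq (d ^ j) n) (n + 1) 0

def FF (j : ℕ) (t : Kd) (n : ℕ) : Bool := lu t || np j n || (Nat.ble n 9 && Nat.ble j 3) ||
  chkS t n (bj j n) (2 * n) (bif t.isS then 4 else 0)

theorem c1 : rng (fun _ => .s 1 (3 * 1)) (FF 1) 5 = true := by decide +kernel
theorem c2 : rng (fun _ => .s 2 (3 * 2)) (FF 2) 5 = true := by decide +kernel
theorem c3 : rng (fun _ => .s 3 (3 * 3)) (FF 3) 5 = true := by decide +kernel
theorem c4 : rng (fun _ => .s 4 (3 * 4)) (FF 4) 5 = true := by decide +kernel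

theorem c5 : allR (fun j => allR (fun n => allK fun t => lu t || !dimB t n || np j n ||
  chkS t n (bj j n) (1 * n) (bif t.isS then 2 else 0)) 10 0) 2 1 = true := by decide +kernel

theorem c6 : allK (fun t => lu t || !dimB t 8 || (chkP t 8 (.s 3 9 fun q => !Nat.beq q 2) 6 3 (fun _ _ => false) &&
  chkP t 8 (.s 3 9 fun q => Nat.beq q 2) 6 6 fun _ _ => false)) = true := by decide +kernel

theorem c7 : chkP .O 9 (.s 2 6 fun q => !Nat.beq q 3) 4 4 (fun _ d => Nat.blt 18 d) = true := by decide +kernel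

theorem c8 : allR (fun j => allR (fun p => allR (fun a => !Nat.beq (mf p) p || Nat.blt 9 (((p + 1) / 2) ^ (a * j)) ||
  (Nat.beq j 2 && Nat.beq (p ^ a) 3) || frc (p ^ a) fun q => frc (q ^ j) fun s => allR (fun r => frc (S2 p r).card fun n =>
    Nat.blt 9 n || frc (DD (S2 p r) (s + 1)) fun D => frc (cnt (S2 p r) (s + 1) r + cnt (S2 p r) (s + 1) (r + (s + 1) / 2)) fun m =>
      allK fun t => lu t || !dimB t n || exq t n (.s j (3 * j)) 1 (k4 t) (2 * es t D m) 1 (kk t n) 0 q) s 0) 3 1) 16 3) 2 1 = true := by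
  decide +kernel

/-! ### the row -/

section row

variable {t : Kd} {n q p T b : ℕ} {K : Type} [Field K] [Fintype K] {P : Subgroup (GL (Fin n) K)} {G : Prop} {c f : P → ℕ} {B : Bd}

/-- the exact check for one field -/
theorem fin1 (M : Md0 t q p T b P G c f) {u : P} {g k w e ν δ : ℕ} (h1 : NF t n q (c u) g k w e ν δ) (hB : HB q b 1 B)
    (h : exq t n B g k w e ν δ q = true) : G := by
  obtain ⟨a, ha, hq⟩ := M.pow
  have h2 := M.q_ge
  have h0 : 0 < q := by omega
  have hd := M.dim
  have hl : lg q = a := hq ▸ lg_eq M.prime ha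
  have h5 : mf q = p := hq ▸ mf_eq M.prime ha
  have h6 : tI t n q / oD t n q = T := by rw [tI_eq, ← M.ord, Nat.mul_div_cancel_left _ (oD_pos h2)]
  simp only [exq, h5, h6, hl, hB.sk, Bool.or_eq_true, Bool.and_eq_true, Nat.blt_eq, nbeq, Nat.beq_eq, Nat.ble_eq] at h
  rcases h with ((h | h) | h) | h
  · exact absurd h Bool.false_ne_true
  · exact absurd hq.symm h
  · cases t <;> first | exact absurd h.1 Bool.false_ne_true | exact absurd hd.2.2 (by omega)
  · exact (M.cq u).two (zz_pos' h2) (by positivity) h.1 hB.ex (by rw [← mul_assoc]; exact h1) h.2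

theorem Tr.cop {u : P} {S : Finset ℕ} {r N : ℕ} (h : Tr (u : GL (Fin n) K) S r N) (hN : N.Coprime p) : (orderOf u).Coprime p :=
  hN.coprime_dvd_left (orderOf_dvd_of_pow_eq_one (Subtype.ext h.pow))

theorem Tr.ss (M : Md t q p T b P G c f) {u : P} {S : Finset ℕ} {r N m : ℕ} (h : Tr (u : GL (Fin n) K) S r N) (hN : N.Coprime p)
    (hm : ∀ z, cnt S N z ≤ m) (hB : HB q b 1 B) (hc : chkS t n B (m * n) (bif t.isS then 2 * m else 0) = true) : G := by
  obtain ⟨h1, h2⟩ := h.mul m hm
  refine M.of_ss u (Or.inr (h.cop hN)) h1 ?_ (fun h3 _ => ?_) (M.cq u) hB hc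
  · rintro rfl
    have h3 := h2 1
    have h4 := h2 (-1)
    show e2 p _ ≤ 2 * m
    rw [e2]
    split_ifs <;> omega
  · cases t <;> first | exact absurd rfl h3 | exact Nat.zero_le _

theorem np_false {j d : ℕ} (hj : j ≠ 0) : np j (d ^ j) = false := by
  rw [← Bool.not_eq_true]
  intro h
  have h1 := allR_sound h (Nat.zero_le d) (by have := Nat.le_self_pow hj d; omega)
  exact nbeq.1 h1 rfl

end row

end A1

open A1 Cfsg Cfsg.Geo Cfsg.Agent.H915.LD Cfsg.Agent.N2C.RX Finset Cfsg.Agent.H875 Cfsg.Agent.H875.Fn in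
/-- **the row `L₂`** -/
theorem rowA1 : Row (fA 2) := by
  rintro t n q p T b K _ _ P G c f M ⟨E, _, _, _, h4, ⟨e⟩⟩
  have hp : Fact p.Prime := ⟨M.prime⟩
  have := M.char
  have hC := M.core
  have hSD : SD P := DefCov.sd_of_psl2 hC p (by rw [Nat.card_eq_fintype_card]; have := h4 rfl; omega) e
  have hl : lu t = false := by
    have h := M.frm
    cases t
    · exact absurd hSD h
    · exact absurd hSD h.2
    all_goals rfl
  have hK : Fintype.card K = q := by
    have h := M.card
    cases t <;> first | exact h | exact absurd hl (by decide)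
  obtain ⟨θ, hθ, -⟩ := DefCov.exists_cover (m := 1) hC p (Psl2.perf hC e) e
  obtain ⟨jj⟩ := Psl2.exists_emb K E p
  have : CharP (AlgebraicClosure K) p := charP_of_injective_algebraMap (algebraMap K _).injective p
  obtain ⟨j, r₀, Φ, hj, hs, hr0, hr1, hn, hM⟩ := exists_param p θ hC hθ (algebraMap K (AlgebraicClosure K)) jj
  rw [hK] at hs hr1 hM
  rw [Fintype.card_fin] at hn
  obtain ⟨ha, hq⟩ := M.lg_spec
  have hn' : n = (SS p (r₀ * ∑ l ∈ range j, q ^ l)).card := by rw [hn, ← card_SS_geom (hq ▸ hr1) j, ← hq]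
  have hd2 := two_le_card_SS (p := p) hr0
  have hdq : (SS p r₀).card ≤ q := ((card_filter_le _ _).trans_eq (card_range _)).trans hr1
  generalize (SS p r₀).card = d at hn hd2 hdq
  generalize r₀ * ∑ l ∈ range j, q ^ l = r at hM hn'
  have hr := hM.le
  obtain ⟨a, ha1, hE⟩ := exists_f E p
  have N := nd_A hC.simple hC.nonabelian M.prime ha1 hE le_rfl h4 e
  have hsq : (p ^ a) ^ 1 = q ^ j := by rw [pow_one, ← hE, hs]
  have haj : a = lg q * j := Nat.pow_right_injective M.prime.two_le (by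
    show p ^ a = p ^ (lg q * j)
    rw [pow_mul, ← hq, ← hs, hE])
  by_cases h5 : 5 ≤ j
  · have h6 := big (C := 2) (A := 32) (E := 68) (j0 := 5) (n := n) (by rw [hn]; gcongr) h5 (by norm_num) (by norm_num) (by norm_num)
    exact M.gen_j (d := 3 * j) N hsq one_pos (by show j * 3 ≤ _; omega) (by omega)
  have hb : b ≤ j * lg q * q ^ (3 * j) := by
    have h6 := M.bnd (g := 1) (k := j) (d := 3 * j) N hsq one_pos le_rfl (by omega) (by show j * 3 ≤ _; omega)
    rwa [one_mul] at h6
  have hB : HB q b 1 (bj j n) := .s (by rw [← Bool.not_eq_true, Nat.blt_eq, hn, not_lt]; gcongr) hb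
  have hnp : np j n = false := hn ▸ np_false hj
  have hdb := dimB_of M.dim
  have h5n := five_le M.dim
  have hE4 := h4 rfl
  have tr := fun {N : ℕ} (h1 : N ∣ Fintype.card E + 1) (h2 : 2 < N) => exists_tr (p := p) hM hn' h1 h2
  obtain ⟨g, hg⟩ := tr dvd_rfl (by omega)
  have hcop : (Fintype.card E + 1).Coprime p := by
    rw [hE, Nat.coprime_comm, Nat.Prime.coprime_iff_not_dvd M.prime, Nat.dvd_add_right (dvd_pow_self p (by omega))]
    exact fun h => M.prime.one_lt.ne' (Nat.dvd_one.1 h)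
  have hev : p = 2 → ∀ m m', 2 * m ≡ 2 * m' [MOD Fintype.card E + 1] → m ≡ m' [MOD Fintype.card E + 1] := fun h m m' h1 =>
    Nat.ModEq.cancel_left_of_coprime (h ▸ hcop) h1
  have hod : ∀ _ : Unit, p ≠ 2 → ∃ h, Fintype.card E + 1 = 2 * h := fun _ h =>
    (hE ▸ ((M.prime.odd_of_ne_two h).pow.add_one) : Even (Fintype.card E + 1)).two_dvd
  have hof : ∀ x : ℕ, of t x = x := fun x => by cases t <;> first | rfl | exact absurd hl (by decide)
  have hkb : kb t = 2 := by cases t <;> first | rfl | exact absurd hl (by decide)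
  have key : FF j t n = true → G := fun h => by
    simp only [FF, hl, hnp, Bool.false_or, Bool.or_eq_true, Bool.and_eq_true, Nat.ble_eq] at h
    rcases h with ⟨h9, h3⟩ | h
    swap
    · refine Tr.ss (u := θ g) M hg hcop (m := 2) (fun z => ?_) hB h
      by_cases h2 : p = 2
      · exact cnt_le_two (hev h2) (by omega) z
      · obtain ⟨x, hx⟩ := hod () h2
        exact cnt_le_two (h := x) (fun m m' h1 => Nat.ModEq.mul_left_cancel' two_ne_zero (hx ▸ h1)) (by omega) z
    rcases h3.eq_or_lt with rfl | h3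
    · -- the cube
      obtain rfl : n = 8 := by
        rcases hd2.eq_or_lt with rfl | h
        · exact hn
        · have := Nat.pow_le_pow_left (show 3 ≤ d from h) 3
          omega
      have h6 := allK_sound c6 t
      simp only [hl, hdb, Bool.not_true, Bool.false_or, Bool.and_eq_true] at h6
      by_cases h2 : q = 2
      · have h7 : lg q = 1 := h2 ▸ by decide
        obtain ⟨r, u, k1, k2, k3, k4, k5, k6, -⟩ := M.ppd N (k := 1) ⟨one_pos, one_le_two, fun _ => by norm_num⟩ (by omega) (by omega)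
        exact M.of_P k1 k5 (by omega) k6 ((ord_fr (m := 3) k1 (by omega) hq ha (by norm_num) (by rw [k2]; omega)).trans (hof 3))
          (by norm_num) (by norm_num) (fun s s1 s2 _ => by rw [hkb] at s2; omega) rfl (M.cq u) (.s (by rw [h2]; rfl) hb) h6.1
      · obtain ⟨r, u, k1, k2, k3, k4, k5, k6, -⟩ := M.ppd N (k := 2) ⟨two_pos, le_rfl, fun _ => by norm_num⟩ (by omega)
          fun h => h2 (by rw [hq, h.1, show lg q = 1 by omega, pow_one])
        exact M.of_P k1 k5 (by omega) k6 ((ord_fr (m := 6) k1 (by omega) hq ha (by norm_num) (by rw [k2]; omega)).trans (hof 6))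
          (by norm_num) (by norm_num) (fun s s1 _ _ => s1) rfl (M.cq u)
          (.s (by rw [← Bool.not_eq_true, Nat.beq_eq]; exact h2) hb) h6.2
    by_cases hno : ∀ m ∈ SS p r, ∀ m' ∈ SS p r, 2 * m ≡ 2 * m' [MOD Fintype.card E + 1] → m = m'
    · have h6 := allK_sound (allR_sound (allR_sound c5 (i := j) (by omega) (by omega)) (i := n) (by omega) (by omega)) t
      simp only [hl, hdb, hnp, Bool.not_true, Bool.false_or] at h6
      exact Tr.ss (u := θ g) M hg hcop (m := 1) (cnt_le_one hno) hB h6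
    push Not at hno
    obtain ⟨m, hm, m', hm', h6, h7⟩ := hno
    have h8 := (mem_SS.1 hm).1
    have h8' := (mem_SS.1 hm').1
    have h2 : p ≠ 2 := fun h => h7 (Nat.ModEq.eq_of_lt_of_lt (hev h m m' h6) (by omega) (by omega))
    obtain ⟨x, hx⟩ := hod () h2
    have h10 : ((p + 1) / 2) ^ a ≤ n := by
      have h11 : m ≡ m' [MOD x] := Nat.ModEq.mul_left_cancel' two_ne_zero (hx ▸ h6)
      have h12 : ∀ {m m' : ℕ}, m ≡ m' [MOD x] → m < m' → m' ≤ r → m' = m + x := fun {m m'} h1 h2 h3 => by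
        obtain ⟨y, hy⟩ := (Nat.modEq_iff_dvd' h2.le).1 h1
        rcases y with _ | _ | y
        · omega
        · omega
        · have : x * (y + 1 + 1) = x * y + 2 * x := by ring
          omega
      rw [hn']
      rcases lt_or_gt_of_ne h7 with h | h
      · exact digits h2 a r m m' hm hm' (Or.inl (by have := h12 h11 h h8'; omega))
      · exact digits h2 a r m' m hm' hm (Or.inl (by have := h12 h11.symm h h8; omega))
    by_cases h11 : j = 2 ∧ q = 3
    · obtain ⟨rfl, rfl⟩ := h11
      obtain rfl : n = 9 := by interval_cases d <;> omega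
      obtain rfl : t = .O := by cases t <;> first | rfl | exact absurd hl (by decide) | exact absurd hdb (by decide)
      obtain ⟨g', hg'⟩ := tr (N := 5) (by rw [hs]; norm_num) (by norm_num)
      have h12 := (hg'.mul 2 (cnt_le_two (h := 5) (fun m m' h1 => Nat.ModEq.cancel_left_of_coprime (by norm_num) h1) (by omega)))
      have h13 : orderOf (θ g') = 5 := by
        have : Fact (Nat.Prime 5) := ⟨Nat.prime_five⟩
        refine orderOf_eq_prime (Subtype.ext hg'.pow) fun h => ?_
        have h14 := h12.2 1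
        rw [MonoidHom.comp_apply, h, map_one, ev, Units.val_one, Matrix.toLin'_one, show Module.End.eigenspace
          (LinearMap.id : (Fin 9 → K) →ₗ[K] (Fin 9 → K)) 1 = ⊤ from eq_top_iff.2 fun v _ => Module.End.mem_eigenspace_iff.2 (by simp),
          finrank_top, Module.finrank_fin_fun] at h14
        omega
      have h14 : p = 3 := ((Nat.prime_dvd_prime_iff_eq M.prime Nat.prime_three).1 (hq ▸ dvd_pow_self p ha.ne'))
      refine M.of_P Nat.prime_five (by omega) (by norm_num) h13 (e := 4) ?_ (by norm_num) (by norm_num) (fun s s1 _ _ => s1) ?_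
        (M.cq _) (.s rfl hb) c7
      · exact (orderOf_eq_iff (by norm_num)).2 (by decide)
      · rw [← Bool.not_eq_true, Nat.blt_eq, not_lt]
        exact h12.1
    have h12 : 3 ≤ p := by have := M.prime.two_le; omega
    have h13 : (p + 1) / 2 ≤ 9 := (Nat.le_self_pow (by omega) _).trans (h10.trans h9)
    have h14 : lg q < 4 := by
      by_contra h
      have h15 : 2 ^ 4 ≤ ((p + 1) / 2) ^ a := (Nat.pow_le_pow_left (by omega) 4).trans (Nat.pow_le_pow_right (by omega)
        ((not_lt.1 h).trans (haj ▸ Nat.le_mul_of_pos_right _ (by omega))))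
      omega
    have h15 := allR_sound (allR_sound (allR_sound c8 (i := j) (by omega) (by omega)) (i := p) h12 (by omega)) (i := lg q) ha
      (by omega)
    have h16 : mf p = p := by simpa using mf_eq M.prime one_pos
    simp only [frc_eq, ← hq, ← haj, ← hs, Bool.or_eq_true, Bool.and_eq_true, nbeq, Nat.beq_eq, Nat.blt_eq] at h15
    rcases h15 with ((h15 | h15) | h15) | h15
    · exact absurd h16 h15
    · omega
    · exact absurd h15 h11
    have h17 := allR_sound h15 (i := r) (Nat.zero_le _) (by omega)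
    simp only [S2_eq, ← hn', Bool.or_eq_true, Nat.blt_eq] at h17
    have h18 := allK_sound (h17.resolve_left (by omega)) t
    simp only [hl, hdb, Bool.not_true, Bool.false_or] at h18
    have h19 := M.ss (θ g) (Or.inr (Tr.cop (u := θ g) hg hcop))
    refine fin1 M.toMd0 (u := θ g) (.of (by have := M.q_ge; omega) ?_ (by simpa only [pow_zero, mul_one, pow_one] using h19))
      (.s rfl hb) h18
    have h20 : dm ((θ g : P) : GL (Fin n) K) ≤ _ := hg.dm
    have h21 : ev ((θ g : P) : GL (Fin n) K) 1 = _ := hg.one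
    have h22 : ev ((θ g : P) : GL (Fin n) K) (-1) = _ := hg.neg x hx
    rw [e2, if_neg h2, h21, h22, show (Fintype.card E + 1) / 2 = x by omega]
    cases t <;> simp only [es] <;> omega
  obtain rfl | rfl | rfl | rfl : j = 1 ∨ j = 2 ∨ j = 3 ∨ j = 4 := by omega
  exacts [M.sieve h5n (.s rfl hb) key c1, M.sieve h5n (.s rfl hb) key c2, M.sieve h5n (.s rfl hb) key c3,
    M.sieve h5n (.s rfl hb) key c4]

end Cfsg.Agent.N2C.RD
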