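import Cfsg.Agent.N2.Cl.RD.Lin
import Cfsg.Agent.H887.DS.Minor2
import Cfsg.Agent.H920.NineField

/-!
# N2 (S3519), defining characteristic, `L₄`: the fixed space of an element of the torus `s² + s + 1` (helper89)
-/

set_option autoImplicit false
set_option linter.unusedSectionVars false

namespace Cfsg.Agent.N2C.RD.A3

open Matrix Module Cfsg.Agent.H887.DS
open Cfsg.Agent.H905.Md (acRep)
open Cfsg.Agent.H911 (lin)
open scoped MatrixGroups

variable {E k : Type} [Field E] [Finite E] [Field k]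

/-- the pairs -/
def pa : Fin 6 → Fin 4 := ![0, 0, 0, 1, 1, 2]
/-- the pairs -/
def pb : Fin 6 → Fin 4 := ![1, 2, 3, 2, 3, 3]

/-- a diagonalised element -/
structure Dz (ι : E →+* k) (u : SL(4, E)) (C C' : Matrix (Fin 4) (Fin 4) k) (lam : Fin 4 → k) : Prop where
  mul : C * C' = 1
  diag : u.1.map ι * C = C * diagonal lam
  inj : Function.Injective lam
  inj2 : Function.Injective fun κ => lam (pa κ) * lam (pb κ)

theorem map_mul' (ι : E →+* k) (g y : SL(4, E)) : (g * y).1.map ι = g.1.map ι * y.1.map ι := Matrix.map_mul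

theorem exists_dz [IsAlgClosed k] (ι : E →+* k) (p : ℕ) [hp : Fact p.Prime] [CharP E p] [CharP k p] {r : ℕ} (hr : r.Prime)
    (hrp : r ≠ p) (h2 : r ≠ 2) (h3 : r ≠ 3) (hd : r ∣ Nat.card E ^ 2 + Nat.card E + 1) :
    ∃ u C C' lam, u ^ r = 1 ∧ Dz ι u C C' lam := by
  have : NeZero r := ⟨hr.ne_zero⟩
  have : NeZero (r : k) := ⟨fun e => hrp ((Nat.prime_dvd_prime_iff_eq hp.out hr).1 ((CharP.cast_eq_zero_iff k p r).1 e)).symm⟩
  obtain ⟨x, hx⟩ := HasEnoughRootsOfUnity.exists_primitiveRoot k r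
  have := Fintype.ofFinite E
  obtain ⟨a, -, ha⟩ := FiniteField.card E p
  rw [← Nat.card_eq_fintype_card] at ha
  obtain ⟨σ, hσ⟩ : ∃ σ : k →+* k, ∀ w, σ w = w ^ Nat.card E := ⟨iterateFrobenius k p a, fun w => by rw [ha]; rfl⟩
  obtain ⟨y, hy⟩ : ∃ y, σ x = y := ⟨_, rfl⟩
  obtain ⟨z, hz⟩ : ∃ z, σ y = z := ⟨_, rfl⟩
  have h1 : x * y * z = 1 := by
    rw [← hz, ← hy, hσ, hσ, ← pow_mul, ← (hx.pow_eq_one_iff_dvd _).2 hd]
    ring
  have h4 : σ z = x := by
    have k := congrArg σ h1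
    rw [map_mul, map_mul, hy, hz, map_one] at k
    linear_combination x * k - σ z * h1
  have x1 : x ≠ 1 := hx.ne_one hr.one_lt
  have y1 : y ≠ 1 := fun e => x1 (σ.injective (by rw [hy, e, map_one]))
  have z1 : z ≠ 1 := fun e => y1 (σ.injective (by rw [hz, e, map_one]))
  have x2 : x * x ≠ 1 := fun e =>
    h2 ((Nat.prime_dvd_prime_iff_eq hr Nat.prime_two).1 ((hx.pow_eq_one_iff_dvd 2).1 ((pow_two x).trans e)))
  have y2 : y * y ≠ 1 := fun e => x2 (σ.injective (by rw [map_mul, hy, e, map_one]))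
  have z2 : z * z ≠ 1 := fun e => y2 (σ.injective (by rw [map_mul, hz, e, map_one]))
  have xy : x ≠ y := fun e => h3 ((Nat.prime_dvd_prime_iff_eq hr Nat.prime_three).1 ((hx.pow_eq_one_iff_dvd 3).1 (by
    rw [← h1, ← hz, ← e, hy, ← e]
    ring)))
  have yz : y ≠ z := fun e => xy (σ.injective (by rw [hy, hz, e]))
  have zx : z ≠ x := fun e => yz (σ.injective (by rw [hz, h4, e]))
  obtain ⟨α, hα⟩ := H920.Nine.mem_range_of_pow ι (x := x + y + z) (by
    rw [← hσ, map_add, map_add, hy, hz, h4]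
    ring)
  obtain ⟨β, hβ⟩ := H920.Nine.mem_range_of_pow ι (x := x * y + y * z + z * x) (by
    simp only [← hσ, map_add, map_mul, hy, hz, h4]
    ring)
  let C : Matrix (Fin 4) (Fin 4) k := !![1, 1, 1, 0; x, y, z, 0; x * x, y * y, z * z, 0; 0, 0, 0, 1]
  have hC : IsUnit C.det := by
    rw [isUnit_iff_ne_zero, show C.det = (y - x) * (z - y) * (z - x) by
      simp [C, det_succ_row_zero, Fin.sum_univ_succ, Fin.succAbove]
      ring]
    exact mul_ne_zero (mul_ne_zero (sub_ne_zero.2 xy.symm) (sub_ne_zero.2 yz.symm)) (sub_ne_zero.2 zx)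
  let u : SL(4, E) := ⟨!![0, 1, 0, 0; 0, 0, 1, 0; 1, -β, α, 0; 0, 0, 0, 1], by
    simp [det_succ_row_zero, Fin.sum_univ_succ, Fin.succAbove]⟩
  have hu : u.1.map ι * C = C * diagonal ![x, y, z, 1] := by
    ext i j
    rw [mul_diagonal, mul_apply, Fin.sum_univ_four]
    fin_cases i <;> fin_cases j <;> simp [u, C, hα, hβ] <;> grind
  refine ⟨u, C, C⁻¹, _, Subtype.ext (map_injective ι.injective ?_), mul_nonsing_inv C hC, hu, ?_, ?_⟩
  · have k : ∀ i, (u ^ i).1.map ι * C = C * diagonal (![x, y, z, 1] ^ i) := fun i => by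
      induction i with
      | zero => simp [diagonal_one']
      | succ i ih => rw [pow_succ, map_mul', mul_assoc, hu, ← mul_assoc, ih, mul_assoc,
          diagonal_mul_diagonal, pow_succ]; rfl
    have hy' : y ^ r = 1 := by rw [← hy, ← map_pow, hx.pow_eq_one, map_one]
    have hz' : z ^ r = 1 := by rw [← hz, ← map_pow, hy', map_one]
    have k' := congrArg (· * C⁻¹) (k r)
    rw [show ![x, y, z, 1] ^ r = 1 from funext fun i => by fin_cases i <;> simp [hx.pow_eq_one, hy', hz']] at k'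
    simpa [mul_assoc, mul_nonsing_inv C hC, diagonal_one'] using k'
  · intro i j
    fin_cases i <;> fin_cases j <;> simp <;> grind
  · intro i j
    fin_cases i <;> fin_cases j <;> simp [pa, pb] <;> grind

variable {K : Type} [Field K] {n : ℕ} {φ : SL(4, E) →* GL (Fin n) K} {ι : E →+* AlgebraicClosure K}
  (hirr : ∀ L : Submodule (AlgebraicClosure K) (Fin n → AlgebraicClosure K), (∀ g, ∀ w ∈ L, lin (acRep φ) g w ∈ L) →
    L = ⊥ ∨ L = ⊤) {v : Fin n → AlgebraicClosure K} {ψ : Dual (AlgebraicClosure K) (Fin n → AlgebraicClosure K)}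
  (hv : v ≠ 0) (hψ : ψ ≠ 0) {u : SL(4, E)} {C C' : Matrix (Fin 4) (Fin 4) (AlgebraicClosure K)}
  {lam : Fin 4 → AlgebraicClosure K} (D : Dz ι u C C' lam) (p : ℕ) [hp : Fact p.Prime] [CharP (AlgebraicClosure K) p]

include hirr hv hψ in
theorem ev_le_of {A B : Type} [Fintype A] [Fintype B] (F : A × B → SL(4, E) → AlgebraicClosure K)
    (hF : ∀ y, ∃ c : A × B → AlgebraicClosure K, ∀ g, ψ (lin (acRep φ) (g * y) v) = ∑ a, c a * F a g)
    (μ : A × B → AlgebraicClosure K) (hl : ∀ a g, F a (g * u) = μ a * F a g)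
    (hi : ∀ a b b', μ (a, b) = 1 → μ (a, b') = 1 → b = b') : ev (φ u) 1 ≤ Fintype.card A := by
  classical
  refine (cr_ev (emb_of (G := ⊤) (fun L hL => hirr L fun g => hL g trivial) hψ hv F (fun y _ => (hF y).imp fun _ h g _ => h g)
    (Subgroup.mem_top u) μ fun a g _ => hl a g)).trans (Finset.card_le_card_of_injOn Prod.fst (fun _ _ => Finset.mem_univ _) ?_)
  rintro ⟨a, b⟩ h ⟨a', b'⟩ h' (rfl : a = a')
  rw [hi a b b' (Finset.mem_filter.1 h).2 (Finset.mem_filter.1 h').2]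

include D

theorem Dz.split (g y : SL(4, E)) : (g * y).1.map ι = g.1.map ι * C * (C' * y.1.map ι) := by
  rw [map_mul', mul_assoc, ← mul_assoc C, D.mul, one_mul]

theorem Dz.right (g : SL(4, E)) (i j : Fin 4) : ((g * u).1.map ι * C) i j = lam j * (g.1.map ι * C) i j := by
  rw [map_mul', mul_assoc, D.diag, ← mul_assoc, mul_diagonal, mul_comm]

theorem Dz.left (g : SL(4, E)) (i j : Fin 4) : (C' * (u * g).1.map ι) i j = lam i * (C' * g.1.map ι) i j := by
  rw [D.split, D.diag, ← mul_assoc, ← mul_assoc C', mul_eq_one_comm.1 D.mul, one_mul, diagonal_mul]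

theorem Dz.ne (i : Fin 4) : lam i ≠ 0 := fun e => by
  have k := congrArg det D.diag
  rw [det_mul, det_mul, ← RingHom.mapMatrix_apply, ← RingHom.map_det, u.2, map_one, one_mul, det_diagonal,
    Finset.prod_eq_zero (Finset.mem_univ i) e, mul_zero] at k
  have k' := congrArg det D.mul
  rw [det_mul, k, zero_mul, det_one] at k'
  exact zero_ne_one k'

include hirr hv hψ hp

theorem ev_ends {i j : ℕ} (hf : ∀ g, ψ (lin (acRep φ) g v) = xi (l := 3) ι (p ^ i) (p ^ j) g) : ev (φ u) 1 ≤ 6 := by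
  refine (ev_le_of hirr hv hψ (fun a g => (g.1.map ι * C) 0 a.1 ^ p ^ i * (C' * (g⁻¹).1.map ι) a.2 3 ^ p ^ j)
    (fun y => ⟨fun a => (C' * y.1.map ι) a.1 0 ^ p ^ i * ((y⁻¹).1.map ι * C) 3 a.2 ^ p ^ j, fun g => ?_⟩)
    (fun a => lam a.1 ^ p ^ i * (lam a.2)⁻¹ ^ p ^ j) (fun a g => ?_) fun a b b' k k' => ?_).trans (by simp)
  · rw [hf, xi, _root_.mul_inv_rev]
    change (g * y).1.map ι 0 0 ^ _ * (y⁻¹ * g⁻¹).1.map ι 3 3 ^ _ = _
    rw [D.split, D.split, mul_apply, mul_apply (M := _ * C), sum_pow_char_pow, sum_pow_char_pow, Finset.sum_mul_sum,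
      Fintype.sum_prod_type]
    refine Finset.sum_congr rfl fun _ _ => Finset.sum_congr rfl fun _ _ => ?_
    simp only [mul_pow]
    ring
  · have k := D.left (g * u)⁻¹ a.2 3
    rw [show u * (g * u)⁻¹ = g⁻¹ by group] at k
    rw [D.right, k, mul_mul_mul_comm, ← mul_pow, ← mul_pow, inv_mul_cancel_left₀ (D.ne _)]
  · exact D.inj (inv_injective ((iterateFrobenius _ p j).injective
      (mul_left_cancel₀ (pow_ne_zero _ (D.ne a)) (k.trans k'.symm))))

theorem ev_mid {i : ℕ} (hf : ∀ g, ψ (lin (acRep φ) g v) = xf (l := 3) ι 1 2 0 (2 * p ^ i) 0 0 g) : ev (φ u) 1 ≤ 6 := by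
  let dl : Matrix (Fin 4) (Fin 4) (AlgebraicClosure K) → Fin 6 → AlgebraicClosure K := fun A κ =>
    A 0 (pa κ) * A 1 (pb κ) - A 0 (pb κ) * A 1 (pa κ)
  let dr : Matrix (Fin 4) (Fin 4) (AlgebraicClosure K) → Fin 6 → AlgebraicClosure K := fun A κ =>
    A (pa κ) 0 * A (pb κ) 1 - A (pa κ) 1 * A (pb κ) 0
  have cb : ∀ A B, (A * B) 0 0 * (A * B) 1 1 - (A * B) 0 1 * (A * B) 1 0 = ∑ κ, dl A κ * dr B κ := fun A B => by
    simp [mul_apply, Fin.sum_univ_four, Fin.sum_univ_six, dl, dr, pa, pb]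
    ring
  refine (ev_le_of hirr hv hψ (fun a g => (dl (g.1.map ι * C) a.1 * dl (g.1.map ι * C) a.2) ^ p ^ i)
    (fun y => ⟨fun a => (dr (C' * y.1.map ι) a.1 * dr (C' * y.1.map ι) a.2) ^ p ^ i, fun g => ?_⟩)
    (fun a => (lam (pa a.1) * lam (pb a.1) * (lam (pa a.2) * lam (pb a.2))) ^ p ^ i) (fun a g => ?_)
    fun a b b' k k' => ?_).trans (by simp)
  · rw [hf, xf, xi, pow_zero, pow_zero, pow_zero, mul_one, mul_one, one_mul, pow_mul, mn, map_sub, map_mul, map_mul]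
    change (((g * y).1.map ι 0 0 * (g * y).1.map ι 1 1 - (g * y).1.map ι 0 1 * (g * y).1.map ι 1 0) ^ 2) ^ _ = _
    rw [D.split, cb, pow_two, Finset.sum_mul_sum, ← Fintype.sum_prod_type', sum_pow_char_pow]
    refine Finset.sum_congr rfl fun _ _ => ?_
    rw [← mul_pow]
    congr 1
    ring
  · simp only [dl, D.right]
    rw [← mul_pow]
    congr 1
    ring
  · exact D.inj2 (mul_left_cancel₀ (mul_ne_zero (D.ne _) (D.ne _)) ((iterateFrobenius _ p i).injective (k.trans k'.symm)))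

end Cfsg.Agent.N2C.RD.A3
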