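import Cfsg.Agent.H688.Sp4.Even
import Cfsg.Agent.H367.SpecSp43
import Cfsg.Agent.S0765

/-!
# N2 (S3519), defining characteristic: `PSp_4(q)` is generated by a Singer cycle and an involution (helper71)

* **`gen`** : `x ^ m = 1`, `m ∣ q ^ 2 + 1` odd, `y ^ 2 = 1`, `⟨x, y⟩ = PSp_4(q)`.
-/

set_option autoImplicit false
set_option linter.unusedSectionVars false

namespace Cfsg.Agent.N2C.RD.C2

open Module Cfsg Cfsg.Geo Cfsg.Agent.H951 Cfsg.Agent.H427.Fc Cfsg.Agent.H427.Sg Cfsg.Agent.H688.Sp4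
open Cfsg.Agent.ClassicalGeometry.SympBasic Cfsg.Agent.H876 Cfsg.Agent.H931 Cfsg.Agent.H262.El Subgroup
open scoped Matrix MatrixGroups

theorem top_of {G : Type*} [Group G] [Finite G] {x y : G} (h : ∀ K : Subgroup G, IsCoatom K → x ∈ K → y ∉ K) :
    closure ({x, y} : Set G) = ⊤ := by
  rcases eq_top_or_exists_le_coatom (closure ({x, y} : Set G)) with h1 | ⟨K, hK, h1⟩
  · exact h1
  · exact absurd (h1 (subset_closure (by simp))) (h K hK (h1 (subset_closure (by simp))))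

/-- an involution outside a proper subgroup -/
theorem exists_inv {G : Type*} [Group G] [Finite G] [IsSimpleGroup G] (h2 : 2 ∣ Nat.card G) {K : Subgroup G} (hK : K ≠ ⊤) :
    ∃ y : G, y ^ 2 = 1 ∧ y ∉ K := by
  by_contra hc
  push Not at hc
  obtain ⟨z, hz⟩ := exists_prime_orderOf_dvd_card' 2 h2
  have h1 : z ^ 2 = 1 := by rw [← hz, pow_orderOf_eq_one]
  have h3 : z ∈ K.normalCore := fun b => hc _ (by rw [conj_pow, h1, mul_one, mul_inv_cancel])
  rcases K.normalCore_normal.eq_bot_or_eq_top with h4 | h4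
  · rw [h4, mem_bot] at h3
    rw [h3, orderOf_one] at hz
    omega
  · exact hK (top_le_iff.1 (h4.ge.trans K.normalCore_le))

variable {F : Type} [Field F] [Fintype F]

theorem half {s : Matrix.symplecticGroup (Fin 2) F} (h : Sng F 2 s) {m : ℕ} (hm : Fintype.card F ^ 2 + 1 = 2 * m) :
    (QuotientGroup.mk s : PSp 2 F) ^ m = 1 := by
  rw [← QuotientGroup.mk_pow, QuotientGroup.eq_one_iff]
  have h1 : s ^ m * s ^ m = 1 := by rw [← pow_add, ← two_mul, ← hm, ← h.ord, pow_orderOf_eq_one]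
  have h2 : ∀ v, v ∈ fx (rhoSp 2 F (s ^ m)) ↔ rhoSp 2 F (s ^ m) v = v := fun v => by
    rw [fx, LinearMap.mem_ker, LinearMap.sub_apply, sub_eq_zero, Module.End.one_apply]
  have key : ∀ c : F, (∀ v, rhoSp 2 F (s ^ m) v = c • v) → s ^ m ∈ center (Matrix.symplecticGroup (Fin 2) F) := fun c hc =>
    mem_center_iff.2 fun g => Subtype.ext (Matrix.toLin'.injective (LinearMap.ext fun v => by
      change rhoSp 2 F (g * s ^ m) v = rhoSp 2 F (s ^ m * g) v
      rw [map_mul, map_mul, Module.End.mul_apply, Module.End.mul_apply, hc, hc, map_smul]))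
  rcases h.irr.2.2 (fx (rhoSp 2 F (s ^ m))) le_top (fun v hv => by
    rw [h2] at hv ⊢
    rw [← Module.End.mul_apply, ← map_mul, ← pow_succ, pow_succ', map_mul, Module.End.mul_apply, hv]) with h3 | h3
  · refine key (-1) fun v => ?_
    have h4 : rhoSp 2 F (s ^ m) v + v ∈ fx (rhoSp 2 F (s ^ m)) := by
      rw [h2, map_add, ← Module.End.mul_apply, ← map_mul, h1, map_one, Module.End.one_apply, add_comm]
    rw [h3, Submodule.mem_bot] at h4
    rw [neg_one_smul]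
    exact eq_neg_of_add_eq_zero_left h4
  · exact key 1 fun v => by rw [one_smul, ← h2, h3]; trivial

theorem gen_odd (hodd : Odd (Fintype.card F)) (h5 : 5 ≤ Fintype.card F) (h2 : 2 ∣ Nat.card (PSp 2 F)) {m : ℕ}
    (hm : Fintype.card F ^ 2 + 1 = 2 * m) : ∃ x y : PSp 2 F, x ^ m = 1 ∧ y ^ 2 = 1 ∧ closure ({x, y} : Set (PSp 2 F)) = ⊤ := by
  have hsim : IsSimpleGroup (PSp 2 F) := Cfsg.Agent.S0270.result 2 le_rfl (fun _ => by omega)
  have hfin2 : Finite (PSp 2 F) := Finite.of_surjective _ Cfsg.Agent.H16.PSp4.prj_surj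
  obtain ⟨s, h⟩ := Sng.exists (F := F) (m := 2) (by norm_num)
  have huniq : ∀ K K' : Subgroup (PSp 2 F), IsCoatom K → IsCoatom K' → (QuotientGroup.mk s : PSp 2 F) ∈ K →
      (QuotientGroup.mk s : PSp 2 F) ∈ K' → K ≤ K' := by
    intro K K' hK hK' hs hs'
    obtain ⟨K₁, h1, h2⟩ := overgroup hodd h5 h hK hs
    obtain ⟨K₂, h3, h4⟩ := overgroup hodd h5 h hK' hs'
    have h6 : K₁ = K₂ := h.unique le_rfl (by omega) Nat.prime_two (by norm_num) h1 h3
      ((h2.le.trans inf_le_left) (mem_pre.2 hs)) ((h4.le.trans inf_le_left) (mem_pre.2 hs'))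
    subst h6
    intro x hx
    obtain ⟨A, rfl⟩ := QuotientGroup.mk_surjective x
    rw [← mem_pre, h2, ← h4, mem_pre] at hx
    exact hx
  by_cases hex : ∃ K₀ : Subgroup (PSp 2 F), IsCoatom K₀ ∧ (QuotientGroup.mk s : PSp 2 F) ∈ K₀
  · obtain ⟨K₀, hK₀, hs₀⟩ := hex
    obtain ⟨y, h1, h3⟩ := exists_inv h2 hK₀.1
    exact ⟨_, y, half h hm, h1, top_of fun K hK hs hy => h3 (huniq K K₀ hK hK₀ hs hs₀ hy)⟩
  · exact ⟨_, 1, half h hm, one_pow _, top_of fun K hK hs _ => hex ⟨K, hK, hs⟩⟩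

theorem gen_even (heven : ¬ Odd (Fintype.card F)) (h4 : 4 ≤ Fintype.card F) :
    ∃ x y : PSp 2 F, x ^ (Fintype.card F ^ 2 + 1) = 1 ∧ y ^ 2 = 1 ∧ closure ({x, y} : Set (PSp 2 F)) = ⊤ := by
  have hfin2 : Finite (PSp 2 F) := Finite.of_surjective _ Cfsg.Agent.H16.PSp4.prj_surj
  obtain ⟨s, h⟩ := Sng.exists (F := F) (m := 2) (by norm_num)
  have h2 := two_zero_of heven
  have hB := sy_symp (m := 2) h2
  have hR := rp_symp (F := F) (m := 2)
  have hev : Even (Fintype.card F) := Nat.not_odd_iff_even.1 heven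
  have hι : Fintype.card (Fin 2 ⊕ Fin 2) = 4 := by simp
  have hodd : Odd (Fintype.card F ^ 2 + 1) := (hev.pow_of_ne_zero (by omega)).add_odd odd_one
  obtain ⟨Q, hQ, hQs⟩ := exists_avg hB (qf_symp h2) (hR.iso s) hodd (by
    rw [← map_pow, ← h.ord, pow_orderOf_eq_one, map_one])
  have hfx : fx (rhoSp 2 F s) = ⊥ := by
    have h3 := irr_fx h.irr (by rw [finrank_top, Module.finrank_fintype_fun_eq_card, hι]; omega)
    rwa [top_inf_eq] at h3
  obtain ⟨w, -, v, hv⟩ := exists_tv_ne (W := ⊤) hB (by rw [finrank_top, Module.finrank_fintype_fun_eq_card, hι]; omega) hQ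
  obtain ⟨t, ht⟩ := hR.full (hB.tv w 1) (hB.tv_iso w 1)
  have hw : w ≠ 0 := by
    rintro rfl
    exact hv (by rw [Sy.tv_apply, smul_zero, add_zero])
  refine ⟨QuotientGroup.mk s, QuotientGroup.mk t, by rw [← QuotientGroup.mk_pow, ← h.ord, pow_orderOf_eq_one, QuotientGroup.mk_one], ?_,
    top_of fun K hK hs hy => ?_⟩
  · have h5 : t ^ 2 = 1 := Subtype.ext (Matrix.toLin'.injective (LinearMap.ext fun x => by
      change rhoSp 2 F (t ^ 2) x = rhoSp 2 F 1 x
      rw [sq, map_mul, map_one, Module.End.mul_apply, ht]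
      exact tv_tv hB w 1 x))
    rw [← QuotientGroup.mk_pow, h5, QuotientGroup.mk_one]
  · rcases Cfsg.Agent.S5662.result 2 (by omega) (by omega) (pre K) (pre_le _) (by
      rw [sup_eq_left.2 (scalars_le_pre _)]
      exact pre_ne hK.1) with ⟨M, hM, hle⟩ | h3
    · rcases geo_singer le_rfl (by omega) heven h (mem_pre.2 hs) hM hle with ⟨Q', hQ', h5⟩ | ⟨r, K₁, hr, -, hK₁, -, hle'⟩
      · have h6 : ∀ v, Q v = Q' v := qf_unique hB hQ hQ' (hR.iso s) hQs (h5 s (mem_pre.2 hs)) hfx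
        have h7 := h5 t (mem_pre.2 hy) v
        rw [← h6, ← h6, ht] at h7
        exact hv h7
      · exact tv_not_mem h2 le_rfl hw one_ne_zero ht hr.two_le hK₁ (hle' (mem_pre.2 hy))
    · exact no_residual_even heven h4 h hK hs h3

section three

open Cfsg.Agent.H367.SpecSp43 Matrix

attribute [local instance] fact3

/-- the involution -/
def my : M3 := fromBlocks !![0, 1; 1, 0] 0 0 !![0, 1; 1, 0]

/-- the involution -/
def gy : symplecticGroup (Fin 2) (ZMod 3) := ⟨my, by rw [SymplecticGroup.mem_iff]; decide +kernel⟩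

/-- vectors -/
def vc (a b c d : ZMod 3) : Fin 2 ⊕ Fin 2 → ZMod 3 := Sum.elim ![a, b] ![c, d]

/-- the number of a vector -/
def cd (w : Fin 2 ⊕ Fin 2 → ZMod 3) : ℕ := (w (.inl 0)).val + 3 * (w (.inl 1)).val + 9 * (w (.inr 0)).val + 27 * (w (.inr 1)).val

/-- the predecessor -/
def pa (w : Fin 2 ⊕ Fin 2 → ZMod 3) : Fin 2 ⊕ Fin 2 → ZMod 3 :=
  (fun k : ℕ => vc k (k / 3 : ℕ) (k / 9 : ℕ) (k / 27 : ℕ)) ([0, 3, 6, 9, 21, 6, 18, 5, 15, 27, 39, 33, 36, 48, 34, 29, 30, 42, 0, 57,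
    78, 55, 75, 60, 72, 57, 69, 74, 12, 71, 10, 13, 16, 65, 77, 62, 20, 5, 42, 2, 14, 43, 11, 23, 8, 63, 32, 69, 29, 41, 53, 65,
    50, 71, 18, 49, 24, 46, 22, 43, 20, 23, 52, 64, 48, 61, 46, 49, 52, 55, 50, 79, 10, 75, 7, 19, 4, 16, 74, 77, 25].getD (cd w) 0)

/-- the distance -/
def rk (w : Fin 2 ⊕ Fin 2 → ZMod 3) : ℕ := [0, 8, 2, 7, 14, 2, 1, 3, 12, 6, 4, 12, 8, 12, 9, 11, 6, 14, 0, 10, 6, 13, 12, 8, 6,
  10, 14, 5, 9, 10, 5, 13, 7, 11, 8, 14, 7, 3, 14, 3, 10, 10, 13, 9, 13, 14, 8, 14, 11, 11, 11, 11, 12, 10, 1, 12, 7, 9, 13, 10,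
  7, 9, 13, 13, 12, 10, 9, 12, 13, 13, 12, 9, 5, 12, 4, 11, 15, 7, 5, 8, 11].getD (cd w) 0

theorem tab : ∀ a b c d : ZMod 3, vc a b c d = 0 ∨ vc a b c d = vc 0 0 2 0 ∨ rk (pa (vc a b c d)) < rk (vc a b c d) ∧
    (vc a b c d = m5 *ᵥ pa (vc a b c d) ∨ vc a b c d = my *ᵥ pa (vc a b c d)) := by decide +kernel

theorem cube : m5 * my * (m5 * my) * (m5 * my) = sympTransvection 2 (vc 0 0 2 0) 2 ∧ my * my = 1 := by decide +kernel

theorem gen_zmod : Subgroup.closure ({g5, gy} : Set (symplecticGroup (Fin 2) (ZMod 3))) = ⊤ := by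
  set H := Subgroup.closure ({g5, gy} : Set (symplecticGroup (Fin 2) (ZMod 3)))
  have h5 : g5 ∈ H := Subgroup.subset_closure (by simp)
  have hy : gy ∈ H := Subgroup.subset_closure (by simp)
  have step : ∀ g ∈ H, ∀ u, transv u (2 : ZMod 3) ∈ H → transv (g.1 *ᵥ u) (2 : ZMod 3) ∈ H := fun g hg u hu => by
    have h1 : transv (g.1 *ᵥ u) (2 : ZMod 3) * g = g * transv u 2 := Subtype.ext (mul_sympTransvection g.2 u 2).symm
    rw [eq_mul_inv_of_mul_eq h1]
    exact mul_mem (mul_mem hg hu) (inv_mem hg)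
  have key : ∀ (k : ℕ) (w : Fin 2 ⊕ Fin 2 → ZMod 3), rk w = k → transv w (2 : ZMod 3) ∈ H := fun k => by
    induction k using Nat.strong_induction_on with
    | _ k ih =>
      intro w hw
      have e : w = vc (w (.inl 0)) (w (.inl 1)) (w (.inr 0)) (w (.inr 1)) := by
        funext x
        rcases x with x | x <;> fin_cases x <;> rfl
      have h1 := tab (w (.inl 0)) (w (.inl 1)) (w (.inr 0)) (w (.inr 1))
      rw [← e] at h1
      rcases h1 with h1 | h1 | ⟨h1, h2 | h2⟩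
      · have h3 : transv w (2 : ZMod 3) = 1 := Subtype.ext (by
          rw [coe_transv, h1, sympTransvection_def]
          simp)
        rw [h3]
        exact one_mem _
      · have h3 : transv w (2 : ZMod 3) = g5 * gy * (g5 * gy) * (g5 * gy) := Subtype.ext (by rw [coe_transv, h1]; exact cube.1.symm)
        rw [h3]
        exact mul_mem (mul_mem (mul_mem h5 hy) (mul_mem h5 hy)) (mul_mem h5 hy)
      · rw [h2]
        exact step g5 h5 _ (ih _ (hw ▸ h1) _ rfl)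
      · rw [h2]
        exact step gy hy _ (ih _ (hw ▸ h1) _ rfl)
  rw [eq_top_iff, ← S0765.result 2, closure_le]
  rintro A ⟨w, c, hA⟩
  have h1 := key _ w rfl
  have h2 : ∀ c : ZMod 3, c = 2 ∨ c = 2 + 2 ∨ c = 2 + 2 + 2 := by decide
  rcases h2 c with rfl | rfl | rfl
  · exact (show A = transv w 2 from Subtype.ext hA) ▸ h1
  · exact (show A = transv w 2 * transv w 2 from Subtype.ext (hA.trans (sympTransvection_mul _ _ _).symm)) ▸ mul_mem h1 h1
  · have h3 : A = transv w 2 * transv w 2 * transv w 2 := Subtype.ext (hA.trans (by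
      rw [← sympTransvection_mul, ← sympTransvection_mul]; rfl))
    exact h3 ▸ mul_mem (mul_mem h1 h1) h1

theorem gen_three (h3 : Fintype.card F = 3) :
    ∃ x y : PSp 2 F, x ^ 5 = 1 ∧ y ^ 2 = 1 ∧ closure ({x, y} : Set (PSp 2 F)) = ⊤ := by
  have e : PSp 2 (ZMod 3) ≃* PSp 2 F := LieClassical.FieldTransfer.pspCongr 2
    (FiniteField.ringEquivOfCardEq (by rw [h3, ZMod.card]))
  let π := e.toMonoidHom.comp (QuotientGroup.mk' (center (symplecticGroup (Fin 2) (ZMod 3))))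
  refine ⟨π g5, π gy, ?_, ?_, ?_⟩
  · rw [← map_pow, show g5 ^ 5 = 1 from Subtype.ext ((coe_pow' _ _).trans m5_pow.1), map_one]
  · rw [← map_pow, sq, show gy * gy = 1 from Subtype.ext cube.2, map_one]
  · rw [← Set.image_pair, ← MonoidHom.map_closure, gen_zmod]
    exact map_top_of_surjective _ (e.surjective.comp (QuotientGroup.mk'_surjective _))

end three

/-- **generation** -/
theorem gen (h3 : 3 ≤ Fintype.card F) (h2 : 2 ∣ Nat.card (PSp 2 F)) : ∃ (m : ℕ) (x y : PSp 2 F), Odd m ∧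
    m ∣ Fintype.card F ^ 2 + 1 ∧ (Fintype.card F = 3 → m = 5) ∧ x ^ m = 1 ∧ y ^ 2 = 1 ∧ closure ({x, y} : Set (PSp 2 F)) = ⊤ := by
  rcases h3.eq_or_lt with h | h
  · obtain ⟨x, y, h1⟩ := gen_three h.symm
    exact ⟨5, x, y, by decide, by rw [← h]; decide, fun _ => rfl, h1⟩
  by_cases ho : Odd (Fintype.card F)
  · obtain ⟨k, hk⟩ := id ho
    obtain ⟨x, y, h1⟩ := gen_odd ho (by omega) h2 (two_mul_eq hk)
    exact ⟨_, x, y, ⟨k ^ 2 + k, by ring⟩, Dvd.intro_left _ (two_mul_eq hk).symm, fun h4 => by omega, h1⟩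
  · obtain ⟨x, y, h1⟩ := gen_even ho h
    exact ⟨_, x, y, ((Nat.not_odd_iff_even.1 ho).pow_of_ne_zero two_ne_zero).add_odd odd_one, dvd_rfl, fun h4 => by omega, h1⟩

end Cfsg.Agent.N2C.RD.C2
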