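import Cfsg.Agent.N2.Cl.RD.Crit
import Cfsg.Agent.N2.Cl.RD.LinS
import Cfsg.Agent.N2.Cl.RD.C2Gen

/-!
# N2 (S3519), defining characteristic: `PSp_4(q)` over the field of the module (helper71)

* `orb` : the orbits of the Frobenius map on the eigenvalues;  `crit` : the criterion for a semisimple element;
* **`one`** : `|K| = |E|`, `n = 10, 12` or `13 ≤ n`.
-/

set_option autoImplicit false
set_option linter.unusedSectionVars false

namespace Cfsg.Agent.N2C.RD.C2

open Cfsg Cfsg.Geo Cfsg.Agent.H902 Cfsg.Agent.N2C.Cyc Cfsg.Agent.N2C.RX Cfsg.Agent.H915.LD Module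
open Cfsg.Agent.H905.Md (acRep acRep_apply)
open Cfsg.Agent.H911 (lin lin_apply)

section lin

variable {n : ℕ} {K : Type} [Field K] [Fintype K] {P : Subgroup (GL (Fin n) K)}

theorem orb {p m : ℕ} [NeZero m] {u : P} {μ : ZMod m → ℕ} (hμ : MuD p u μ) (g : (ZMod m)ˣ) (hg : (g : ZMod m) = Fintype.card K)
    (H : ∀ x ∈ Subgroup.zpowers g, ∀ i, i ≠ 0 → (x : ZMod m) * i = i → x = 1) {h : ℕ} (ho : orderOf g = h) :
    ∃ k l, n = ev (u : GL (Fin n) K) 1 + h * k ∧ dm (u : GL (Fin n) K) = ev (u : GL (Fin n) K) 1 ^ 2 + h * l ∧ l ≤ k ^ 2 := by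
  have h0 : 0 < h := ho ▸ orderOf_pos g
  have h1 : Subgroup.zpowers g ≤ St μ := Subgroup.zpowers_le.2 fun i => by rw [hg]; exact hμ.frob i
  obtain ⟨h2, k, h3⟩ := hμ.free h1 fun x hx i hi _ => H x hx i hi
  obtain ⟨-, l, h4⟩ := free_of (μ := fun i => μ i ^ 2) (Γ := Subgroup.zpowers g) (fun x hx i => congrArg (· ^ 2) (h1 hx i))
    fun x hx i hi _ => H x hx i hi
  have h5 : μ 0 ≤ ∑ i, μ i := Finset.single_le_sum (fun _ _ => Nat.zero_le _) (Finset.mem_univ _)
  have h6 : μ 0 ^ 2 ≤ ∑ i, μ i ^ 2 := Finset.single_le_sum (f := fun i => μ i ^ 2) (fun _ _ => Nat.zero_le _) (Finset.mem_univ _)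
  rw [Nat.card_zpowers, ho] at h2 h3 h4
  rw [← hμ.dm, hμ.zero] at h4 h6
  rw [hμ.sum, hμ.zero] at h5
  have h7 : dm (u : GL (Fin n) K) = ev (u : GL (Fin n) K) 1 ^ 2 + h * l := by omega
  refine ⟨k, l, by omega, h7, ?_⟩
  rw [h3, h7, mul_add, mul_pow, sq h, mul_assoc, Nat.add_le_add_iff_left] at h2
  exact Nat.le_of_mul_le_mul_left (Nat.le_of_mul_le_mul_left h2 h0) h0

theorem lift {m : ℕ} (hm : m.Coprime (Fintype.card K - 1)) {g : Soc P} (hg : g ^ m = 1) : ∃ u : P, toSoc P u = g ∧ u ^ m = 1 := by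
  obtain ⟨v, rfl⟩ := toSoc_surjective P g
  have h1 : v ^ m ∈ (scalars (Fin n) K).subgroupOf P := by rw [← ker_toSoc, MonoidHom.mem_ker, map_pow, hg]
  have h2 : (v ^ m) ^ (Fintype.card K - 1) = 1 := by
    obtain ⟨x, hx⟩ : ((v ^ m : P) : GL (Fin n) K) ∈ scalars (Fin n) K := h1
    refine Subtype.ext ?_
    rw [Subgroup.coe_pow, ← hx, ← map_pow, ← Nat.card_eq_fintype_card, ← Nat.card_units, pow_card_eq_one', map_one]
    rfl
  obtain ⟨a, h3, h4⟩ := Nat.chineseRemainder hm 1 0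
  refine ⟨v ^ a, ?_, ?_⟩
  · rw [map_pow, pow_eq_pow_iff_modEq.2 (h3.of_dvd (orderOf_dvd_of_pow_eq_one hg)), pow_one]
  · obtain ⟨k, rfl⟩ := (Nat.modEq_zero_iff_dvd).1 h4
    rw [← pow_mul, mul_comm, ← mul_assoc, pow_mul, pow_mul, h2, one_pow]

/-- a generating pair with an involution -/
theorem half_le (hC : Core P) {x y : P} (h : Subgroup.closure ({toSoc P x, toSoc P y} : Set (Soc P)) = ⊤) (hy : toSoc P y ^ 2 = 1) :
    2 * ev (x : GL (Fin n) K) 1 ≤ n := by
  obtain ⟨c, hc⟩ := exists_of_toSoc_eq (a := 1) (b := y ^ 2) ((map_one _).trans ((map_pow _ _ _).trans hy).symm)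
  obtain ⟨b, hb⟩ := IsAlgClosed.exists_pow_nat_eq (algebraMap K (AlgebraicClosure K) c) two_pos
  have h1 : ∀ v, lin (acRep P.subtype) y (lin (acRep P.subtype) y v) = (b * b) • v := fun v => by
    rw [← End.mul_apply, ← map_mul, ← sq, ← sq, hb, lin_apply, acRep_apply,
      show (P.subtype (y ^ 2) : Matrix (Fin n) (Fin n) K) = (c : K) • 1 from hc]
    ext i
    simp [Matrix.mulVec, dotProduct, Matrix.one_apply, apply_ite (algebraMap K (AlgebraicClosure K))]
  have h2 := eE_add_le hC h 1 b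
  have h3 := eE_add_le hC h 1 (-b)
  have h4 := LinearMap.finrank_range_add_finrank_ker (lin (acRep P.subtype) y - (-b) • 1)
  have h5 : finrank (AlgebraicClosure K) (LinearMap.range (lin (acRep P.subtype) y - (-b) • 1)) ≤ eE (lin (acRep P.subtype) y) b :=
    Submodule.finrank_mono (by
      rintro _ ⟨v, rfl⟩
      rw [End.mem_eigenspace_iff, LinearMap.sub_apply, LinearMap.smul_apply, End.one_apply, map_sub, map_smul, h1]
      module)
  have h6 : finrank (AlgebraicClosure K) (LinearMap.ker (lin (acRep P.subtype) y - (-b) • 1)) = eE (lin (acRep P.subtype) y) (-b) := by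
    rw [eE, End.eigenspace_def]
  rw [Module.finrank_fin_fun] at h4
  have h7 := ev_ac_one P.subtype x
  change ev (x : GL (Fin n) K) 1 = _ at h7
  omega

end lin

/-- the inequality for `c zz x ≤ y q ^ e`, `q₀ ≤ q` -/
def In (t : Kd) (n e x y q0 : ℕ) : Prop := y ^ 3 * lD t n q0 ≤ lN t q0 * x ^ 3 * q0 ^ (dimE t n - (3 * e + 11))

instance (t : Kd) (n e x y q0 : ℕ) : Decidable (In t n e x y q0) := inferInstanceAs (Decidable (_ ≤ _))

/-- the numerical conditions -/
def Ok (t : Kd) (n e : ℕ) : Prop := 3 * e + 11 ≤ dimE t n ∧ In t n e 27 80 3 ∧ In t n e (4 ^ kk t n) (k4 t * 5 ^ kk t n) 4 ∧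
  In t n e (5 ^ kk t n) (wmax t n * k4 t * 6 ^ kk t n) 5

instance (t : Kd) (n e : ℕ) : Decidable (Ok t n e) := inferInstanceAs (Decidable (_ ∧ _))

set_option synthInstance.maxSize 2000 in
theorem table : ∀ t ∈ [Kd.S, .O, .P, .M], ∀ n < 22, ∀ k < 6, (n = 10 ∨ (n = 12 ∧ t = .S) ∨ 13 ≤ n) → (t = .O ↔ n % 2 = 1) →
    4 * k ≤ n → n ≤ 8 * k → Ok t n (es t (if n = 16 ∧ k = 2 then 72 else (n - 4 * k) ^ 2 + 4 * k ^ 2) (n - 4 * k)) := by
  decide +kernel

theorem es_mono (t : Kd) {d d' : ℕ} (h : d ≤ d') (m : ℕ) : es t d m ≤ es t d' m := by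
  cases t
  exacts [h, h, Nat.div_le_div_right (Nat.add_le_add_right h _), Nat.div_le_div_right (Nat.sub_le_sub_right h _),
    Nat.div_le_div_right (Nat.sub_le_sub_right h _), Nat.div_le_div_right (Nat.sub_le_sub_right h _)]

theorem bil_facts {t : Kd} (ht : bil t) (q m : ℕ) : t ∈ [Kd.S, .O, .P, .M] ∧ kq t q = q ∧ zz t q = Nat.gcd 2 (q - 1) ∧ fr t q = q ∧
    eq t 4 = 2 ∧ dl t m ≤ 1 ∧ kp t m ≤ 2 := by
  have h1 : (if m = 2 then 1 else 0) ≤ 1 := by split_ifs <;> omega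
  have h2 : (if m = 0 then 1 else 2) ≤ 2 := by split_ifs <;> omega
  cases t
  exacts [ht.elim, ht.elim, ⟨by decide, rfl, rfl, rfl, rfl, Nat.zero_le _, one_le_two⟩, ⟨by decide, rfl, rfl, rfl, rfl, h1, h2⟩,
    ⟨by decide, rfl, rfl, rfl, rfl, h1, h2⟩, ⟨by decide, rfl, rfl, rfl, rfl, h1, h2⟩]

theorem gk (p : ℕ) : gX (.C 2) p ≤ 2 := by
  show (if 2 = 2 ∧ p = 2 then 2 else 1) ≤ 2
  split_ifs <;> omega

theorem gk' (p : ℕ) : 16 * gX (.C 2) p ^ 2 ≤ 2 ^ 6 := by
  have := Nat.pow_le_pow_left (gk p) 2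
  omega

theorem fact5 : Fact (Nat.Prime 5) := ⟨Nat.prime_five⟩

attribute [local instance] fact5

section md

variable {t : Kd} {n q p T b : ℕ} {K : Type} [Field K] [Fintype K] {P : Subgroup (GL (Fin n) K)} {G : Prop} {c f : P → ℕ}
  (M : Md t q p T b P G c f) {a : ℕ} (N : Nd (.C 2) p a (Soc P)) (hq : q = p ^ a)
include M N hq

theorem fin (u : P) {e e' x y q0 : ℕ} (h0 : 2 ≤ q0) (h1 : q0 ≤ q) (hx : 0 < x) (h : c u * zz t q * x ≤ y * q ^ e') (he : e' ≤ e)
    (h2 : 3 * e + 11 ≤ dimE t n) (h3 : In t n e x y q0) : G := by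
  have h4 := unif h1 (low_W M.dim M.ord h0 h1) (lD_pos M.dim h0) h2 h3
  have h5 : b ≤ q ^ 11 := by
    refine (M.b_le N).trans ?_
    rw [← hq, pow_succ' q 10]
    exact Nat.mul_le_mul_right _ ((Nat.mul_le_mul_right _ (gk p)).trans (hq ▸ two_mul_le M.prime.two_le a))
  have h6 : q ^ e' ≤ q ^ e := Nat.pow_le_pow_right (by omega) he
  refine M.good u (Nat.le_of_mul_le_mul_right ?_ (Nat.mul_pos (pow_pos M.ct_zz 3) (pow_pos hx 3)))
  calc f u ^ 3 * b * (zz t q ^ 3 * x ^ 3) = (f u * zz t q * x) ^ 3 * b := by ring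
    _ ≤ (y * q ^ e) ^ 3 * q ^ 11 := by
      have h7 : f u * zz t q * x ≤ y * q ^ e := (Nat.mul_le_mul_right _ (Nat.mul_le_mul_right _ (M.fc u))).trans
        (h.trans (Nat.mul_le_mul_left _ h6))
      gcongr
    _ = y ^ 3 * q ^ (3 * e + 11) := by ring
    _ ≤ _ := h4.trans_eq (mul_assoc _ _ _)

/-- **the criterion for an element of odd order** -/
theorem crit (ht : bil t) (h3 : 3 ≤ q) {u : P} {m : ℕ} (hu : u ^ m = 1) (ho : Odd m) (hp : m.Coprime p) (h5 : q = 3 → orderOf u = 5)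
    {D : ℕ} (hD : dm (u : GL (Fin n) K) ≤ D) (h : Ok t n (es t D (ev (u : GL (Fin n) K) 1))) : G := by
  have hc := M.char
  obtain ⟨-, -, f1, f2, f3, f4, f5⟩ := bil_facts ht q (ev (u : GL (Fin n) K) 1)
  have he := es_mono t hD (ev (u : GL (Fin n) K) 1)
  rcases h3.eq_or_lt with h4 | h4
  · subst h4
    obtain ⟨μ, -, h1, -, -, -, -, h2⟩ := M.semi 5 u (by
      rintro rfl
      rcases a with _ | a
      · omega
      · omega) (by norm_num) (h5 rfl)
    have h6 := h2 4 _ (by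
      rw [f2]
      exact orderOf_eq_prime_pow (p := 2) (n := 1) (by decide) (by decide)) rfl
    have h7 : (Finset.univ.filter fun i : ZMod 5 => i ≠ 0 ∧ μ i ≠ 0).card ≤ 4 :=
      (Finset.card_le_card (t := Finset.univ.erase 0) fun i hi => by
        rw [Finset.mem_filter] at hi
        exact Finset.mem_erase.2 ⟨hi.2.1, hi.1⟩).trans (by decide)
    generalize (Finset.univ.filter fun i : ZMod 5 => i ≠ 0 ∧ μ i ≠ 0).card = z at h6 h7
    have h8 : nu t 4 z ≤ 1 := by
      rw [nu, f3, if_neg two_ne_zero]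
      omega
    have h9 : ww t n 3 5 = 1 := if_neg fun h => absurd (f1 ▸ h.1) (by decide)
    rw [h9, f3, h1] at h6
    refine fin M N hq u (by norm_num) le_rfl (by norm_num) ?_ he h.1 h.2.1
    generalize nu t 4 z = ν at h6 h8
    generalize dl t (ev (u : GL (Fin n) K) 1) = δ at h6 f4
    generalize kp t (ev (u : GL (Fin n) K) 1) = κ at h6 f5
    generalize 3 ^ es t (dm (u : GL (Fin n) K)) (ev (u : GL (Fin n) K) 1) = Y at h6 ⊢
    generalize c u * zz t 3 = X at h6 ⊢
    have h10 : κ * Y ≤ 2 * Y := Nat.mul_le_mul_right _ f5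
    rw [one_mul] at h6
    generalize κ * Y = Z at h6 h10
    interval_cases ν <;> interval_cases δ <;> omega
  · have h1 := M.ss u (Or.inr (hp.coprime_dvd_left (orderOf_dvd_of_pow_eq_one hu)))
    rw [e2_odd M.prime (show (u : GL (Fin n) K) ^ m = 1 from congrArg Subtype.val hu) ho] at h1
    rcases Nat.mod_two_eq_zero_or_one q with h6 | h6
    · have h7 : Nat.gcd n (zz t q) = 1 := by
        rw [f1, show Nat.gcd 2 (q - 1) = 1 from Nat.coprime_two_left.2 (Nat.odd_iff.2 (by omega)), Nat.gcd_one_right]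
      rw [h7, one_mul] at h1
      exact fin M N hq u (by norm_num) h4 (by positivity)
        ((ratio (q0 := 4) (by norm_num) (Or.inr h4) le_rfl h1).trans_eq (by ring)) he h.1 h.2.2.1
    · have h7 : 5 ≤ q := by omega
      refine fin M N hq u (by norm_num) h7 (by positivity)
        ((ratio (q0 := 5) (by norm_num) (Or.inr h7) le_rfl h1).trans ?_) he h.1 h.2.2.2
      rw [mul_right_comm]
      gcongr
      exact gcd_le_wmax M.dim

omit hq in
theorem two_dvd : 2 ∣ Nat.card (Soc P) := by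
  have h1 := N.ord_S
  change Nat.gcd 2 (p ^ a - 1) * _ = (p ^ a) ^ (2 ^ 2) * ∏ i ∈ Finset.range 2, _ at h1
  rw [Finset.prod_range_succ, Finset.prod_range_one] at h1
  generalize p ^ a = s at h1
  have h2 : 2 * 2 ∣ Nat.gcd 2 (s - 1) * Nat.card (Soc P) := by
    rw [h1]
    rcases Nat.even_or_odd s with h | h
    · exact Dvd.dvd.mul_right ((pow_dvd_pow 2 (show 2 ≤ 2 ^ 2 by norm_num)).trans (pow_dvd_pow_of_dvd h.two_dvd _)) _
    · exact Dvd.dvd.mul_left (Nat.mul_dvd_mul (Nat.Odd.sub_odd h.pow odd_one).two_dvd (Nat.Odd.sub_odd h.pow odd_one).two_dvd) _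
  exact Nat.dvd_of_mul_dvd_mul_left two_pos (h2.trans (Nat.mul_dvd_mul_right (Nat.gcd_dvd_left _ _) _))

/-- **the field of the module is the field of the group** -/
theorem one (ht : bil t) {E : Type} [Field E] [Fintype E] (hE : Fintype.card E = q) (h3 : 3 ≤ q) (e : Soc P ≃* PSp 2 E)
    (hn : n = 10 ∨ (n = 12 ∧ t = .S) ∨ 13 ≤ n) : G := by
  have hc := M.char
  have hC := M.core
  obtain ⟨f0, f1, -⟩ := bil_facts ht q 0
  have hK : Fintype.card K = q := M.card.trans f1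
  have hs : p ^ a ≤ Fintype.card K ^ 1 := by rw [hK, pow_one, hq]
  rcases Nat.lt_or_ge n 22 with h22 | h22
  swap
  · refine M.ct_sc N hs (gk' p) ?_
    show _ + 2 * (1 * (10 + 1)) + _ ≤ _
    have h1 : 22 * n ≤ n ^ 2 := by rw [sq]; exact Nat.mul_le_mul_right _ h22
    rcases h22.eq_or_lt with rfl | h23
    · norm_num
    have h2 : 23 * n ≤ n ^ 2 := by rw [sq]; exact Nat.mul_le_mul_right _ h23
    omega
  obtain ⟨m, x, y, ho, hm, h5, hx, hy, hg⟩ := gen (F := E) (by omega) (Nat.card_congr e.toEquiv ▸ two_dvd M N)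
  rw [hE] at hm h5
  have : NeZero m := ⟨ho.pos.ne'⟩
  have h1 : ((q : ZMod m)) ^ 2 = -1 := by
    have h2 := (ZMod.natCast_eq_zero_iff _ _).2 hm
    push_cast at h2
    exact eq_neg_of_add_eq_zero_left h2
  have h2 : ∀ i : ZMod m, 2 * i = 0 → i = 0 := fun i hi =>
    ((ZMod.isUnit_iff_coprime 2 m).2 (Nat.coprime_two_left.2 ho)).mul_right_eq_zero.1 (by exact_mod_cast hi)
  have hu : ∀ z : ℕ, (∀ i : ZMod m, z * i = 0 → i = 0) → m.Coprime z := fun z hz =>
    ((ZMod.isUnit_iff_coprime z m).1 (IsLeftRegular.isUnit_of_finite (isLeftRegular_iff_right_eq_zero_of_mul.2 hz))).symm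
  have hmq : m.Coprime q := hu q fun i hi => by linear_combination -(q : ZMod m) * hi + i * h1
  have hmK : m.Coprime (Fintype.card K - 1) := hu _ fun i hi => h2 i (by
    rw [hK, Nat.cast_sub (by omega), Nat.cast_one] at hi
    linear_combination -((q : ZMod m) + 1) * hi + i * h1)
  have hmp : m.Coprime p := by
    obtain ⟨k, hk, rfl⟩ := M.pow
    exact hmq.coprime_dvd_right (dvd_pow_self _ hk.ne')
  obtain ⟨u, hu1, hu2⟩ := lift hmK (g := e.symm x) (by rw [← map_pow, hx, map_one])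
  obtain ⟨v, hv⟩ := toSoc_surjective P (e.symm y)
  have hv2 : toSoc P v ^ 2 = 1 := by rw [hv, ← map_pow, hy, map_one]
  have hgen : Subgroup.closure ({toSoc P u, toSoc P v} : Set (Soc P)) = ⊤ := by
    rw [hu1, hv]
    have h6 := Subgroup.map_top_of_surjective e.symm.toMonoidHom e.symm.surjective
    rwa [← hg, MonoidHom.map_closure, Set.image_pair] at h6
  have h6 := half_le hC hgen hv2
  obtain ⟨μ, hμ⟩ := exists_muD hC M.prime hmp hu2
  obtain ⟨i0, hi0⟩ : ∃ i : ZMod m, i ≠ 0 := by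
    by_contra hcon
    push Not at hcon
    have h7 := hμ.sum
    rw [Finset.sum_eq_single 0 (fun i _ hi => absurd (hcon i) hi) (fun h => absurd (Finset.mem_univ _) h), hμ.zero] at h7
    omega
  let g := ZMod.unitOfCoprime q hmq.symm
  have hg1 : (g : ZMod m) = q := rfl
  have hg4 : orderOf g = 2 ^ (1 + 1) := orderOf_eq_prime_pow (fun h => hi0 (h2 _ (by
      have h7 : ((g ^ 2 ^ 1 : (ZMod m)ˣ) : ZMod m) = 1 := by rw [h]; rfl
      rw [Units.val_pow_eq_pow_val, hg1] at h7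
      linear_combination i0 * h1 - i0 * h7))) (Units.ext (by
      rw [Units.val_pow_eq_pow_val, hg1, Units.val_one]
      linear_combination ((q : ZMod m) ^ 2 - 1) * h1))
  obtain ⟨k, l, e1, e2, e3⟩ := orb hμ g (by rw [hK, hg1]) (fun z hz i hi e => by
    obtain ⟨j, rfl⟩ := mem_powers_iff_mem_zpowers.2 hz
    change ((g ^ j : (ZMod m)ˣ) : ZMod m) * i = i at e
    change g ^ j = 1
    rw [← pow_mod_orderOf, hg4] at e ⊢
    rw [Units.val_pow_eq_pow_val, hg1] at e
    have h7 : j % 2 ^ (1 + 1) < 4 := Nat.mod_lt _ (by norm_num)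
    generalize j % 2 ^ (1 + 1) = r at e h7
    interval_cases r
    · exact pow_zero _
    · exact absurd (h2 i (by linear_combination -((q : ZMod m) + 1) * e + i * h1)) hi
    · exact absurd (h2 i (by linear_combination -e + i * h1)) hi
    · exact absurd (h2 i (by linear_combination ((q : ZMod m) - 1) * e + (i - (q - 1) * q * i) * h1)) hi) (h := 4) hg4
  have h7 : q = 3 → orderOf u = 5 := fun h => by
    refine orderOf_eq_prime (h5 h ▸ hu2) fun h8 => ?_
    have h9 : ev (u : GL (Fin n) K) 1 = n := by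
      rw [h8, ev, OneMemClass.coe_one, Units.val_one, Matrix.toLin'_one,
        show End.eigenspace (LinearMap.id : End K (Fin n → K)) 1 = ⊤ from
          eq_top_iff.2 fun w _ => End.mem_eigenspace_iff.2 (one_smul _ _).symm, finrank_top, Module.finrank_fin_fun]
    omega
  have h8 := table t f0 n h22 k (by omega) hn (by
    have hd := M.dim
    cases t
    exacts [ht.elim, ht.elim, iff_of_false (by decide) (by have := hd.2; omega), iff_of_true rfl hd.2.1,
      iff_of_false (by decide) (by have := hd.2; omega), iff_of_false (by decide) (by have := hd.2; omega)]) (by omega) (by omega)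
  rw [show n - 4 * k = ev (u : GL (Fin n) K) 1 by omega] at h8
  by_cases h9 : n = 16 ∧ k = 2
  · rw [if_pos h9] at h8
    obtain ⟨rfl, rfl⟩ := h9
    rw [show ev (u : GL (Fin 16) K) 1 = 8 by omega] at e2
    rcases Nat.lt_or_ge l 3 with h10 | h10
    · exact crit M N hq ht h3 hu2 ho hmp h7 (by omega) h8
    · have h11 := scott2 hC hgen
      have h12 := low two_pos hv2
      exact M.ct_dm N hs (gk' p) (u * v) (D := 54) (by omega) (by decide)
  · rw [if_neg h9] at h8
    exact crit M N hq ht h3 hu2 ho hmp h7 (by omega) h8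

end md

end Cfsg.Agent.N2C.RD.C2
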