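import Cfsg.Agent.N2.Cl.RD.CbRow
import Cfsg.Agent.N2.Cl.RD.A3

/-!
# N2 (S3519), defining characteristic, `PSp₆` and `Ω₇`: numbers (helper36)

* `exists_syl` : the normaliser of a subgroup of prime order in a cyclic Sylow subgroup;
* `mid` : `13 ≤ n ≤ 24`;  `eight` : `n = 8`.
-/

set_option autoImplicit false
set_option linter.unusedSectionVars false

namespace Cfsg.Agent.N2C.RD.C3

open Cfsg Cfsg.Geo Cfsg.Agent.H902 Cfsg.Agent.N2C.Cyc Cfsg.Agent.N2C.RX Cfsg.Agent.H915.LD Subgroup Module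

section syl

variable {N : Type*} [Group N] [Finite N]

theorem mem_zp {g x : N} {r e : ℕ} (hr : r.Prime) (hg : orderOf g = r ^ (e + 1)) (hx : x ∈ zpowers g) (h : x ^ r = 1) :
    ∃ j : ℕ, x = (g ^ r ^ e) ^ j := by
  obtain ⟨k, rfl⟩ := (mem_powers_iff_mem_zpowers.2 hx : x ∈ Submonoid.powers g)
  change (g ^ k) ^ r = 1 at h
  rw [← pow_mul, ← orderOf_dvd_iff_pow_eq_one, hg, pow_succ] at h
  obtain ⟨j, rfl⟩ := Nat.dvd_of_mul_dvd_mul_right hr.pos h
  exact ⟨j, pow_mul _ _ _⟩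

theorem exists_syl {g : N} {r m R : ℕ} (hr : r.Prime) (h7 : 7 ≤ r) (hg : orderOf g = m) (hm : r ∣ m) (hN : Nat.card N = m * R)
    (hR : R ≡ 6 [MOD r]) : ∃ u : N, orderOf u = r ∧ (∀ x : N, orderOf x = r → ∃ j : ℕ, IsConj x (u ^ j)) ∧
      6 * m ≤ Nat.card (normalizer (zpowers u : Set N)) := by
  have := Fact.mk hr
  have hm0 : m ≠ 0 := hg ▸ (orderOf_pos g).ne'
  have hR0 : ¬ r ∣ R := fun h => by
    have := Nat.le_of_dvd (by norm_num) ((Nat.modEq_zero_iff_dvd).1 (hR.symm.trans ((Nat.modEq_zero_iff_dvd).2 h)))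
    omega
  obtain ⟨e, m', h1, h2⟩ := Nat.exists_eq_pow_mul_and_not_dvd hm0 r hr.ne_one
  obtain ⟨e, rfl⟩ : ∃ e', e = e' + 1 := ⟨e - 1, by
    rcases e with _ | e
    · rw [pow_zero, one_mul] at h2
      exact absurd (h2 ▸ hm) h1
    · rfl⟩
  have hm' : m' ≠ 0 := by
    rintro rfl
    exact h1 (dvd_zero r)
  have h3 : orderOf (g ^ m') = r ^ (e + 1) := by
    rw [orderOf_pow_of_dvd hm' (by rw [hg, h2]; exact dvd_mul_left _ _), hg, h2, Nat.mul_div_cancel _ (Nat.pos_of_ne_zero hm')]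
  let S : Sylow r N := Sylow.ofCard (zpowers (g ^ m')) (by
    rw [Nat.card_zpowers, h3, hN, h2, mul_assoc, Nat.factorization_mul (pow_ne_zero _ hr.ne_zero) (by
      rintro h
      exact (hr.dvd_mul.1 (h ▸ dvd_zero r)).elim h1 hR0), Finsupp.add_apply, hr.factorization_pow, Finsupp.single_eq_same,
      Nat.factorization_eq_zero_of_not_dvd fun h => (hr.dvd_mul.1 h).elim h1 hR0, add_zero])
  have hS : (S : Subgroup N) = zpowers (g ^ m') := rfl
  have h4 : orderOf ((g ^ m') ^ r ^ e) = r := by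
    rw [orderOf_pow_of_dvd (pow_ne_zero _ hr.ne_zero) (by rw [h3]; exact pow_dvd_pow _ e.le_succ), h3, pow_succ,
      Nat.mul_div_cancel_left _ (pow_pos hr.pos e)]
  refine ⟨_, h4, fun x hx => ?_, ?_⟩
  · obtain ⟨Q, hQ⟩ := (IsPGroup.of_card (p := r) (n := 1) (G := zpowers x) (by rw [Nat.card_zpowers, hx, pow_one])).exists_le_sylow
    obtain ⟨c, hc⟩ := MulAction.exists_smul_eq N Q S
    have h5 : c * x * c⁻¹ ∈ zpowers (g ^ m') := by
      rw [← hS, ← hc]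
      exact ⟨x, hQ (mem_zpowers x), rfl⟩
    obtain ⟨j, hj⟩ := mem_zp hr h3 h5 (by rw [conj_pow, ← hx, pow_orderOf_eq_one, mul_one, mul_inv_cancel])
    exact ⟨j, isConj_iff.2 ⟨c, hj⟩⟩
  · have h5 : normalizer ((S : Subgroup N) : Set N) ≤ normalizer (zpowers ((g ^ m') ^ r ^ e) : Set N) := by
      have key : ∀ y ∈ normalizer ((S : Subgroup N) : Set N), ∀ x ∈ zpowers ((g ^ m') ^ r ^ e),
          y * x * y⁻¹ ∈ zpowers ((g ^ m') ^ r ^ e) := fun y hy x hx => by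
        obtain ⟨j, hj⟩ := mem_zp hr h3 ((mem_normalizer_iff.1 hy x).1 (zpowers_le.2 (pow_mem (mem_zpowers _) _) hx)) (by
          obtain ⟨k, rfl⟩ := mem_zpowers_iff.1 hx
          rw [conj_pow, ← zpow_natCast, ← zpow_mul, mul_comm k, zpow_mul, zpow_natCast]
          nth_rewrite 2 [← h4]
          rw [pow_orderOf_eq_one, one_zpow, mul_one, mul_inv_cancel])
        rw [hj]
        exact pow_mem (mem_zpowers _) _
      intro y hy
      refine mem_normalizer_iff.2 fun x => ⟨key y hy x, fun h => ?_⟩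
      have := key _ (inv_mem hy) _ h
      rwa [show y⁻¹ * (y * x * y⁻¹) * y⁻¹⁻¹ = x by group] at this
    have h6 : zpowers g ≤ normalizer ((S : Subgroup N) : Set N) := by
      rw [zpowers_le, hS]
      refine centralizer_le_normalizer _ fun x hx => ?_
      obtain ⟨k, rfl⟩ := mem_zpowers_iff.1 hx
      exact (((Commute.refl g).pow_left m').zpow_left k).eq
    obtain ⟨k, hk⟩ := card_dvd_of_le h6
    rw [Nat.card_zpowers, hg] at hk
    have h7 := (normalizer ((S : Subgroup N) : Set N)).card_mul_index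
    have h7' : Nat.card (Sylow r N) = (normalizer ((S : Subgroup N) : Set N)).index := S.card_eq_index_normalizer
    rw [hk, hN, mul_assoc, ← h7'] at h7
    have h8 := (card_sylow_modEq_one r N).mul_left k
    rw [Nat.eq_of_mul_eq_mul_left (Nat.pos_of_ne_zero hm0) h7, mul_one] at h8
    have h9 : 6 ≤ k := by
      have h10 : 6 % r = k % r := hR.symm.trans h8
      rw [Nat.mod_eq_of_lt (by omega)] at h10
      exact h10.trans_le (Nat.mod_le _ _)
    refine le_trans ?_ (card_le_of_le h5)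
    rw [hk, mul_comm]
    exact Nat.mul_le_mul_left _ h9

end syl

/-- the prime -/
structure Pr (q r : ℕ) : Prop where
  prime : r.Prime
  two : r ≠ 2
  three : r ≠ 3
  dvd : r ∣ q ^ 2 + q + 1

namespace Pr

variable {q r : ℕ} (h : Pr q r)
include h

theorem eq : (q : ZMod r) ^ 2 + q + 1 = 0 := by exact_mod_cast (ZMod.natCast_eq_zero_iff _ r).2 h.dvd

theorem ord : orderOf (q : ZMod r) = 3 := by
  have := Fact.mk h.prime
  have := Fact.mk Nat.prime_three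
  have h1 := h.eq
  have k3 : (3 : ZMod r) ≠ 0 := fun e =>
    h.three ((Nat.prime_dvd_prime_iff_eq h.prime Nat.prime_three).1 ((ZMod.natCast_eq_zero_iff 3 r).1 (by exact_mod_cast e)))
  exact orderOf_eq_prime (by grind) (by grind)

theorem seven : 7 ≤ r := by
  have := Fact.mk h.prime
  have h1 : orderOf (q : ZMod r) ∣ r - 1 := ZMod.orderOf_dvd_card_sub_one fun e => by
    have := h.eq
    rw [e] at this
    simp at this
  rw [h.ord] at h1
  have h2 := h.prime.two_le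
  have h3 := h.two
  have h4 := h.three
  have h5 : r ≠ 4 := fun e => absurd (e ▸ h.prime) (by norm_num)
  omega

theorem ne {p a : ℕ} (ha : 0 < a) (hq : q = p ^ a) : r ≠ p := by
  rintro rfl
  subst hq
  exact h.prime.one_lt.ne' (Nat.dvd_one.1 ((Nat.dvd_add_right (dvd_add (dvd_pow (dvd_pow_self _ ha.ne') two_ne_zero)
    (dvd_pow_self _ ha.ne'))).1 h.dvd))

theorem le {d : ℕ} (h0 : 0 < d) (hq : 1 ≤ q) (hd : r ∣ q ^ d - 1) : 3 ≤ d := by
  refine Nat.le_of_dvd h0 (h.ord ▸ orderOf_dvd_of_pow_eq_one ?_)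
  have h1 := (ZMod.natCast_eq_zero_iff _ r).2 hd
  rw [Nat.cast_sub (Nat.one_le_pow _ _ hq), Nat.cast_pow, Nat.cast_one] at h1
  exact sub_eq_zero.1 h1

theorem six (hq : 1 ≤ q) : q ^ 9 * ((q ^ 2 - 1) * (q ^ 4 - 1) * (q ^ 3 + 1)) ≡ 6 [MOD r] := by
  rw [← ZMod.natCast_eq_natCast_iff]
  have h1 := h.eq
  push_cast [Nat.cast_sub (Nat.one_le_pow _ _ hq)]
  have h2 : (q : ZMod r) ^ 3 = 1 := by grind
  have h3 : (q : ZMod r) ^ 9 = 1 := by rw [show 9 = 3 * 3 from rfl, pow_mul, h2, one_pow]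
  rw [h3, pow_succ _ 3, h2]
  grind

end Pr

theorem exists_pr {p a : ℕ} {N : Type} [Group N] (hp : p.Prime) (D : Nd (.C 3) p a N) :
    ∃ r, Pr (p ^ a) r ∧ ¬ r * Nat.card N ∣ Nat.card (MulAut N) := by
  have ha := D.real.hf
  by_cases h : p = 2 ∧ a * 3 = 6
  · obtain ⟨rfl, h⟩ := h
    obtain rfl : a = 2 := by omega
    exact ⟨7, ⟨by norm_num, by norm_num, by norm_num, by norm_num⟩, D.not_dvd_of (by norm_num) (by norm_num) (by norm_num)
      (by decide)⟩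
  obtain ⟨r, hr, ho, -, h5, -, -, h6⟩ := D.ppd (k := 3) ⟨by norm_num, Or.inl le_rfl⟩ (by omega) h
  refine ⟨r, ⟨hr, by omega, by omega, ?_⟩, h6⟩
  have hd := H370.Rg.dvd_q_pow_sub hr ho (by omega)
  have h3 := (hd 3).2 dvd_rfl
  obtain ⟨s, hs⟩ : ∃ s, p ^ a = s + 1 := ⟨p ^ a - 1, (Nat.sub_add_cancel (Nat.one_le_pow _ _ hp.pos)).symm⟩
  have h4 := (hd 1).1
  rw [hs] at h3 h4 ⊢
  rw [show (s + 1) ^ 3 = s * ((s + 1) ^ 2 + (s + 1) + 1) + 1 by ring, Nat.add_sub_cancel] at h3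
  rw [pow_one, Nat.add_sub_cancel] at h4
  exact (hr.dvd_mul.1 h3).resolve_left fun h => absurd (h4 h) (by norm_num)

section md

variable {t : Kd} {n q p T b : ℕ} {K : Type} [Field K] [Fintype K] {P : Subgroup (GL (Fin n) K)} {G : Prop} {c f : P → ℕ}

theorem ev_lt {u : GL (Fin n) K} (hu : u ≠ 1) : ev u 1 < n := by
  refine (Submodule.finrank_lt fun h => hu (Units.ext (Matrix.toLin'.injective (LinearMap.ext fun v => ?_)))).trans_eq
    (finrank_fin_fun K)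
  rw [Module.End.mem_eigenspace_iff.1 (h ▸ Submodule.mem_top : v ∈ _), one_smul, Units.val_one, Matrix.toLin'_one]
  rfl

theorem bil_of (M : Md0 t q p T b P G c f) (h : SD P) : t = .S ∨ t = .O ∨ t = .P ∨ t = .M := by
  have h1 := M.frm
  cases t
  · exact (h1 h).elim
  · exact (h1.2 h).elim
  all_goals simp

variable (M : Md t q p T b P G c f) (hS : SD P) {r : ℕ} (h : Pr q r) {u : P} (hu : orderOf u = r)
include M hS h hu

theorem semi3 : c u * Nat.gcd 2 (q - 1) * q ^ dl t (ev (u : GL (Fin n) K) 1) ≤ kp t (ev (u : GL (Fin n) K) 1) *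
    q ^ es t (dm (u : GL (Fin n) K)) (ev (u : GL (Fin n) K) 1) * (q + 1) ^ dl t (ev (u : GL (Fin n) K) 1) := by
  have := Fact.mk h.prime
  have h7 := h.seven
  obtain ⟨a, ha, hq⟩ := M.pow
  obtain ⟨μ, -, h0, -, -, -, -, h1⟩ := M.semi r u (h.ne ha hq) (by omega) hu
  have h2 : ¬ r ∣ Nat.gcd 2 (q - 1) := fun e => by
    have := Nat.le_of_dvd two_pos (e.trans (Nat.gcd_dvd_left _ _))
    omega
  rw [h0] at h1
  rcases bil_of M.toMd0 hS with rfl | rfl | rfl | rfl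
  all_goals
    have h3 := h1 3 _ (by simpa [fr] using h.ord) rfl
    simpa [RX.eq, nu, ww, zz, h2] using h3

theorem c_le3 : c u ≤ q ^ (es t (dm (u : GL (Fin n) K)) (ev (u : GL (Fin n) K) 1) + 2) := by
  have h1 := semi3 M hS h hu
  have hq := M.q_ge
  have h2 : kp t (ev (u : GL (Fin n) K) 1) ≤ 2 := by
    cases t <;> simp only [kp] <;> first | omega | (split_ifs <;> omega)
  have h3 : dl t (ev (u : GL (Fin n) K) 1) = 0 ∨ dl t (ev (u : GL (Fin n) K) 1) = 1 := by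
    cases t <;> simp only [dl] <;> first | (split_ifs <;> omega) | simp
  have h4 : c u ≤ c u * Nat.gcd 2 (q - 1) := Nat.le_mul_of_pos_right _ (Nat.gcd_pos_of_pos_left _ two_pos)
  rw [pow_add]
  generalize q ^ es t (dm (u : GL (Fin n) K)) (ev (u : GL (Fin n) K) 1) = x at h1 ⊢
  have h5 : 2 * (q + 1) ≤ q ^ 2 * q := by nlinarith [Nat.mul_le_mul hq hq]
  rcases h3 with h3 | h3 <;> rw [h3] at h1
  · rw [pow_zero, pow_zero, mul_one, mul_one] at h1
    calc c u ≤ 2 * x := h4.trans (h1.trans (Nat.mul_le_mul_right _ h2))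
      _ ≤ _ := by nlinarith
  · rw [pow_one, pow_one] at h1
    refine Nat.le_of_mul_le_mul_right ?_ (show 0 < q by omega)
    calc c u * q ≤ 2 * x * (q + 1) := (Nat.mul_le_mul_right _ h4).trans (h1.trans (by gcongr))
      _ = x * (2 * (q + 1)) := by ring
      _ ≤ x * (q ^ 2 * q) := Nat.mul_le_mul_left _ h5
      _ = _ := by ring

theorem p6' : 6 * dm (u : GL (Fin n) K) ≤ 6 * ev (u : GL (Fin n) K) 1 ^ 2 + (n - ev (u : GL (Fin n) K) 1) ^ 2 ∧
    6 ∣ n - ev (u : GL (Fin n) K) 1 := by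
  obtain ⟨a, ha, hq⟩ := M.pow
  exact A3.p6 M.toMd0 (by rcases bil_of M.toMd0 hS with rfl | rfl | rfl | rfl <;> simp) h.prime h.two h.three h.dvd (h.ne ha hq)
    (hu ▸ pow_orderOf_eq_one u)

/-- **the middle dimensions** -/
theorem mid {a : ℕ} (N : Nd (.C 3) p a (Soc P)) (hq : q = p ^ a) (h1 : 13 ≤ n) (h2 : n ≤ 24)
    (h3 : ev (u : GL (Fin n) K) 1 + 7 ≤ n) : G := by
  have hk := Cb.gk (m := 3) le_rfl p
  have h4 := c_le3 M hS h hu
  obtain ⟨h5, k, h6⟩ := p6' M hS h hu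
  have hq2 := M.q_ge
  have key := fun x hx => Cb.ct_c M.toMd0 N (e := 1) (x := x) (by rw [hq, pow_one]) hk hx u h4
  have h7 := Gn.low hq2 M.dim M.ord
  have h8 := M.dim
  have h9 := M.ord
  generalize dm (u : GL (Fin n) K) = d at h5 key
  generalize ev (u : GL (Fin n) K) 1 = e at h3 h5 h6 key
  rcases bil_of M.toMd0 hS with rfl | ht
  · obtain ⟨m, rfl⟩ : ∃ m, n = 2 * m := ⟨n / 2, by have := h8.2; omega⟩
    refine key (2 * (2 * m ^ 2 + m)) ?_ ?_
    · have h10 := oSp_ge' hq2 m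
      have h11 : Nat.gcd 2 (q - 1) * T = oSp (2 * m / 2) q := h9
      rw [Nat.mul_div_cancel_left _ two_pos] at h11
      have h12 : Nat.gcd 2 (q - 1) * T ≤ 2 * T := Nat.mul_le_mul_right _ (Nat.gcd_le_left _ two_pos)
      rw [mul_comm 2, pow_mul]
      have h13 : q ^ (2 * m ^ 2 + m) ≤ 8 * T := by omega
      exact (Nat.pow_le_pow_left h13 2).trans_eq (by ring)
    · show 6 * ((d + e) / 2 + 2) + 2 * (1 * (21 + 1)) + 4 ≤ _
      clear key h7 h8 h9 h4 N M hu hS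
      obtain rfl : e = 2 * m - 6 * k := by omega
      have h10 : 2 ≤ k := by omega
      have h11 : k ≤ 4 := by omega
      have h12 : m ≤ 12 := by omega
      have h13 : 7 ≤ m := by omega
      interval_cases m <;> interval_cases k <;> omega
  · refine key (n * (n - 1)) (by rcases ht with rfl | rfl | rfl <;> exact h7) ?_
    have h10 : es t d e = (d - e) / 2 := by rcases ht with rfl | rfl | rfl <;> rfl
    rw [h10]
    show 6 * ((d - e) / 2 + 2) + 2 * (1 * (21 + 1)) + 4 ≤ _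
    clear key h7 h8 h9 h4 N M hu hS h10
    obtain rfl : e = n - 6 * k := by omega
    have h10 : 2 ≤ k := by omega
    have h11 : k ≤ 4 := by omega
    interval_cases n <;> interval_cases k <;> omega

end md

section eight

variable {t : Kd} {q p T b : ℕ} {K : Type} [Field K] [Fintype K] {P : Subgroup (GL (Fin 8) K)} {G : Prop} {c f : P → ℕ}

theorem gcd_le {q x : ℕ} (hq : 2 ≤ q) (h : x = q ^ 4 - 1 ∨ x = q ^ 4 + 1) : Nat.gcd 4 x ≤ 2 * Nat.gcd 2 (q - 1) := by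
  rcases Nat.even_or_odd' q with ⟨k, rfl | rfl⟩
  · have h1 : 0 < Nat.gcd 2 (2 * k - 1) := Nat.gcd_pos_of_pos_left _ two_pos
    have h2 : (2 * k) ^ 4 = 4 * (4 * k ^ 4) := by ring
    have h3 : 0 < k ^ 4 := pow_pos (by omega) _
    have h4 : x % 4 = 3 ∨ x % 4 = 1 := by omega
    rw [Au.gcd_four]
    rcases h4 with h4 | h4 <;> rw [h4] <;> norm_num <;> omega
  · rw [Nat.add_sub_cancel, Nat.gcd_mul_right_right]
    exact Nat.gcd_le_left _ (by norm_num)

/-- **the spin module** -/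
theorem eight (M : Md t q p T b P G c f) {a : ℕ} (N : Nd (.C 3) p a (Soc P)) (hq : q = p ^ a) (hS : SD P) (ht : t ≠ .S)
    {g : Soc P} (hg : q ^ 3 - 1 ∣ Nat.gcd 2 (q - 1) * orderOf g) : G := by
  have hq2 := M.q_ge
  have ht' : t = .P ∨ t = .M := by
    rcases bil_of M.toMd0 hS with rfl | rfl | h
    exacts [absurd rfl ht, absurd M.dim.2.1 (by norm_num), h]
  obtain ⟨r, hr, hA⟩ := exists_pr M.prime N
  rw [← hq] at hr
  have h7 := hr.seven
  have hrp := hr.ne N.real.hf hq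
  obtain ⟨d, hd⟩ : ∃ d, Nat.gcd 2 (q - 1) = d := ⟨_, rfl⟩
  have hd0 : 0 < d := hd ▸ Nat.gcd_pos_of_pos_left _ two_pos
  have hd2 : d ≤ 2 := hd ▸ Nat.gcd_le_left _ two_pos
  have h3 : q ^ 3 - 1 = (q - 1) * (q ^ 2 + q + 1) := by
    obtain ⟨s, rfl⟩ : ∃ s, q = s + 1 := ⟨q - 1, by omega⟩
    rw [show (s + 1) ^ 3 = s * ((s + 1) ^ 2 + (s + 1) + 1) + 1 by ring, Nat.add_sub_cancel, Nat.add_sub_cancel]
  obtain ⟨m0, hm0⟩ : d ∣ q - 1 := hd ▸ Nat.gcd_dvd_right _ _
  obtain ⟨m, hm⟩ : ∃ m, m0 * (q ^ 2 + q + 1) = m := ⟨_, rfl⟩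
  have h4 : q ^ 3 - 1 = d * m := by rw [h3, hm0, ← hm, mul_assoc]
  rw [hd, h4] at hg
  obtain ⟨k, hk⟩ := Nat.dvd_of_mul_dvd_mul_left hd0 hg
  have hk0 : k ≠ 0 := by
    rintro rfl
    exact (orderOf_pos g).ne' hk
  have hPP : PP 3 q = (q ^ 2 - 1) * (q ^ 4 - 1) * ((q ^ 3 + 1) * (q ^ 3 - 1)) := by
    rw [← Nat.sq_sub_sq (q ^ 3) 1, ← pow_mul]
    simp [PP, Finset.prod_range_succ]
  have hN : d * Nat.card (Soc P) = q ^ 9 * PP 3 q := by
    have h5 := N.ord_S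
    rw [← hq] at h5
    exact hd ▸ h5
  obtain ⟨u', h5, h6, h8⟩ := exists_syl (g := g ^ k) (m := m) hr.prime h7 (by
    rw [orderOf_pow_of_dvd hk0 (hk ▸ dvd_mul_left _ _), hk, Nat.mul_div_cancel _ (Nat.pos_of_ne_zero hk0)])
    (hm ▸ hr.dvd.mul_left _) (Nat.eq_of_mul_eq_mul_left hd0 (by rw [hN, hPP, h4]; ring)) (hr.six (by omega))
  obtain ⟨u, rfl, hu⟩ := exists_lift hr.prime (not_dvd_scal M.core hr.prime (Or.inl fun h => by
    have h9 := (Nat.prime_dvd_prime_iff_eq hr.prime Nat.prime_two).1 (hr.prime.dvd_of_dvd_pow (n := 3) h)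
    omega)) h5
  have h9 := M.fsyl u r hr.prime hrp (fun h => by
    have h9 : r ∣ d := by rcases ht' with rfl | rfl <;> exact hd ▸ h
    have := Nat.le_of_dvd hd0 h9
    omega) hu (fun h => hA (h.trans M.ba)) h6
  have h10 := semi3 M hS hr hu
  obtain ⟨h11, h12⟩ := p6' M hS hr hu
  have h13 : ev (u : GL (Fin 8) K) 1 < 8 := ev_lt fun h => by
    rw [show u = 1 from Subtype.ext h, orderOf_one] at hu
    omega
  obtain h14 : ev (u : GL (Fin 8) K) 1 = 2 := by omega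
  rw [h14] at h9 h10 h11
  have h15 : c u * d ≤ 2 * q ^ 3 * (q + 1) := by
    refine Nat.le_of_mul_le_mul_right ?_ (show 0 < q by omega)
    have h16 : q ^ ((dm (u : GL (Fin 8) K) - 2) / 2) ≤ q ^ 4 := Nat.pow_le_pow_right (by omega) (by omega)
    have h17 : c u * d * q ^ 1 ≤ 2 * q ^ ((dm (u : GL (Fin 8) K) - 2) / 2) * (q + 1) ^ 1 := by
      rcases ht' with rfl | rfl <;> exact hd ▸ h10
    rw [pow_one, pow_one] at h17
    calc _ ≤ 2 * q ^ 4 * (q + 1) := h17.trans (by gcongr)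
      _ = _ := by ring
  obtain ⟨β, hβ⟩ := M.nb
  have hN0 := N.pos
  have hβ0 : 0 < β := Nat.pos_of_ne_zero fun h => by
    rw [h, mul_zero] at hβ
    have h16 := M.ba
    rw [hβ] at h16
    exact N.aut_pos.ne' (zero_dvd_iff.1 h16)
  have h16 : f u * β ≤ 2 * q + 2 := by
    have h17 : f u * β * m ≤ c u := by
      refine Nat.le_of_mul_le_mul_right ?_ (Nat.mul_pos (show 0 < 6 by norm_num) hN0)
      calc f u * β * m * (6 * Nat.card (Soc P)) = f u * (6 * m) * b := by rw [hβ]; ring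
        _ ≤ _ := le_trans (by gcongr) h9
        _ = _ := by ring
    have h18 : f u * β * (q ^ 3 - 1) ≤ 2 * q ^ 3 * (q + 1) := by
      rw [h4, mul_comm d, ← mul_assoc]
      exact (Nat.mul_le_mul_right _ h17).trans h15
    by_contra h19
    have h20 := (Nat.mul_le_mul_right (q ^ 3 - 1) (show 2 * q + 3 ≤ f u * β by omega)).trans h18
    have h21 : 2 * q + 4 ≤ q ^ 3 := by nlinarith [Nat.mul_le_mul hq2 hq2]
    obtain ⟨x, hx⟩ : ∃ x, q ^ 3 = x + 1 := ⟨q ^ 3 - 1, by omega⟩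
    rw [hx] at h20 h21
    rw [Nat.add_sub_cancel] at h20
    nlinarith
  obtain ⟨x, hx, hT⟩ : ∃ x, (x = q ^ 4 - 1 ∨ x = q ^ 4 + 1) ∧ Nat.gcd 4 x * T = q ^ 3 * x * (d * Nat.card (Soc P)) := by
    have h17 := M.ord
    rw [hN]
    rcases ht' with rfl | rfl
    · exact ⟨_, Or.inl rfl, (show _ = q ^ 12 * (q ^ 4 - 1) * PP 3 q from h17).trans (by ring)⟩
    · exact ⟨_, Or.inr rfl, (show _ = q ^ 12 * (q ^ 4 + 1) * PP 3 q from h17).trans (by ring)⟩
  refine M.good u ?_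
  rcases hq2.eq_or_lt with rfl | hq3
  · obtain ⟨rfl, rfl⟩ : p = 2 ∧ a = 1 := by
      have h17 : p = 2 := (Nat.prime_dvd_prime_iff_eq M.prime Nat.prime_two).1 (hq ▸ dvd_pow_self p (by have := N.real.hf; omega))
      subst h17
      exact ⟨rfl, (Nat.pow_right_injective le_rfl (show 2 ^ 1 = 2 ^ a from hq)).symm⟩
    obtain rfl : r = 7 := (Nat.prime_dvd_prime_iff_eq hr.prime (by norm_num)).1 hr.dvd
    obtain rfl : d = 1 := hd.symm
    obtain rfl : β = 1 := by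
      have h17 := M.ba
      rw [N.aut', hβ, show gX (.C 3) 2 * 1 * Art.dd (.C 3) (2 ^ 1) = 1 from rfl, mul_comm] at h17
      exact Nat.dvd_one.1 (Nat.dvd_of_mul_dvd_mul_right hN0 h17)
    have h17 := M.fmod u 7 hr.prime h5
    rw [mul_one] at hβ h16
    rw [← hβ] at hT
    have hb : 0 < b := hβ ▸ hN0
    rcases hx with rfl | rfl
    · obtain rfl : T = 120 * b := by norm_num at hT; omega
      rw [Nat.mul_div_cancel _ hb, Nat.ModEq] at h17
      rw [show f u = 1 by omega]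
      omega
    · obtain rfl : T = 136 * b := by norm_num at hT; omega
      rw [Nat.mul_div_cancel _ hb, Nat.ModEq] at h17
      rw [show f u = 3 by omega]
      omega
  have h17 : q ^ 3 * (q ^ 4 - 1) * Nat.card (Soc P) ≤ 2 * T := by
    refine Nat.le_of_mul_le_mul_left ?_ hd0
    have h18 := gcd_le hq2 hx
    rw [hd] at h18
    calc d * (q ^ 3 * (q ^ 4 - 1) * Nat.card (Soc P)) = q ^ 3 * (q ^ 4 - 1) * (d * Nat.card (Soc P)) := by ring
      _ ≤ q ^ 3 * x * (d * Nat.card (Soc P)) := by gcongr; omega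
      _ ≤ 2 * d * T := hT.ge.trans (Nat.mul_le_mul_right _ h18)
      _ = _ := by ring
  have h18 : 2 * (2 * q + 2) ^ 3 ≤ q ^ 3 * (q ^ 4 - 1) := by
    have h19 : 3 ^ 4 ≤ q ^ 4 := Nat.pow_le_pow_left hq3 4
    calc 2 * (2 * q + 2) ^ 3 ≤ 2 * (3 * q) ^ 3 := by gcongr; omega
      _ = q ^ 3 * 54 := by ring
      _ ≤ _ := Nat.mul_le_mul_left _ (by omega)
  refine Nat.le_of_mul_le_mul_left ?_ two_pos
  calc 2 * (f u ^ 3 * b) = 2 * (f u ^ 3 * β ^ 1) * Nat.card (Soc P) := by rw [hβ]; ring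
    _ ≤ 2 * (f u ^ 3 * β ^ 3) * Nat.card (Soc P) := by gcongr; omega
    _ ≤ 2 * (2 * q + 2) ^ 3 * Nat.card (Soc P) := by rw [← mul_pow]; gcongr
    _ ≤ _ := (Nat.mul_le_mul_right _ h18).trans h17

end eight

end Cfsg.Agent.N2C.RD.C3
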