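import Cfsg.Agent.N2.Cl.RD.Cb0
import Cfsg.Agent.H924.D5F

/-!
# N2 (S3519), defining characteristic: the spin module of `Ω₇` (helper36)

* `spin_le` : the module of the last node has dimension at most `8` if the root groups of the last node generate;
* `Ex` : the extra property of the frames;  `exists_frB`.
-/

set_option autoImplicit false
set_option linter.unusedSectionVars false

namespace Cfsg.Agent.N2C.RD.C3

open CoxeterSystem Cfsg.Agent.ChevalleyStructure.CoxeterGeom Cfsg.Agent.Tits.Roots Cfsg.Agent.Tits.Core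
  Cfsg.Agent.Nodes.Reps Cfsg.Agent.Nodes.BNOf Cfsg.Agent.Nodes.Bruhat Cfsg.Agent.Nodes.RGDLib Cfsg.Agent.Nodes.StabComb
  Cfsg.Agent.Nodes.OppDec Cfsg.Agent.Nodes.LeviDec Cfsg.Agent.KFacts.RgdOpp
open Cfsg.Agent.Nodes Cfsg.Agent.Nodes.WittRoot Cfsg.Agent.Nodes.WittRGD Cfsg.Agent.Nodes.WittAll Cfsg.Agent.Nodes.WittInst
open Cfsg.Agent.Nodes.TypeC (isCartan ee wt Ok)
open Cfsg.Agent.TitsThree.Siegel Cfsg.Agent.TitsThree.SiegelGen Cfsg.Agent.TitsThree.WittFrame Cfsg.Agent.TitsThree.FrameCN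
  Cfsg.Agent.TitsThree.WBridge Cfsg.Agent.TitsThree.KSideO Cfsg.Agent.TitsThree Cfsg.Agent.TitsThree.StdData
open Cfsg.Agent.LieClassical Cfsg.Agent.LieClassical.OrthCore Cfsg.Agent.LieClassical.OrthTrans
open Cfsg.Agent.LieClassical.OrthSimple Cfsg.Agent.LieClassical.OrthFinite Cfsg.Agent.LieClassical.OrthForms
open Cfsg.Agent.H915.LD Cfsg.Agent.H911 Cfsg.Agent.H905.Md Cfsg.Agent.H925.Nat Cfsg.Agent.Nodes.RGDLift
open Cfsg.Agent.H156.Ppd (Cov lrep exists_cov)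
open Cfsg.Agent.Omega.CR Cfsg.Agent.Omega.FOne.Lift.Sd
open Cfsg Cfsg.Geo QuadraticMap
open scoped MatrixGroups Matrix commutatorElement
open Cfsg.Agent.H948.Ppd Cfsg.Agent.N2C.RD.Cb
open Cfsg.Agent.H924.D5 (rf rww rep_wordProd isRoot_word word_mem_WJ finrank_le_words orbit_of_closed)

/-- the roots conjugate to the last simple root -/
def Sx : List (Fin 3 → ℤ) := [![0, 0, 1], ![0, 2, 1], ![2, 2, 1], ![0, 0, -1], ![0, -2, -1], ![-2, -2, -1]]

theorem Sx_cl : ∀ j, ∀ x ∈ Sx, rf (TypeC.A 3) j x ∈ Sx := by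
  rw [mAB3_eq]
  decide +kernel

theorem Sx_wd : ∀ x ∈ Sx, ∃ ω ∈ [[], [1], [0, 1]], (∀ l, 0 ≤ rww (TypeC.A 3) ω (Pi.single 2 1) l) ∧ (∀ j ∈ ω, j ≠ 2) ∧
    (x = rww (TypeC.A 3) ω (Pi.single 2 1) ∨ x = -rww (TypeC.A 3) ω (Pi.single 2 1)) := by
  rw [mAB3_eq]
  decide +kernel

theorem Sx_ee : ∀ a : Fin 3 × Bool, ∃ x ∈ Sx, ee x = wt a + wt a := by
  decide +kernel

section spin

variable {W Y : Type*} [Group W] [Group Y] {cs : CoxeterSystem (CoxeterMatrix.B 3) W} {p : ℕ} {T : Subgroup Y} {n : Fin 3 → Y}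
  {X : (Fin 3 → ℤ) → Subgroup Y} {k V : Type*} [Field k] [AddCommGroup V] [Module k V]

theorem Sx_rep (w : W) {x : Fin 3 → ℤ} (hx : x ∈ Sx) : rep cs (isCartan 3) w x ∈ Sx := by
  obtain ⟨ω, rfl⟩ := cs.wordProd_surjective w
  rw [rep_wordProd]
  induction ω with
  | nil => exact hx
  | cons j ω ih => exact Sx_cl j _ ih

theorem Sx_root {x : Fin 3 → ℤ} (hx : x ∈ Sx) : IsRoot cs (isCartan 3) x := by
  obtain ⟨ω, -, -, -, rfl | rfl⟩ := Sx_wd x hx
  exacts [isRoot_word ω 2, (isRoot_word ω 2).neg]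

variable (R : RGD cs (isCartan 3) p T n X) [Finite Y] [Finite W] [Fact p.Prime] [CharP k p]
  {ρ : Y →* Module.End k V} [FiniteDimensional k V] [Nontrivial V]
  (hirr : ∀ L : Submodule k V, Ivt ρ (GG cs (isCartan 3) T X) L → L = ⊥ ∨ L = ⊤)
include R hirr

/-- **the spin module** -/
theorem spin_le (hJ : ∀ j, j ∉ Jx cs (isCartan 3) X ρ ↔ j = 2)
    (hd : Module.finrank k (Le cs (isCartan 3) T X ρ {2}) ≤ 2 * Module.finrank k (D cs (isCartan 3) X ρ))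
    (hgen : ∀ H : Subgroup Y, T ≤ H → (∀ x ∈ Sx, X x ≤ H) → H = ⊤) :
    Module.finrank k V ≤ 8 * Module.finrank k (D cs (isCartan 3) X ρ) := by
  choose g hg using fun w => exists_rp cs R.nsys w
  refine finrank_le_words R hirr hJ hg ?_ H924.D5.B.l2
    (orbit_of_closed (cs := cs) (h := isCartan 3) 2 _ ⟨[], by decide, rfl⟩ (H924.D5.B.cl2 (isCartan 3)))
  set V0 := ⨆ w, (D cs (isCartan 3) X ρ).map (ρ (g w)) with hV0
  have hle : ∀ {w : W} {g' : Y}, Rp cs R.nsys w g' → (D cs (isCartan 3) X ρ).map (ρ g') ≤ V0 := fun {w} {g'} hg' =>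
    (map_eq_of_mem R hirr (hg w) hg' (by rw [inv_mul_cancel]; exact one_mem _)).trans
      (le_iSup (fun w => (D cs (isCartan 3) X ρ).map (ρ (g w))) w)
  have key : ∀ K : Subgroup Y, (∀ w, ∀ b ∈ K, ∀ v ∈ D cs (isCartan 3) X ρ, ρ b (ρ (g w) v) ∈ V0) → Ivt ρ K V0 := by
    intro K hK b hb v hv
    have h1 : V0 ≤ V0.comap (ρ b) := iSup_le fun w => by
      rintro _ ⟨m, hm, rfl⟩
      exact hK w b hb m hm
    exact h1 hv
  have hT : Ivt ρ T V0 := by
    refine key T fun w t ht v hv => ?_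
    have h1 : Rp cs R.nsys w (t * g w) := by
      have := (rp_of_mem (cs := cs) (hN := R.nsys) ht).mul (hg w)
      rwa [one_mul] at this
    rw [← rho_mul]
    exact hle h1 ⟨v, hv, rfl⟩
  have hX : ∀ x ∈ Sx, Ivt ρ (X x) V0 := by
    intro x hx
    refine key _ fun w b hb v hv => ?_
    have h1 := R.conj_mem' (hg w) (Sx_root hx) hb
    have hy := Sx_rep (cs := cs) w⁻¹ hx
    have e : ρ b (ρ (g w) v) = ρ (g w) (ρ ((g w)⁻¹ * b * g w) v) := by
      rw [← rho_mul, ← rho_mul]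
      congr 2
      group
    rw [e]
    obtain ⟨ω, -, h0, h2, h4 | h4⟩ := Sx_wd _ hy
    · rw [hv _ (RGD.le_Sup (S := RGD.Pos cs (isCartan 3)) ⟨Sx_root hy, h4 ▸ h0⟩ h1)]
      exact hle (hg w) ⟨v, hv, rfl⟩
    have hu : cs.wordProd ω ∈ WJ cs (Jx cs (isCartan 3) X ρ) := word_mem_WJ fun j hj => by
      by_contra h
      exact h2 j hj ((hJ j).1 h)
    obtain ⟨a, ha⟩ := exists_rp cs R.nsys (cs.wordProd ω)
    rw [h4, ← rep_wordProd (cs := cs) (h := isCartan 3), ← map_neg] at h1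
    have h5 := R.conj_mem' ha ((isRoot_sr cs (isCartan 3) 2).neg.act _) h1
    rw [rep_inv_apply] at h5
    have h6 : ρ a⁻¹ v ∈ D cs (isCartan 3) X ρ := rp_D R hirr (inv_mem hu) ha.inv hv
    have h7 : ρ (a⁻¹ * ((g w)⁻¹ * b * g w) * a) (ρ a⁻¹ v) ∈ Le cs (isCartan 3) T X ρ {2} :=
      Ivt_Le R {2} _ (X_le_LJ (RootsJ.neg (sr_mem_Roots 2)) h5) _ (D_le_Le R {2} h6)
    obtain ⟨c, hcD, d, hdD, e3⟩ := Submodule.mem_sup.1 (edge_le R hirr ((hJ 2).2 rfl) hd h7)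
    have h8 : ρ ((g w)⁻¹ * b * g w) v = ρ a c + ρ a d := by
      rw [← map_add, e3, ← rho_mul, ← rho_mul]
      congr 2
      group
    rw [h8, map_add]
    obtain ⟨d', hd', rfl⟩ := hdD
    refine add_mem ?_ ?_
    · rw [← rho_mul]
      exact hle ((hg w).mul ha) ⟨c, hcD, rfl⟩
    · rw [← rho_mul, ← rho_mul]
      exact hle (((hg w).mul ha).mul (rp_simple cs R.nsys 2)) ⟨d', hd', rfl⟩
  refine (hirr V0 (Ivt_of_le ρ (le_top.trans (hgen _ (Ivt.le_stS hT) fun x hx => Ivt.le_stS (hX x hx)).ge))).resolve_left ?_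
  intro h0
  obtain ⟨c, hc, hc0⟩ := (Submodule.ne_bot_iff _).1 (simp_fx R ρ hirr).ne
  have h1 := hle (hg 1) ⟨c, hc, rfl⟩
  rw [h0, Submodule.mem_bot] at h1
  exact rho_ne_zero ρ _ hc0 h1

end spin

section model

variable {F : Type} [Field F] [Finite F] {ι : Type} [Fintype ι] [DecidableEq ι] {P : Subgroup (GL ι F)}
  {K : Type} [Field K] [Finite K] {ν : Type} [Fintype ν] [DecidableEq ν]
  {H : HForm K (ν → K)} {Fr : Frame H (Fin 3)} {T₀ : Type} [Group T₀] {M : Model Fr T₀} {p : ℕ}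
  [hp : Fact p.Prime] [hFp : CharP F p] [hKp : CharP K p] {hA : AmbT Fr p M.I} {p0 : Fr.Adm}
  {Y : Type} [Group Y] [Finite Y] {f : Y →* M.I} {φ : Y →* GL ι F} {n₁ : Fin 3 → Y}

theorem gen_short (C : Cov (cB 3) (isCartan 3) p (TB M) (NB hA p0) (XB M) P f φ n₁) (hp0 : p0.c ≠ 0) (h0 : H.h p0.w p0.w ≠ 0)
    (L : Subgroup Y) (hT : (TB M).comap f ≤ L) (hX : ∀ x ∈ Sx, RGDLift.lft p f (XB M x) ≤ L) : L = ⊤ := by
  have hWf : Finite (CoxeterMatrix.B 3).Group := TypeC.finite_W (cB 3)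
  have := finite_GL (K := K) (ν := ν)
  have R := rgdB hA hp0 (cB 3) (M := M) (p := p)
  have key : ∀ a q, ∃ y ∈ L, (f y).1 = Fr.Z a q := fun a q => by
    obtain ⟨x, hx, e⟩ := Sx_ee a
    have h1 : (⟨Fr.Z a q, hA.Z_mem a q⟩ : M.I) ∈ XB M x := by
      rw [Subgroup.mem_subgroupOf, rg_eq Fr (Or.inr rfl) e, PG_self]
      exact ⟨q, rfl⟩
    rw [← map_lft C.ker C.cop C.surj (R.pgrp' (Sx_root hx))] at h1
    obtain ⟨y, hy, h2⟩ := h1
    exact ⟨y, hX x hx hy, by rw [h2]⟩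
  rw [eq_top_iff, ← C.gen]
  refine RGD.Sup_le fun x hx y hy => ?_
  obtain ⟨a, b, hab, e⟩ := TypeC.exists_of_isRoot (cB 3) hx
  have h1 : (f y).1 ∈ WittRoot.rg Fr x := map_lft_le p f (XB M x) ⟨y, hy, rfl⟩
  rw [rg_eq Fr hab e] at h1
  obtain ⟨z, hz, h2⟩ : ∃ z ∈ L, (f z).1 = (f y).1 := by
    rcases hab with hab | rfl
    · rw [PG_ne Fr hab] at h1
      obtain ⟨t, h1⟩ := h1
      obtain ⟨u, hu, h2⟩ := key a (Frame.Adm.smul (H.σ (-t / Fr.η b) / H.h p0.w p0.w) p0)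
      obtain ⟨v, hv, h3⟩ := key b p0
      refine ⟨u * v * (v * u)⁻¹, mul_mem (mul_mem hu hv) (inv_mem (mul_mem hv hu)), ?_⟩
      rw [map_mul, map_inv, map_mul, map_mul, Subgroup.coe_mul, Subgroup.coe_inv, Subgroup.coe_mul, Subgroup.coe_mul, h2, h3,
        Fr.Z_mul_Z hab, mul_inv_cancel_right, Frame.Adm.smul_w, H.smul_left, div_mul_cancel₀ _ h0, H.σσ,
        mul_div_cancel₀ _ (Fr.η_ne b), _root_.neg_neg, h1]
    · rw [PG_self] at h1
      obtain ⟨q, h1⟩ := h1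
      exact h1 ▸ key a q
  have h3 : z⁻¹ * y ∈ L := hT (by
    rw [Subgroup.mem_comap, map_mul, map_inv, Subtype.ext h2, inv_mul_cancel]
    exact one_mem _)
  rw [← mul_inv_cancel_left z y]
  exact mul_mem hz h3

end model

variable {n : ℕ} {K : Type} [Field K] [Finite K] {P : Subgroup (GL (Fin n) K)} {E : Type} [Field E] [Fintype E]

/-- the last node with an edge of dimension two -/
def Ex (p q : ℕ) {Y : Type} [Group Y] (T : Subgroup Y) (X : (Fin 3 → ℤ) → Subgroup Y) (φ : Y →* GL (Fin n) K) : Prop :=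
  (∀ i, i ∉ JJ 3 X φ ↔ i = 2) → dd T X φ 2 ≤ 2 → n ≤ 8 ∨ ∀ (r : ℕ) (s : Y), r.Prime → r ≠ 2 → r ≠ 3 → r ≠ p →
    r ∣ q ^ 2 + q + 1 → s ^ r = 1 → s ∉ T → ev (φ s) 1 ≤ 2

variable (p : ℕ) [hp : Fact p.Prime] [hKp : CharP K p] [hEp : CharP E p]

theorem exists_frB (hC : Core P) (hodd : Odd (Fintype.card E)) (e : Soc P ≃* POmega E (quadFormOdd 3 E)) :
    ∃ (Y : Type) (_ : Group Y) (_ : Finite Y) (T : Subgroup Y) (nn : Fin 3 → Y) (X : (Fin 3 → ℤ) → Subgroup Y)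
      (φ : Y →* GL (Fin n) K) (j : ℕ), Fb 3 p E P (Nonempty (E ≃+* K) ∧ n = 2 * 3 + 1) T nn X φ j ∧
      Ex p (Fintype.card E) T X φ := by
  have h2 : (2 : E) ≠ 0 := by
    intro h20
    have h4 := FiniteField.even_card_of_char_two (CharP.ringChar_of_prime_eq_zero Nat.prime_two (by exact_mod_cast h20) :
      ringChar E = 2)
    have := Nat.odd_iff.1 hodd
    omega
  have hG : Good (oddForm 3 E) := by
    apply good_of_finite (nondeg_oddForm 3 E h2)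
    rw [Module.finrank_fintype_fun_eq_card, Fintype.card_sum, Fintype.card_sum, Fintype.card_fin,
      Fintype.card_unit]
    omega
  have hp0 : ((embOdd 3 E).ngt ⟨1, -1 ^ 2, rfl⟩).c ≠ 0 := by
    change (1 : E)⁻¹ * (-1 ^ 2) ≠ 0
    simp
  have e' := e
  rw [← coe_oddForm] at e'
  have hWf : Finite (CoxeterMatrix.B 3).Group := TypeC.finite_W (CoxeterMatrix.B 3).toCoxeterSystem
  set M := model (wodd 3 E) hG ⟨_, hp0⟩ with hM
  have hA : AmbT (toFrame (wodd 3 E)) p M.I := AmbT.of_amb (amb_O_of_two _ h2) p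
  have hperf : commutator ↥M.I = ⊤ := H911.Five.commutator_top hG.E_perfect
  obtain ⟨Y, _, _, f, φ, n₁, C⟩ := exists_covB hC hA hp0 (by omega) hperf e'
  have hNd : ∀ i, ∃ σ' : SL(2, E) →* M.I, H948.Ppd.Nd (TB M) (XB M) i σ' := by
    intro i
    by_cases hi : (i : ℕ) + 1 < 3
    · exact nd_long hA.rg_le hi
    · exact nd_last_odd h2 (H48.OMult.span_odd E 3) hA.rg_le hi
  have hT' : ∀ s ∈ TB M, ∀ t ∈ TB M, s * t = t * s := by
    intro s hs t ht
    exact Subtype.ext (torus_comm hA.V0 (kd_odd h2 3) (hA.iso _ s.2) (hA.iso _ t.2) hs.2 ht.2)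
  obtain ⟨hT, hpow⟩ := lift_comm_pow C hp0 hT' (N₀ := Nat.card E) fun i => by
    obtain ⟨σ', N⟩ := hNd i
    exact ⟨E, inferInstance, inferInstance, inferInstance, σ', N, fun x => by
      rw [Nat.card_eq_fintype_card]; exact FiniteField.pow_card x⟩
  obtain ⟨a, -, ha⟩ := FiniteField.card E p
  rw [← Nat.card_eq_fintype_card] at ha
  obtain ⟨j, hj, hjK⟩ := C.exists_j hC hT (a := a) a.ne_zero (by rw [← ha]; exact hpow)
  rw [← ha] at hjK
  have hN : ∀ i, ∃ σ : SL(2, E) →* Y, H948.Ppd.Nd ((TB M).comap f) (fun x => Nodes.RGDLift.lft p f (XB M x)) i σ := fun i => by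
    obtain ⟨σ', h⟩ := hNd i
    obtain ⟨σ, -, h'⟩ := lift_nd C hp0 h
    exact ⟨σ, h'⟩
  refine ⟨Y, inferInstance, inferInstance, _, n₁, _, φ, j, ⟨C.rgd, C.hGG, hT, hpow, C.range, hN, exists_node hC C hT,
    hj, hjK, ?_, fun o ho h1 h2 => ?_⟩, fun hJ hd => Or.inl ?_⟩
  · obtain ⟨w0, w, h1, h3, h4⟩ := exists_w0 C hp0
    have := finite_GL (K := E) (ν := Unit ⊕ (Fin 3 ⊕ Fin 3))
    refine sd_cov C hC (rgdB hA hp0 _) hT (fun i => ?_) h1 h3 fun t ht => Subtype.ext ?_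
    · obtain ⟨σ, N⟩ := hN i
      exact ⟨E, inferInstance, inferInstance, σ, N⟩
    · have h5 := torus_inv hA.V0 (kd_odd h2 3) (q := 1) (fun a => (pow_one a).symm) (hA.iso _ (f w).2) (hA.iso _ t.2) h4 ht.2
      rw [pow_one] at h5
      exact h5
  · have hspan : Submodule.span E (Set.range (mt M.I)) = ⊤ :=
      span_E hG (by rw [Fintype.card_sum, Fintype.card_sum, Fintype.card_fin, Fintype.card_unit]; omega)
    obtain ⟨τ, θ, -⟩ := identify_B hC hA hp0 (by omega) hspan C hT ho h1 h2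
    have h3 := LinearEquiv.finrank_eq θ
    rw [Module.finrank_fintype_fun_eq_card, Module.finrank_fintype_fun_eq_card, Fintype.card_sum, Fintype.card_sum,
      Fintype.card_fin, Fintype.card_fin, Fintype.card_unit] at h3
    exact ⟨⟨τ⟩, by omega⟩
  · have hne := hC.nonempty
    have hchar : CharP (AlgebraicClosure K) p := charP_of_injective_algebraMap (algebraMap K _).injective p
    have hirr := ac_irr C.rgd C.hGG hT C.range hC.absIrred
    have hD := finrank_D C.rgd hirr hT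
    have h1 := spin_le C.rgd hirr hJ (by rw [hD]; exact hd) (gen_short C hp0 (by
      rw [(embOdd 3 E).ngt_w, (embOdd 3 E).h_eq]
      change (2 : E) * 1 * 1 ≠ 0
      rwa [mul_one, mul_one]))
    rwa [hD, Module.finrank_fin_fun] at h1

end Cfsg.Agent.N2C.RD.C3
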