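import Cfsg.Agent.N2.Cl.RD.Rgd
import Cfsg.Agent.H156.Ppd.Cover
import Cfsg.Agent.H35.Poin
import Cfsg.Agent.H134.StrP.Two

/-!
# N2 (S3519), defining characteristic: the criterion PL (helper69)

`s` of prime order `r` is elliptic in the Levi subgroup `L_J` (`El J s`); it acts nontrivially on every section of `L_J`
with a moved vertex.

* `exists_el1`, `exists_el2` : elliptic elements for `|J| = 1, 2`;  `card_P1`, `card_A2` : orders of parabolic subgroups;
* **`levi_ev`** : `(number of sections) * e + ev (φ s) 1 ≤ n`, `e` the order of `|K|` modulo `r`.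
-/

set_option autoImplicit false
set_option linter.unusedSectionVars false

namespace Cfsg.Agent.N2C.RD.Rg

open CoxeterSystem Cfsg.Agent.ChevalleyStructure.CoxeterGeom Cfsg.Agent.Tits.Roots Cfsg.Agent.Tits.Core
  Cfsg.Agent.Tits.Exchange Cfsg.Agent.Nodes.Reps Cfsg.Agent.Nodes.BNOf Cfsg.Agent.Nodes.StabComb
  Cfsg.Agent.Nodes.Bruhat Cfsg.Agent.Nodes.OppDec Cfsg.Agent.Nodes.LeviDec Cfsg.Agent.KFacts.RgdOpp
  Cfsg.Agent.Omega.CR Cfsg.Agent.Omega.FOne.Lift.Sd Cfsg.Agent.H911 Cfsg.Agent.H905.Md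
open Cfsg Cfsg.Geo Module
open Cfsg.Agent.H915.LD
open Cfsg.Agent.H905.DC (co fire cf co_mul_simple co_mul_left co_wordProd co_one)
open Cfsg.Agent.H117.Levi (prk Lf Lp Rd mem_Rd Ivt_Rd)
open Cfsg.Agent.H156.Ppd (lrep mrep mrep_apply)

/-! ### linear algebra -/

section lin

variable {k V : Type*} [Field k] [AddCommGroup V] [Module k V] [FiniteDimensional k V]

theorem sum_prk_le' {ι : Type*} [Fintype ι] (f : ι → Submodule k V) (Φ : ι → Submodule k (Module.Dual k V))
    (h2 : ∀ i j, i ≠ j → ∀ φ ∈ Φ i, ∀ v ∈ f j, φ v = 0) {N : Submodule k V} (hN : ∀ i, f i ≤ N) :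
    ∑ i, prk (f i) (Φ i) ≤ finrank k N := by
  choose g hg h1 h3 using fun i => H117.Levi.exists_compl (f i) (Φ i)
  calc ∑ i, prk (f i) (Φ i) = ∑ i, finrank k (g i) := Finset.sum_congr rfl fun i _ => (h3 i).symm
    _ ≤ finrank k (⨆ i, g i : Submodule k V) :=
      sum_le_of_sep (Φ := Φ) h1 fun i j hij φ hφ v hv => h2 i j hij φ hφ v (hg j hv)
    _ ≤ finrank k N := Submodule.finrank_mono (iSup_le fun i => (hg i).trans (hN i))

/-- an endomorphism of prime order without fixed vectors -/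
theorem dvd_of_fpf [Finite k] {r : ℕ} [hr : Fact r.Prime] (a : Module.End k V) (ha : a ^ r = 1) (h0 : ∀ v, a v = v → v = 0) :
    r ∣ Nat.card k ^ finrank k V - 1 := by
  classical
  have : Finite V := Module.finite_of_finite k
  have := Fintype.ofFinite V
  have h1 := Equiv.Perm.card_fixedPoints_modEq (α := V) (f := (a : V → V)) (p := r) (n := 1) (by
    rw [pow_one]
    funext v
    have h2 := LinearMap.congr_fun ha v
    rw [Module.End.pow_apply] at h2
    exact h2)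
  have h2 : Fintype.card (Function.fixedPoints (a : V → V)) = 1 := by
    rw [Fintype.card_eq_one_iff]
    exact ⟨⟨0, map_zero a⟩, fun y => Subtype.ext (h0 _ y.2)⟩
  rw [h2, ← Nat.card_eq_fintype_card, Module.natCard_eq_pow_finrank (K := k)] at h1
  exact (Nat.modEq_iff_dvd' (Nat.one_le_pow _ _ Nat.card_pos)).1 h1.symm

/-- the moved part of a section -/
theorem le_prk [Finite k] {r : ℕ} [hr : Fact r.Prime] (hk : (r : k) ≠ 0) (a : Module.End k V) (ha : a ^ r = 1)
    {f : Submodule k V} (hf : ∀ v ∈ f, a v ∈ f) {Φ : Submodule k (Module.Dual k V)}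
    (hΦ : ∀ v ∈ Φ.dualCoannihilator, a v ∈ Φ.dualCoannihilator) (hne : ¬ f.map (a - 1) ≤ Φ.dualCoannihilator) {e : ℕ}
    (he : ∀ d, 0 < d → r ∣ Nat.card k ^ d - 1 → e ≤ d) : e ≤ prk (f.map (a - 1)) Φ := by
  set N := f.map (a - 1) with hN
  have hNa : ∀ v ∈ N, a v ∈ N := by
    rintro _ ⟨v, hv, rfl⟩
    exact ⟨a v, hf v hv, by simp⟩
  let a' : Module.End k N := a.restrict hNa
  let Z : Submodule k N := Φ.dualCoannihilator.comap N.subtype
  have hZ : Z ≤ Z.comap a' := fun v hv => hΦ _ hv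
  let b : Module.End k (N ⧸ Z) := Z.mapQ Z a' hZ
  have hb : ∀ (j : ℕ) (v : N), (b ^ j) (Z.mkQ v) = Z.mkQ ((a' ^ j) v) := by
    intro j v
    induction j with
    | zero => rfl
    | succ j ih => rw [pow_succ', pow_succ', Module.End.mul_apply, Module.End.mul_apply, ih]; rfl
  have ha' : ∀ (j : ℕ) (v : N), (((a' ^ j) v : N) : V) = (a ^ j) v := by
    intro j v
    induction j with
    | zero => rfl
    | succ j ih => rw [pow_succ', pow_succ', Module.End.mul_apply, Module.End.mul_apply, ← ih]; rfl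
  have h1 : b ^ r = 1 := by
    refine LinearMap.ext fun x => ?_
    obtain ⟨v, rfl⟩ := Z.mkQ_surjective x
    have h0 : (a' ^ r) v = v := Subtype.ext (by rw [ha', ha]; rfl)
    rw [hb, h0]
    rfl
  have h2 : ∀ x, b x = x → x = 0 := by
    intro x hx
    obtain ⟨v, rfl⟩ := Z.mkQ_surjective x
    have h3 : ∀ j : ℕ, (b ^ j) (Z.mkQ v) = Z.mkQ v := by
      intro j
      induction j with
      | zero => rfl
      | succ j ih => rw [pow_succ', Module.End.mul_apply, ih, hx]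
    have h4 : ∑ j ∈ Finset.range r, (a' ^ j) v = 0 := by
      apply Subtype.ext
      obtain ⟨_, w, hw, rfl⟩ := v
      rw [Submodule.coe_sum, Submodule.coe_zero]
      simp only [ha']
      rw [← LinearMap.sum_apply, ← Module.End.mul_apply, geom_sum_mul, ha, sub_self]
      rfl
    have h5 := congrArg Z.mkQ h4
    rw [map_sum, map_zero] at h5
    simp only [← hb, h3, Finset.sum_const, Finset.card_range] at h5
    rw [← Nat.cast_smul_eq_nsmul k] at h5
    exact (smul_eq_zero.1 h5).resolve_left hk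
  have h3 := dvd_of_fpf b h1 h2
  have h4 := Submodule.finrank_quotient_add_finrank Z
  have h5 : finrank k Z = finrank k (N ⊓ Φ.dualCoannihilator : Submodule k V) := by
    rw [← Submodule.finrank_map_subtype_eq, Submodule.map_comap_subtype]
  have h6 : 0 < finrank k (N ⧸ Z) := by
    by_contra h7
    have h8 : Z = ⊤ := Submodule.eq_top_of_finrank_eq (by omega)
    exact hne fun v hv => (show (⟨v, hv⟩ : N) ∈ Z by rw [h8]; trivial)
  have h7 := he _ h6 h3
  unfold prk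
  omega

end lin

/-! ### elliptic elements -/

section rgd

variable {I W Y : Type*} [Fintype I] [DecidableEq I] [Group W] [Group Y] {M : CoxeterMatrix I}
  {cs : CoxeterSystem M W} {A : I → I → ℤ} {h : IsCartan M A} {p : ℕ} {T : Subgroup Y} {n : I → Y}
  {X : (I → ℤ) → Subgroup Y} {k V : Type*} [Field k] [AddCommGroup V] [Module k V]

/-- `s ∈ L_J` is in no smaller standard parabolic subgroup -/
def El (cs : CoxeterSystem M W) (h : IsCartan M A) (T : Subgroup Y) (X : (I → ℤ) → Subgroup Y) (J : Set I) (s : Y) : Prop :=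
  s ∈ LJ cs h T X J ∧ ∀ J' ⊆ J, J' ≠ J → s ∉ PJ cs h T X J'

omit [Group Y] in
include h in
theorem mem_of_simple {J : Set I} {i : I} (hi : cs.simple i ∈ WJ cs J) : i ∈ J := by
  by_contra hJ
  have h1 := co_mul_left cs h hJ hi 1
  rw [mul_one, ← one_mul (cs.simple i), co_mul_simple, co_one] at h1
  have h2 := congrFun h1 i
  simp only [fire, h.diag, sr_self] at h2
  omega

variable (R : RGD cs h p T n X) [Finite Y] [Finite W] [hp : Fact p.Prime]
include R

theorem PJ_mono' {J J' : Set I} (hJ : J ⊆ J') : PJ cs h T X J ≤ PJ cs h T X J' := by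
  intro g hg
  obtain ⟨w, hw, hc⟩ := (mem_PJ_iff_cell R).1 hg
  exact (mem_PJ_iff_cell R).2 ⟨w, Subgroup.closure_mono (Set.image_mono hJ) hw, hc⟩

theorem card_P1 (i : I) : Nat.card (PJ cs h T X {i}) = (1 + Nat.card (X (sr i))) * Nat.card (RGD.B cs h T X) := by
  have h1 := H35.Poin.card_PJ_path R (J := {i}) (c := fun _ => i) (m := 1) (y := Nat.card (X (sr i)))
    ⟨fun _ _ => rfl, fun _ h => by omega, fun _ _ h1 h2 => by omega, fun j hj h1 => absurd hj.symm (h1 0 (by omega)),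
      fun _ _ _ _ _ => by omega⟩ (fun _ _ => rfl)
  have h2 : (({i} : Set I) \ {j | ∃ t < 1, (fun _ : ℕ => i) t = j}) = ∅ := by
    ext j
    simp only [Set.mem_diff, Set.mem_singleton_iff, Set.mem_setOf_eq, Set.mem_empty_iff_false, iff_false, not_and, not_not]
    exact fun e => ⟨0, by omega, e.symm⟩
  rw [h2, H35.Poin.PJ_empty] at h1
  rw [h1]
  simp [Finset.sum_range_succ]

/-- a Levi subgroup of type `A₂` -/
theorem card_A2 {i j : I} (hij : i ≠ j) (h1 : A i j = -1) (h2 : A j i = -1) {y : ℕ} (hi : Nat.card (X (sr i)) = y)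
    (hj : Nat.card (X (sr j)) = y) :
    Nat.card (PJ cs h T X {i, j}) = (1 + y) * (1 + y + y ^ 2) * Nat.card (RGD.B cs h T X) := by
  have h3 := H35.Poin.card_PJ_path R (J := {i, j}) (c := fun t => if t = 0 then i else j) (m := 2) (y := y)
    ⟨fun t _ => by by_cases ht : t = 0 <;> simp [ht], fun t ht => by
      obtain rfl : t = 0 := by omega
      simp [h1, h2], fun _ _ h1 h2 => by omega, fun l hl h4 => by
      rcases hl with rfl | rfl
      · exact absurd rfl (h4 0 (by omega))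
      · exact absurd rfl (h4 1 (by omega)), fun s hs t ht e => by
      obtain rfl | rfl : s = 0 ∨ s = 1 := by omega
      all_goals obtain rfl | rfl : t = 0 ∨ t = 1 := by omega
      all_goals simp [hij, hij.symm] at e ⊢⟩ (fun t _ => by by_cases ht : t = 0 <;> simp [ht, hi, hj])
  have h4 : (({i, j} : Set I) \ {l | ∃ t < 2, (fun t : ℕ => if t = 0 then i else j) t = l}) = ∅ := by
    ext l
    simp only [Set.mem_diff, Set.mem_setOf_eq, Set.mem_empty_iff_false, iff_false, not_and, not_not]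
    rintro (rfl | rfl)
    · exact ⟨0, by omega, rfl⟩
    · exact ⟨1, by omega, rfl⟩
  rw [h4, H35.Poin.PJ_empty] at h3
  rw [h3]
  simp [Finset.prod_range_succ, Finset.sum_range_succ]

theorem not_dvd_B {r : ℕ} (hr : r.Prime) (hrp : r ≠ p) (hT : ¬ r ∣ Nat.card T) : ¬ r ∣ Nat.card (RGD.B cs h T X) := by
  rw [H35.Poin.card_B' R]
  intro h1
  rcases hr.dvd_mul.1 h1 with h2 | h2
  · obtain ⟨m, hm⟩ := IsPGroup.iff_card.1 R.isPGroup_Upos
    rw [hm] at h2
    exact hrp ((Nat.prime_dvd_prime_iff_eq hr hp.out).1 (hr.dvd_of_dvd_pow h2))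
  · exact hT h2

theorem exists_el {r : ℕ} (hr : r.Prime) (hrp : r ≠ p) {J : Set I} (hd : r ∣ Nat.card (PJ cs h T X J))
    (hn : ∀ J' ⊆ J, J' ≠ J → ¬ r ∣ Nat.card (PJ cs h T X J')) : ∃ s, orderOf s = r ∧ El cs h T X J s := by
  have := Fact.mk hr
  obtain ⟨⟨s, hs⟩, ho⟩ := exists_prime_orderOf_dvd_card' r (H134.StrP.dvd_LJ R hrp hd)
  rw [← Subgroup.orderOf_coe] at ho
  exact ⟨s, ho, hs, fun J' h1 h2 h3 => hn J' h1 h2 (ho ▸ Subgroup.orderOf_dvd_natCard _ h3)⟩

theorem exists_el1 {r : ℕ} (hr : r.Prime) (hrp : r ≠ p) (hT : ¬ r ∣ Nat.card T) {i : I} (hd : r ∣ 1 + Nat.card (X (sr i))) :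
    ∃ s, orderOf s = r ∧ El cs h T X {i} s := by
  refine exists_el R hr hrp (by rw [card_P1 R]; exact hd.mul_right _) fun J' h1 h2 => ?_
  obtain rfl : J' = ∅ := (Set.subset_singleton_iff_eq.1 h1).resolve_right h2
  rw [H35.Poin.PJ_empty]
  exact not_dvd_B R hr hrp hT

theorem exists_el2 {r : ℕ} (hr : r.Prime) (hrp : r ≠ p) (hT : ¬ r ∣ Nat.card T) {i j : I}
    (hd : r ∣ Nat.card (PJ cs h T X {i, j})) (hi : ¬ r ∣ 1 + Nat.card (X (sr i))) (hj : ¬ r ∣ 1 + Nat.card (X (sr j))) :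
    ∃ s, orderOf s = r ∧ El cs h T X {i, j} s := by
  refine exists_el R hr hrp hd fun J' h1 h2 h3 => ?_
  have key : ∀ l, J' ⊆ {l} → ¬ r ∣ 1 + Nat.card (X (sr l)) → False := by
    intro l h4 h5
    have h6 := h3.trans (Subgroup.card_dvd_of_le (PJ_mono' R h4))
    rw [card_P1 R] at h6
    exact (hr.dvd_mul.1 h6).elim h5 (not_dvd_B R hr hrp hT)
  by_cases h4 : i ∈ J'
  · refine key i (fun l hl => (h1 hl).resolve_right fun e => h2 (Set.Subset.antisymm h1 ?_)) hi
    rintro x (rfl | rfl)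
    · exact h4
    · exact (show l = x from e) ▸ hl
  · exact key j (fun l hl => (h1 hl).resolve_left fun e => h4 (e ▸ hl)) hj

variable [CharP k p] {ρ : Y →* Module.End k V} [FiniteDimensional k V]
  (hirr : ∀ L : Submodule k V, Ivt ρ (GG cs h T X) L → L = ⊥ ∨ L = ⊤)
include hirr

/-- an elliptic element moves the section -/
theorem moves [Nontrivial V] {J : Set I} {s : Y} (hs : El cs h T X J s) {w : W} {g : Y} (hg : Rp cs R.nsys w g)
    (hmin : ∀ i ∈ J, 0 ≤ rep cs h w⁻¹ (sr i)) {i : I} (hi : i ∈ J) (hm : w⁻¹ * cs.simple i * w ∉ WJ cs (Jx cs h X ρ)) :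
    ¬ (Lf cs h T X ρ J g).map (ρ s - 1) ≤ Rd cs h T X ρ J g := by
  intro hle
  set N : Submodule k V := (D cs h X ρ).map (ρ g) ⊔ Rd cs h T X ρ J g with hN
  set S : Subgroup Y := stS ρ N ⊓ LJ cs h T X J with hS
  have hmem : ∀ l ∈ LJ cs h T X J, (∀ v ∈ D cs h X ρ, ρ l (ρ g v) ∈ N) → l ∈ S := by
    intro l hl h1
    have h2 : ∀ v ∈ N, ρ l v ∈ N := by
      intro v hv
      obtain ⟨_, ⟨x, hx, rfl⟩, y, hy, rfl⟩ := Submodule.mem_sup.1 hv
      rw [map_add]
      exact add_mem (h1 x hx) (Submodule.mem_sup_right (Ivt_Rd l hl y hy))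
    have h3 : ∀ (j : ℕ), ∀ v ∈ N, ρ (l ^ j) v ∈ N := by
      intro j
      induction j with
      | zero => intro v hv; rwa [pow_zero, rho_one]
      | succ j ih => intro v hv; rw [pow_succ', rho_mul]; exact h2 _ (ih v hv)
    refine ⟨mem_stS ρ h2 ?_, hl⟩
    have h4 : l⁻¹ = l ^ (orderOf l - 1) := by
      rw [inv_eq_iff_mul_eq_one, ← pow_succ', Nat.sub_add_cancel (orderOf_pos l), pow_orderOf_eq_one]
    rw [h4]
    exact h3 _
  have hsS : s ∈ S := hmem s hs.1 fun v hv => by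
    have h1 := hle ⟨ρ g v, le_Sp ρ ⟨v, hv, rfl⟩, rfl⟩
    have e : ρ s (ρ g v) = ρ g v + (ρ s - 1 : Module.End k V) (ρ g v) := by simp
    rw [e]
    exact Submodule.add_mem_sup ⟨v, hv, rfl⟩ h1
  have hB : RGD.B cs h T X ≤ S ⊔ VJ cs h X J := by
    refine sup_le (fun t ht => Subgroup.mem_sup_left (hmem t (T_le_LJ ht) fun v hv => ?_)) fun u hu => ?_
    · have h1 : g⁻¹ * t * g ∈ T := by
        have h2 := (Subgroup.mem_normalizer_iff.1 (inv_mem hg.mem_normalizer) t).1 ht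
        rwa [inv_inv] at h2
      refine Submodule.mem_sup_left ⟨_, D_ivt R hirr _ h1 v hv, ?_⟩
      rw [← rho_mul, ← rho_mul]
      congr 2
      group
    · obtain ⟨a, ha, x, hx, rfl⟩ := (mem_U_iff R (J := J)).1 hu
      refine mul_mem (Subgroup.mem_sup_left (hmem a (BJ_le_LJ (UJ_le_BJ ha)) fun v hv => ?_)) (Subgroup.mem_sup_right hx)
      have h2 : g⁻¹ * a * g ∈ RGD.Sup X (RGD.Pos cs h) := by
        refine conj_mem_Sup' R hg (fun x hx => hx.1) (fun x hx => ?_) ha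
        exact ⟨hx.1.act _, H117.Levi.rep_nonneg hmin hx⟩
      refine Submodule.mem_sup_left ⟨v, hv, ?_⟩
      conv_lhs => rw [← hv _ h2]
      rw [← rho_mul, ← rho_mul]
      congr 2
      group
  have hQ : S ⊔ VJ cs h X J ≤ PJ cs h T X J := sup_le (inf_le_right.trans LJ_le_PJ) VJ_le_PJ
  have h1 := inf_eq_PJ R hB
  refine hs.2 {j | n j ∈ S ⊔ VJ cs h X J} (fun j hj => ?_) (fun e => ?_) ?_
  · exact mem_of_simple (h := h) ((cell_mem_PJ_iff R (cell_of_rp (rp_simple cs R.nsys j))).1 (hQ hj))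
  · have h2 : n i ∈ ((S ⊔ VJ cs h X J : Subgroup Y) : Set Y) := by
      rw [← e] at hi
      exact hi
    rw [Subgroup.coe_mul_of_left_le_normalizer_right _ _ (inf_le_right.trans (LJ_le_normalizer_VJ R J)), Set.mem_mul] at h2
    obtain ⟨l, hl, v, hv, e1⟩ := h2
    have h3 : v = 1 := eq_one_of_mem_LJ_of_mem_VJ R (by
      rw [show v = l⁻¹ * n i by rw [← e1]; group]
      exact mul_mem (inv_mem hl.2) (n_mem_LJ R hi)) hv
    rw [h3, mul_one] at e1
    rw [e1] at hl
    obtain ⟨c, hc, hc0⟩ := (Submodule.ne_bot_iff _).1 (simp_fx R ρ hirr).ne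
    obtain ⟨_, ⟨x, hx, rfl⟩, y, hy, e2⟩ := Submodule.mem_sup.1 ((hl.1 _).1 (Submodule.mem_sup_left ⟨c, hc, rfl⟩))
    have h4 : x = 0 := by
      by_contra hx0
      obtain ⟨ψ, hψ, hne⟩ := exists_pair_D R hirr hx hx0
      have h5 := mem_Rd.1 hy 1 (one_mem _) ψ hψ
      have h6 : ψ (ρ (g⁻¹ * n i * g) c) = ψ x := by
        rw [rho_mul, rho_mul, ← e2, map_add, map_add, rho_inv_rho]
        rw [mul_one] at h5
        rw [h5, add_zero]
      exact hm (mem_WJ_of_pair R hirr hψ ((hg.inv.mul (rp_simple cs R.nsys i)).mul hg) hc (by rwa [h6]))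
    rw [h4, map_zero, zero_add] at e2
    obtain ⟨ψ, hψ, hne⟩ := exists_pair_D R hirr hc hc0
    have h5 := mem_Rd.1 hy (n i)⁻¹ (inv_mem hl.2) ψ hψ
    rw [e2, rho_mul, rho_inv_rho, rho_inv_rho] at h5
    exact hne h5
  · rw [← h1]
    exact ⟨Subgroup.mem_sup_left hsS, LJ_le_GG hs.1⟩

/-- **the sections** -/
theorem sec_le [Nontrivial V] [Finite k] {J : Set I} {s : Y} (hs : El cs h T X J s) {r : ℕ} (hr : r.Prime) (hrp : r ≠ p)
    (hsr : s ^ r = 1) {α : Type*} [Fintype α] (w : α → W) (hmin : ∀ a, ∀ i ∈ J, 0 ≤ rep cs h (w a)⁻¹ (sr i))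
    (hm : ∀ a, ∃ i ∈ J, (w a)⁻¹ * cs.simple i * w a ∉ WJ cs (Jx cs h X ρ))
    (hsep : ∀ a a', a ≠ a' → ∀ x ∈ WJ cs J, (w a)⁻¹ * x * w a' ∉ WJ cs (Jx cs h X ρ)) {e : ℕ}
    (he : ∀ d, 0 < d → r ∣ Nat.card k ^ d - 1 → e ≤ d) :
    Fintype.card α * e + finrank k ((ρ s).eigenspace 1) ≤ finrank k V := by
  have := Fact.mk hr
  choose g hg using fun a => exists_rp cs R.nsys (w a)
  have h1 := sum_prk_le' (fun a => (Lf cs h T X ρ J (g a)).map (ρ s - 1)) (fun a => Lp cs h T X ρ J (g a))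
    (N := LinearMap.range (ρ s - 1)) (by
      rintro a a' haa φ hφ _ ⟨v, hv, rfl⟩
      by_contra hne
      obtain ⟨x, hx, h1⟩ := H117.Levi.mem_of_pairJ R hirr (hg a) (hg a') (hmin a) (hmin a') hφ
        (show (ρ s - 1 : Module.End k V) v ∈ Lf cs h T X ρ J (g a') from
          Submodule.sub_mem _ (Ivt_Sp _ _ s hs.1 v hv) hv) hne
      exact hsep a a' haa x hx h1) (fun a => LinearMap.map_le_range)
  have h2 : ∀ a, e ≤ prk ((Lf cs h T X ρ J (g a)).map (ρ s - 1)) (Lp cs h T X ρ J (g a)) := by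
    intro a
    obtain ⟨i, hi, h3⟩ := hm a
    refine le_prk (r := r) ?_ (ρ s) (by rw [← map_pow, hsr, map_one]) (Ivt_Sp _ _ s hs.1) (Ivt_Rd s hs.1)
      (moves R hirr hs (hg a) (hmin a) hi h3) he
    rw [Ne, CharP.cast_eq_zero_iff k p]
    exact fun h4 => hrp ((Nat.prime_dvd_prime_iff_eq hp.out hr).1 h4).symm
  have h3 : Fintype.card α * e ≤ _ := le_trans (by simp) ((Finset.sum_le_sum fun a _ => h2 a).trans h1)
  have h4 := LinearMap.finrank_range_add_finrank_ker (ρ s - 1)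
  rw [Module.End.eigenspace_def, one_smul]
  omega

end rgd

section core

variable {I W Y : Type*} [Fintype I] [DecidableEq I] [Group W] [Group Y] {M : CoxeterMatrix I}
  {cs : CoxeterSystem M W} {A : I → I → ℤ} {hA : IsCartan M A} {p : ℕ} {T : Subgroup Y} {nn : I → Y}
  {X : (I → ℤ) → Subgroup Y}

/-- the level of a vertex -/
def lev (l c : I → ℤ) : ℤ := ∑ m, l m * c m

omit [Group Y] in
theorem lev_mul {J : Set I} {l : I → ℤ} (hl : ∀ j ∈ J, lev l (A j) = 0) (c : I → ℤ) {x : W} (hx : x ∈ WJ cs J) (u : W) :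
    lev l (cw cs hA c (u * x)) = lev l (cw cs hA c u) := by
  obtain ⟨ω, hω, rfl⟩ := exists_word_of_mem_WJ cs hx
  clear hx
  induction ω generalizing u with
  | nil => rw [wordProd_nil, mul_one]
  | cons j ω ih =>
    rw [wordProd_cons, ← mul_assoc, ih _ (fun i hi => hω i (by simp [hi])), cw_mul_simple]
    have h1 := hl j (hω j (by simp))
    unfold lev fire at *
    simp only [mul_sub, Finset.sum_sub_distrib, ← mul_assoc, ← Finset.sum_mul, h1, zero_mul, sub_zero]

variable (R : RGD cs hA p T nn X) [Finite Y] [Finite W] [hp : Fact p.Prime]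
  {n : ℕ} {K : Type} [Field K] [Finite K] [CharP K p] {P : Subgroup (GL (Fin n) K)} (hC : Core P)
  (hG : GG cs hA T X = ⊤) (hT : ∀ s ∈ T, ∀ t ∈ T, s * t = t * s) {φ : Y →* GL (Fin n) K} (hφ : φ.range = P)
include R hC hG hT hφ

omit hT in
theorem lrep_irr (L : Submodule K (Fin n → K)) (hL : Ivt (lrep φ) (GG cs hA T X) L) : L = ⊥ ∨ L = ⊤ := by
  refine hC.absIrred.1 L ?_
  rintro _ ⟨a, ha, rfl⟩ _ ⟨v, hv, rfl⟩
  rw [SetLike.mem_coe, ← hφ] at ha
  obtain ⟨y, rfl⟩ := ha
  have h1 := hL y (by rw [hG]; trivial) v hv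
  rw [lin_apply, mrep_apply] at h1
  rw [Matrix.toLin'_apply]
  exact h1

theorem Jx_subset : Jx cs hA X (lrep φ) ⊆ Jx cs hA X (lin (acRep φ)) := by
  have hne := hC.nonempty
  have hchar : CharP (AlgebraicClosure K) p := charP_of_injective_algebraMap (algebraMap K _).injective p
  have hirr := ac_irr R hG hT hφ hC.absIrred
  obtain ⟨c, hc, hc0⟩ := (Submodule.ne_bot_iff _).1 (simp_fx R (lrep φ) (lrep_irr R hC hG hφ)).ne
  have key : ∀ y, lrep φ y c = c → lin (acRep φ) y (algebraMap K (AlgebraicClosure K) ∘ c) = algebraMap K _ ∘ c := by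
    intro y hy
    rw [lin_apply, mrep_apply] at hy
    rw [lin_apply, acRep_apply]
    funext i
    rw [← RingHom.map_mulVec, hy]
    rfl
  intro i hi x hx v hv
  obtain ⟨a, rfl⟩ := H650.Ppd.exists_smul_of_mem (finrank_D R hirr hT) (v := algebraMap K (AlgebraicClosure K) ∘ c)
    (fun y hy => key y (hc y hy)) (fun e => hc0 (funext fun j => (algebraMap K (AlgebraicClosure K)).injective
      ((congrFun e j).trans (map_zero _).symm))) hv
  rw [map_smul, key x (hi x hx c hc)]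

/-- **criterion PL**: `S` lists the nodes of the Levi subgroup, `L` the words of the highest vertices of the sections,
`Λ` the levels which separate the sections -/
theorem levi_ev {c : I → ℤ} (hc : ∀ s ∈ Jx cs hA X (lin (acRep φ)), c s = 0) (S : List I) {s : Y}
    (hs : El cs hA T X {j | j ∈ S} s) {r : ℕ} (hr : r.Prime) (hrp : r ≠ p) (hsr : s ^ r = 1) (L : List (List I))
    (Λ : List (I → ℤ)) (h0 : ∀ ω ∈ L, ∀ i ∈ S, ∀ m, 0 ≤ cf A m ω i) (h1 : ∀ ω ∈ L, ∃ i ∈ S, cv A c ω i ≠ 0)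
    (h2 : ∀ l ∈ Λ, ∀ j ∈ S, lev l (A j) = 0) (h3 : (L.map fun ω => Λ.map fun l => lev l (cv A c ω)).Nodup) {e : ℕ}
    (he : ∀ d, 0 < d → r ∣ Nat.card K ^ d - 1 → e ≤ d) : L.length * e + ev (φ s) 1 ≤ n := by
  have hne := hC.nonempty
  have hc' : ∀ s ∈ Jx cs hA X (lrep φ), c s = 0 := fun s hs => hc s (Jx_subset R hC hG hT hφ hs)
  have h4 := sec_le R (lrep_irr R hC hG hφ) hs hr hrp hsr (α := Fin L.length) (fun a => (cs.wordProd (L.get a))⁻¹)
    (fun a i hi => SM.Ti.Tool.min_word (h0 _ (List.get_mem L a) i hi)) (by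
      intro a
      obtain ⟨i, hi, h5⟩ := h1 _ (List.get_mem L a)
      refine ⟨i, hi, fun hm => h5 ?_⟩
      have h6 := cw_mul_left cs hA hc' hm (cs.wordProd (L.get a))
      rw [inv_inv, inv_mul_cancel_right, cw_mul_simple, cw_wordProd] at h6
      have h7 := congrFun h6 i
      simp only [fire, hA.diag] at h7
      omega) (by
      intro a a' haa x hx hm
      refine haa (inj_of_nodup h3 (List.map_congr_left fun l hl => ?_))
      have h6 := cw_mul_left cs hA hc' hm (cs.wordProd (L.get a'))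
      rw [inv_inv, inv_mul_cancel_right] at h6
      rw [← cw_wordProd cs hA, ← cw_wordProd cs hA, ← h6, lev_mul (h2 l hl) c hx]) he
  rwa [Fintype.card_fin, Module.finrank_fintype_fun_eq_card, Fintype.card_fin] at h4

end core

end Cfsg.Agent.N2C.RD.Rg
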