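import Cfsg.Agent.N2.Cl.RD.Crit
import Cfsg.Agent.N2.Cl.RD.Lev
import Cfsg.Agent.N2.Cl.RD.Lin
import Cfsg.Agent.H948.Ppd.Podd
import Cfsg.Agent.H948.Ppd.Pminus
import Cfsg.Agent.H650.Ppd.Psp
import Cfsg.Agent.H218.SdC
import Cfsg.Agent.H879.Nine.Ctx

/-!
# N2 (S3519), defining characteristic: the frame of the groups `B_l(s)`, `C_l(s)` (helper47)

* `comm_hh'`, **`sd_cov`** : a covering group whose quotient has a torus inverted by `w₀ = -1` has self-dual modules;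
* `Fb` : the frame;  `exists_frC`, `exists_frB`;  `Fb.edge`, `Fb.first`, `Fb.last`, `Fb.all`, `Fb.mid` : lower bounds.
-/

set_option autoImplicit false
set_option linter.unusedSectionVars false
set_option linter.style.haveILetI false

namespace Cfsg.Agent.N2C.RD.Cb

universe u v w

section sd

open Matrix CoxeterSystem Cfsg.Agent.ChevalleyStructure.CoxeterGeom Cfsg.Agent.Tits.Roots Cfsg.Agent.Tits.Core
  Cfsg.Agent.Nodes.Reps Cfsg.Agent.Nodes.BNOf Cfsg.Agent.Nodes.RGDLib Cfsg.Agent.Nodes.RGDLift Cfsg.Agent.H911.SLTwo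
  Cfsg.Agent.H948.Ppd
open Cfsg.Agent.H156.Ppd (Cov)
open Cfsg.Agent.H915.LD (Core SD)
open scoped MatrixGroups

section nd

variable {I W Y : Type*} [Fintype I] [DecidableEq I] [Group W] [Group Y] {M : CoxeterMatrix I}
  {cs : CoxeterSystem M W} {A : I → I → ℤ} {h : IsCartan M A} {p : ℕ} {T : Subgroup Y} {n : I → Y}
  {X : (I → ℤ) → Subgroup Y} (R : RGD cs h p T n X) {i : I} {E : Type*} [Field E] {σ : SL(2, E) →* Y} (N : H948.Ppd.Nd T X i σ)
include R N

/-- an element which normalises both root groups -/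
theorem comm_hh' [Finite E] {t : Y} (h1 : cj t (X (sr i)) = X (sr i)) (h2 : cj t (X (-sr i)) = X (-sr i))
    (hq : ∀ (s : Eˣ) (a : E), t * σ (hh s) * σ (U a) * (t * σ (hh s))⁻¹ = σ (hh s) * t * σ (U a) * (σ (hh s) * t)⁻¹)
    (s : Eˣ) : t * σ (hh s) * t⁻¹ = σ (hh s) := by
  have hU : ∀ a : E, ∃ b, σ (U b) = t * σ (U a) * t⁻¹ := by
    intro a
    rw [← N.up, ← h1]
    exact conj_mem_cj.2 ((N.up _).2 ⟨a, rfl⟩)
  have hL : ∀ a : E, ∃ b, σ (Lo b) = t * σ (Lo a) * t⁻¹ := by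
    intro a
    rw [← N.lo, ← h2]
    exact conj_mem_cj.2 ((N.lo _).2 ⟨a, rfl⟩)
  have h1' : cj t⁻¹ (X (sr i)) = X (sr i) := by
    conv_lhs => rw [← h1]
    rw [cj_inv_cj]
  choose α hα using hU
  choose β hβ using hL
  have hadd : ∀ a b, α (a + b) = α a + α b := by
    intro a b
    apply N.U_inj R
    rw [hα, ← U_mul, ← U_mul, map_mul, map_mul, hα, hα]
    group
  have hsq : ∀ (s : Eˣ) a, α ((s : E) ^ 2 * a) = (s : E) ^ 2 * α a := by
    intro s a
    apply N.U_inj R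
    rw [hα, ← H911.SLTwo.hU, ← H911.SLTwo.hU, map_mul, map_mul, map_mul, map_mul, map_inv, hα]
    have h1 := hq s a
    calc t * (σ (hh s) * σ (U a) * (σ (hh s))⁻¹) * t⁻¹ = t * σ (hh s) * σ (U a) * (t * σ (hh s))⁻¹ := by group
      _ = σ (hh s) * t * σ (U a) * (σ (hh s) * t)⁻¹ := h1
      _ = σ (hh s) * (t * σ (U a) * t⁻¹) * (σ (hh s))⁻¹ := by group
  have hmul := map_eq_mul hadd hsq
  have h1ne : α 1 ≠ 0 := by
    intro h0
    have h1 := hα 1
    rw [h0, U_zero, map_one] at h1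
    have h2 : σ (U (1 : E)) = 1 := by
      have h3 : σ (U (1 : E)) = t⁻¹ * (t * σ (U 1) * t⁻¹) * t := by group
      rw [h3, ← h1]; group
    exact one_ne_zero (N.inj R h2)
  have key : ∀ a : Eˣ, t * σ (hh a * ww) * t⁻¹ = σ (hh (a * Units.mk0 _ h1ne) * ww) := by
    intro a
    set x := α (a : E) with hx
    set y := β (-((a⁻¹ : Eˣ) : E)) with hy
    have e1 : t * σ (hh a * ww) * t⁻¹ = σ (U x * Lo y * U x) := by
      rw [hh_ww, map_mul, map_mul, map_mul, map_mul, hα, hβ]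
      group
    have e2 : cj (σ (ww⁻¹ * (U x * Lo y * U x))) (X (sr i)) = X (sr i) := by
      have h4 : cj (t * σ (hh a * ww) * t⁻¹) (X (sr i)) = X (-sr i) := by
        rw [cj_mul, h1', cj_mul, map_mul, cj_mul, N.ww_conj, N.hh_conj' R, h2]
      rw [map_mul, cj_mul, ← e1, h4, map_inv, ← N.ww_conj, cj_inv_cj]
    have h5 := N.lower_zero R e2
    simp only [m00, m01, m10, m11, U00, U01, U10, U11, Lo00, Lo01, Lo10, Lo11, i00, i01, i10, i11,
      ww00, ww01, ww10, ww11] at h5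
    have h6 : x * y = -1 := by linear_combination h5
    have hxu : ((a * Units.mk0 _ h1ne : Eˣ) : E) = x := by
      rw [Units.val_mul, Units.val_mk0, hx, hmul (a : E)]
    have hyu : -(((a * Units.mk0 _ h1ne)⁻¹ : Eˣ) : E) = y := by
      have h7 : x ≠ 0 := by rw [← hxu]; exact Units.ne_zero _
      rw [Units.val_inv_eq_inv_val, hxu]
      apply mul_left_cancel₀ h7
      rw [h6, mul_neg, mul_inv_cancel₀ h7]
    rw [e1, hh_ww, hxu, hyu]
  have e3 : t * σ (hh s) * t⁻¹ = t * σ (hh s * ww) * t⁻¹ * (t * σ (hh 1 * ww) * t⁻¹)⁻¹ := by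
    rw [hh_one, one_mul, map_mul]
    group
  rw [e3, key, key, ← map_inv, ← map_mul]
  congr 1
  rw [one_mul, _root_.mul_inv_rev, ← hh_mul]
  group

end nd

variable {I W : Type} {𝔾 : Type v} {Y : Type w} {F : Type u} [Fintype I] [DecidableEq I] [Group W] [Finite W] [Group 𝔾]
  [Group Y] [Finite Y] [Field F] [Finite F] {ι : Type} [Fintype ι] [DecidableEq ι] {M : CoxeterMatrix I}
  {cs : CoxeterSystem M W} {A : I → I → ℤ} {h : IsCartan M A} {p : ℕ} [hp : Fact p.Prime] [hcF : CharP F p]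
  {T : Subgroup 𝔾} {n : I → 𝔾} {X : (I → ℤ) → Subgroup 𝔾} {P : Subgroup (GL ι F)} {f : Y →* 𝔾} {φ : Y →* GL ι F}
  {n₁ : I → Y}

/-- the torus of the covering group is inverted -/
theorem inv_cov (C : Cov cs h p T n X P f φ n₁) (R : RGD cs h p T n X)
    (hT : ∀ s ∈ T.comap f, ∀ t ∈ T.comap f, s * t = t * s)
    (hN : ∀ i, ∃ (E : Type) (_ : Field E) (_ : Finite E) (σ : SL(2, E) →* Y), H948.Ppd.Nd (T.comap f) (fun x => Nodes.RGDLift.lft p f (X x)) i σ)
    {w0 : W} (hw0 : ∀ x, rep cs h w0 x = -x) {w : Y} (hw : Rp cs C.rgd.nsys w0 w)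
    (hinv : ∀ t ∈ T, (f w)⁻¹ * t⁻¹ * f w = t) : ∀ t ∈ T.comap f, w⁻¹ * t⁻¹ * w = t := by
  let S : Subgroup Y :=
    { carrier := {t | t ∈ T.comap f ∧ w⁻¹ * t⁻¹ * w = t}
      one_mem' := ⟨one_mem _, by rw [inv_one, mul_one, inv_mul_cancel]⟩
      mul_mem' := by
        rintro a b ⟨ha, ha'⟩ ⟨hb, hb'⟩
        refine ⟨mul_mem ha hb, ?_⟩
        rw [show w⁻¹ * (a * b)⁻¹ * w = (w⁻¹ * b⁻¹ * w) * (w⁻¹ * a⁻¹ * w) by group, ha', hb', hT a ha b hb]
      inv_mem' := by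
        rintro a ⟨ha, ha'⟩
        refine ⟨inv_mem ha, ?_⟩
        conv_rhs => rw [← ha']
        group }
  have h1 : T.comap f ≤ S := by
    refine torus_ind.{w, 0} C.rgd C.gen fun i => ?_
    obtain ⟨E, i1, i2, σ, N⟩ := hN i
    refine ⟨E, i1, σ, N, fun s => ⟨N.tor s, ?_⟩⟩
    have a1 := C.rgd.conj_rp hw (isRoot_sr cs h i)
    have a2 := C.rgd.conj_rp hw (isRoot_sr cs h i).neg
    rw [hw0] at a1 a2
    rw [neg_neg] at a2
    have b1 : cj (w⁻¹ * σ ww) (Nodes.RGDLift.lft p f (X (sr i))) = Nodes.RGDLift.lft p f (X (sr i)) := by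
      rw [cj_mul, N.ww_conj, ← a1, cj_inv_cj]
    have b2 : cj (w⁻¹ * σ ww) (Nodes.RGDLift.lft p f (X (-sr i))) = Nodes.RGDLift.lft p f (X (-sr i)) := by
      rw [cj_mul, N.ww_conj', ← a2, cj_inv_cj]
    have b3 : ∀ s : Eˣ, w⁻¹ * σ ww * σ (hh s) * (w⁻¹ * σ ww)⁻¹ = w⁻¹ * (σ (hh s))⁻¹ * w := by
      intro s
      rw [← map_inv, hh_inv, ← wh, map_mul, map_mul, map_inv]
      group
    rw [← b3]
    refine comm_hh' C.rgd N b1 b2 (fun s a => ?_) s
    have hc : f (w⁻¹ * σ ww) * f (σ (hh s)) = f (σ (hh s)) * f (w⁻¹ * σ ww) := by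
      have h2 := congrArg f (b3 s)
      rw [map_mul f (w⁻¹ * (σ (hh s))⁻¹), map_mul f w⁻¹ (σ (hh s))⁻¹, map_inv f w, map_inv f (σ (hh s)),
        hinv _ (N.tor s), map_mul, map_mul f _ (σ (hh s)), map_inv, mul_inv_eq_iff_eq_mul] at h2
      exact h2
    have h2 : ∀ g, cj g (Nodes.RGDLift.lft p f (X (sr i))) = Nodes.RGDLift.lft p f (X (sr i)) → g * σ (U a) * g⁻¹ ∈ Nodes.RGDLift.lft p f (X (sr i)) := by
      intro g hg
      rw [← hg]
      exact conj_mem_cj.2 ((N.up _).2 ⟨a, rfl⟩)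
    have h3 := mul_mem (h2 (w⁻¹ * σ ww * σ (hh s)) (by rw [cj_mul, N.hh_conj C.rgd, b1]))
      (inv_mem (h2 (σ (hh s) * (w⁻¹ * σ ww)) (by rw [cj_mul, b1, N.hh_conj C.rgd])))
    have h4 := eq_one_of_mem_lft C.ker C.cop (R.pgrp i) h3 (by
      generalize w⁻¹ * σ ww = v at hc ⊢
      simp only [map_mul, map_inv]
      rw [hc]
      group)
    exact mul_inv_eq_one.1 h4
  exact fun t ht => (h1 ht).2

/-- **self-dual modules of covering groups** -/
theorem sd_cov (C : Cov cs h p T n X P f φ n₁) (hC : Core P) (R : RGD cs h p T n X)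
    (hT : ∀ s ∈ T.comap f, ∀ t ∈ T.comap f, s * t = t * s)
    (hN : ∀ i, ∃ (E : Type) (_ : Field E) (_ : Finite E) (σ : SL(2, E) →* Y), H948.Ppd.Nd (T.comap f) (fun x => Nodes.RGDLift.lft p f (X x)) i σ)
    {w0 : W} (hw0 : ∀ x, rep cs h w0 x = -x) {w : Y} (hw : Rp cs C.rgd.nsys w0 w)
    (hinv : ∀ t ∈ T, (f w)⁻¹ * t⁻¹ * f w = t) : SD P := by
  have hne := hC.nonempty
  intro g hg
  have h1 := H905.Md.trace_inv_pow C.rgd C.hGG hT C.range hC.absIrred hw0 hw (a := 0) (fun t ht => by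
    rw [pow_zero, pow_one]
    exact inv_cov C R hT hN hw0 hw hinv t ht) hg
  rwa [pow_zero, pow_one] at h1

end sd

section frame

open CoxeterSystem Cfsg.Agent.ChevalleyStructure.CoxeterGeom Cfsg.Agent.Tits.Roots Cfsg.Agent.Tits.Core
  Cfsg.Agent.Nodes.Reps Cfsg.Agent.Nodes.BNOf Cfsg.Agent.Nodes.Bruhat Cfsg.Agent.Nodes.RGDLib
open Cfsg.Agent.Nodes Cfsg.Agent.Nodes.WittRoot Cfsg.Agent.Nodes.WittRGD Cfsg.Agent.Nodes.WittAll Cfsg.Agent.Nodes.WittInst
open Cfsg.Agent.Nodes.TypeC (isCartan)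
open Cfsg.Agent.TitsThree.Siegel Cfsg.Agent.TitsThree.SiegelGen Cfsg.Agent.TitsThree.WittFrame Cfsg.Agent.TitsThree.FrameCN
  Cfsg.Agent.TitsThree.WBridge Cfsg.Agent.TitsThree.KSideO Cfsg.Agent.TitsThree Cfsg.Agent.TitsThree.StdData
open Cfsg.Agent.LieClassical Cfsg.Agent.LieClassical.OrthCore Cfsg.Agent.LieClassical.OrthTrans
open Cfsg.Agent.LieClassical.OrthSimple Cfsg.Agent.LieClassical.OrthFinite Cfsg.Agent.LieClassical.OrthForms
open Cfsg.Agent.H915.LD Cfsg.Agent.H911 Cfsg.Agent.H905.Md Cfsg.Agent.H925.Nat Cfsg.Agent.Nodes.RGDLift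
open Cfsg.Agent.H156.Ppd (Cov lrep exists_cov)
open Cfsg.Agent.Omega.CR Cfsg.Agent.Omega.FOne.Lift.Sd
open Cfsg Cfsg.Geo QuadraticMap
open scoped MatrixGroups Matrix
open Cfsg.Agent.H948.Ppd

/-- the Coxeter system -/
abbrev cB (l : ℕ) := (CoxeterMatrix.B l).toCoxeterSystem

section model

variable {F : Type u} [Field F] [Finite F] {ι : Type} [Fintype ι] [DecidableEq ι] {P : Subgroup (GL ι F)}
  {K : Type} [Field K] [Finite K] {ν : Type} [Fintype ν] [DecidableEq ν]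
  {H : HForm K (ν → K)} {n : ℕ} {Fr : Frame H (Fin n)} {T₀ : Type v} [Group T₀] {M : Model Fr T₀} {p : ℕ}
  [hp : Fact p.Prime] [hFp : CharP F p] [hKp : CharP K p] {hA : AmbT Fr p M.I} {p0 : Fr.Adm}
  {Y : Type w} [Group Y] [Finite Y] {f : Y →* M.I} {φ : Y →* GL ι F} {n₁ : Fin n → Y}

/-- a representative of `w₀` in the covering group -/
theorem exists_w0 (C : Cov (cB n) (isCartan n) p (TB M) (NB hA p0) (XB M) P f φ n₁) (hp0 : p0.c ≠ 0) :
    ∃ (w0 : (CoxeterMatrix.B n).Group) (w : Y), (∀ x, rep (cB n) (isCartan n) w0 x = -x) ∧ Rp (cB n) C.rgd.nsys w0 w ∧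
      Mono Fr (f w).1 TypeC.ng := by
  have key : ∀ ω : List (Fin n), ∃ w : Y, Rp (cB n) C.rgd.nsys ((cB n).wordProd ω) w ∧ Mono Fr (f w).1 (H218.SdC.sw ω) := by
    intro ω
    induction ω with
    | nil => exact ⟨1, by rw [wordProd_nil]; exact rp_one, by rw [map_one]; exact Mono.one⟩
    | cons i ω ih =>
      obtain ⟨k, hk, hm⟩ := ih
      refine ⟨n₁ i * k, ?_, ?_⟩
      · rw [wordProd_cons]
        exact (rp_simple (cB n) C.rgd.nsys i).mul hk
      · rw [map_mul, C.hn]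
        exact (mono_nn hp0 i).mul hm
  obtain ⟨ω, hω⟩ := H218.SdC.exists_neg_word n
  obtain ⟨w, h1, h2⟩ := key ω
  exact ⟨_, w, H218.SdC.rep_neg _ hω, h1, h2.congr hω⟩

end model

/-- the frame: `E` is the field of the socle, `Z` holds if the module is the natural one -/
structure Fb (l p : ℕ) (E : Type) [Field E] {n : ℕ} {K : Type} [Field K] (P : Subgroup (GL (Fin n) K)) (Z : Prop)
    {Y : Type} [Group Y] (T : Subgroup Y) (nn : Fin l → Y) (X : (Fin l → ℤ) → Subgroup Y) (φ : Y →* GL (Fin n) K) (j : ℕ) :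
    Prop where
  rgd : RGD (cB l) (isCartan l) p T nn X
  gg : GG (cB l) (isCartan l) T X = ⊤
  comm : ∀ s ∈ T, ∀ t ∈ T, s * t = t * s
  pw : ∀ t ∈ T, t ^ Nat.card E = t
  range : φ.range = P
  nd : ∀ i, ∃ σ : SL(2, E) →* Y, H948.Ppd.Nd T X i σ
  node : ∃ i, i ∉ Jx (cB l) (isCartan l) X (lin (acRep φ))
  pos : 1 ≤ j
  card : Nat.card K ^ j = Nat.card E
  sd : SD P
  nat : ∀ o : Fin l, (o : ℕ) = 0 → (∀ i, i ∉ Jx (cB l) (isCartan l) X (lin (acRep φ)) → i = o) →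
    Module.finrank (AlgebraicClosure K) (Le (cB l) (isCartan l) T X (lin (acRep φ)) {o}) ≤ 2 → Z

variable {n : ℕ} {K : Type} [Field K] [Finite K] {P : Subgroup (GL (Fin n) K)} {E : Type} [Field E] [Fintype E]
  (p : ℕ) [hp : Fact p.Prime] [hKp : CharP K p] [hEp : CharP E p] {l : ℕ}

theorem exists_frC (hC : Core P) (hl : 3 ≤ l) (e : Soc P ≃* PSp l E) :
    ∃ (Y : Type) (_ : Group Y) (_ : Finite Y) (T : Subgroup Y) (nn : Fin l → Y) (X : (Fin l → ℤ) → Subgroup Y)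
      (φ : Y →* GL (Fin n) K) (j : ℕ), Fb l p E P (Nonempty (E ≃+* K) ∧ n = 2 * l) T nn X φ j := by
  haveI := hC.nonempty
  have hWf : Finite (CoxeterMatrix.B l).Group := TypeC.finite_W (CoxeterMatrix.B l).toCoxeterSystem
  have hA : AmbT (SpIdent.frame l E) p (KInstSp.model l E).I := AmbT.of_amb Nodes.WittU.amb_Sp p
  have hp0 : (SpIdent.adm (m := l) (1 : E)).c ≠ 0 := one_ne_zero
  have hperf : commutator ↥(KInstSp.model l E).I = ⊤ := commutator_isos hl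
  obtain ⟨Y, _, _, f, φ, n₁, C⟩ := exists_covB hC hA hp0 (by omega) hperf e
  have hrg : ∀ x, Nodes.WittRoot.rg (SpIdent.frame l E) x ≤ (KInstSp.model l E).I := fun x => hA.rg_le x
  have hT' : ∀ s ∈ TB (KInstSp.model l E), ∀ t ∈ TB (KInstSp.model l E), s * t = t * s := by
    intro s hs t ht
    apply Subtype.ext
    exact torus_comm hA.V0 (Or.inl rfl) (hA.iso _ s.2) (hA.iso _ t.2) hs.2 ht.2
  have hnd : ∀ i, ∃ σ' : SL(2, E) →* (KInstSp.model l E).I,
      H948.Ppd.Nd (TB (KInstSp.model l E)) (XB (KInstSp.model l E)) i σ' := by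
    intro i
    obtain ⟨σ, h⟩ := H650.Ppd.nd_Sp (G0 := (KInstSp.model l E).I) hrg i
    exact ⟨σ, h.up, h.lo, h.tor⟩
  obtain ⟨hT, hpow⟩ := lift_comm_pow (N₀ := Nat.card E) C hp0 hT' (fun i => by
    obtain ⟨σ', h⟩ := hnd i
    refine ⟨E, inferInstance, inferInstance, inferInstance, σ', h, fun x => ?_⟩
    rw [Nat.card_eq_fintype_card, FiniteField.pow_card])
  obtain ⟨j, hj, hjK⟩ := H650.Ppd.exists_card p hC (by omega) (Or.inl hl) e
  refine ⟨Y, inferInstance, inferInstance, _, n₁, _, φ, j, C.rgd, C.hGG, hT, hpow, C.range, fun i => ?_, exists_node hC C hT,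
    hj, hjK, fun g hg => (psp_both p hC.absIrred hC.perfect (by omega) (Or.inl hl) e hg).2, fun o ho h1 h2 => ?_⟩
  · obtain ⟨σ', h⟩ := hnd i
    obtain ⟨σ, -, h'⟩ := lift_nd C hp0 h
    exact ⟨σ, h'⟩
  · obtain ⟨τ, θ, -⟩ := identify_B hC hA hp0 (by omega)
      (span_of_matrixSet mem_spGL_iff' (H931.spGL_absIrreducible (by omega))) C hT ho h1 h2
    have h3 := LinearEquiv.finrank_eq θ
    rw [Module.finrank_fintype_fun_eq_card, Module.finrank_fintype_fun_eq_card, Fintype.card_sum, Fintype.card_fin,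
      Fintype.card_fin] at h3
    exact ⟨⟨τ⟩, by omega⟩

theorem exists_frB (hC : Core P) (hl : 3 ≤ l) (hodd : Odd (Fintype.card E)) (e : Soc P ≃* POmega E (quadFormOdd l E)) :
    ∃ (Y : Type) (_ : Group Y) (_ : Finite Y) (T : Subgroup Y) (nn : Fin l → Y) (X : (Fin l → ℤ) → Subgroup Y)
      (φ : Y →* GL (Fin n) K) (j : ℕ), Fb l p E P (Nonempty (E ≃+* K) ∧ n = 2 * l + 1) T nn X φ j := by
  have h2 : (2 : E) ≠ 0 := by
    intro h20
    have h4 := FiniteField.even_card_of_char_two (CharP.ringChar_of_prime_eq_zero Nat.prime_two (by exact_mod_cast h20) :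
      ringChar E = 2)
    have := Nat.odd_iff.1 hodd
    omega
  have hG : Good (oddForm l E) := by
    apply good_of_finite (nondeg_oddForm l E h2)
    rw [Module.finrank_fintype_fun_eq_card, Fintype.card_sum, Fintype.card_sum, Fintype.card_fin,
      Fintype.card_unit]
    omega
  have hp0 : ((embOdd l E).ngt ⟨1, -1 ^ 2, rfl⟩).c ≠ 0 := by
    change (1 : E)⁻¹ * (-1 ^ 2) ≠ 0
    simp
  have e' := e
  rw [← coe_oddForm] at e'
  have hWf : Finite (CoxeterMatrix.B l).Group := TypeC.finite_W (CoxeterMatrix.B l).toCoxeterSystem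
  set M := model (wodd l E) hG ⟨_, hp0⟩ with hM
  have hA : AmbT (toFrame (wodd l E)) p M.I := AmbT.of_amb (amb_O_of_two _ h2) p
  have hperf : commutator ↥M.I = ⊤ := H911.Five.commutator_top hG.E_perfect
  obtain ⟨Y, _, _, f, φ, n₁, C⟩ := exists_covB hC hA hp0 (by omega) hperf e'
  have hNd : ∀ i, ∃ σ' : SL(2, E) →* M.I, H948.Ppd.Nd (TB M) (XB M) i σ' := by
    intro i
    by_cases hi : (i : ℕ) + 1 < l
    · exact nd_long hA.rg_le hi
    · exact nd_last_odd h2 (H48.OMult.span_odd E l) hA.rg_le hi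
  have hT' : ∀ s ∈ TB M, ∀ t ∈ TB M, s * t = t * s := by
    intro s hs t ht
    exact Subtype.ext (torus_comm hA.V0 (kd_odd h2 l) (hA.iso _ s.2) (hA.iso _ t.2) hs.2 ht.2)
  obtain ⟨hT, hpow⟩ := lift_comm_pow C hp0 hT' (N₀ := Nat.card E) fun i => by
    obtain ⟨σ', N⟩ := hNd i
    exact ⟨E, inferInstance, inferInstance, inferInstance, σ', N, fun x => by
      rw [Nat.card_eq_fintype_card]; exact FiniteField.pow_card x⟩
  obtain ⟨a, -, ha⟩ := FiniteField.card E p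
  rw [← Nat.card_eq_fintype_card] at ha
  obtain ⟨j, hj, hjK⟩ := C.exists_j hC hT (a := a) a.ne_zero (by rw [← ha]; exact hpow)
  rw [← ha] at hjK
  have hN : ∀ i, ∃ σ : SL(2, E) →* Y, H948.Ppd.Nd ((TB M).comap f) (fun x => Nodes.RGDLift.lft p f (XB M x)) i σ := fun i => by
    obtain ⟨σ', h⟩ := hNd i
    obtain ⟨σ, -, h'⟩ := lift_nd C hp0 h
    exact ⟨σ, h'⟩
  refine ⟨Y, inferInstance, inferInstance, _, n₁, _, φ, j, C.rgd, C.hGG, hT, hpow, C.range, hN, exists_node hC C hT,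
    hj, hjK, ?_, fun o ho h1 h2 => ?_⟩
  · obtain ⟨w0, w, h1, h3, h4⟩ := exists_w0 C hp0
    have := finite_GL (K := E) (ν := Unit ⊕ (Fin l ⊕ Fin l))
    refine sd_cov C hC (rgdB hA hp0 _) hT (fun i => ?_) h1 h3 fun t ht => Subtype.ext ?_
    · obtain ⟨σ, N⟩ := hN i
      exact ⟨E, inferInstance, inferInstance, σ, N⟩
    · have h5 := torus_inv hA.V0 (kd_odd h2 l) (q := 1) (fun a => (pow_one a).symm) (hA.iso _ (f w).2) (hA.iso _ t.2) h4 ht.2
      rw [pow_one] at h5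
      exact h5
  · have hspan : Submodule.span E (Set.range (mt M.I)) = ⊤ :=
      span_E hG (by rw [Fintype.card_sum, Fintype.card_sum, Fintype.card_fin, Fintype.card_unit]; omega)
    obtain ⟨τ, θ, -⟩ := identify_B hC hA hp0 (by omega) hspan C hT ho h1 h2
    have h3 := LinearEquiv.finrank_eq θ
    rw [Module.finrank_fintype_fun_eq_card, Module.finrank_fintype_fun_eq_card, Fintype.card_sum, Fintype.card_sum,
      Fintype.card_fin, Fintype.card_fin, Fintype.card_unit] at h3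
    exact ⟨⟨τ⟩, by omega⟩

variable {p} {Z : Prop} {Y : Type} [Group Y] [Finite Y] {T : Subgroup Y} {nn : Fin l → Y} {X : (Fin l → ℤ) → Subgroup Y}
  {φ : Y →* GL (Fin n) K} {j : ℕ}

/-- the nodes of the stabiliser of the highest weight vector -/
abbrev JJ (l : ℕ) (X : (Fin l → ℤ) → Subgroup Y) (φ : Y →* GL (Fin n) K) : Set (Fin l) := Jx (cB l) (isCartan l) X (lin (acRep φ))

/-- the dimension of an edge -/
noncomputable abbrev dd (T : Subgroup Y) (X : (Fin l → ℤ) → Subgroup Y) (φ : Y →* GL (Fin n) K) (i : Fin l) : ℕ :=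
  Module.finrank (AlgebraicClosure K) (Le (cB l) (isCartan l) T X (lin (acRep φ)) {i})

variable (B : Fb l p E P Z T nn X φ j) (hC : Core P)
include B hC

theorem Fb.edge {i : Fin l} (hi : i ∉ JJ l X φ) : ∃ d, 2 ≤ d ∧ dd T X φ i = d ^ j := by
  have hWf : Finite (CoxeterMatrix.B l).Group := TypeC.finite_W (cB l)
  have hne := hC.nonempty
  obtain ⟨σ, N⟩ := B.nd i
  exact H650.Ppd.edge_pow_of_card B.rgd B.gg B.comm B.range hC.absIrred ⟨N.up, N.lo, N.tor⟩ hi B.card.symm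

theorem Fb.first (hl : 2 ≤ l) {i : Fin l} (h0 : (i : ℕ) = 0) (hi : i ∉ JJ l X φ) :
    ∃ ε, dd T X φ i ≤ ε + 2 ∧ 2 * l + 2 * l * (l - 1) * ε ≤ n := by
  have hWf : Finite (CoxeterMatrix.B l).Group := TypeC.finite_W (cB l)
  have hne := hC.nonempty
  have hchar : CharP (AlgebraicClosure K) p := charP_of_injective_algebraMap (algebraMap K _).injective p
  have hirr := ac_irr B.rgd B.gg B.comm B.range hC.absIrred
  have hD := finrank_D B.rgd hirr B.comm
  have h1 := TypeB.dim_ge_first B.rgd hirr hl h0 hi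
  have h2 := finrank_Io B.rgd hirr i
  rw [hD, Module.finrank_fintype_fun_eq_card, mul_one, Fintype.card_fin] at h1
  rw [hD] at h2
  exact ⟨_, h2, h1⟩

theorem Fb.last {i : Fin l} (h0 : (i : ℕ) + 1 = l) (hi : i ∉ JJ l X φ) :
    ∃ ε, dd T X φ i ≤ ε + 2 ∧ 2 ^ l + l * 2 ^ (l - 1) * ε ≤ n := by
  have hWf : Finite (CoxeterMatrix.B l).Group := TypeC.finite_W (cB l)
  have hne := hC.nonempty
  have hchar : CharP (AlgebraicClosure K) p := charP_of_injective_algebraMap (algebraMap K _).injective p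
  have hirr := ac_irr B.rgd B.gg B.comm B.range hC.absIrred
  have hD := finrank_D B.rgd hirr B.comm
  have h1 := TypeB.dim_ge_last B.rgd hirr h0 hi
  have h2 := finrank_Io B.rgd hirr i
  rw [hD, Module.finrank_fintype_fun_eq_card, mul_one, Fintype.card_fin] at h1
  rw [hD] at h2
  exact ⟨_, h2, h1⟩

theorem Fb.all {i : Fin l} (hi : i ∉ JJ l X φ) : (l.choose (i + 1) * 2 ^ ((i : ℕ) + 1)) * dd T X φ i ≤ 2 * n := by
  have hWf : Finite (CoxeterMatrix.B l).Group := TypeC.finite_W (cB l)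
  have hne := hC.nonempty
  have hchar : CharP (AlgebraicClosure K) p := charP_of_injective_algebraMap (algebraMap K _).injective p
  have h1 := TypeB.choose_mul_Le_le B.rgd (ac_irr B.rgd B.gg B.comm B.range hC.absIrred) hi
  rwa [Module.finrank_fintype_fun_eq_card, Fintype.card_fin] at h1

omit hC in
theorem Fb.card_X (i : Fin l) : Nat.card (X (sr i)) = Nat.card E := by
  obtain ⟨σ, N⟩ := B.nd i
  refine (Nat.card_congr (Equiv.ofBijective (fun a : E => (⟨σ (H911.SLTwo.U a), (N.up _).2 ⟨a, rfl⟩⟩ : X (sr i)))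
    ⟨fun a b e => N.U_inj B.rgd (congrArg Subtype.val e), fun y => ?_⟩)).symm
  obtain ⟨a, ha⟩ := (N.up _).1 y.2
  exact ⟨a, Subtype.ext ha⟩

omit hC in
theorem Fb.not_dvd_T {r : ℕ} (hr : r.Prime) (h : ¬ r ∣ Nat.card E - 1) : ¬ r ∣ Nat.card T := by
  intro hd
  have := Fact.mk hr
  obtain ⟨t, ht⟩ := exists_prime_orderOf_dvd_card' r hd
  rw [← Subgroup.orderOf_coe] at ht
  refine h (ht ▸ orderOf_dvd_of_pow_eq_one (mul_right_cancel (b := (t : Y)) ?_))
  rw [← pow_succ, Nat.sub_add_cancel Nat.card_pos, B.pw _ t.2, one_mul]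

end frame

end Cfsg.Agent.N2C.RD.Cb
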