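import Cfsg.Agent.N2.Cl.RD.Cb0
import Cfsg.Agent.H284.EPO.TThree

/-!
# N2 (S3519), defining characteristic: the rows `PSp_{2m}`, `Ω_{2m+1}`, `m ≥ 4` (helper47)

* `Cb.ct_c` : the criterion for a bound `c u ≤ q ^ E`;  `Cb.mu_free` : eigenvalues of an element of primitive prime order;
* **`rowC`** : `Row (fC m)`, **`rowB`** : `Row (fB m)`, `m ≥ 4`.
-/

set_option autoImplicit false
set_option linter.unusedSectionVars false

namespace Cfsg.Agent.N2C.RD

namespace Cb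

open Cfsg Cfsg.Geo Cfsg.Agent.H902 Cfsg.Agent.N2C.Cyc Cfsg.Agent.N2C.RX Cfsg.Agent.H915.LD

/-! ### numbers -/

theorem num {m j n : ℕ} (hm : 4 ≤ m) (hj : 1 ≤ j) (h : 4 * (m * j) + 12 ≤ n) :
    4 * n + 3 * (n ^ 2 / 4 + 1) + 2 * (j * (2 * m ^ 2 + m + 1)) + 4 ≤ n ^ 2 := by
  obtain ⟨x, rfl⟩ := Nat.exists_eq_add_of_le h
  obtain ⟨m, rfl⟩ := Nat.exists_eq_add_of_le hm
  obtain ⟨j, rfl⟩ := Nat.exists_eq_add_of_le hj
  have h1 : 16 * (4 * ((4 + m) * (1 + j)) + 12 + x) + 28 + 8 * ((1 + j) * (2 * (4 + m) ^ 2 + (4 + m) + 1)) ≤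
      (4 * ((4 + m) * (1 + j)) + 12 + x) ^ 2 := by
    ring_nf
    omega
  omega

theorem mid {m k : ℕ} (hm : 4 ≤ m) (h1 : 2 ≤ k) (h2 : k < m) :
    4 * m + 8 ≤ m.choose k * 2 ^ k ∧ (4 * m + 12 ≤ m.choose k * 2 ^ k ∨ (m = 4 ∧ k = 2)) := by
  rcases Nat.lt_or_ge 2 k with h3 | h3
  · have h4 := H948.Ppd.TypeB.le_choose (n := m) (k := k) (by omega) h2
    have h5 : 2 ^ 3 ≤ 2 ^ k := Nat.pow_le_pow_right (by norm_num) h3
    have h6 : m * 2 ^ 3 ≤ m.choose k * 2 ^ k := Nat.mul_le_mul h4 h5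
    omega
  · obtain rfl : k = 2 := by omega
    rw [Nat.choose_two_right]
    have h4 : 2 * (m * (m - 1) / 2) = m * (m - 1) := Nat.mul_div_cancel' (Nat.even_mul_pred_self m).two_dvd
    have h5 : m * 3 ≤ m * (m - 1) := Nat.mul_le_mul_left _ (by omega)
    rcases hm.eq_or_lt with rfl | h6
    · exact ⟨by norm_num, Or.inr ⟨rfl, rfl⟩⟩
    · have h7 : m * 4 ≤ m * (m - 1) := Nat.mul_le_mul_left _ (by omega)
      omega

theorem two_pow {m : ℕ} (hm : 5 ≤ m) : 4 * m + 12 ≤ 2 ^ m := by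
  induction m, hm using Nat.le_induction with
  | base => norm_num
  | succ k hk ih =>
    rw [pow_succ]
    omega

theorem gk {m : ℕ} (hm : 3 ≤ m) (p : ℕ) : 16 * gX (.C m) p ^ 2 ≤ 2 ^ 4 := by
  show 16 * (if m = 2 ∧ p = 2 then 2 else 1) ^ 2 ≤ _
  rw [if_neg (by omega)]
  norm_num

/-! ### criteria -/

section md

variable {t : Kd} {n q p T b : ℕ} {K : Type} [Field K] [Fintype K] {P : Subgroup (GL (Fin n) K)} {G : Prop} {c f : P → ℕ}

theorem ct_c (M : Md0 t q p T b P G c f) {X : Art.Sh} {a : ℕ} (N : Nd X p a (Soc P)) {e k x E : ℕ} (hs : p ^ a ≤ q ^ e)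
    (hk : 16 * gX X p ^ 2 ≤ 2 ^ k) (hT : q ^ x ≤ 64 * T ^ 2) (u : P) (hc : c u ≤ q ^ E)
    (h : 6 * E + 2 * (e * (dX X + 1)) + k ≤ x) : G := by
  have hq := M.q_ge
  refine M.good u ((Nat.pow_le_pow_iff_left two_ne_zero).1 (Nat.le_of_mul_le_mul_left ?_ (show 0 < 64 by norm_num)))
  have h1 := (two_mul_le M.prime.two_le a).trans hs
  have h2 : 16 * gX X p ^ 2 ≤ q ^ k := hk.trans (Nat.pow_le_pow_left hq k)
  have h3 := (M.fc u).trans hc
  have h4 := M.b_le N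
  calc 64 * (f u ^ 3 * b) ^ 2 ≤ 64 * ((q ^ E) ^ 3 * (gX X p * a * (p ^ a) ^ dX X)) ^ 2 := by gcongr
    _ = 16 * gX X p ^ 2 * (2 * a * (p ^ a) ^ dX X) ^ 2 * q ^ (6 * E) := by ring
    _ ≤ q ^ k * (q ^ e * (q ^ e) ^ dX X) ^ 2 * q ^ (6 * E) := by gcongr
    _ = q ^ (6 * E + 2 * (e * (dX X + 1)) + k) := by ring
    _ ≤ _ := (Nat.pow_le_pow_right (by omega) h).trans hT

/-- semisimple elements, crude form -/
theorem c_le (M : Md t q p T b P G c f) (u : P) (hu : (orderOf u).Coprime p) {E : ℕ}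
    (hE : es t (dm (u : GL (Fin n) K)) (e2 p (u : GL (Fin n) K)) ≤ E) : c u ≤ q ^ (E + kk t n + 2) := by
  have hq := M.q_ge
  have h1 := M.ss u (Or.inr hu)
  have h2 : k4 t ≤ q ^ 2 := le_trans (by cases t <;> simp only [k4] <;> norm_num) (Nat.pow_le_pow_left hq 2)
  have h3 : Nat.gcd n (zz t q) ≤ zz t q := Nat.gcd_le_right _ M.ct_zz
  have h4 : q + 1 ≤ q * q := by nlinarith
  refine Nat.le_of_mul_le_mul_right (h1.trans' (le_of_eq (mul_assoc _ _ _).symm) |>.trans ?_)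
    (Nat.mul_pos M.ct_zz (pow_pos (show 0 < q by omega) (kk t n)))
  calc _ ≤ zz t q * q ^ 2 * q ^ E * (q * q) ^ kk t n := by gcongr; omega
    _ = _ := by ring

/-- the eigenvalues of an element whose order is a prime `r`, `k` the order of `|K|` modulo `r` -/
theorem mu_free (hC : Core P) (hp : p.Prime) [CharP K p] {r k : ℕ} (hr : r.Prime) (hrp : r ≠ p) {u : P} (hu : u ^ r = 1)
    (hk : orderOf ((Fintype.card K : ℕ) : ZMod r) = k) (h0 : 0 < k) :
    k * dm (u : GL (Fin n) K) ≤ k * ev (u : GL (Fin n) K) 1 ^ 2 + (n - ev (u : GL (Fin n) K) 1) ^ 2 ∧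
      k ∣ n - ev (u : GL (Fin n) K) 1 := by
  have := Fact.mk hr
  obtain ⟨μ, hμ⟩ := exists_muD hC hp ((Nat.coprime_primes hr hp).2 hrp) hu
  obtain ⟨g, hg⟩ := (isOfFinOrder_iff_pow_eq_one.2 ⟨k, h0, hk ▸ pow_orderOf_eq_one _⟩ :
    IsOfFinOrder ((Fintype.card K : ℕ) : ZMod r)).isUnit
  have h1 := hμ.free (Γ := Subgroup.zpowers g) (Subgroup.zpowers_le.2 fun i => by rw [hg]; exact hμ.frob i)
    fun x _ i hi _ e => Units.ext (mul_right_cancel₀ hi (e.trans (one_mul i).symm))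
  rwa [Nat.card_zpowers, ← orderOf_units, hg, hk] at h1

variable {m a : ℕ}

theorem natC (M : Md0 t q p T b P G c f) (N : Nd (.C m) p a (Soc P)) (hm : 2 ≤ m) (hn : n = 2 * m)
    (hK : Fintype.card K = p ^ a) (h1 : SD P) : False := by
  subst hn
  have h := M.frm
  have hq := M.card
  have hd := M.dim
  have ho := N.ord_S
  have h2 := M.q_ge
  rw [← hK, hq] at ho
  have key : Nat.gcd 2 (q - 1) * Nat.card (Soc P) = oSp (2 * m / 2) q → T ≤ oM (2 * m / 2) q → False := by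
    rw [Nat.mul_div_cancel_left _ two_pos]
    obtain ⟨m, rfl⟩ : ∃ k, m = k + 1 := ⟨m - 1, by omega⟩
    intro h3 h4
    have h5 := oSp_ge' h2 (m + 1)
    have h6 := oM_le (q := q) (by omega) (show 1 ≤ m by omega)
    have h7 : Nat.gcd 2 (q - 1) * Nat.card (Soc P) ≤ 2 * Nat.card (Soc P) := Nat.mul_le_mul_right _ (Nat.gcd_le_left _ two_pos)
    have h8 : q ^ (2 * m ^ 2 + 3 * m + 1) * 2 ^ 2 ≤ q ^ (2 * (m + 1) ^ 2 + (m + 1)) :=
      (Nat.mul_le_mul_left _ (Nat.pow_le_pow_left h2 2)).trans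
        ((pow_add _ _ _).symm.trans_le (Nat.pow_le_pow_right (by omega) (by nlinarith)))
    have h9 := M.lt
    omega
  cases t
  · exact h h1
  · exact h.2 h1
  · exact M.not_nat ho
  · have := hd.2.1
    omega
  · exact key ho ((Nat.le_mul_of_pos_left _ (oD_pos h2)).trans (M.ord.trans_le (oP_le_oM _ _)))
  · exact key ho ((Nat.le_mul_of_pos_left _ (oD_pos h2)).trans M.ord.le)

theorem eq_O (M : Md0 t q p T b P G c f) (hn : n % 2 = 1) (h1 : SD P) : t = .O := by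
  have h := M.frm
  have hd := M.dim
  cases t
  · exact (h h1).elim
  · exact (h.2 h1).elim
  · exact absurd hd.2 (by omega)
  · rfl
  · exact absurd hd.2 (by omega)
  · exact absurd hd.2 (by omega)

theorem natB (M : Md0 t q p T b P G c f) (N : Nd (.C m) p a (Soc P)) (hn : n = 2 * m + 1)
    (hK : Fintype.card K = p ^ a) (h1 : SD P) : False := by
  obtain rfl := eq_O M (by omega) h1
  subst hn
  have hq : q = p ^ a := M.card.symm.trans hK
  subst hq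
  exact M.not_nat (N.ord_O M.dim.2.2)

end md

/-! ### rank four -/

section four

open CoxeterSystem Cfsg.Agent.ChevalleyStructure.CoxeterGeom Cfsg.Agent.Tits.Roots Cfsg.Agent.Tits.Core
  Cfsg.Agent.Nodes Cfsg.Agent.Omega.CR Cfsg.Agent.Omega.FOne.Lift.Sd Cfsg.Agent.H911 Cfsg.Agent.H905.Md

/-- the Cartan matrix -/
def mB4 : Fin 4 → Fin 4 → ℤ := ![![2, -1, 0, 0], ![-1, 2, -1, 0], ![0, -1, 2, -2], ![0, 0, -1, 2]]

theorem mB4_eq : TypeC.A 4 = mB4 := by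
  funext i j
  rw [TypeC.A_apply]
  revert i j
  decide +kernel

variable {n : ℕ} {K : Type} [Field K] [Fintype K] {P : Subgroup (GL (Fin n) K)} {E : Type} [Field E] [Fintype E]
  {p : ℕ} [hp : Fact p.Prime] [hKp : CharP K p] [hEp : CharP E p] {Z : Prop} {Y : Type} [Group Y] [Finite Y] {T : Subgroup Y}
  {j : ℕ}

theorem Fb.words {l : ℕ} {nn : Fin l → Y} {X : (Fin l → ℤ) → Subgroup Y} {φ : Y →* GL (Fin n) K}
    (B : Fb l p E P Z T nn X φ j) (hC : Core P) {i : Fin l} (hi : i ∉ JJ l X φ) (ω : List (Fin l))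
    (L : List (List (Fin l) × ℕ))
    (hV : ((Rg.pts L).map (Rg.orb (TypeC.A l) (fun s => if s = i then 1 else 0) ω)).Nodup) {o m : ℕ}
    (ho : L.length = o) (hm : (L.map Prod.snd).sum = m) :
    ∃ u : P, dm (u : GL (Fin n) K) ≤ o * n + (n - m) * (o + (n - m)) := by
  have hWf : Finite (CoxeterMatrix.B l).Group := TypeC.finite_W (cB l)
  have h := Rg.exists_dm_le B.rgd hC B.gg B.comm B.range (c := fun s => if s = i then 1 else 0)
    (fun s hs => if_neg (by rintro rfl; exact hi hs)) ω L [] [] [] (fun e he => absurd he (by simp))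
    (by rw [List.append_nil]; exact hV) List.nodup_nil (o := o) (o' := 0) (m := m) (m' := 0) ho hm rfl rfl
  exact h.2

variable {nn : Fin 4 → Y} {X : (Fin 4 → ℤ) → Subgroup Y} {φ : Y →* GL (Fin n) K} (B : Fb 4 p E P Z T nn X φ j) (hC : Core P)
include B hC

theorem Fb.w1 (hi : (1 : Fin 4) ∉ JJ 4 X φ) : ∃ u : P, dm (u : GL (Fin n) K) ≤ 3 * n + (n - 24) * (3 + (n - 24)) :=
  B.words hC hi [0, 1, 2, 3] [([], 8), ([1], 8), ([1, 2], 8)] (by rw [mB4_eq]; decide +kernel) rfl rfl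

theorem Fb.w3 (hi : (3 : Fin 4) ∉ JJ 4 X φ) : ∃ u : P, dm (u : GL (Fin n) K) ≤ 2 * n + (n - 16) * (2 + (n - 16)) :=
  B.words hC hi [0, 1, 2, 3] [([], 8), ([3, 2], 8)] (by rw [mB4_eq]; decide +kernel) rfl rfl

/-- an element of order dividing `s ^ 2 + 1` -/
theorem Fb.pl (hi : (3 : Fin 4) ∉ JJ 4 X φ) {a r : ℕ} (hE : Fintype.card E = p ^ a) (hK : Fintype.card K = p ^ a) (hr : r.Prime)
    (ho : orderOf ((p : ℕ) : ZMod r) = a * 4) (ha : 1 ≤ a) (hrp : r ≠ p) :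
    ∃ u : P, u ^ r = 1 ∧ 16 + ev (u : GL (Fin n) K) 1 ≤ n := by
  have hWf : Finite (CoxeterMatrix.B 4).Group := TypeC.finite_W (cB 4)
  have hd := H370.Rg.dvd_q_pow_sub hr ho (by omega)
  have h0 : 0 < p ^ a := pow_pos hp.out.pos a
  have hX : ∀ i, Nat.card (X (sr i)) = p ^ a := fun i => by rw [B.card_X, Nat.card_eq_fintype_card, hE]
  have h1 : ¬ r ∣ 1 + p ^ a := fun h => absurd ((hd 2).1 (by
    rw [show (p ^ a) ^ 2 - 1 = (p ^ a) ^ 2 - 1 ^ 2 by rw [one_pow], Nat.sq_sub_sq, add_comm]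
    exact h.mul_right _)) (by norm_num)
  have h2 : r ∣ 1 + p ^ a * p ^ a := by
    have h3 := (hd 4).2 dvd_rfl
    rw [show (p ^ a) ^ 4 - 1 = ((p ^ a) ^ 2) ^ 2 - 1 ^ 2 by rw [one_pow, ← pow_mul (p ^ a)], Nat.sq_sub_sq] at h3
    rw [add_comm, ← sq]
    exact (hr.dvd_mul.1 h3).resolve_right fun h => absurd ((hd 2).1 h) (by norm_num)
  obtain ⟨s, hs, hel⟩ := Rg.exists_el2 B.rgd hr hrp (B.not_dvd_T hr fun h => absurd ((hd 1).1 (by
      rwa [pow_one, ← hE, ← Nat.card_eq_fintype_card])) (by norm_num)) (i := 2) (j := 3) (by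
    rw [H284.TThree.card_B2 B.rgd (Or.inr (by rw [mB4_eq]; decide)) (hX 2) (hX 3)]
    exact (h2.mul_left _).mul_right _) (by rwa [hX]) (by rwa [hX])
  have hsr : s ^ r = 1 := hs ▸ pow_orderOf_eq_one s
  refine ⟨⟨φ s, B.range ▸ ⟨s, rfl⟩⟩, Subtype.ext (by rw [Subgroup.coe_pow, ← map_pow, hsr, map_one]; rfl), ?_⟩
  exact Rg.levi_ev B.rgd hC B.gg B.comm B.range (c := fun s => if s = 3 then 1 else 0)
    (fun s hs => if_neg (by rintro rfl; exact hi hs)) [2, 3] (s := s)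
    (by rwa [show {j : Fin 4 | j ∈ [2, 3]} = {2, 3} by ext; simp]) hr hrp hsr
    [[], [3, 2, 1], [3, 2, 1, 0], [3, 2, 1, 0, 3, 2, 1]] [![2, 2, 2, 1], ![0, 2, 2, 1]]
    (by rw [mB4_eq]; decide +kernel) (by rw [mB4_eq]; decide +kernel) (by rw [mB4_eq]; decide +kernel)
    (by rw [mB4_eq]; decide +kernel) (e := 4) fun d h3 h4 =>
      Nat.le_of_dvd h3 ((hd d).1 (by rwa [Nat.card_eq_fintype_card, hK] at h4))

end four

/-! ### the rows -/

section main

variable {t : Kd} {n q p T₀ b : ℕ} {K : Type} [Field K] [Fintype K] {P : Subgroup (GL (Fin n) K)} {G : Prop} {c f : P → ℕ}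
  {E : Type} [Field E] [Fintype E] [hp : Fact p.Prime] [hKp : CharP K p] [hEp : CharP E p] {Z : Prop} {Y : Type} [Group Y]
  [Finite Y] {T : Subgroup Y} {a j : ℕ}

theorem spin (M : Md t q p T₀ b P G c f) {nn : Fin 4 → Y} {X : (Fin 4 → ℤ) → Subgroup Y} {φ : Y →* GL (Fin n) K}
    (B : Fb 4 p E P Z T nn X φ j) (N : Nd (.C 4) p a (Soc P)) (hE : Fintype.card E = p ^ a) (hK : Fintype.card K = p ^ a)
    (hi : (3 : Fin 4) ∉ JJ 4 X φ) (h1 : 16 ≤ n) (h2 : n < 28) : G := by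
  have hs : p ^ a ≤ Fintype.card K ^ 1 := by rw [hK, pow_one]
  have hk := gk (m := 4) (by norm_num) p
  rcases Nat.lt_or_ge n 26 with h3 | h3
  · obtain ⟨u, hu⟩ := B.w3 M.core hi
    refine M.ct_dm N hs hk u hu ?_
    show _ + 2 * (1 * (36 + 1)) + _ ≤ _
    clear hu
    interval_cases n <;> norm_num
  have ha := N.real.hf
  obtain ⟨r, hr, ho, -, h5, hrp, -⟩ := N.ppd (k := 4) ⟨by norm_num, Or.inl le_rfl⟩ (by omega) (by omega)
  obtain ⟨u, hu, h4⟩ := B.pl M.core hi hE hK hr ho ha hrp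
  obtain ⟨h6, h7⟩ := mu_free M.core hp.out hr hrp hu (k := 4) (by rw [hK]; exact H370.Rg.ord_q ho (by omega)) (by norm_num)
  have h8 := e2_odd hp.out (u := (u : GL (Fin n) K)) (m := r) (by rw [← Subgroup.coe_pow, hu]; rfl) (hr.odd_of_ne_two (by omega))
  generalize ev (u : GL (Fin n) K) 1 = e at h4 h6 h7 h8
  obtain rfl | rfl : n = 26 ∨ n = 27 := by omega
  · refine M.ct_dm N hs hk u (D := 164) ?_ (by show _ + 2 * (1 * (36 + 1)) + _ ≤ _; norm_num)
    obtain rfl | rfl | rfl : e = 2 ∨ e = 6 ∨ e = 10 := by omega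
    all_goals omega
  · obtain rfl := eq_O M.toMd0 (by norm_num) B.sd
    have hq : q = p ^ a := M.card.symm.trans hK
    refine ct_c M.toMd0 N (e := 1) (by rw [hq, pow_one]) hk (Gn.low M.q_ge M.dim M.ord) u (c_le M u
      (Nat.Coprime.coprime_dvd_left (orderOf_dvd_of_pow_eq_one hu) ((Nat.coprime_primes hr hp.out).2 hrp)) (E := 87) ?_) (by
        show 6 * (87 + 27 / 2 + 2) + 2 * (1 * (36 + 1)) + 4 ≤ 27 * (27 - 1)
        norm_num)
    rw [h8]
    show (_ - e) / 2 ≤ 87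
    obtain rfl | rfl | rfl : e = 3 ∨ e = 7 ∨ e = 11 := by omega
    all_goals omega

theorem row (M : Md t q p T₀ b P G c f) {m : ℕ} (hm : 4 ≤ m) {nn : Fin m → Y} {X : (Fin m → ℤ) → Subgroup Y}
    {φ : Y →* GL (Fin n) K} (B : Fb m p E P Z T nn X φ j) (N : Nd (.C m) p a (Soc P)) (hE : Fintype.card E = p ^ a)
    (hZ : ¬ Z) : G := by
  have hC := M.core
  have hj := B.pos
  have hs : Fintype.card K ^ j = p ^ a := by rw [← Nat.card_eq_fintype_card, B.card, Nat.card_eq_fintype_card, hE]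
  have hk := gk (m := m) (by omega) p
  have big : 4 * (m * j) + 12 ≤ n → G := fun h => M.ct_sc N hs.ge hk (num hm hj h)
  have hd : ∀ i, i ∉ JJ m X φ → 2 * j ≤ dd T X φ i := fun i hi => by
    obtain ⟨d, h1, h2⟩ := B.edge hC hi
    rw [h2]
    exact two_mul_le h1 j
  have hmj : m * 1 ≤ m * j := Nat.mul_le_mul_left _ hj
  by_cases hall : ∀ i, i ∉ JJ m X φ → (i : ℕ) = 0
  · obtain ⟨i, hi⟩ := B.node
    obtain ⟨ε, h1, h2⟩ := B.first hC (by omega) (hall i hi) hi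
    have h3 : ¬ dd T X φ i ≤ 2 := fun h => hZ (B.nat i (hall i hi) (fun l hl => Fin.ext ((hall l hl).trans (hall i hi).symm)) h)
    have h4 := hd i hi
    have h5 : 2 * m * 3 * j ≤ 2 * m * (m - 1) * ε := Nat.mul_le_mul (Nat.mul_le_mul_left _ (by omega)) (by omega)
    rw [show 2 * m * 3 * j = 6 * (m * j) by ring] at h5
    exact big (by omega)
  push Not at hall
  obtain ⟨i, hi, hi0⟩ := hall
  have h4 := hd i hi
  rcases Nat.lt_or_ge ((i : ℕ) + 1) m with h1 | h1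
  · have h2 := (Nat.mul_le_mul_left _ h4).trans (B.all hC hi)
    obtain ⟨h3, h5⟩ := mid hm (show 2 ≤ (i : ℕ) + 1 by omega) h1
    generalize m.choose (i + 1) * 2 ^ ((i : ℕ) + 1) = x at h2 h3 h5
    rw [mul_left_comm] at h2
    rcases hj.eq_or_lt with rfl | hj2
    swap
    · have h6 := Nat.mul_le_mul_right j h3
      rw [add_mul, mul_assoc] at h6
      exact big (by omega)
    rcases h5 with h5 | ⟨rfl, h5⟩
    · exact big (by omega)
    rcases Nat.lt_or_ge n 28 with h6 | h6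
    swap
    · exact big (by omega)
    obtain rfl : i = 1 := Fin.ext (by change _ = 1; omega)
    obtain ⟨u, hu⟩ := B.w1 hC hi
    refine M.ct_dm N hs.ge hk u hu ?_
    show _ + 2 * (1 * (36 + 1)) + _ ≤ _
    have h24 : 24 ≤ n := by omega
    clear hu
    interval_cases n <;> norm_num
  have h0 : (i : ℕ) + 1 = m := by have := i.2; omega
  obtain ⟨ε, h2, h3⟩ := B.last hC h0 hi
  have h5 : 2 ^ 4 ≤ 2 ^ m := Nat.pow_le_pow_right two_pos hm
  rcases hj.eq_or_lt with rfl | hj2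
  swap
  · have h6 : m * 2 ^ 3 * j ≤ m * 2 ^ (m - 1) * ε :=
      Nat.mul_le_mul (Nat.mul_le_mul_left _ (Nat.pow_le_pow_right two_pos (by omega))) (by omega)
    rw [show m * 2 ^ 3 * j = 8 * (m * j) by ring] at h6
    exact big (by omega)
  rcases hm.eq_or_lt with rfl | h6
  swap
  · have := two_pow h6
    exact big (by omega)
  rcases Nat.lt_or_ge n 28 with h6 | h6
  swap
  · exact big (by omega)
  obtain rfl : i = 3 := Fin.ext (by change _ = 3; omega)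
  exact spin M B N hE (by rw [← hs, pow_one]) hi (by omega) h6

end main

end Cb

/-- **[N2D-cb]** -/
theorem rowC : ∀ m, 4 ≤ m → Row (fC m) := by
  rintro m hm t n q p T b K _ _ P G c f M ⟨E, _, _, _, h3, ⟨e⟩⟩
  have hp := Fact.mk M.prime
  have hK := M.char
  obtain ⟨a, ha, hE⟩ := exists_f E p
  have N := nd_C M.core.simple M.core.nonabelian M.prime ha hE (by omega) h3 e
  obtain ⟨Y, _, _, T', nn, X, φ, j, B⟩ := Cb.exists_frC p M.core (by omega) e
  exact Cb.row M hm B N hE fun ⟨⟨τ⟩, h⟩ =>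
    Cb.natC M.toMd0 N (by omega) h ((Fintype.card_congr τ.toEquiv).symm.trans hE) B.sd

/-- **[N2D-cb]** -/
theorem rowB : ∀ m, 4 ≤ m → Row (fB m) := by
  rintro m hm t n q p T b K _ _ P G c f M ⟨E, _, _, _, h3, ⟨e⟩⟩
  have hp := Fact.mk M.prime
  have hK := M.char
  obtain ⟨a, ha, hE⟩ := exists_f E p
  have N := nd_B M.core.simple M.core.nonabelian M.prime ha hE (by omega) h3 e
  obtain ⟨Y, _, _, T', nn, X, φ, j, B⟩ := Cb.exists_frB p M.core (by omega) h3 e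
  exact Cb.row M hm B N hE fun ⟨⟨τ⟩, h⟩ =>
    Cb.natB M.toMd0 N h ((Fintype.card_congr τ.toEquiv).symm.trans hE) B.sd

end Cfsg.Agent.N2C.RD
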