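import Cfsg.Agent.N2.Cl.RD.ExcW
import Cfsg.Agent.N2.Cl.RD.Aut

/-!
# N2 (S3519), defining characteristic: the rows `F₄`, `E₆`, `E₇`, `E₈`, `²E₆` (helper37)

**`row_f4`**, **`row_e6`**, **`row_e7`**, **`row_e8`**, **`row_te6`**.
-/

set_option autoImplicit false
set_option linter.unusedSectionVars false
set_option linter.style.haveILetI false

namespace Cfsg.Agent.N2C.RD

open Matrix CoxeterSystem Cfsg.Agent.ChevalleyStructure.CoxeterGeom Cfsg.Agent.Tits.Roots Cfsg.Agent.Tits.Core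
  Cfsg.Agent.Tits.Exchange Cfsg.Agent.Nodes.Reps Cfsg.Agent.Nodes.BNOf
open Cfsg.Agent.H915.LD Cfsg.Agent.KFacts.MulOdd.Inst
open Cfsg.Agent.H64.CrossChev (nd isType_F4 isType_E6 isType_E7 isType_E8 parity_E7)
open Cfsg.Agent.Nodes.RGDChev (IsType)
open Cfsg.Lie Cfsg.Agent.ChevalleyStructure Cfsg.Agent.ChevalleyStructure.Elts
  Cfsg.Agent.ChevalleyStructure.CoxeterGeomTypes Cfsg.Agent.KFacts.MulOdd.InstChev
open Cfsg Cfsg.Geo Cfsg.Agent.N2C.RX Cfsg.Agent.N2C.RD.Rg Cfsg.Agent.H902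

namespace Xc

section

variable {t : Kd} {n q p T b : ℕ} {K : Type} [Field K] [Fintype K] {P : Subgroup (GL (Fin n) K)} {G : Prop} {c f : P → ℕ}
  (M : Md0 t q p T b P G c f)
include M

theorem b_le {X : Art.Sh} {a : ℕ} (D : Nd X p a (Soc P)) (hg : gX X p ≤ 2) : b ≤ (p ^ a) ^ (dX X + 1) := by
  refine (M.b_le D).trans ?_
  rw [pow_succ']
  exact Nat.mul_le_mul_right _ ((Nat.mul_le_mul_right _ hg).trans (two_mul_le M.prime.two_le a))

variable {E : Type} [Field E] [Fintype E] [CharP E p] {D : ChevalleyDatum} {l : ℕ} {C : CoxeterMatrix (Fin l)} (ht : IsType D l C)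
  (hpar : parity D l = true) (e : Soc P ≃* D.group E) {δ : ℕ} (hb : b ≤ Fintype.card E ^ δ)
include ht hpar e hb

theorem chev {x : ℕ}
    (hx : ∀ (_ : Finite C.Group) (J : Set (Fin l)) (i : Fin l), i ∉ J → x ≤ (WJ C.toCoxeterSystem J).index) :
    ∃ (i : Fin l) (j : ℕ), 1 ≤ j ∧ x * j ≤ n ∧ b ≤ Fintype.card K ^ (δ * j) ∧ Wt P (cartanOf D l) i := by
  have := Fact.mk M.prime
  have := M.char
  have hW : Finite C.Group := Nodes.RGDChev.finite_W ht C.toCoxeterSystem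
  exact setup' (Nodes.RGDChev.rgd (K := E) ht C.toCoxeterSystem p) (Nodes.RGDChev.G1_eq_top ht C.toCoxeterSystem)
    (fun s hs t ht' => Subtype.ext (H2.Ppd.diag_comm ht.inList hs ht')) (E := fun _ => E) (nd ht hpar E) e M (fun _ => hb) (hx hW)

theorem chev2 (hδ : δ = 79)
    (hx : ∀ (_ : Finite C.Group) (J : Set (Fin l)) (i : Fin l), i ∉ J → 24 ≤ (WJ C.toCoxeterSystem J).index)
    (ω : List (Fin l)) (L : Fin l → List (List (Fin l) × ℕ))
    (hL : ∀ i, ((pts (L i)).map (orb (cartanOf D l) (Pi.single i 1) ω)).Nodup ∧ (L i).length = 2 ∧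
      ((L i).map Prod.snd).sum = 24) : G := by
  have := Fact.mk M.prime
  have := M.char
  have hW : Finite C.Group := Nodes.RGDChev.finite_W ht C.toCoxeterSystem
  exact of_two (Nodes.RGDChev.rgd (K := E) ht C.toCoxeterSystem p) (Nodes.RGDChev.G1_eq_top ht C.toCoxeterSystem)
    (fun s hs t ht' => Subtype.ext (H2.Ppd.diag_comm ht.inList hs ht')) (E := fun _ => E) (nd ht hpar E) e M (fun _ => hb) hδ (hx hW)
    ω L hL

end

/-- Cartan matrices -/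
def aF : Fin 4 → Fin 4 → ℤ := ![![2, -1, 0, 0], ![-1, 2, -2, 0], ![0, -1, 2, -1], ![0, 0, -1, 2]]

def a6 : Fin 6 → Fin 6 → ℤ := ![![2, 0, -1, 0, 0, 0], ![0, 2, 0, -1, 0, 0], ![-1, 0, 2, -1, 0, 0], ![0, -1, -1, 2, -1, 0],
  ![0, 0, 0, -1, 2, -1], ![0, 0, 0, 0, -1, 2]]

def a7 : Fin 7 → Fin 7 → ℤ := ![![2, 0, -1, 0, 0, 0, 0], ![0, 2, 0, -1, 0, 0, 0], ![-1, 0, 2, -1, 0, 0, 0],
  ![0, -1, -1, 2, -1, 0, 0], ![0, 0, 0, -1, 2, -1, 0], ![0, 0, 0, 0, -1, 2, -1], ![0, 0, 0, 0, 0, -1, 2]]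

theorem aF_eq : cartanOf chevF4 4 = aF := by decide +kernel
theorem a6_eq : cartanOf chevE6 6 = a6 := by decide +kernel
theorem a7_eq : cartanOf chevE7 7 = a7 := by decide +kernel

/-- orbits of the Coxeter elements -/
def lF : Fin 4 → List (List (Fin 4) × ℕ) :=
  ![[([], 12), ([0, 1, 2], 12)], [([], 12), ([1], 12)], [([], 12), ([2], 12)], [([], 12), ([3, 2, 1], 12)]]

def l6 : Fin 6 → List (List (Fin 6) × ℕ) :=
  ![[([], 12), ([0, 2, 3], 12)], [([], 12), ([1, 3], 12)], [([], 12), ([2], 12)], [([], 12), ([3], 12)], [([], 12), ([4], 12)],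
    [([], 12), ([5, 4, 3, 1], 12)]]

def l7 : Fin 7 → List (List (Fin 7) × ℕ) :=
  ![[([], 18), ([0, 2, 3], 18), ([0, 2, 3, 4], 18)], [([], 18), ([1, 3], 18), ([1, 3, 2], 18)],
    [([], 18), ([2], 18), ([2, 3], 18)], [([], 18), ([3], 18), ([3, 1], 18)], [([], 18), ([4], 18), ([4, 3], 18)],
    [([], 18), ([5], 18), ([5, 4], 18)], [([], 18), ([6, 5, 4, 3, 1], 18), ([6, 5, 4, 3, 1, 2, 3], 18)]]

theorem lF_ok : ∀ i, ((pts (lF i)).map (orb aF (Pi.single i 1) [0, 1, 2, 3])).Nodup ∧ (lF i).length = 2 ∧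
    ((lF i).map Prod.snd).sum = 24 := by decide +kernel

theorem lT_ok : ∀ i, ((pts (lF i)).map (orb Nodes.RGDTwE6.A (Pi.single i 1) [0, 1, 2, 3])).Nodup ∧ (lF i).length = 2 ∧
    ((lF i).map Prod.snd).sum = 24 := by decide +kernel

theorem l6_ok : ∀ i, ((pts (l6 i)).map (orb a6 (Pi.single i 1) [0, 1, 2, 3, 4, 5])).Nodup ∧ (l6 i).length = 2 ∧
    ((l6 i).map Prod.snd).sum = 24 := by decide +kernel

theorem l7_ok : ∀ i, ((pts (l7 i)).map (orb a7 (Pi.single i 1) [0, 1, 2, 3, 4, 5, 6])).Nodup ∧ (l7 i).length = 3 ∧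
    ((l7 i).map Prod.snd).sum = 54 := by decide +kernel

end Xc

open Xc

theorem row_f4 : Row (fX chevF4 0) := by
  rintro t n q p T b K _ _ P G c f M ⟨E, _, _, _, -, ⟨e⟩⟩
  obtain ⟨a, ha, hE⟩ := exists_f E p
  have h1 := b_le M.toMd0 (nd_F4 M.core.simple M.core.nonabelian M.prime ha hE e) (by simp only [gX]; split_ifs <;> norm_num)
  rw [← hE] at h1
  exact chev2 M.toMd0 isType_F4 parity_F4 e (h1.trans (Nat.pow_le_pow_right Fintype.card_pos (by norm_num [dX]))) rfl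
    (fun _ J i hi => H2.Ppd.index_F4 _ hi) _ lF (aF_eq ▸ lF_ok)

theorem row_e6 : Row (fX chevE6 0) := by
  rintro t n q p T b K _ _ P G c f M ⟨E, _, _, _, -, ⟨e⟩⟩
  obtain ⟨a, ha, hE⟩ := exists_f E p
  have h1 := b_le M.toMd0 (nd_E6 M.core.simple M.core.nonabelian M.prime ha hE e) le_rfl
  rw [← hE] at h1
  exact chev2 M.toMd0 isType_E6 parity_E6 e h1 rfl (fun _ J i hi => H2.Ppd.index_E6 _ hi) _ l6 (a6_eq ▸ l6_ok)

theorem row_e7 : Row (fX chevE7 0) := by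
  rintro t n q p T b K _ _ P G c f M ⟨E, _, _, _, -, ⟨e⟩⟩
  obtain ⟨a, ha, hE⟩ := exists_f E p
  have h1 := b_le M.toMd0 (nd_E7 M.core.simple M.core.nonabelian M.prime ha hE e) one_le_two
  rw [← hE] at h1
  obtain ⟨i, j, h2, h3, h4, h5⟩ := chev M.toMd0 isType_E7 parity_E7 e h1 (fun _ J i hi => SM.Ti.Lo.index_E7 _ hi)
  obtain ⟨h6, -⟩ := h5 _ (l7 i) 3 54 (a7_eq ▸ (l7_ok i).1) (l7_ok i).2.1 (l7_ok i).2.2
  exact sc_mul M.toMd0 h4 h2 h3 (y := 38) h6 (by norm_num [dX])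

theorem row_e8 : Row (fX chevE8 0) := by
  rintro t n q p T b K _ _ P G c f M ⟨E, _, _, _, -, ⟨e⟩⟩
  obtain ⟨a, ha, hE⟩ := exists_f E p
  have h1 := b_le M.toMd0 (nd_E8 M.core.simple M.core.nonabelian M.prime ha hE e) one_le_two
  rw [← hE] at h1
  obtain ⟨i, j, h2, h3, h4, -⟩ := chev M.toMd0 isType_E8 parity_E8 e h1 (fun _ J i hi => SM.Ti.Lo.index_E8 _ hi)
  exact sc_mul M.toMd0 h4 h2 h3 (y := 46) (by omega) (by norm_num [dX])

theorem row_te6 : Row f2E6 := by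
  classical
  rintro t n q p T b K _ _ P G c f M ⟨E, _, _, _, s, hq, hE, ⟨e⟩⟩
  have hp := Fact.mk M.prime
  have := M.char
  obtain ⟨a, ha, rfl⟩ := exists_f' E M.prime two_ne_zero hE
  have h1 := b_le M.toMd0 (nd_2E6 M.core.simple M.core.nonabelian M.prime ha hE e) le_rfl
  have hq1 := hq.one_lt
  obtain ⟨φ, hφ, hqq⟩ := TwE6Basic.exists_frob hq hE
  let _ : ∀ i : Fin 4, Fintype (Nodes.RGDFoldSL.Fx φ ((Nodes.RGDTwNode.E6.rest i).length + 1)) :=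
    fun i => Fintype.ofFinite _
  have hch : ∀ i : Fin 4, CharP (Nodes.RGDFoldSL.Fx φ ((Nodes.RGDTwNode.E6.rest i).length + 1)) p :=
    fun i => (RingHom.charP_iff (Nodes.RGDFoldSL.Fx φ _).subtype (Nodes.RGDFoldSL.Fx φ _).subtype_injective p).2 inferInstance
  have hN := fun i : Fin 4 =>
    H59.CrossTw.nd_fold (Nodes.RGDTwE6.foldGrp hφ hqq) (Nodes.RGDTwNode.E6.nodeOK i) (φ := φ)
      (fun s hs t => by rw [Nodes.RGDTwNode.E6.eps_one i s hs, Int.cast_one, one_mul])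
      (KFacts.MulOdd.InstTw.parityTw_spec KFacts.MulOdd.InstTw.parity_E6 i).choose_spec.1
      (KFacts.MulOdd.InstTw.parityTw_spec KFacts.MulOdd.InstTw.parity_E6 i).choose_spec.2
  have hW : Finite CoxeterMatrix.F₄.Group :=
    Nodes.RGDFold.finite_W (hp := isType_E6) CoxeterMatrix.F₄.toCoxeterSystem Nodes.RGDTwE6.isCartan Nodes.RGDTwE6.foldData
  have hcard : ∀ i : Fin 4, p ^ a ≤ Fintype.card (Nodes.RGDFoldSL.Fx φ ((Nodes.RGDTwNode.E6.rest i).length + 1)) := by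
    have e1 : Nat.card (Nodes.RGDFoldSL.Fx φ 1) = p ^ a := by
      have h2 := H59.CrossTw.card_Fx_one hq1 hE hφ
      have h3 : 0 < Nat.card (Nodes.RGDFoldSL.Fx φ 1) := Nat.card_pos
      omega
    have e2 := H59.CrossTw.card_Fx_eq hE hφ
    have e3 : p ^ a ≤ (p ^ a) ^ 2 := Nat.le_self_pow two_ne_zero _
    intro i
    rw [← Nat.card_eq_fintype_card]
    fin_cases i
    exacts [e1.ge, e1.ge, e3.trans e2.ge, e3.trans e2.ge]
  exact of_two
    (Nodes.RGDFold.rgd CoxeterMatrix.F₄.toCoxeterSystem Nodes.RGDTwE6.isCartan Nodes.RGDTwE6.foldData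
      (Nodes.RGDTwE6.foldGrp hφ hqq) p)
    (Nodes.RGDFold.G1_eq_top CoxeterMatrix.F₄.toCoxeterSystem Nodes.RGDTwE6.isCartan Nodes.RGDTwE6.foldData
      (Nodes.RGDTwE6.foldGrp hφ hqq) p)
    (fun s hs t ht' => Subtype.ext (H2.Ppd.diag_comm isType_E6.inList (Subgroup.mem_subgroupOf.1 hs).1
      (Subgroup.mem_subgroupOf.1 ht').1)) hN e M.toMd0 (fun i => h1.trans (Nat.pow_le_pow_left (hcard i) _)) rfl
    (fun J i hi => H2.Ppd.index_F4 _ hi) _ lF lT_ok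

end Cfsg.Agent.N2C.RD
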