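import Cfsg.Agent.N2.Cl.RD.Defs
import Cfsg.Agent.N2.Cl.RX.Num

/-!
# N2 (S3519), defining characteristic, exceptional socles: the numbers (helper37)

* `fin` : `c u ^ 2 ≤ q ^ x`, `b ≤ q ^ y`, `3 x + 2 y ≤ tE t n`;
* **`crit`** : `dm u ≤ d`, `b ≤ |K| ^ δ`, `3 d + 4 n + 2 δ + 6 ≤ n ^ 2` (all kinds); `crit'` : kinds `L`, `U`, `S`;
* **`sc`** : `16 n + 8 δ + 36 ≤ n ^ 2`.
-/

set_option autoImplicit false

namespace Cfsg.Agent.N2C.RD.Xc

open Cfsg Cfsg.Geo Cfsg.Agent.N2C.Cyc Cfsg.Agent.N2C.RX Cfsg.Agent.H915.LD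

/-- `q ^ tE ≤ T ^ 2` -/
def tE : Kd → ℕ → ℕ
  | .L, n => 2 * n ^ 2 - 12
  | .U, n => 2 * n ^ 2 - 12
  | .S, n => n ^ 2 + n - 6
  | _, n => n ^ 2 - n - 6

theorem sq_of {q e x T : ℕ} (hq : 2 ≤ q) (h : q ^ e ≤ 8 * T) (hx : x + 6 ≤ 2 * e) : q ^ x ≤ T ^ 2 := by
  have h1 : 2 ^ 3 ≤ q ^ 3 := Nat.pow_le_pow_left hq 3
  have h2 : q ^ e ≤ q ^ 3 * T := h.trans (Nat.mul_le_mul_right _ h1)
  refine Nat.le_of_mul_le_mul_left ?_ (pow_pos (by omega : 0 < q) 6)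
  calc q ^ 6 * q ^ x = q ^ (x + 6) := by ring
    _ ≤ q ^ (2 * e) := Nat.pow_le_pow_right (by omega) hx
    _ = (q ^ e) ^ 2 := by rw [mul_comm, pow_mul]
    _ ≤ (q ^ 3 * T) ^ 2 := Nat.pow_le_pow_left h2 2
    _ = _ := by ring

theorem low {t : Kd} {n q T : ℕ} (hd : dimOk t n q) (ho : oD t n q * T = oI t n q) (hq : 2 ≤ q) : q ^ tE t n ≤ T ^ 2 := by
  have h5 := five_le hd
  have h25 : 5 * n ≤ n ^ 2 := by nlinarith
  have g2 : Nat.gcd 2 (q - 1) ≤ 2 := Nat.gcd_le_left _ two_pos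
  have g4 : ∀ x, Nat.gcd 4 x * T ≤ 4 * T := fun x => Nat.mul_le_mul_right _ (Nat.gcd_le_left _ four_pos)
  cases t with
  | L =>
    have h1 := oGL_ge' hq (show 1 ≤ n by omega)
    have h3 : Nat.gcd n (q - 1) * (q - 1) * T = oGL n q := ho
    have h4 : q ^ (n ^ 2 - 1) ≤ q * (2 * T) := Nat.le_of_mul_le_mul_left (by
      calc (q - 1) * q ^ (n ^ 2 - 1) ≤ 2 * (Nat.gcd n (q - 1) * (q - 1) * T) := h3 ▸ h1
        _ ≤ 2 * (q * (q - 1) * T) := by gcongr; exact (Nat.gcd_le_right _ (by omega)).trans (Nat.sub_le _ _)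
        _ = (q - 1) * (q * (2 * T)) := by ring) (show 0 < q - 1 by omega)
    rw [show n ^ 2 - 1 = n ^ 2 - 2 + 1 by omega, pow_succ'] at h4
    have h6 := Nat.le_of_mul_le_mul_left h4 (by omega)
    exact sq_of hq (e := n ^ 2 - 2) (by omega) (by change 2 * n ^ 2 - 12 + 6 ≤ _; omega)
  | U =>
    have h1 := oGU_ge hq (show 2 ≤ n by omega)
    have h3 : Nat.gcd n (q + 1) * (q + 1) * T = oGU n q := ho
    have h6 : q + 1 ≤ q ^ 2 - 1 := by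
      have : q + 2 ≤ q ^ 2 := by nlinarith
      omega
    have h4 : q ^ (n ^ 2 - 3) ≤ T := Nat.le_of_mul_le_mul_left (by
      calc (q + 1) * (q + 1) * q ^ (n ^ 2 - 3) ≤ (q + 1) * (q ^ 2 - 1) * q ^ (n ^ 2 - 3) := by gcongr
        _ ≤ Nat.gcd n (q + 1) * (q + 1) * T := h3 ▸ h1
        _ ≤ (q + 1) * (q + 1) * T := by gcongr; exact Nat.gcd_le_right _ (by omega)) (show 0 < (q + 1) * (q + 1) by positivity)
    exact sq_of hq (e := n ^ 2 - 3) (by omega) (by change 2 * n ^ 2 - 12 + 6 ≤ _; omega)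
  | S =>
    obtain ⟨k, rfl⟩ : ∃ k, n = 2 * k := ⟨n / 2, by have := hd.2; omega⟩
    have h1 := oSp_ge' hq k
    have h3 : Nat.gcd 2 (q - 1) * T = oSp (2 * k / 2) q := ho
    rw [Nat.mul_div_cancel_left _ two_pos] at h3
    have h4 := Nat.mul_le_mul_right T g2
    have h6 : (2 * k) ^ 2 = 4 * k ^ 2 := by ring
    exact sq_of hq (e := 2 * k ^ 2 + k) (by omega) (by change (2 * k) ^ 2 + 2 * k - 6 + 6 ≤ _; omega)
  | O =>
    obtain ⟨k, rfl⟩ : ∃ k, n = 2 * k + 1 := ⟨n / 2, by have := hd.2.1; omega⟩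
    have h1 := oSp_ge' hq k
    have h3 : 2 * T = oSp ((2 * k + 1) / 2) q := ho
    rw [show (2 * k + 1) / 2 = k by omega] at h3
    have h6 : (2 * k + 1) ^ 2 = 4 * k ^ 2 + 4 * k + 1 := by ring
    exact sq_of hq (e := 2 * k ^ 2 + k) (by omega) (by change (2 * k + 1) ^ 2 - (2 * k + 1) - 6 + 6 ≤ _; omega)
  | P =>
    obtain ⟨k, rfl⟩ : ∃ k, n = 2 * (k + 1) := ⟨n / 2 - 1, by have := hd.1; have := hd.2; omega⟩
    have h1 := oP_ge hq (m := k) (by have := hd.1; omega)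
    have h3 : Nat.gcd 4 (q ^ (2 * (k + 1) / 2) - 1) * T = oP (2 * (k + 1) / 2) q := ho
    rw [Nat.mul_div_cancel_left _ two_pos] at h3
    have h4 := g4 (q ^ (k + 1) - 1)
    have h6 : (2 * (k + 1)) ^ 2 = 4 * k ^ 2 + 8 * k + 4 := by ring
    exact sq_of hq (e := 2 * k ^ 2 + 3 * k + 1) (by omega) (by change (2 * (k + 1)) ^ 2 - 2 * (k + 1) - 6 + 6 ≤ _; omega)
  | M =>
    obtain ⟨k, rfl⟩ : ∃ k, n = 2 * (k + 1) := ⟨n / 2 - 1, by have := hd.1; have := hd.2; omega⟩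
    have h1 := oM_ge hq k
    have h3 : Nat.gcd 4 (q ^ (2 * (k + 1) / 2) + 1) * T = oM (2 * (k + 1) / 2) q := ho
    rw [Nat.mul_div_cancel_left _ two_pos] at h3
    have h4 := g4 (q ^ (k + 1) + 1)
    have h6 : (2 * (k + 1)) ^ 2 = 4 * k ^ 2 + 8 * k + 4 := by ring
    exact sq_of hq (e := 2 * k ^ 2 + 3 * k + 1) (by omega) (by change (2 * (k + 1)) ^ 2 - 2 * (k + 1) - 6 + 6 ≤ _; omega)

variable {t : Kd} {n q p T b : ℕ} {K : Type} [Field K] [Fintype K] {P : Subgroup (GL (Fin n) K)} {G : Prop} {c f : P → ℕ}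
  (M : Md0 t q p T b P G c f)
include M

theorem two_le : 2 ≤ q := by
  obtain ⟨a, ha, rfl⟩ := M.pow
  exact M.prime.two_le.trans (Nat.le_self_pow ha.ne' p)

theorem zz_pos : 0 < zz t q := by
  have h := two_le M
  cases t <;> simp only [zz] <;> first | omega | exact Nat.gcd_pos_of_pos_left _ two_pos

theorem fin (u : P) {x y : ℕ} (hc : c u ^ 2 ≤ q ^ x) (hb : b ≤ q ^ y) (h : 3 * x + 2 * y ≤ tE t n) : G := by
  have hq := two_le M
  refine M.good u ((Nat.pow_le_pow_iff_left two_ne_zero).1 ?_)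
  calc (f u ^ 3 * b) ^ 2 ≤ (c u ^ 3 * q ^ y) ^ 2 := by gcongr; exact M.fc u
    _ = (c u ^ 2) ^ 3 * (q ^ y) ^ 2 := by ring
    _ ≤ (q ^ x) ^ 3 * (q ^ y) ^ 2 := by gcongr
    _ = q ^ (3 * x + 2 * y) := by ring
    _ ≤ q ^ tE t n := Nat.pow_le_pow_right (by omega) h
    _ ≤ T ^ 2 := low M.dim M.ord hq

theorem c_le (u : P) {d : ℕ} (hd : dm (u : GL (Fin n) K) ≤ d) : c u ^ 2 ≤ q ^ ec t n d := by
  have hq := two_le M
  have hz := zz_pos M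
  refine Nat.le_of_mul_le_mul_right ?_ (pow_pos hz 2)
  calc c u ^ 2 * zz t q ^ 2 = (c u * zz t q) ^ 2 := by ring
    _ ≤ _ := M.crude u
    _ ≤ zz t q ^ 2 * q ^ ec t n d := Nat.mul_le_mul (Nat.pow_le_pow_left (Nat.gcd_le_right _ hz) 2)
        (Nat.pow_le_pow_right (by omega) (ec_mono t n hd))
    _ = _ := mul_comm _ _

theorem crit0 (u : P) {d δ x : ℕ} (hd : dm (u : GL (Fin n) K) ≤ d) (hb : b ≤ Fintype.card K ^ δ)
    (hx : t = .O ∨ t = .P ∨ t = .M → n ≤ x) (h : 3 * d + 3 * n + x + 2 * δ + 6 ≤ n ^ 2) : G := by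
  have h1 := c_le M u hd
  have h5 := five_le M.dim
  rw [M.card] at hb
  cases t with
  | L => exact fin M u h1 hb (by change 3 * (2 * d) + 2 * δ ≤ 2 * n ^ 2 - 12; omega)
  | U => exact fin M u h1 (y := 2 * δ) (by rw [pow_mul]; exact hb) (by change 3 * (2 * (d + n)) + 2 * (2 * δ) ≤ 2 * n ^ 2 - 12; omega)
  | S => exact fin M u h1 hb (by change 3 * (d + n) + 2 * δ ≤ n ^ 2 + n - 6; omega)
  | O => exact fin M u h1 hb (by have := hx (by simp); change 3 * (d + n) + 2 * δ ≤ n ^ 2 - n - 6; omega)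
  | P => exact fin M u h1 hb (by have := hx (by simp); change 3 * (d + n) + 2 * δ ≤ n ^ 2 - n - 6; omega)
  | M => exact fin M u h1 hb (by have := hx (by simp); change 3 * (d + n) + 2 * δ ≤ n ^ 2 - n - 6; omega)

/-- **the crude criterion** -/
theorem crit (u : P) {d δ : ℕ} (hd : dm (u : GL (Fin n) K) ≤ d) (hb : b ≤ Fintype.card K ^ δ)
    (h : 3 * d + 4 * n + 2 * δ + 6 ≤ n ^ 2) : G :=
  crit0 M u hd hb (x := n) (fun _ => le_rfl) (by omega)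

/-- **Scott** -/
theorem sc {δ : ℕ} (hb : b ≤ Fintype.card K ^ δ) (h : 16 * n + 8 * δ + 36 ≤ n ^ 2) : G := by
  obtain ⟨u, hu⟩ := M.small
  exact crit M u hu hb (by omega)

/-- **Scott**, not orthogonal -/
theorem sc' (ht : ¬ (t = .O ∨ t = .P ∨ t = .M)) {δ : ℕ} (hb : b ≤ Fintype.card K ^ δ) (h : 12 * n + 8 * δ + 36 ≤ n ^ 2) : G := by
  obtain ⟨u, hu⟩ := M.small
  exact crit0 M u hu hb (x := 0) (fun k => absurd k ht) (by omega)

/-- `n ≥ c j`, `b ≤ |K| ^ (δ j)` -/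
theorem sc_mul {δ j x y : ℕ} (hb : b ≤ Fintype.card K ^ (δ * j)) (hj : 1 ≤ j) (hn : x * j ≤ n) (hy : y + 16 ≤ n)
    (h : 8 * δ + 36 ≤ x * y) : G := by
  refine sc M hb ?_
  have h1 : (8 * δ + 36) * j ≤ n * y := by
    calc (8 * δ + 36) * j ≤ x * y * j := Nat.mul_le_mul_right _ h
      _ = x * j * y := by ring
      _ ≤ n * y := Nat.mul_le_mul_right _ hn
  have h2 : n * (y + 16) ≤ n ^ 2 := by rw [sq]; exact Nat.mul_le_mul_left _ hy
  nlinarith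

end Cfsg.Agent.N2C.RD.Xc
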