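import Cfsg.Agent.N2.Cl.RD.ExcTr
import Cfsg.Agent.N2.Cl.RD.ExcNum
import Cfsg.Agent.N2.Cl.RD.Aut
import Cfsg.Agent.N2.Cl.RD.Lin
import Cfsg.Agent.H315.TwF.Main
import Cfsg.Agent.H218.SdLift

/-!
# N2 (S3519), defining characteristic: the row `²F₄` (helper37)

* `tf_dim` : `|K| ^ j = 2 ^ (2 l + 1)`, `24 j ≤ n`;  **`row_tf4`**.
-/

set_option autoImplicit false
set_option linter.unusedSectionVars false

namespace Cfsg.Agent.N2C.RD

open Cfsg Cfsg.Geo Matrix Cfsg.Agent.H915.LD Cfsg.Agent.H905.Md Cfsg.Agent.H315.TwF Cfsg.Agent.N2C.RX Cfsg.Agent.H902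
open Cfsg.Agent.H911 (lin)

namespace Xc

variable {n : ℕ} {K : Type} [Field K] [Fintype K] {P : Subgroup (GL (Fin n) K)}

theorem tf_dim [CharP K 2] (hC : Core P) {E : Type} [Field E] [Fintype E] {l : ℕ} (hl : 1 ≤ l)
    (hE : Fintype.card E = 2 ^ (2 * l + 1)) (e : Soc P ≃* ↥(Lie.twistedF4 E (2 ^ l))) :
    ∃ j, 1 ≤ j ∧ Fintype.card K ^ j = 2 ^ (2 * l + 1) ∧ 24 * j ≤ n := by
  have hp2 : Fact (Nat.Prime 2) := ⟨Nat.prime_two⟩
  obtain ⟨φ, hφ, hker, -⟩ := exists_cover (p := 2) hC.perfect e (S1112.result hE hl)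
    (fun r hr hr2 => H67.TwFFourOdd.noPCov_odd hl hE hr hr2) (πG := MonoidHom.id _) Function.surjective_id
    (by rw [MonoidHom.ker_id]; exact bot_le)
  have hch : CharP (AlgebraicClosure K) 2 := charP_of_injective_algebraMap (algebraMap K _).injective 2
  have hne := hC.nonempty
  -- the field
  obtain ⟨j, hj, hKj⟩ := card_pow_eq (F := K) 2 (a := 2 * l + 1) (by omega)
    (pow_eq_of_no_subfield hC.absIrred hC.no_subfield 2 _ fun g hg => by
      obtain ⟨Q, U, h1, h2, h3, h4⟩ := exists_split hl hE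
      obtain ⟨θ, hθ⟩ := exists_frob K 2 (2 * l + 1)
      obtain ⟨y, rfl⟩ : g ∈ φ.range := hφ ▸ hg
      have h5 := tr_split h1 h2 h3 h4 (σ := lin (acRep φ))
        ⟨inferInstance, acRep_irr hφ (H920.span_eq_top hC.absIrred) rfl⟩ θ hθ y
      rw [show lin (acRep φ) y = toLin' (acRep φ y) from rfl, Matrix.trace_toLin'_eq, trace_acRep, ← map_pow] at h5
      exact (algebraMap K (AlgebraicClosure K)).injective h5)
  refine ⟨j, hj, Nat.card_eq_fintype_card (α := K) ▸ hKj, ?_⟩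
  -- the numbers
  obtain ⟨d, -, hd⟩ := FiniteField.card K 2
  have hq : Nat.card K = 2 ^ (d : ℕ) := by rw [Nat.card_eq_fintype_card, hd]
  obtain ⟨r, hr, hprim, -, hr2⟩ := Lib.Zsigmondy.exists_primitive (a := 2) (n := 4 * (2 * l + 1)) le_rfl (by omega)
    (fun h => by omega) (by omega)
  have hrne : r ≠ 2 := fun h => hr2 (h ▸ dvd_rfl)
  have hrQ : r ∣ Nat.card E * Nat.card E + 1 := by
    have h1 := (hprim _).2 dvd_rfl
    have h2 : ¬ r ∣ 2 ^ (2 * (2 * l + 1)) - 1 := fun h3 => by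
      have := Nat.le_of_dvd (by omega) ((hprim _).1 h3)
      omega
    rw [Nat.card_eq_fintype_card, hE, ← pow_add, ← two_mul]
    rw [show 4 * (2 * l + 1) = 2 * (2 * l + 1) * 2 by ring, pow_mul, ← one_pow 2, Nat.sq_sub_sq] at h1
    exact (hr.dvd_mul.1 h1).resolve_right h2
  have hodd : ∀ a : ℕ, ¬ 2 ∣ a → (a : AlgebraicClosure K) ≠ 0 := fun a ha h0 => ha ((CharP.cast_eq_zero_iff _ 2 a).1 h0)
  have h1 := rep_bound (K := E) (m := l) (by exact_mod_cast hodd 5 (by norm_num)) hl hE (lin (acRep φ)) (r := r) (fun g hg =>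
      H218.SdLift.acRep_injective ((MonoidHom.ker_eq_bot_iff _).1 (eq_bot_iff.2 (hker.trans (by rw [MonoidHom.ker_id])))) hg)
    hr hrne hrQ (hodd r fun h => hrne ((Nat.prime_dvd_prime_iff_eq Nat.prime_two hr).1 h).symm) (semi_frob φ) (fun α hα => by
      have h2 : (α - 1) ^ Nat.card K = 0 := by rw [hq, sub_pow_char_pow, one_pow, ← hq, hα, sub_self]
      exact sub_eq_zero.1 ((pow_eq_zero_iff (Nat.card_pos (α := K)).ne').1 h2)) (fun α h1 h2 => card_Or hr h1 h2)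
  rw [Module.finrank_pi, Fintype.card_fin] at h1
  have h2 : 4 * (2 * l + 1) ∣ d * orderOf ((Nat.card K : ℕ) : ZMod r) := by
    rw [← hprim, pow_mul, ← hq, ← ZMod.natCast_eq_zero_iff, Nat.cast_sub (Nat.one_le_pow _ _ Nat.card_pos), Nat.cast_pow,
      pow_orderOf_eq_one, Nat.cast_one, sub_self]
  have h3 : 0 < orderOf ((Nat.card K : ℕ) : ZMod r) := by
    have hfr : Fact r.Prime := ⟨hr⟩
    rw [orderOf_pos_iff, isOfFinOrder_iff_pow_eq_one]
    refine ⟨r - 1, by have := hr.one_lt; omega, ZMod.pow_card_sub_one_eq_one ?_⟩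
    rw [Ne, ZMod.natCast_eq_zero_iff, hq]
    exact fun h => hr2 (hr.dvd_of_dvd_pow h)
  rw [hq, ← pow_mul] at hKj
  rw [← Nat.pow_right_injective le_rfl hKj, mul_left_comm] at h2
  have h4 := Nat.le_of_dvd h3 (Nat.dvd_of_mul_dvd_mul_left d.pos h2)
  omega

theorem ev_lt {u : GL (Fin n) K} (hu : u ≠ 1) : ev u 1 ≠ n := fun h => by
  have h1 := Submodule.eq_top_of_finrank_eq (h.trans (Module.finrank_fin_fun K).symm)
  refine hu (Units.ext (toLin'.injective (LinearMap.ext fun v => ?_)))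
  have h2 := Module.End.mem_eigenspace_iff.1 (h1.ge (Submodule.mem_top (x := v)))
  rw [h2, one_smul, Units.val_one, toLin'_one]
  rfl

theorem num24 {q c z g : ℕ} (hq : 8 ≤ q) (hz : 0 < z) (hg : g ≤ z) {x : ℕ} (hx : x ≤ 72)
    (h : c * z * q ^ 12 ≤ g * 4 * q ^ x * (q + 1) ^ 12) : c ^ 2 ≤ q ^ 148 := by
  have h1 : (8 * (q + 1)) ^ 12 ≤ (9 * q) ^ 12 := Nat.pow_le_pow_left (by omega) _
  have h2 : 8 ^ 2 ≤ q ^ 2 := Nat.pow_le_pow_left hq 2
  have h3 : 4 * (q + 1) ^ 12 ≤ q ^ 2 * q ^ 12 := by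
    rw [mul_pow, mul_pow] at h1
    have h4 := Nat.mul_le_mul_right (q ^ 12) h2
    omega
  have h4 : c ≤ q ^ 74 := Nat.le_of_mul_le_mul_right (by
    calc c * (z * q ^ 12) = c * z * q ^ 12 := by ring
      _ ≤ g * q ^ x * (4 * (q + 1) ^ 12) := h.trans_eq (by ring)
      _ ≤ z * q ^ 72 * (q ^ 2 * q ^ 12) := by gcongr; omega
      _ = q ^ 74 * (z * q ^ 12) := by ring) (show 0 < z * q ^ 12 by positivity)
  exact (Nat.pow_le_pow_left h4 2).trans_eq (by ring)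

end Xc

open Xc

theorem row_tf4 : Row f2F4 := by
  rintro t n q p T b K _ _ P G c f M ⟨rfl, E, _, _, l, hl, hE, ⟨e⟩⟩
  have := M.char
  have D := nd_2F4 M.core.simple M.core.nonabelian hl hE e
  obtain ⟨j, hj, h1, h2⟩ := tf_dim M.core hl hE e
  have hb : b ≤ Fintype.card K ^ (27 * j) := by
    refine (M.toMd0.b_le D).trans ?_
    rw [mul_comm 27, pow_mul, h1, pow_succ' _ 26]
    exact Nat.mul_le_mul_right _ (le_trans (by change 1 * _ ≤ _; omega) (two_mul_le le_rfl (2 * l + 1)))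
  rcases hj.eq_or_lt with rfl | hj2
  swap
  · exact sc_mul M.toMd0 hb hj h2 (y := 32) (by omega) (by norm_num)
  by_cases h26 : 26 ≤ n
  · exact sc M.toMd0 hb (by nlinarith)
  by_cases ht : t = .O ∨ t = .P ∨ t = .M
  swap
  · exact sc' M.toMd0 ht hb (by nlinarith)
  have hq : q = 2 ^ (2 * l + 1) := by
    rw [← h1, pow_one, M.card]
    rcases ht with rfl | rfl | rfl <;> rfl
  have h8 : 8 ≤ q := hq ▸ Nat.pow_le_pow_right two_pos (show 3 ≤ 2 * l + 1 by omega)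
  have hd := M.dim
  obtain rfl : n = 24 := by
    rcases ht with rfl | rfl | rfl
    · have h3 : q % 2 = 1 := hd.2.2
      rw [hq, pow_succ] at h3
      omega
    · have := hd.2; omega
    · have := hd.2; omega
  obtain ⟨r, u, hr, h3, -, h5, h6, h7, -⟩ := M.toMd0.ppd D (k := 12) (Or.inr (Or.inr rfl)) (by omega) (by omega)
  have := Fact.mk hr
  have hcop : r.Coprime 2 := (Nat.coprime_primes hr Nat.prime_two).2 h6
  obtain ⟨μ, hμ⟩ := exists_muD M.core Nat.prime_two (u := u) hcop (h7 ▸ pow_orderOf_eq_one u)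
  rw [pow_one] at h1
  let g : (ZMod r)ˣ := ZMod.unitOfCoprime (Fintype.card K) (h1 ▸ hcop.symm.pow_left _)
  have h9 := hμ.free (Γ := Subgroup.zpowers g) ((Subgroup.zpowers_le).2 hμ.frob) fun x _ i h0 _ hx =>
    Units.ext ((mul_eq_right₀ h0).1 hx)
  rw [Nat.card_zpowers, ← orderOf_units, show (g : ZMod r) = ((2 ^ (2 * l + 1) : ℕ) : ZMod r) by rw [← h1]; rfl,
    ord_pow h3 (by omega), Nat.gcd_eq_right (Dvd.intro _ rfl), Nat.mul_div_cancel_left _ (by omega)] at h9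
  have h10 := ev_lt (u := (u : GL (Fin 24) K)) fun k => by
    rw [show u = 1 from Subtype.ext k, orderOf_one] at h7
    omega
  have h11 : ev (u : GL (Fin 24) K) 1 ≤ 24 := by
    rw [← hμ.zero, ← hμ.sum]
    exact Finset.single_le_sum (f := μ) (fun _ _ => Nat.zero_le _) (Finset.mem_univ 0)
  have h12 := M.ss u (Or.inr (h7 ▸ hcop))
  have h13 : (dm (u : GL (Fin 24) K) - ev (u : GL (Fin 24) K) 1) / 2 ≤ 72 := by
    obtain ⟨h14, h15⟩ := h9
    obtain h | h : ev (u : GL (Fin 24) K) 1 = 0 ∨ ev (u : GL (Fin 24) K) 1 = 12 := by omega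
    all_goals rw [h] at h14 ⊢; omega
  have hb' : b ≤ q ^ 27 := by rwa [h1, ← hq] at hb
  refine fin M.toMd0 u (num24 h8 (zz_pos M.toMd0) (Nat.gcd_le_right 24 (zz_pos M.toMd0)) h13 ?_) hb' ?_
  all_goals rcases ht with rfl | rfl | rfl
  exacts [h12, h12, h12, by decide, by decide, by decide]

end Cfsg.Agent.N2C.RD
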