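import Cfsg.Agent.H887.BR.CRG
import Cfsg.Agent.H601.BR.Fld
import Cfsg.Agent.H410.TwFFourAS

/-!
# The field of the traces for groups with a split (B,N)-pair; `²F₄(q)` (helper37)

* `tr_split` : `t ^ N = t` on the abelian group `B ∩ N`, `x ↦ x ^ N` an automorphism of `k` : `tr(g) ^ N = tr(g)`;
* `exists_split` : the split (B,N)-pair of `²F₄(q)`; **`tr_tf4`**.
-/

set_option autoImplicit false
set_option linter.unusedSectionVars false

namespace Cfsg.Agent.N2C.RD.Xc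

section gen

open Subgroup
open Cfsg.Agent.H883.BR Cfsg.Agent.H887.BR Cfsg.Agent.H601.BR
open Cfsg.Agent.Tits.Core Cfsg.Agent.Tits.Core.Bldg Cfsg.Agent.Tits.Exchange Cfsg.Agent.Tits
open Cfsg.Agent.Tits.OfBN Cfsg.Agent.Schreier.BNSch
open Cfsg.Agent.FixBN Cfsg.Agent.FixBN.Cox Cfsg.Agent.Omega.CR Cfsg.Agent.Omega.CR.Bl

theorem tr_split {p : ℕ} [Fact p.Prime] {T : Type} [Group T] [Finite T] {P : Cfsg.BNPair T} {U : Subgroup T}
    (hne : P.S.Nonempty) (h : Split P p U) (hab : ∀ s ∈ P.B ⊓ P.N, ∀ t ∈ P.B ⊓ P.N, s * t = t * s) {N : ℕ}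
    (hN : ∀ t ∈ P.B ⊓ P.N, t ^ N = t) {K : Type} [Field K] [CharP K p] [IsAlgClosed K] {W : Type} [AddCommGroup W]
    [Module K W] [FiniteDimensional K W] {σ : T →* Module.End K W} (hirr : Irr σ ⊤) (θ : K ≃+* K) (hθ : ∀ x, θ x = x ^ N)
    (g : T) : LinearMap.trace K W (σ g) ^ N = LinearMap.trace K W (σ g) := by
  have hc := Omega.ML.LieRow.CRB.comm_of_dec (D := ((P.B ⊓ P.N : Subgroup T) : Set T)) h.norm (fun t ht => ht.1)
    (fun b hb => h.cover' hb) hab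
  have hN' : ((P.B ⊓ P.N).subgroupOf P.N).Normal := normal_subgroupOf P
  obtain ⟨M, cs, hcs⟩ := S0320.result P
  have hI : Finite P.S := FixBN.OfBN.finite_I (Equiv.refl P.S)
  have hIn : Nonempty P.S := hne.to_subtype
  let S := FixBN.OfBN.sys (Equiv.refl P.S) cs hcs h
  have hth := thick P (Equiv.refl P.S) cs hcs
  have hfC : Fintype (T ⧸ P.B) := Fintype.ofFinite _
  let c : T ⧸ P.B := QuotientGroup.mk 1
  obtain ⟨d, hd⟩ := Bldg.exists_δ (bldg P (Equiv.refl P.S) cs hcs) c (w0 cs)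
  have hB : ∀ {g : T}, g • c = c ↔ g ∈ P.B := fun {g} => by
    rw [show (g • c = c) = (g • (QuotientGroup.mk 1 : T ⧸ P.B) = QuotientGroup.mk 1) from rfl, FixBN.OfBN.smul_mk_eq, inv_one,
      one_mul, mul_one]
  have hU : ∀ {u : T}, u ∈ S.U c ↔ u ∈ U := fun {u} => by
    change u ∈ FixBN.OfBN.UU P U (QuotientGroup.mk 1) ↔ _
    rw [FixBN.OfBN.mem_UU h, inv_one, one_mul, mul_one]
  have hV : ∀ {g : T}, g • c = c → ∀ v ∈ Vx S σ c, σ g v ∈ Vx S σ c := fun {g} hg v hv => by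
    have := rho_mem_Vx S σ g hv
    rwa [hg] at this
  have hnt := hirr.1
  obtain ⟨w, hw, hw0, hl⟩ : ∃ w ∈ Vx S σ c, w ≠ 0 ∧ ∀ v ∈ Vx S σ c, ∃ a : K, v = a • w := by
    refine H428.CardEnd.line S σ hth hirr.2 (x := c) (y := d) ?_
    intro g k hg _ hk _ v hv
    have h2 : σ (g * k) v = σ (g * k * g⁻¹ * k⁻¹) (σ (k * g) v) := by
      rw [← rho_mul]
      congr 2
      group
    rw [← rho_mul, ← rho_mul, h2]
    exact hV (by rw [mul_smul, hg, hk]) v hv _ (hU.2 (hc g (hB.1 hg) k (hB.1 hk)))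
  have hfix : ∀ g : T, g • c = c → ∀ a : K, σ g w = a • w → θ a = a := by
    intro g hg a ha
    obtain ⟨u, hu, t, ht, rfl⟩ := h.cover' (hB.1 hg)
    rw [rho_mul, hV (hB.2 ht.1) w hw u (hU.2 hu)] at ha
    have h1 : ∀ m : ℕ, σ (t ^ m) w = a ^ m • w := fun m => by
      induction m with
      | zero => rw [pow_zero, pow_zero, map_one, one_smul]; rfl
      | succ m ih => rw [pow_succ, rho_mul, ha, map_smul, ih, smul_smul, pow_succ']
    have h2 := h1 N
    rw [hN t ht, ha] at h2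
    rw [hθ]
    exact (smul_left_injective K hw0 h2).symm
  obtain ⟨e, he⟩ := iso_of (S := S) (c := c) (ρ := σ) (ρ' := twR θ σ) (m := w) (m' := ⟨w⟩) hw (fun u hu => Tw.ext (hw u hu)) hw0
    (fun k => hw0 (congrArg Tw.val k)) hl (fun v hv => by
      obtain ⟨a, ha⟩ := hl v.val fun u hu => congrArg Tw.val (hv u hu)
      exact ⟨θ a, Tw.ext (by rw [val_smul, RingEquiv.symm_apply_apply]; exact ha)⟩)
    (fun g hg a => ⟨fun k => Tw.ext (by
      rw [val_smul, θ.symm_apply_eq.2 (hfix g hg a k).symm]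
      exact k), fun k => by
      have h1 : σ g w = θ.symm a • w := congrArg Tw.val k
      have h2 := hfix g hg _ h1
      rw [RingEquiv.apply_symm_apply] at h2
      rwa [← h2] at h1⟩)
    (fun g => ⟨fun ⟨a, k⟩ => ⟨θ a, Tw.ext (by rw [val_smul, RingEquiv.symm_apply_apply]; exact k)⟩,
      fun ⟨a, k⟩ => ⟨θ.symm a, congrArg Tw.val k⟩⟩) hth hirr.2 (irr_twR θ hirr).2
  have h1 := LinearMap.trace_conj' (σ g) e
  rw [show e.conj (σ g) = twE θ (σ g) from LinearMap.ext fun v => by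
    obtain ⟨v, rfl⟩ := e.surjective v
    rw [LinearEquiv.conj_apply_apply, LinearEquiv.symm_apply_apply]
    exact he g v, trace_twE, hθ] at h1
  exact h1

end gen

section tf

open Cfsg.Lie
open Cfsg.Agent.ChevalleyStructure.TwF4.Tables
open Cfsg.Agent.ChevalleyStructure.TwF4.Rel
open Cfsg.Agent.ChevalleyStructure.TwF4.Groups Cfsg.Agent.ChevalleyStructure.TwF4.RankOne
open Cfsg.Agent.ChevalleyStructure.TwF4.Twisted Cfsg.Agent.ChevalleyStructure.TwF4.TwistedFix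
open Cfsg.Agent.ChevalleyStructure.TwF4.BN
open Cfsg.Agent.ChevalleyStructure.TwF4.Torus (T)
open Cfsg.Agent.ChevalleyStructure.TwF4.TwGen (tc)
open Cfsg.Agent.ChevalleyStructure.TwF4.TorusFix (mem_iff)
open Cfsg.Agent.Schreier.TwFFour
open Cfsg.Agent.Octagon.KSys Cfsg.Agent.Octagon.KPar Cfsg.Agent.Octagon.KRoot Cfsg.Agent.Octagon.Pkg
open Cfsg.Agent.ParSys.Fam.TwoFFour

theorem exists_split {K : Type} [Field K] [Fintype K] {m : ℕ} (hm : 1 ≤ m) (hK : Fintype.card K = 2 ^ (2 * m + 1)) :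
    ∃ (Q : Cfsg.BNPair ↥(twistedF4 K (2 ^ m))) (U : Subgroup ↥(twistedF4 K (2 ^ m))), Q.S.Nonempty ∧ FixBN.Split Q 2 U ∧
      (∀ s ∈ Q.B ⊓ Q.N, ∀ t ∈ Q.B ⊓ Q.N, s * t = t * s) ∧ ∀ t ∈ Q.B ⊓ Q.N, t ^ 2 ^ (2 * m + 1) = t := by
  have : CharP K 2 := charP_two hK
  have : Fact (Nat.Prime 2) := ⟨Nat.prime_two⟩
  obtain ⟨φ, hφ⟩ := exists_rln hK
  obtain ⟨P, hPB, hPN, -, hPS⟩ := Cfsg.Agent.ChevalleyStructure.TwF4.BNIrred.exists_bnPair_irreducible hφ
  have hB : P.B = B0 K (2 ^ m) := hPB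
  have hdec := dec hK hφ
  have node_1 : Cfsg.Agent.Schreier.BNSch.Node P (U0 K (2 ^ m)) (m1 K (2 ^ m)) (V1 K (2 ^ m)) := node1 hφ hB
  have node_2 : Cfsg.Agent.Schreier.BNSch.Node P (U0 K (2 ^ m)) (m2 hφ) (V8 K (2 ^ m)) := node2 hφ hB
  have hH : ∀ h ∈ P.B, h ∈ P.N → ∃ s t : Kˣ, h = tt hdec s t := by
    intro h hh hN
    rw [hPB, Subgroup.mem_subgroupOf] at hh
    rw [hPN, Subgroup.mem_subgroupOf] at hN
    obtain ⟨s, t, hst⟩ := (mem_iff hK (h : GL chevF4.Idx K)).1 ⟨borel_inf_N ⟨hh, hN⟩, h.2⟩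
    exact ⟨s, t, Subtype.ext hst⟩
  have h0 : 0 < 2 ^ (2 * m + 1) := by positivity
  have htor : ∀ h ∈ P.B, h ∈ P.N → h ^ (2 ^ (2 * m + 1) - 1) = 1 := fun h hh hN => by
    obtain ⟨s, t, rfl⟩ := hH h hh hN
    apply Subtype.ext
    show T (tc (2 ^ m) s t) ^ (2 ^ (2 * m + 1) - 1) = 1
    rw [← map_pow]
    have h2 : tc (2 ^ m) s t ^ (2 ^ (2 * m + 1) - 1) = 1 := by
      funext l
      have h4 := pow_card_eq_one' (x := tc (2 ^ m) s t l)
      rw [Nat.card_units, Nat.card_eq_fintype_card, hK] at h4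
      exact h4
    rw [h2, map_one]
  refine ⟨P, U0 K (2 ^ m), ⟨_, by rw [hPS]; exact Set.mem_insert _ _⟩,
    { le := by rw [hB]; exact U0_le_B0
      norm := fun b hb u hu => by
        rw [hB] at hb
        exact conj_U0 hb hu
      isP := isPGroup_U0 hK
      cover := fun b hb => by
        rw [hB] at hb
        obtain ⟨s, t, u, hu, hbu⟩ := hdec.1 b hb
        obtain rfl : b = u * tt hdec s t := Subtype.ext hbu
        refine ⟨u, hu, ?_⟩
        rw [inv_mul_cancel_left, hPN]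
        exact Cfsg.Agent.ChevalleyStructure.TwF4.NStruct.T_mem_N _
      tor := ⟨2 ^ (2 * m + 1) - 1, by
        have h1 : 2 ∣ 2 ^ (2 * m + 1) := dvd_pow_self 2 (by omega)
        omega, htor⟩
      node := by
        intro s hs
        rw [hPS] at hs
        rcases hs with rfl | hs
        · exact ⟨_, node_1⟩
        · rw [Set.mem_singleton_iff] at hs
          subst hs
          exact ⟨_, node_2⟩
      core := by
        obtain ⟨hsimp, -⟩ := Cfsg.Agent.S1072.result hm hK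
        rcases hsimp.eq_bot_or_eq_top_of_normal P.B.normalCore inferInstance with h | h
        · exact h
        · exfalso
          have h1 : P.B = ⊤ := by
            rw [eq_top_iff, ← h]
            exact Subgroup.normalCore_le _
          obtain ⟨u, hu, huV⟩ := node_1.ne
          exact huV (node_1.stab u hu (by rw [h1]; exact Subgroup.mem_top _)) }, fun x hx y hy => ?_, fun x hx => ?_⟩
  · obtain ⟨s, t, rfl⟩ := hH x hx.1 hx.2
    obtain ⟨s', t', rfl⟩ := hH y hy.1 hy.2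
    rw [tt_mul, tt_mul, mul_comm s, mul_comm t]
  · rw [← Nat.sub_add_cancel h0, pow_succ, htor x hx.1 hx.2, one_mul]

end tf

end Cfsg.Agent.N2C.RD.Xc
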