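import Cfsg.Agent.N2.Cl.RD.ExcNum
import Cfsg.Agent.N2.Cl.RD.Rgd
import Cfsg.Agent.SM.Ti.LoE

/-!
# N2 (S3519), defining characteristic, exceptional socles: the set-up (helper37)

* `setup` : a node `i` outside `J`, `|E i| ≤ |K| ^ j`, `|W : W_J| j ≤ n`, and the criterion W at the vertices of type `i`;
* `of_two` : `|W : W_J| ≥ 24`, two orbits of length twelve, `b ≤ |E i| ^ 79`.
-/

set_option autoImplicit false
set_option linter.unusedSectionVars false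

namespace Cfsg.Agent.N2C.RD.Xc

open CoxeterSystem Cfsg.Agent.ChevalleyStructure.CoxeterGeom Cfsg.Agent.Tits.Roots Cfsg.Agent.Tits.Core
  Cfsg.Agent.Tits.Exchange Cfsg.Agent.Nodes.Reps Cfsg.Agent.Nodes.BNOf Cfsg.Agent.Omega.CR Cfsg.Agent.H911 Cfsg.Agent.H905.Md
open Cfsg Cfsg.Geo Cfsg.Agent.H915.LD Cfsg.Agent.N2C.RX Cfsg.Agent.N2C.RD.Rg
open Cfsg.Agent.Nodes.RGDLib
open scoped MatrixGroups

variable {n : ℕ} {K : Type} [Field K] [Fintype K] {P : Subgroup (GL (Fin n) K)}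

/-- the criterion W at the vertices of type `i` -/
def Wt (P : Subgroup (GL (Fin n) K)) {I : Type} [DecidableEq I] (A : I → I → ℤ) (i : I) : Prop :=
  ∀ (ω : List I) (LV : List (List I × ℕ)) (o m : ℕ), ((pts LV).map (orb A (Pi.single i 1) ω)).Nodup → LV.length = o →
    (LV.map Prod.snd).sum = m → m ≤ n ∧ ∃ u : P, dm (u : GL (Fin n) K) ≤ o * n + (n - m) * (o + (n - m))

variable {I W G : Type} [Fintype I] [DecidableEq I] [Group W] [Finite W] [Group G]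
  {M : CoxeterMatrix I} {cs : CoxeterSystem M W} {A : I → I → ℤ} {h : IsCartan M A} {p : ℕ} [hp : Fact p.Prime]
  [CharP K p] {T : Subgroup G} {nn : I → G} {X : (I → ℤ) → Subgroup G} (R : RGD cs h p T nn X)
  (hgen : G1 cs h X = ⊤) (hT : ∀ s ∈ T, ∀ t ∈ T, s * t = t * s) {E : I → Type} [∀ i, Field (E i)]
  [∀ i, Fintype (E i)] [∀ i, CharP (E i) p] {θ : ∀ i, SL(2, E i) →* G} (N : ∀ i, H64.CrossChev.Nd T nn X i (θ i))
  (e : Soc P ≃* G)
include R hgen hT N e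

theorem setup (hC : Core P) : ∃ (J : Set I) (i : I) (j : ℕ), i ∉ J ∧ 1 ≤ j ∧ (WJ cs J).index * j ≤ n ∧
    Fintype.card (E i) ≤ Fintype.card K ^ j ∧ Wt P A i := by
  classical
  obtain ⟨Y, _, _, φ, π, n', θ', hφ, hφi, -, -, -, -, R', hgen', hGG, hT', N', -⟩ := SM.Ti.Tool.lift hC R hgen hT N e
  have hne := hC.nonempty
  have hchar : CharP (AlgebraicClosure K) p := charP_of_injective_algebraMap (algebraMap K _).injective p
  have hirr := ac_irr R' hGG hT' hφ hC.absIrred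
  obtain ⟨c, hc, hc0, χ, hχ⟩ := exists_chi R' hirr hT'
  obtain ⟨i, hi⟩ := (Set.ne_univ_iff_exists_notMem _).1 (H218.SdLift.Jx_ne_univ R' hirr hgen' (by
    by_contra hcon
    push Not at hcon
    have h1 : ∀ y : Y, y = 1 := fun y => H218.SdLift.acRep_injective hφi (hcon y)
    refine hC.nonabelian ⟨⟨fun a b => ?_⟩⟩
    obtain ⟨⟨a, ha⟩, rfl⟩ := QuotientGroup.mk_surjective a
    obtain ⟨⟨b, hb⟩, rfl⟩ := QuotientGroup.mk_surjective b
    obtain ⟨x, rfl⟩ : a ∈ φ.range := hφ ▸ ha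
    obtain ⟨y, rfl⟩ : b ∈ φ.range := hφ ▸ hb
    obtain rfl : x = y := (h1 x).trans (h1 y).symm
    rfl))
  obtain ⟨a, -, ha⟩ := FiniteField.card K p
  obtain ⟨b, -, hb⟩ := FiniteField.card (E i) p
  obtain ⟨j⟩ := H2.Ppd.exists_emb K (E i) p
  have h1 := H2.Ppd.le_Le R' hGG hφ hC.absIrred (by rw [Nat.card_eq_fintype_card, ha]) hb j hc hc0 hχ (θ' i) (i := i)
    (H2.Ppd.nd_U (N' i)) (H2.Ppd.nd_Lo R' (N' i)) (H2.Ppd.nd_ww R' (N' i)) (H2.Ppd.nd_hh (N' i)) hi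
  have h2 : 1 ≤ (b : ℕ) / Nat.gcd a b :=
    Nat.div_pos (Nat.le_of_dvd b.pos (Nat.gcd_dvd_right _ _)) (Nat.gcd_pos_of_pos_right _ b.pos)
  have h3 := (H2.Ppd.two_mul_le_two_pow h2).trans h1
  have h4 := (Nat.mul_le_mul_left _ h3).trans (H2.Ppd.edge_bound R' hirr (finrank_D R' hirr hT') i (by omega))
  rw [Module.finrank_fintype_fun_eq_card, Fintype.card_fin, mul_left_comm] at h4
  refine ⟨_, i, _, hi, h2, by omega, ?_, fun ω LV o m h5 h6 h7 => ?_⟩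
  · rw [ha, hb, ← pow_mul]
    exact Nat.pow_le_pow_right hp.out.pos (SM.Ti.Lo.le_mul_div a.pos)
  · have h8 := exists_dm_le R' hC hGG hT' hφ (c := Pi.single i 1) (fun s hs => Pi.single_eq_of_ne (fun k : s = i => hi (k ▸ hs)) _) ω
      LV [] [] [] (by simp) (by rwa [List.append_nil]) List.nodup_nil (o := o) (o' := 0) (m := m) (m' := 0) h6 h7 rfl rfl
    exact h8

variable {t : Kd} {q T₀ b : ℕ} {Γ : Prop} {c f : P → ℕ} (D : Md0 t q p T₀ b P Γ c f) {δ : ℕ}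
  (hb : ∀ i, b ≤ Fintype.card (E i) ^ δ)
include D hb

theorem setup' {x : ℕ} (hx : ∀ (J : Set I) (i : I), i ∉ J → x ≤ (WJ cs J).index) :
    ∃ (i : I) (j : ℕ), 1 ≤ j ∧ x * j ≤ n ∧ b ≤ Fintype.card K ^ (δ * j) ∧ Wt P A i := by
  obtain ⟨J, i, j, h1, h2, h3, h4, h5⟩ := setup R hgen hT N e D.core
  refine ⟨i, j, h2, (Nat.mul_le_mul_right _ (hx J i h1)).trans h3, (hb i).trans ?_, h5⟩
  rw [mul_comm, pow_mul]
  exact Nat.pow_le_pow_left h4 _

/-- types `F₄`, `E₆` -/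
theorem of_two (hδ : δ = 79) (hx : ∀ (J : Set I) (i : I), i ∉ J → 24 ≤ (WJ cs J).index) (ω : List I) (L : I → List (List I × ℕ))
    (hL : ∀ i, ((pts (L i)).map (orb A (Pi.single i 1) ω)).Nodup ∧ (L i).length = 2 ∧ ((L i).map Prod.snd).sum = 24) : Γ := by
  subst hδ
  obtain ⟨i, j, h1, h2, h3, h4⟩ := setup' R hgen hT N e D hb hx
  rcases h1.eq_or_lt with rfl | h5
  · by_cases h6 : 36 ≤ n
    · exact sc D h3 (by nlinarith)
    obtain ⟨-, u, hu⟩ := h4 ω (L i) 2 24 (hL i).1 (hL i).2.1 (hL i).2.2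
    refine crit D u hu h3 ?_
    have h7 : 24 ≤ n := by omega
    have h8 : n < 36 := by omega
    interval_cases n <;> norm_num
  · exact sc_mul D h3 h1 h2 (y := 32) (by omega) (by norm_num)

end Cfsg.Agent.N2C.RD.Xc
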