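import Cfsg.Agent.N2.Cl.RD.G2A
import Cfsg.Agent.N2.Tri.Exc
import Cfsg.Agent.H983.ElG.KOut
import Cfsg.Agent.H744.Ppd.G2Dim
import Cfsg.Agent.H946.NormCard
import Cfsg.Agent.OrdDiv.Table

/-!
# N2 (S3519), defining characteristic: the row `G₂` (helper78)

**`G2.row : Row (fX Lie.chevG2 3)`**.
-/

set_option autoImplicit false
set_option linter.unusedSectionVars false

namespace Cfsg.Agent.N2C.RD.G2

open Cfsg Cfsg.Geo Subgroup Cfsg.Agent.H902 Cfsg.Agent.N2C.Cyc Cfsg.Agent.N2C.RX Cfsg.Agent.H915.LD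
open Cfsg.Agent.N2 (Cf)
open Cfsg.Agent.H129.CycCard (CycCard card_G2_3 card_G2_6)
open Cfsg.Agent.H436 (Prim exists_prim exists_named)
open Cfsg.Agent.H946.Num (N3 N6 cast_N6)
open Cfsg.Agent.H983.KG2 (c3 c6 c3_mul c6_mul c3_dvd c6_dvd prim_c3 prim_c6 dvd_c3 dvd_c6 prim_of_order kfull_chevG2)
open Cfsg.Agent.H56.Exc (prim_lt prim_lt2 prim_dvd_3 prim_dvd_6 prim_phi_3 prim_phi_6)

/-! ### the tori -/

section grp

variable {N : Type} [Group N] [Finite N] {r m k : ℕ}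

theorem not_dvd_six (h6 : k ≡ 6 [MOD r]) (h7 : 6 < r) : ¬ r ∣ k := fun h =>
  absurd (Nat.le_of_dvd (by norm_num) ((h6.dvd_iff dvd_rfl).1 h)) (by omega)

theorem cyc_gen (h : CycCard N r m 1) {d : ℕ} (hd : d ∣ m) : ∃ g : N, orderOf g = d := by
  obtain ⟨T, h1, h2, h3, -⟩ := h
  obtain ⟨g, hg⟩ := (Subgroup.isCyclic_iff_exists_zpowers_eq_top T).1 h1
  have h4 : orderOf g = m := by rw [← Nat.card_zpowers, hg]; exact Nat.dvd_antisymm h2 (one_mul (Nat.card T) ▸ h3)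
  exact ⟨g ^ (orderOf g / d), orderOf_pow_orderOf_div (orderOf_pos g).ne' (h4 ▸ hd)⟩

theorem tor (hr : r.Prime) (h : CycCard N r m 1) (hk : Nat.card N = m * k) (h6 : k ≡ 6 [MOD r]) (h7 : 6 < r) :
    ∃ x : N, orderOf x = r ∧ Nat.card (normalizer (zpowers x : Set N)) = m * 6 ∧
      ∀ g : N, orderOf g = r → ∃ j : ℕ, IsConj g (x ^ j) := by
  have := Fact.mk hr
  obtain ⟨T, h1, h2, h3, h4, h5⟩ := h
  have h8 : Nat.card T = m := Nat.dvd_antisymm h2 (one_mul (Nat.card T) ▸ h3)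
  obtain ⟨x, hx⟩ := exists_prime_orderOf_dvd_card' r h4
  rw [← Subgroup.orderOf_coe] at hx
  have h9 : centralizer {(x : N)} = T := le_antisymm (h5 x x.2 hx) (H129.CycT.le_centralizer_of_cyclic h1 x.2)
  have h10 := not_dvd_six h6 h7
  refine ⟨x, hx, H946.Rad.card_normalizer hr hx (by rw [h9]; exact h1) (by rw [h9]; exact h8) hk h10 h6 (by norm_num) h7, fun g hg => ?_⟩
  have h11 : T.index = k := Nat.eq_of_mul_eq_mul_left (Nat.card_pos (α := T)) (by rw [T.card_mul_index, hk, h8])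
  have hP : IsPGroup r (zpowers g) := IsPGroup.of_card (n := 1) (by rw [Nat.card_zpowers, hg, pow_one])
  obtain ⟨y, hy⟩ := hP.nonempty_fixed_point_of_prime_not_dvd_card (N ⧸ T) (show ¬ r ∣ T.index from h11 ▸ h10)
  obtain ⟨a, rfl⟩ := QuotientGroup.mk_surjective y
  have h12 : a⁻¹ * (g * a) ∈ T := QuotientGroup.eq.1 (hy ⟨g, mem_zpowers g⟩).symm
  have h13 : IsConj g (a⁻¹ * (g * a)) := isConj_iff.2 ⟨a⁻¹, by group⟩
  obtain ⟨j, hj⟩ := mem_powers_iff_mem_zpowers.2 (H56.Exc.mem_zpowers_of_cyclic h1 x.2 h12 (by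
    rw [hx, ← hg]
    exact orderOf_dvd_of_pow_eq_one (isConj_one_right.1 (pow_orderOf_eq_one g ▸ h13.pow _))))
  exact ⟨j, (show (x : N) ^ j = _ from hj) ▸ h13⟩

theorem not_index {H : Subgroup N} {x : N} (hx : x ∈ H) (hk : Nat.card N = Nat.gcd 3 m * orderOf x * k) (hr : r.Prime)
    (h6 : k ≡ 6 [MOD r]) (h7 : 6 < r) : ¬ r ∣ H.index := fun h => by
  have h1 := Nat.mul_dvd_mul (Subgroup.orderOf_dvd_natCard H hx) h
  rw [H.card_mul_index, hk, mul_comm (Nat.gcd 3 m), mul_assoc] at h1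
  rcases hr.dvd_mul.1 (Nat.dvd_of_mul_dvd_mul_left (orderOf_pos x) h1) with h2 | h2
  · have := Nat.le_of_dvd three_pos (h2.trans (Nat.gcd_dvd_left _ _))
    omega
  · exact not_dvd_six h6 h7 h2

variable {E : Type} [Field E] [Fintype E] {s : ℕ} (hE : Fintype.card E = s)
include hE

theorem cof3 : ∃ k, Nat.card (Lie.chevG2.group E) = N3 s * k ∧ ∀ r, Prim s 3 r → k ≡ 6 [MOD r] := by
  have h1 : 1 ≤ s := hE ▸ Fintype.card_pos
  have h2 := fun i => Nat.one_le_pow i s h1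
  refine ⟨s ^ 6 * (s ^ 2 - 1) * (s - 1) * (s ^ 3 + 1), ?_, fun r hr => (ZMod.natCast_eq_natCast_iff _ _ _).1 ?_⟩
  · rw [S1059.result hE, N3]
    zify [h1, h2]
    ring
  · push_cast [h1, h2]
    exact H56.Exc.Kap.kap_G2_3 _ (prim_phi_3 hr)

theorem cof6 : ∃ k, Nat.card (Lie.chevG2.group E) = N6 s * k ∧ ∀ r, Prim s 6 r → k ≡ 6 [MOD r] := by
  have h1 : 1 ≤ s := hE ▸ Fintype.card_pos
  have h2 := fun i => Nat.one_le_pow i s h1
  refine ⟨s ^ 6 * (s ^ 2 - 1) * (s + 1) * (s ^ 3 - 1), ?_, fun r hr => (ZMod.natCast_eq_natCast_iff _ _ _).1 ?_⟩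
  · rw [S1059.result hE]
    zify [h1, h2]
    rw [cast_N6]
    ring
  · push_cast [h1, h2]
    exact H56.Exc.Kap.kap_G2_6 _ (prim_phi_6 hr)

theorem cyc3 (hr : Prim s 3 r) : CycCard (Lie.chevG2.group E) r (N3 s) 1 :=
  card_G2_3 hE (by rw [N3]; push_cast; ring) hr.prime (prim_dvd_3 hr) (by have := prim_lt hr (by norm_num); omega)

theorem cyc6 (hr : Prim s 6 r) : CycCard (Lie.chevG2.group E) r (N6 s) 1 :=
  card_G2_6 hE (by rw [cast_N6]; ring) hr.prime (prim_dvd_6 hr) (by have := prim_lt hr (by norm_num); omega)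

omit hE in
/-- the two tori generate -/
theorem gen (cf : Cf) {p a : ℕ} (hp : p.Prime) (ha : 1 ≤ a) (hE : Fintype.card E = p ^ a) (h5 : 5 ≤ p ^ a) :
    ∃ x y : Lie.chevG2.group E, orderOf x = c3 (p ^ a) ∧ orderOf y = c6 (p ^ a) ∧ 1 < c3 (p ^ a) ∧ 1 < c6 (p ^ a) ∧
      closure ({x, y} : Set (Lie.chevG2.group E)) = ⊤ := by
  obtain ⟨k, h1, h2⟩ := cof3 hE
  obtain ⟨k', h1', h2'⟩ := cof6 hE
  obtain ⟨r, hr⟩ := exists_prim (q := p ^ a) (e := 3) (by omega) le_rfl (by omega)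
  obtain ⟨r', hr'⟩ := exists_prim (q := p ^ a) (e := 6) (by omega) (by norm_num) (by omega)
  obtain ⟨x, hx⟩ := cyc_gen (cyc3 hE hr) (c3_dvd _)
  obtain ⟨y, hy⟩ := cyc_gen (cyc6 hE hr') (c6_dvd _)
  refine ⟨x, y, hx, hy, hr.prime.one_lt.trans_le (Nat.le_of_dvd (hx ▸ orderOf_pos x) (dvd_c3 (by omega) hr)),
    hr'.prime.one_lt.trans_le (Nat.le_of_dvd (hy ▸ orderOf_pos y) (dvd_c6 (by omega) hr')),
    kfull_chevG2 (fun S _ _ _ hna => exists_named OrdDiv.table (cf S) fun k => hna ⟨⟨k⟩⟩) hp (by omega) h5 hE _ ?_⟩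
  rintro l (h | h)
  · exact not_index (subset_closure (Or.inl rfl)) (by rw [hx, c3_mul, h1]) h.prime (h2 l h) (prim_lt2 h (by norm_num) rfl)
  · exact not_index (subset_closure (Or.inr rfl)) (by rw [hy, c6_mul, h1']) h.prime (h2' l h) (prim_lt h (by norm_num))

end grp

theorem cop {s e m p : ℕ} (h : ∀ r, r.Prime → r ∣ m → Prim s e r ∧ 6 < r) (hp : p.Prime) (hs : p ∣ s) :
    Nat.Coprime 6 m ∧ m.Coprime p :=
  ⟨Nat.coprime_of_dvd fun k hk h1 h2 => absurd (Nat.le_of_dvd (by norm_num) h1) (not_le.2 (h k hk h2).2),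
    Nat.coprime_comm.1 (hp.coprime_iff_not_dvd.2 fun k => (h p hp k).1.not_dvd hs)⟩

theorem odd_of {m : ℕ} (h : Nat.Coprime 6 m) : Odd m :=
  Nat.coprime_two_left.1 (h.coprime_dvd_left (by norm_num))

/-! ### numbers -/

/-- the two inequalities of `ct_ss` -/
def Cr (n j D e : ℕ) : Prop :=
  3 * D + 3 * e + 2 * (j * (14 + 1)) + 6 ≤ n ^ 2 ∧ 3 * (D - e) + 2 * n + 12 + 2 * (j * (14 + 1)) + 6 ≤ n ^ 2

theorem num1 {n e D : ℕ} (h1 : 13 ≤ n) (h2 : n ≤ 22) (h3 : 2 * e ≤ n) (h : 6 * D ≤ 6 * e ^ 2 + (n - e) ^ 2 ∧ 6 ∣ n - e) :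
    Cr n 1 D e := by
  obtain ⟨h4, k, h5⟩ := h
  obtain rfl : n = e + 6 * k := by omega
  have h6 : k ≤ 3 := by omega
  have h7 : e ≤ 10 := by omega
  rw [Nat.add_sub_cancel_left] at h4
  unfold Cr
  interval_cases k <;> interval_cases e <;> omega

theorem num2 {n e e' D D' : ℕ} (h1 : 13 ≤ n) (h2 : n ≤ 26) (h3 : e + e' ≤ n) (h : 6 * D ≤ 6 * e ^ 2 + (n - e) ^ 2 ∧ 6 ∣ n - e)
    (h' : 12 * D' ≤ 12 * e' ^ 2 + (n - e') ^ 2 ∧ 12 ∣ n - e') : Cr n 2 D e ∨ Cr n 2 D' e' := by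
  obtain ⟨h4, k, h5⟩ := h
  obtain ⟨h4', k', h5'⟩ := h'
  rw [h5] at h4
  rw [h5'] at h4'
  unfold Cr
  by_cases h6 : e' ≤ 12 ∧ e' + 12 ≤ n
  · right
    obtain rfl : n = e' + 12 * k' := by omega
    have h7 : k' ≤ 2 := by omega
    have h8 := h6.1
    interval_cases k' <;> interval_cases e' <;> omega
  · left
    obtain rfl : n = e + 6 * k := by omega
    have h7 : k ≤ 4 := by omega
    have h8 : e ≤ 8 := by omega
    interval_cases k <;> interval_cases e <;> omega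

theorem num3 {n j : ℕ} (h1 : 1 ≤ j) (h2 : 6 * 2 ^ j ≤ n + 6) :
    4 * n + 3 * (n ^ 2 / 4 + 1) + 2 * (j * (14 + 1)) + 6 ≤ n ^ 2 ∨ (j = 1 ∧ n ≤ 22) ∨ (j = 2 ∧ n ≤ 26) := by
  have h3 : ∀ k, k ≤ n → k * n ≤ n ^ 2 := fun k hk => by rw [sq]; exact Nat.mul_le_mul_right _ hk
  by_cases h4 : j ≤ 2
  · have := h3 23
    have := h3 27
    omega
  · have h5 : 2 ^ 3 ≤ 2 ^ j := Nat.pow_le_pow_right two_pos (by omega)
    have h6 := two_mul_le le_rfl j
    have := h3 42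
    omega

/-- **the row `G₂`** -/
theorem row : Row (fX Lie.chevG2 3) := by
  rintro t n q p T b K _ _ P G c f M ⟨E, _, _, _, h3, ⟨e⟩⟩
  have hp : Fact p.Prime := ⟨M.prime⟩
  have hch := M.char
  have hC := M.core
  have hq := M.q_ge
  obtain ⟨a, ha, hE⟩ := exists_f E p
  have N := nd_G2 hC.simple hC.nonabelian M.prime ha hE h3 e
  have hsd := H48.DsChev.g2_sd p hC h3 e
  obtain ⟨φ⟩ := H48.DsChev.g2_equiv p hC h3 e
  have hb : bil t := by
    have h := M.frm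
    cases t
    exacts [absurd hsd h, absurd hsd h.2, trivial, trivial, trivial, trivial]
  have hK : Nat.card K = q := Nat.card_eq_fintype_card.trans (card_bil M.toMd0 hb)
  have hE' : Nat.card E = p ^ a := Nat.card_eq_fintype_card.trans hE
  let σ : P ≃* Soc P := MulEquiv.ofBijective _ ((Nat.bijective_iff_surjective_and_card _).2
    ⟨toSoc_surjective P, (Nat.card_congr φ.toEquiv).trans (Nat.card_congr e.toEquiv).symm⟩)
  have hσ : ∀ x, toSoc P (σ.symm x) = x := σ.apply_symm_apply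
  have h3' : 3 ≤ p ^ a := hE ▸ h3
  by_cases hn : n ≤ 12
  · obtain ⟨-, h1, -, -, h2⟩ := H927.G2.core_g2 p hC (hE' ▸ h3') e (by rwa [Fintype.card_fin])
    obtain rfl : q = p ^ a := hK.symm.trans (h1.trans hE')
    rw [Fintype.card_fin] at h2
    obtain ⟨r, hr, h4, -, h5, h6, -, h7⟩ := N.ppd (k := 6) dvd_rfl (by omega) (by
      rintro ⟨rfl, h⟩
      obtain rfl : a = 1 := by omega
      omega)
    have h8 : orderOf ((p ^ a : ℕ) : ZMod r) = 6 := by
      rw [ord_pow h4 (by omega), Nat.gcd_mul_right_left, Nat.mul_div_cancel_left _ ha]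
    have h9 := prim_of_order hr (by omega) (by norm_num) h8
    obtain ⟨k, h10, h11⟩ := cof6 hE
    obtain ⟨x, hx, h12, h13⟩ := tor hr ((cyc6 hE h9).congr e.symm) ((Nat.card_congr e.toEquiv).trans h10) (h11 r h9)
      (prim_lt h9 (by norm_num))
    refine ps M ?_ h3' (u := σ.symm x) hr h6 h5 ((σ.symm.orderOf_eq x).trans hx) h8 ((dvd_c6 (by omega) h9).trans (c6_dvd _))
      (fun k => h7 (k.trans M.ba)) (by rw [hσ]; exact h13) (by rw [hσ]; exact h12)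
      ((Nat.card_congr e.toEquiv).trans (S1059.result hE))
    have h14 := M.dim
    cases t
    · exact hb.elim
    · exact hb.elim
    · have := h14.2
      exact Or.inl ⟨rfl, by omega⟩
    · have := h14.1
      exact Or.inr ⟨rfl, by omega⟩
    all_goals
      have := h14.1
      omega
  have hne := hC.nonempty
  obtain ⟨j, hj, h1⟩ := H905.Md.card_pow_eq p (show a ≠ 0 by omega) (hC.pow_eq p (hE' ▸ H927.G2.fr_g2 p hC φ))
  have h2 := H744.Ppd.G2.ge_pow p (φ := P.subtype.comp φ.symm.toMonoidHom) (by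
    rw [MonoidHom.range_comp, MonoidHom.range_eq_top.2 φ.symm.surjective, ← MonoidHom.range_eq_map, Subgroup.range_subtype])
    hC.absIrred hC.two_le (hE'.trans h1.symm)
  rw [Fintype.card_fin] at h2
  have hk : 16 * gX .G2 p ^ 2 ≤ 2 ^ 6 := by
    show 16 * (if p = 3 then 2 else 1) ^ 2 ≤ _
    split_ifs <;> norm_num
  have hs : p ^ a ≤ Fintype.card K ^ j := by rw [← Nat.card_eq_fintype_card, h1]
  rw [hK] at h1
  have fin : 3 ≤ q → ∀ {u : P} {m : ℕ}, Nat.Coprime 6 m → m.Coprime p → u ^ m = 1 →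
      Cr n j (dm (u : GL (Fin n) K)) (ev (u : GL (Fin n) K) 1) → G := fun k _ _ a1 a2 a3 a4 =>
    ct_ss M N hb k h1.ge hk (odd_of a1) a2 a3 a4.1 a4.2
  rcases num3 hj h2 with h4 | h4
  · exact M.ct_sc N hs hk h4
  by_cases h5 : 5 ≤ p ^ a
  · obtain ⟨x, y, hx, hy, h6, h7, h8⟩ := gen M.cf M.prime ha hE h5
    have hpa : p ∣ p ^ a := dvd_pow_self p (by omega)
    obtain ⟨a1, a2⟩ := cop (m := c3 (p ^ a)) (fun r hr k => ⟨prim_c3 (by omega) hr k,
      prim_lt2 (prim_c3 (by omega) hr k) (by norm_num) rfl⟩) M.prime hpa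
    obtain ⟨b1, b2⟩ := cop (m := c6 (p ^ a)) (fun r hr k => ⟨prim_c6 (by omega) hr k,
      prim_lt (prim_c6 (by omega) hr k) (by norm_num)⟩) M.prime hpa
    have a3 : σ.symm (e.symm x) ^ c3 (p ^ a) = 1 := by rw [← map_pow, ← map_pow, ← hx, pow_orderOf_eq_one, map_one, map_one]
    have b3 : σ.symm (e.symm y) ^ c6 (p ^ a) = 1 := by rw [← map_pow, ← map_pow, ← hy, pow_orderOf_eq_one, map_one, map_one]
    have h9 := ev_add_le hC (x := σ.symm (e.symm x)) (y := σ.symm (e.symm y)) (by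
      rw [hσ, hσ]; exact N2.Tg.closure_pair_map e.symm.toMonoidHom e.symm.surjective h8) 1 1
    have a4 := six M.toMd0 hb h6 a1 a2 a3 (j := j) (Or.inl (h1 ▸ c3_dvd _))
    rcases h4 with ⟨rfl, h4⟩ | ⟨rfl, h4⟩
    · have b4 := six M.toMd0 hb h7 b1 b2 b3 (j := 1) (Or.inr (h1 ▸ c6_dvd _))
      rw [pow_one] at h1
      by_cases h10 : 2 * ev ((σ.symm (e.symm x) : P) : GL (Fin n) K) 1 ≤ n
      · exact fin (by omega) a1 a2 a3 (num1 (by omega) h4 h10 a4)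
      · exact fin (by omega) b1 b2 b3 (num1 (by omega) h4 (by omega) b4)
    · have b4 := twelve M.toMd0 hb h7 b1 b2 b3 (h1 ▸ c6_dvd _)
      have h10 : 3 ≤ q := by
        by_contra k
        obtain rfl : q = 2 := by omega
        omega
      rcases num2 (by omega) h4 h9 a4 b4 with h11 | h11
      exacts [fin h10 a1 a2 a3 h11, fin h10 b1 b2 b3 h11]
  · have h6 : p ^ a = 3 ∨ p ^ a = 4 := by omega
    obtain ⟨x, y, hx, hy, h7, h8⟩ : N2.Tg.Tri (Soc P) 2 3 13 := by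
      rcases h6 with h6 | h6
      exacts [(N2.Tg.Exc.dat_g23 ⟨E, _, _, hE.trans h6, ⟨e⟩⟩).1, (N2.Tg.Exc.dat_g24 ⟨E, _, _, hE.trans h6, ⟨e⟩⟩).1]
    have h9 := tri hC (x := σ.symm x) (y := σ.symm y) (by rw [hσ, hσ]; exact h8) (by rw [hσ]; exact hx) (by rw [hσ]; exact hy)
    have h10 : 13 * n ≤ n ^ 2 := by rw [sq]; exact Nat.mul_le_mul_right _ (by omega)
    rcases h4 with ⟨rfl, h4⟩ | ⟨rfl, h4⟩
    · have a3 : (σ.symm x * σ.symm y) ^ 13 = 1 := by rw [← map_mul, ← map_pow, ← h7, pow_orderOf_eq_one, map_one]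
      have a2 : Nat.Coprime 13 p := (Nat.coprime_primes (by norm_num) M.prime).2 (by
        rintro rfl
        have := Nat.le_self_pow (show a ≠ 0 by omega) 13
        omega)
      have a4 := six M.toMd0 hb (by norm_num) (by norm_num) a2 a3 (j := 1) (by
        rw [h1]
        rcases h6 with h6 | h6 <;> rw [h6] <;> norm_num)
      have a5 := sq_ev M.toMd0 a2 a3
      rw [pow_one] at h1
      refine fin (by omega) (by norm_num) a2 a3 (num1 (by omega) h4 ?_ a4)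
      by_contra k
      have a6 := Nat.pow_le_pow_left (not_le.1 k).le 2
      rw [mul_pow] at a6
      omega
    · have h11 : 18 * n ≤ n ^ 2 := by rw [sq]; exact Nat.mul_le_mul_right _ (by omega)
      exact M.ct_dm N hs hk _ le_rfl (show 4 * n + 3 * dm ((σ.symm x * σ.symm y : P) : GL (Fin n) K) + 2 * (2 * (14 + 1)) + 6 ≤ _ by
        omega)

end Cfsg.Agent.N2C.RD.G2
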