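import Cfsg.Agent.N2.Cl.RD.Crit
import Cfsg.Agent.N2.Cl.RD.LinS

/-!
# N2 (S3519), defining characteristic: criteria for semisimple elements of groups with a bilinear form (helper78)

* `ct_ss` : the sharp criterion for semisimple elements of odd order, `q ≥ 3`;
* `fre`, `six`, `twelve` : free action of a root of `Φ₆`, `Φ₁₂` on the eigenvalues;
* `ps` : the criterion PS in dimensions 6 and 7;
* `tri` : Scott's bound for a `(2, 3)`-generated socle.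
-/

set_option autoImplicit false
set_option linter.unusedSectionVars false

namespace Cfsg.Agent.N2C.RD.G2

open Cfsg Cfsg.Geo Subgroup Cfsg.Agent.H902 Cfsg.Agent.N2C.Cyc Cfsg.Agent.N2C.RX Cfsg.Agent.H915.LD

theorem lowS {n q T : ℕ} (hq : 2 ≤ q) (hd : dimOk .S n q) (ho : oD .S n q * T = oI .S n q) :
    q ^ (n ^ 2 + n) ≤ 64 * T ^ 2 := by
  obtain ⟨k, rfl⟩ : ∃ k, n = 2 * k := ⟨n / 2, by have := hd.2; omega⟩
  have h1 := oSp_ge' hq k
  have h2 : Nat.gcd 2 (q - 1) * T = oSp (2 * k / 2) q := ho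
  have g2 : Nat.gcd 2 (q - 1) * T ≤ 2 * T := Nat.mul_le_mul_right _ (Nat.gcd_le_left _ two_pos)
  rw [Nat.mul_div_cancel_left _ two_pos] at h2
  calc q ^ ((2 * k) ^ 2 + 2 * k) = (q ^ (2 * k ^ 2 + k)) ^ 2 := by rw [← pow_mul]; congr 1; ring
    _ ≤ (8 * T) ^ 2 := Nat.pow_le_pow_left (by omega) 2
    _ = _ := by ring

theorem cube {q c k x e : ℕ} (h3 : 3 ≤ q) (h : c * q ^ k ≤ x * q ^ e * (q + 1) ^ k) : c ^ 6 ≤ x ^ 6 * q ^ (6 * e + 2 * k) := by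
  have h1 : (q + 1) ^ 3 ≤ q ^ 4 := by
    obtain ⟨d, rfl⟩ := Nat.exists_eq_add_of_le h3
    ring_nf
    omega
  refine Nat.le_of_mul_le_mul_right ?_ (pow_pos (show 0 < q by omega) (6 * k))
  calc c ^ 6 * q ^ (6 * k) = (c * q ^ k) ^ 6 := by ring
    _ ≤ (x * q ^ e * (q + 1) ^ k) ^ 6 := Nat.pow_le_pow_left h 6
    _ = x ^ 6 * q ^ (6 * e) * ((q + 1) ^ 3) ^ (2 * k) := by rw [← pow_mul (q + 1)]; ring
    _ ≤ x ^ 6 * q ^ (6 * e) * (q ^ 4) ^ (2 * k) := by gcongr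
    _ = _ := by ring

/-! ### roots of cyclotomic polynomials -/

theorem u6 {R : Type*} [CommRing R] {a : R} (h : a ^ 2 - a + 1 = 0) (h6 : IsUnit (6 : R)) :
    a ^ 6 = 1 ∧ ∀ k, 0 < k → k < 6 → IsUnit (a ^ k - 1) := by
  have key : ∀ x y : R, x * y = 6 → IsUnit x := fun x y e => isUnit_of_mul_isUnit_left (e ▸ h6)
  refine ⟨by linear_combination ((a ^ 3 - 1) * (a + 1)) * h, fun k h0 h1 => ?_⟩
  interval_cases k
  · exact key _ (-6 * a) (by linear_combination (-6) * h)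
  · exact key _ (-2 * (a + 1)) (by linear_combination (-2 * a - 4) * h)
  · exact key _ (-3) (by linear_combination (-3 * (a + 1)) * h)
  · exact key _ (2 * (a - 2)) (by linear_combination (2 * a ^ 3 - 2 * a ^ 2 - 4 * a - 2) * h)
  · exact key _ (6 * (a - 1)) (by linear_combination (6 * (a ^ 4 - a ^ 2 - a)) * h)

theorem u12 {R : Type*} [CommRing R] {a : R} (h : (a ^ 2) ^ 2 - a ^ 2 + 1 = 0) (h6 : IsUnit (6 : R)) :
    a ^ 12 = 1 ∧ ∀ k, 0 < k → k < 12 → IsUnit (a ^ k - 1) := by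
  obtain ⟨h1, h2⟩ := u6 h h6
  have key : ∀ k j : ℕ, 0 < j → j < 6 → (a ^ 2) ^ j = (a ^ k) ^ 2 → IsUnit (a ^ k - 1) := fun k j a1 a2 a3 =>
    isUnit_of_mul_isUnit_left (y := a ^ k + 1) (by
      rw [show (a ^ k - 1) * (a ^ k + 1) = (a ^ 2) ^ j - 1 by rw [a3]; ring]; exact h2 j a1 a2)
  refine ⟨by rw [← h1]; ring, fun k h0 h3 => ?_⟩
  rcases lt_trichotomy k 6 with h4 | rfl | h4
  · exact key k k h0 h4 (by ring)
  · rw [show a ^ 6 = (a ^ 2) ^ 3 by ring]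
    exact h2 3 (by norm_num) (by norm_num)
  · obtain ⟨j, rfl⟩ := Nat.exists_eq_add_of_lt h4
    exact key _ (j + 1) (by omega) (by omega) (by linear_combination (-(a ^ 2) ^ (j + 1)) * h1)

theorem fre {m : ℕ} [NeZero m] {μ : ZMod m → ℕ} {a : ZMod m} {h : ℕ} (h0 : 0 < h) (hm : 1 < m) (ha : ∀ i, μ (a * i) = μ i)
    (hu : a ^ h = 1 ∧ ∀ k, 0 < k → k < h → IsUnit (a ^ k - 1)) :
    h * ∑ i, μ i ^ 2 ≤ h * μ 0 ^ 2 + (∑ i, μ i - μ 0) ^ 2 ∧ h ∣ ∑ i, μ i - μ 0 := by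
  have : Fact (1 < m) := ⟨hm⟩
  let g : (ZMod m)ˣ := Units.ofPowEqOne a h hu.1 h0.ne'
  have hg : ∀ k : ℕ, ((g ^ k : (ZMod m)ˣ) : ZMod m) = a ^ k := fun k => Units.val_pow_eq_pow_val g k
  have ho : orderOf g = h := (orderOf_eq_iff h0).2 ⟨Units.ext ((hg h).trans hu.1), fun k h1 h2 e =>
    not_isUnit_zero (M₀ := ZMod m) (by
      have h3 := hu.2 k h2 h1
      rwa [← hg, e, Units.val_one, sub_self] at h3)⟩
  have h4 := free_of (μ := μ) (Γ := zpowers g) (zpowers_le.2 ha) fun x hx i h1 _ h2 => by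
    obtain ⟨k, hk, rfl⟩ := Finset.mem_image.1 (mem_zpowers_iff_mem_range_orderOf.1 hx)
    rcases Nat.eq_zero_or_pos k with rfl | h5
    · exact pow_zero g
    · refine absurd ((hu.2 k h5 (ho ▸ Finset.mem_range.1 hk)).mul_right_eq_zero.1 ?_) h1
      rw [sub_mul, ← hg, h2, one_mul, sub_self]
  rwa [Nat.card_zpowers, ho] at h4

theorem inv_pow {m : ℕ} {μ : ZMod m → ℕ} {a : ZMod m} (ha : ∀ i, μ (a * i) = μ i) (j : ℕ) (i : ZMod m) : μ (a ^ j * i) = μ i := by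
  induction j with
  | zero => rw [pow_zero, one_mul]
  | succ j ih => rw [pow_succ', mul_assoc, ha, ih]

theorem fr_bil {t : Kd} (hb : bil t) (q m : ℕ) : ((fr t q : ℤ) : ZMod m) = q := by
  cases t
  exacts [hb.elim, hb.elim, Int.cast_natCast q, Int.cast_natCast q, Int.cast_natCast q, Int.cast_natCast q]

variable {t : Kd} {n q p T b : ℕ} {K : Type} [Field K] [Fintype K] {P : Subgroup (GL (Fin n) K)} {G : Prop} {c f : P → ℕ}

section md0

variable (M : Md0 t q p T b P G c f)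
include M

theorem card_bil (hb : bil t) : Fintype.card K = q := by
  have h := M.card
  cases t
  exacts [hb.elim, hb.elim, h, h, h, h]

theorem ct_c {X : Art.Sh} {a : ℕ} (N : Nd X p a (Soc P)) {j k A B : ℕ} (hs : p ^ a ≤ q ^ j) (hk : 16 * gX X p ^ 2 ≤ 2 ^ k) (u : P)
    (hc : c u ^ 6 ≤ q ^ A) (hB : q ^ B ≤ 64 * T ^ 2) (h : A + 2 * (j * (dX X + 1)) + k ≤ B) : G := by
  have hq := M.q_ge
  have h1 := two_mul_le M.prime.two_le a
  refine M.good u ((Nat.pow_le_pow_iff_left two_ne_zero).1 (Nat.le_of_mul_le_mul_left ?_ (show 0 < 64 by norm_num)))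
  calc 64 * (f u ^ 3 * b) ^ 2 = 64 * b ^ 2 * f u ^ 6 := by ring
    _ ≤ 64 * (gX X p * a * (p ^ a) ^ dX X) ^ 2 * q ^ A := by
      have h2 := M.b_le N
      have h3 : f u ^ 6 ≤ q ^ A := (Nat.pow_le_pow_left (M.fc u) 6).trans hc
      gcongr
    _ = 16 * gX X p ^ 2 * (2 * a * (p ^ a) ^ dX X) ^ 2 * q ^ A := by ring
    _ ≤ q ^ k * (q ^ j * (q ^ j) ^ dX X) ^ 2 * q ^ A := by
      have h2 : 16 * gX X p ^ 2 ≤ q ^ k := hk.trans (Nat.pow_le_pow_left hq k)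
      have h3 : 2 * a ≤ q ^ j := h1.trans hs
      gcongr
    _ = q ^ (A + 2 * (j * (dX X + 1)) + k) := by ring
    _ ≤ _ := (Nat.pow_le_pow_right (by omega) h).trans hB

variable (hb : bil t) {u : P} {m : ℕ} (h1 : 1 < m) (h6 : Nat.Coprime 6 m) (hp : m.Coprime p) (hu : u ^ m = 1)
include hb h1 h6 hp hu

/-- `± q ^ j` is a root of `Φ₆` -/
theorem six {j : ℕ} (h : m ∣ (q ^ j) ^ 2 + q ^ j + 1 ∨ m ∣ (q ^ j) ^ 2 - q ^ j + 1) :
    6 * dm (u : GL (Fin n) K) ≤ 6 * ev (u : GL (Fin n) K) 1 ^ 2 + (n - ev (u : GL (Fin n) K) 1) ^ 2 ∧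
      6 ∣ n - ev (u : GL (Fin n) K) 1 := by
  have : NeZero m := ⟨by omega⟩
  have := M.char
  obtain ⟨μ, hμ⟩ := exists_muD M.core M.prime hp hu
  obtain ⟨h2, h3⟩ := hμ.fr M
  rw [fr_bil hb] at h2
  have h4 : IsUnit (6 : ZMod m) := by exact_mod_cast (ZMod.isUnit_iff_coprime 6 m).2 h6
  have h5 : ∃ a : ZMod m, (∀ i, μ (a * i) = μ i) ∧ a ^ 2 - a + 1 = 0 := by
    rcases h with h | h
    · refine ⟨-(q : ZMod m) ^ j, fun i => by rw [neg_mul, h3 hb, inv_pow h2], ?_⟩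
      have h7 := (ZMod.natCast_eq_zero_iff _ _).2 h
      push_cast at h7
      linear_combination h7
    · refine ⟨(q : ZMod m) ^ j, inv_pow h2 j, ?_⟩
      have h7 := (ZMod.natCast_eq_zero_iff _ _).2 h
      rw [Nat.cast_add, Nat.cast_sub (Nat.le_self_pow two_ne_zero _)] at h7
      push_cast at h7
      exact h7
  obtain ⟨a, h7, h8⟩ := h5
  have h9 := fre (by norm_num) h1 h7 (u6 h8 h4)
  rwa [← hμ.dm, hμ.sum, hμ.zero] at h9

/-- `q` is a root of `Φ₁₂` -/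
theorem twelve (h : m ∣ (q ^ 2) ^ 2 - q ^ 2 + 1) :
    12 * dm (u : GL (Fin n) K) ≤ 12 * ev (u : GL (Fin n) K) 1 ^ 2 + (n - ev (u : GL (Fin n) K) 1) ^ 2 ∧
      12 ∣ n - ev (u : GL (Fin n) K) 1 := by
  have : NeZero m := ⟨by omega⟩
  have := M.char
  obtain ⟨μ, hμ⟩ := exists_muD M.core M.prime hp hu
  obtain ⟨h2, -⟩ := hμ.fr M
  rw [fr_bil hb] at h2
  have h4 : IsUnit (6 : ZMod m) := by exact_mod_cast (ZMod.isUnit_iff_coprime 6 m).2 h6
  have h7 := (ZMod.natCast_eq_zero_iff _ _).2 h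
  rw [Nat.cast_add, Nat.cast_sub (Nat.le_self_pow two_ne_zero _)] at h7
  push_cast at h7
  have h9 := fre (by norm_num) h1 h2 (u12 h7 h4)
  rwa [← hμ.dm, hμ.sum, hμ.zero] at h9

omit hb h1 h6 in
theorem sq_ev [NeZero m] : ev (u : GL (Fin n) K) 1 ^ 2 ≤ dm (u : GL (Fin n) K) := by
  have := M.char
  obtain ⟨μ, hμ⟩ := exists_muD M.core M.prime hp hu
  rw [hμ.dm, ← hμ.zero]
  exact Finset.single_le_sum (f := fun i => μ i ^ 2) (fun _ _ => Nat.zero_le _) (Finset.mem_univ 0)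

end md0

/-- Scott's bound -/
theorem tri (hC : Core P) {x y : P} (h : closure ({toSoc P x, toSoc P y} : Set (Soc P)) = ⊤) (hx : toSoc P x ^ 2 = 1)
    (hy : toSoc P y ^ 3 = 1) : 6 * dm ((x * y : P) : GL (Fin n) K) ≤ n ^ 2 + 12 := by
  have h1 := scott2 hC h
  have h2 := low two_pos hx
  have h3 := low three_pos hy
  omega

variable (M : Md t q p T b P G c f)
include M

/-- **the sharp criterion** -/
theorem ct_ss {X : Art.Sh} {a : ℕ} (N : Nd X p a (Soc P)) (hb : bil t) (h3 : 3 ≤ q) {j k : ℕ} (hs : p ^ a ≤ q ^ j)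
    (hk : 16 * gX X p ^ 2 ≤ 2 ^ k) {u : P} {m : ℕ} (ho : Odd m) (hp : m.Coprime p) (hu : u ^ m = 1)
    (hS : 3 * dm (u : GL (Fin n) K) + 3 * ev (u : GL (Fin n) K) 1 + 2 * (j * (dX X + 1)) + k ≤ n ^ 2)
    (hO : 3 * (dm (u : GL (Fin n) K) - ev (u : GL (Fin n) K) 1) + 2 * n + 12 + 2 * (j * (dX X + 1)) + k ≤ n ^ 2) : G := by
  have := M.char
  have h1 := M.ss u (Or.inr (hp.coprime_dvd_left (orderOf_dvd_of_pow_eq_one hu)))
  rw [e2_odd M.prime (congrArg Subtype.val hu) ho] at h1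
  have h2 : c u * q ^ kk t n ≤ k4 t * q ^ es t (dm (u : GL (Fin n) K)) (ev (u : GL (Fin n) K) 1) * (q + 1) ^ kk t n := by
    refine Nat.le_of_mul_le_mul_left ?_ M.ct_zz
    calc _ = c u * zz t q * q ^ kk t n := by ring
      _ ≤ _ := h1
      _ ≤ zz t q * k4 t * _ * _ := by gcongr; exact Nat.gcd_le_right _ M.ct_zz
      _ = _ := by ring
  have h4 := cube h3 h2
  have h5 : n * (n - 1) + n = n ^ 2 := by
    rcases n with _ | k
    · rfl
    · rw [Nat.add_sub_cancel]; ring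
  have h6 : ∀ A : ℕ, 4 ^ 6 * q ^ A ≤ q ^ (12 + A) := fun A => by
    rw [pow_add]
    exact Nat.mul_le_mul_right _ ((by norm_num : 4 ^ 6 ≤ 2 ^ 12).trans (Nat.pow_le_pow_left (by omega) 12))
  have h7 := Gn.low M.q_ge M.dim M.ord
  generalize dm (u : GL (Fin n) K) = D at hS hO h4
  generalize ev (u : GL (Fin n) K) 1 = e at hS hO h4
  cases t
  · exact hb.elim
  · exact hb.elim
  · refine ct_c M.toMd0 N hs hk u (h4.trans_eq (one_mul _)) (lowS M.q_ge M.dim M.ord) ?_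
    show 6 * ((D + e) / 2) + 2 * (n / 2) + _ + _ ≤ _
    omega
  all_goals
    refine ct_c M.toMd0 N hs hk u (h4.trans (h6 _)) h7 ?_
    show 12 + (6 * ((D - e) / 2) + 2 * (n / 2)) + _ + _ ≤ n * (n - 1)
    omega

/-- the centraliser of an element with six eigenvalues other than one -/
theorem c_le (ht : t = .S ∧ n = 6 ∨ t = .O ∧ n = 7) {u : P} {r : ℕ} (hr : r.Prime) (hrp : r ≠ p) (h5 : 5 ≤ r) (hu : orderOf u = r)
    (hq : orderOf (q : ZMod r) = 6) (he : n - ev (u : GL (Fin n) K) 1 = 6)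
    (hd : 6 * dm (u : GL (Fin n) K) ≤ 6 * ev (u : GL (Fin n) K) 1 ^ 2 + (n - ev (u : GL (Fin n) K) 1) ^ 2) : c u ≤ q ^ 3 + 1 := by
  have := Fact.mk hr
  have hb : bil t := by rcases ht with ⟨rfl, -⟩ | ⟨rfl, -⟩ <;> trivial
  have h0 : 0 < q := by have := M.q_ge; omega
  obtain ⟨μ, h1, h2, -, -, -, -, h3⟩ := M.semi r u hrp (by omega) hu
  have h4 := h3 6 _ (by rw [fr_bil hb, hq]) rfl
  have h6 : (Finset.univ.filter fun i => i ≠ 0 ∧ μ i ≠ 0).card ≤ 6 := by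
    rw [← he, ← h2, ← h1, ← sum_erase, Finset.card_eq_sum_ones]
    refine le_trans (Finset.sum_le_sum fun i hi => Nat.pos_of_ne_zero (Finset.mem_filter.1 hi).2.2)
      (Finset.sum_le_sum_of_subset fun i hi => Finset.mem_erase.2 ⟨(Finset.mem_filter.1 hi).2.1, Finset.mem_univ _⟩)
  generalize (Finset.univ.filter fun i => i ≠ 0 ∧ μ i ≠ 0).card = z at h4 h6
  have h7 : ∀ {x y d k : ℕ}, 0 < x → y ≤ x → d ≤ 3 → k ≤ 1 → c u * x * (q ^ 3) ^ k * q ^ 0 ≤ 1 * y * q ^ d * (q ^ 3 + 1) ^ k * (q + 1) ^ 0 →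
      c u ≤ q ^ 3 + 1 := fun {x y d k} a1 a2 a3 a4 a5 => by
    have a6 : q ^ d ≤ q ^ 3 := Nat.pow_le_pow_right h0 a3
    have a7 : x * (c u * (q ^ 3) ^ k) ≤ x * (q ^ 3 * (q ^ 3 + 1) ^ k) :=
      calc _ = _ := by ring
        _ ≤ _ := a5
        _ ≤ 1 * x * q ^ 3 * (q ^ 3 + 1) ^ k * (q + 1) ^ 0 := by gcongr
        _ = _ := by ring
    have a8 := Nat.le_of_mul_le_mul_left a7 a1
    interval_cases k
    · rw [pow_zero, pow_zero] at a8
      omega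
    · rw [pow_one, pow_one, mul_comm (q ^ 3)] at a8
      exact Nat.le_of_mul_le_mul_right a8 (pow_pos h0 3)
  have hw : ww t n q r = 1 := if_neg fun k => by
    have h8 : zz t q ∣ 2 := by rcases ht with ⟨rfl, -⟩ | ⟨rfl, -⟩ <;> exact Nat.gcd_dvd_left _ _
    have := Nat.le_of_dvd two_pos (k.1.trans h8)
    omega
  rw [hw, h2] at h4
  rw [he] at hd
  rcases ht with ⟨rfl, rfl⟩ | ⟨rfl, rfl⟩
  · have h8 : ev (u : GL (Fin 6) K) 1 = 0 := by omega
    rw [h8] at h4 hd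
    exact h7 (k := z / 6) (y := 1) M.ct_zz M.ct_zz (show (_ + 0) / 2 ≤ 3 by omega) (by omega) h4
  · have h8 : ev (u : GL (Fin 7) K) 1 = 1 := by omega
    have h9 : zz .O q = 2 := Nat.gcd_eq_left (by have := M.dim.2.2; omega)
    rw [h8] at h4 hd
    rw [h9] at h4
    exact h7 (k := z / 6) (y := 2) two_pos le_rfl (show (_ - 1) / 2 ≤ 3 by omega) (by omega) h4

/-- **the criterion PS** -/
theorem ps (ht : t = .S ∧ n = 6 ∨ t = .O ∧ n = 7) (h3 : 3 ≤ q) {u : P} {r : ℕ} (hr : r.Prime) (hrp : r ≠ p) (h5 : 5 ≤ r)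
    (hu : orderOf u = r) (hq : orderOf (q : ZMod r) = 6) (hd : r ∣ q ^ 2 - q + 1) (hb : ¬ r * Nat.card (Soc P) ∣ b)
    (hc : ∀ g : Soc P, orderOf g = r → ∃ j : ℕ, IsConj g (toSoc P u ^ j))
    (hN : Nat.card (normalizer (zpowers (toSoc P u) : Set (Soc P))) = (q ^ 2 - q + 1) * 6)
    (hS : Nat.card (Soc P) = q ^ 6 * (q ^ 2 - 1) * (q ^ 6 - 1)) : G := by
  have hl : bil t := by rcases ht with ⟨rfl, -⟩ | ⟨rfl, -⟩ <;> trivial
  have h8 : zz t q ∣ 2 := by rcases ht with ⟨rfl, -⟩ | ⟨rfl, -⟩ <;> exact Nat.gcd_dvd_left _ _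
  have h1 := M.fsyl u r hr hrp (fun k => by have := Nat.le_of_dvd two_pos (k.trans h8); omega) hu hb hc
  obtain ⟨h2, h4⟩ := six M.toMd0 hl hr.one_lt (j := 1) (Nat.coprime_comm.1 (hr.coprime_iff_not_dvd.2 fun k => by
      have := Nat.le_of_dvd (by norm_num) k
      interval_cases r
      · exact absurd k (by norm_num)
      · exact absurd hr (by norm_num)))
    ((Nat.coprime_primes hr M.prime).2 hrp) (hu ▸ pow_orderOf_eq_one u) (Or.inr (by rw [pow_one]; exact hd))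
  have hb0 : 0 < b := Nat.pos_of_ne_zero fun e => hb (e ▸ dvd_zero _)
  have h6 : Nat.card (Soc P) ≤ b := Nat.le_of_dvd hb0 M.nb
  have h7 : f u * b ≤ (q + 1) * Nat.card (Soc P) := by
    refine Nat.le_of_mul_le_mul_left ?_ (show 0 < (q ^ 2 - q + 1) * 6 by omega)
    have h9 : n - ev (u : GL (Fin n) K) 1 = 0 ∨ n - ev (u : GL (Fin n) K) 1 = 6 := by omega
    rw [hN] at h1
    rcases h9 with h9 | h9
    · rw [h9, mul_zero, zero_mul] at h1
      exact le_trans (le_of_eq (by ring)) (h1.trans (Nat.zero_le _))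
    · have h10 := c_le M ht hr hrp h5 hu hq h9 h2
      have h11 : q ^ 3 + 1 = (q ^ 2 - q + 1) * (q + 1) := by
        zify [Nat.le_self_pow two_ne_zero q]
        ring
      rw [h9] at h1
      calc _ = _ := by ring
        _ ≤ _ := h1
        _ ≤ (q ^ 3 + 1) * 6 * Nat.card (Soc P) := by gcongr
        _ = _ := by rw [h11]; ring
  have h9 : f u ≤ q + 1 := Nat.le_of_mul_le_mul_right (h7.trans (Nat.mul_le_mul_left _ h6)) hb0
  have h10 : oD t n q * T ≤ 2 * T := Nat.mul_le_mul_right _ (by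
    rcases ht with ⟨rfl, -⟩ | ⟨rfl, -⟩
    exacts [Nat.gcd_le_left _ two_pos, le_rfl])
  have h11 : oI t n q = q ^ 3 * (q ^ 4 - 1) * Nat.card (Soc P) := by
    have h12 : oI t n q = oSp 3 q := by rcases ht with ⟨rfl, rfl⟩ | ⟨rfl, rfl⟩ <;> rfl
    rw [h12, hS, oSp, PP, Finset.prod_range_succ, Finset.prod_range_succ, Finset.prod_range_one]
    ring
  have h12 : 2 * (q + 1) ^ 3 ≤ q ^ 3 * (q ^ 4 - 1) := by
    have a1 : 3 ^ 4 ≤ q ^ 4 := Nat.pow_le_pow_left h3 4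
    calc 2 * (q + 1) ^ 3 ≤ 2 * (2 * q) ^ 3 := by gcongr; omega
      _ = q ^ 3 * 16 := by ring
      _ ≤ _ := Nat.mul_le_mul_left _ (by omega)
  refine M.good u (Nat.le_of_mul_le_mul_left ?_ two_pos)
  calc 2 * (f u ^ 3 * b) = 2 * f u ^ 2 * (f u * b) := by ring
    _ ≤ 2 * (q + 1) ^ 2 * ((q + 1) * Nat.card (Soc P)) := by gcongr
    _ = 2 * (q + 1) ^ 3 * Nat.card (Soc P) := by ring
    _ ≤ _ := (Nat.mul_le_mul_right _ h12).trans (h11.ge.trans (M.ord.ge.trans h10))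

end Cfsg.Agent.N2C.RD.G2
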