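import Cfsg.Agent.N2.Cl.RD.Crit
import Cfsg.Agent.N2.Cl.RD.Lev
import Cfsg.Agent.N2.Cl.RD.Lin
import Cfsg.Agent.H156.Ppd.DFour
import Cfsg.Agent.H948.Ppd.Cover

/-!
# N2 (S3519), defining characteristic, `PΩ⁻_{2m}`: tools (helper92)

* `ct_h`, `sc_h` : the crude criterion for `s ^ 2 ≤ |K| ^ j`;
* `dm_ppd` : the commutant of an element of prime order;
* `fix_ev` : vertices fixed by an element of a Levi subgroup;  `dim_le_Z` : `V` is the sum of the vertices, if one orbit of root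
  groups generates;  `pow_of_J` : the field of the module.
-/

set_option autoImplicit false
set_option linter.unusedSectionVars false

namespace Cfsg.Agent.N2C.RD.Mn

section md

open Cfsg Cfsg.Geo Cfsg.Agent.H902 Cfsg.Agent.N2C.Cyc Cfsg.Agent.N2C.RX Cfsg.Agent.H915.LD

variable {t : Kd} {n q p T b : ℕ} {K : Type} [Field K] [Fintype K] {P : Subgroup (GL (Fin n) K)} {G : Prop} {c f : P → ℕ}
  (M : Md0 t q p T b P G c f) {m a : ℕ} (N : Nd (.DD m) p a (Soc P))
include M N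

theorem ct_e {e : ℕ} (hs : (p ^ a) ^ 2 ≤ q ^ e) (u : P) {D : ℕ} (hu : dm (u : GL (Fin n) K) ≤ D)
    (h : 3 * ec t n D + e * (2 * m ^ 2 - m + 1) + 6 ≤ Gn.mm t n) : G := by
  have hq := M.q_ge
  refine M.ct_B u hu (M.b_le N) ?_
  have h1 := two_mul_le M.prime.two_le a
  calc 64 * (2 * a * (p ^ a) ^ (2 * m ^ 2 - m)) ^ 2 * q ^ (3 * ec t n D)
      ≤ q ^ 6 * (p ^ a * (p ^ a) ^ (2 * m ^ 2 - m)) ^ 2 * q ^ (3 * ec t n D) := by
        have h2 : 64 ≤ q ^ 6 := Nat.pow_le_pow_left hq 6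
        gcongr
    _ = q ^ 6 * ((p ^ a) ^ 2) ^ (2 * m ^ 2 - m + 1) * q ^ (3 * ec t n D) := by ring
    _ ≤ q ^ 6 * (q ^ e) ^ (2 * m ^ 2 - m + 1) * q ^ (3 * ec t n D) := by gcongr
    _ = q ^ (3 * ec t n D + e * (2 * m ^ 2 - m + 1) + 6) := by ring
    _ ≤ _ := Nat.pow_le_pow_right (by omega) h

/-- **the crude criterion** -/
theorem ct_h {j : ℕ} (hs : (p ^ a) ^ 2 ≤ Fintype.card K ^ j) (u : P) {D : ℕ} (hu : dm (u : GL (Fin n) K) ≤ D)
    (h : 4 * n + 3 * D + j * (2 * m ^ 2 - m + 1) + 6 ≤ n ^ 2) : G := by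
  have h5 := five_le M.dim
  have h1 : n * (n - 1) + n = n ^ 2 := by
    obtain ⟨m, rfl⟩ : ∃ m, n = m + 1 := ⟨n - 1, by omega⟩
    rw [Nat.add_sub_cancel]
    ring
  rw [M.card] at hs
  cases t
  · exact ct_e M N (e := j) hs u hu (show 3 * (2 * D) + _ + _ ≤ 2 * n ^ 2 - 6 by omega)
  · refine ct_e M N (e := 2 * j) (by rw [pow_mul]; exact hs) u hu ?_
    rw [mul_assoc 2 j]
    show 3 * (2 * (D + n)) + _ + _ ≤ 2 * n ^ 2 - 6
    omega
  all_goals exact ct_e M N (e := j) hs u hu (show 3 * (D + n) + _ + _ ≤ n * (n - 1) by omega)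

/-- **criterion Sc** -/
theorem sc_h {j : ℕ} (hs : (p ^ a) ^ 2 ≤ Fintype.card K ^ j)
    (h : 4 * n + 3 * (n ^ 2 / 4 + 1) + j * (2 * m ^ 2 - m + 1) + 6 ≤ n ^ 2) : G := by
  obtain ⟨u, hu⟩ := M.small
  exact ct_h M N hs u hu h

/-- criterion Sc from a lower bound for the degree -/
theorem sc_ge {j x : ℕ} (hs : (p ^ a) ^ 2 ≤ Fintype.card K ^ j) (hx : x + 16 ≤ n)
    (h : 4 * (j * (2 * m ^ 2 - m + 1)) + 36 ≤ (x + 16) * x) : G := by
  refine sc_h M N hs ?_
  obtain ⟨y, rfl⟩ := Nat.exists_eq_add_of_le hx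
  have h1 : (x + 16 + y) ^ 2 = 16 * (x + 16 + y) + (x + 16) * x + (2 * (x * y) + 16 * y + y ^ 2) := by ring
  omega

omit N in
/-- an element of prime order `r`, `h` the order of a unit which permutes the eigenvalues -/
theorem dm_ppd {r : ℕ} (hr : r.Prime) (hrp : r ≠ p) {u : P} (hu : u ^ r = 1) {e : ℕ}
    (he : orderOf ((Fintype.card K : ℕ) : ZMod r) = e) (h0 : e ≠ 0) :
    e * dm (u : GL (Fin n) K) ≤ e * ev (u : GL (Fin n) K) 1 ^ 2 + (n - ev (u : GL (Fin n) K) 1) ^ 2 := by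
  have := Fact.mk hr
  have := M.char
  obtain ⟨μ, hμ⟩ := exists_muD M.core M.prime (m := r) ((Nat.coprime_primes hr M.prime).2 hrp) hu
  have h1 : ((Fintype.card K : ℕ) : ZMod r) ≠ 0 := by
    intro h2
    rw [h2, orderOf_eq_zero_iff'.2 (fun k hk => by rw [zero_pow hk.ne']; exact zero_ne_one)] at he
    exact h0 he.symm
  have h2 := (hμ.free (Γ := Subgroup.zpowers (Units.mk0 _ h1)) (Subgroup.zpowers_le.2 hμ.frob) fun g _ i hi _ e =>
    Units.ext (mul_right_cancel₀ hi (e.trans (one_mul i).symm))).1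
  rwa [Nat.card_zpowers, ← orderOf_units, Units.val_mk0, he] at h2

end md

section rgd

open CoxeterSystem Cfsg.Agent.ChevalleyStructure.CoxeterGeom Cfsg.Agent.Tits.Roots Cfsg.Agent.Tits.Core
  Cfsg.Agent.Tits.Exchange Cfsg.Agent.Nodes.Reps Cfsg.Agent.Nodes.BNOf Cfsg.Agent.Nodes.StabComb
  Cfsg.Agent.Nodes.Bruhat Cfsg.Agent.Nodes.OppDec Cfsg.Agent.Nodes.LeviDec Cfsg.Agent.KFacts.RgdOpp
  Cfsg.Agent.Omega.CR Cfsg.Agent.Omega.FOne.Lift.Sd Cfsg.Agent.H911 Cfsg.Agent.H905.Md Cfsg.Agent.Nodes.RGDLib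
open Cfsg Cfsg.Geo Module
open Cfsg.Agent.H915.LD
open Cfsg.Agent.H905.DC (co fire cf co_mul_simple co_mul_left co_wordProd co_one)
open Cfsg.Agent.H156.Ppd (rep_eq_sum co_mem)
open Cfsg.Agent.N2C.RD.Rg
open Cfsg.Agent.H911.SLTwo (hh)
open scoped MatrixGroups

variable {I W Y : Type*} [Fintype I] [DecidableEq I] [Group W] [Group Y] {M : CoxeterMatrix I}
  {cs : CoxeterSystem M W} {A : I → I → ℤ} {h : IsCartan M A} {p : ℕ} {T : Subgroup Y} {nn : I → Y}
  {X : (I → ℤ) → Subgroup Y}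

section abs

variable {k V : Type*} [Field k] [AddCommGroup V] [Module k V]

/-- the elements which multiply `z` by an element with the property `S` -/
def sc (ρ : Y →* Module.End k V) (z : V) (S : Subgroup kˣ) : Subgroup Y where
  carrier := {y | ∃ a ∈ S, ρ y z = (a : k) • z}
  one_mem' := ⟨1, one_mem _, by rw [rho_one, Units.val_one, one_smul]⟩
  mul_mem' := by
    rintro x y ⟨a, ha, e⟩ ⟨b, hb, e'⟩
    exact ⟨b * a, mul_mem hb ha, by rw [rho_mul, e', map_smul, e, smul_smul, Units.val_mul]⟩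
  inv_mem' := by
    rintro x ⟨a, ha, e⟩
    refine ⟨a⁻¹, inv_mem ha, ?_⟩
    have h1 := congrArg (fun v => ((a⁻¹ : kˣ) : k) • ρ x⁻¹ v) e
    simp only [rho_inv_rho, map_smul, smul_smul, Units.inv_mul, one_smul] at h1
    exact h1.symm

theorem pow_sc {ρ : Y →* Module.End k V} {z : V} {y : Y} {a : k} (e : ρ y z = a • z) (j : ℕ) : ρ (y ^ j) z = a ^ j • z := by
  induction j with
  | zero => rw [pow_zero, pow_zero, rho_one, one_smul]
  | succ j ih => rw [pow_succ, rho_mul, e, map_smul, ih, smul_smul, pow_succ']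

variable (R : RGD cs h p T nn X) [Finite Y] [Finite W] [Fact p.Prime] [CharP k p]
  {ρ : Y →* Module.End k V} [FiniteDimensional k V] [Nontrivial V]
  (hirr : ∀ L : Submodule k V, Ivt ρ (GG cs h T X) L → L = ⊥ ∨ L = ⊤)
include R hirr

theorem fix_vertex (hD : finrank k (D cs h X ρ) = 1) {S : Set I} {s : Y} (hs : s ∈ LJ cs h T X S) {r : ℕ} (hsr : s ^ r = 1)
    (hr : r.Coprime (Nat.card T)) {w : W} {g : Y} (hg : Rp cs R.nsys w⁻¹ g)
    (h0 : ∀ i ∈ S, ∀ m, m ∉ Jx cs h X ρ → co cs h m w i = 0) {v : V} (hv : v ∈ D cs h X ρ) (hv0 : v ≠ 0) :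
    ρ s (ρ g v) = ρ g v := by
  have hz := rho_ne_zero ρ g hv0
  have h1 : LJ cs h T X S ≤ sc ρ (ρ g v) (powMonoidHom (Nat.card T) : kˣ →* kˣ).ker := by
    refine sup_le (fun t ht => ?_) (RGD.Sup_le fun x hx y hy => ⟨1, one_mem _, ?_⟩)
    · have h1 : g⁻¹ * t * g ∈ T := by
        have h2 := (Subgroup.mem_normalizer_iff.1 (inv_mem hg.mem_normalizer) t).1 ht
        rwa [inv_inv] at h2
      obtain ⟨a, ha⟩ := H650.Ppd.exists_smul_of_mem hD hv hv0 (D_ivt R hirr _ h1 v hv)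
      have h2 : ρ t (ρ g v) = a • ρ g v := by
        rw [← map_smul, ha, ← rho_mul, ← rho_mul]
        congr 2
        group
      have h3 := pow_sc h2 (Nat.card T)
      rw [show t ^ Nat.card T = 1 from congrArg Subtype.val (pow_card_eq_one' (x := (⟨t, ht⟩ : T))), rho_one] at h3
      have h4 : a ^ Nat.card T = 1 := smul_left_injective k hz (h3.symm.trans (one_smul k _).symm)
      exact ⟨Units.ofPowEqOne a _ h4 Nat.card_pos.ne', Units.ext h4, h2⟩
    · have h1 := R.conj_mem' hg hx.1 hy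
      rw [inv_inv] at h1
      have h2 : rep cs h w x ∈ RootsJ cs h (Jx cs h X ρ) := by
        refine ⟨hx.1.act w, fun m hm => ?_⟩
        rw [rep_eq_sum]
        refine Finset.sum_eq_zero fun i _ => ?_
        by_cases hi : i ∈ S
        · rw [h0 i hi m hm, mul_zero]
        · rw [hx.2 i hi, zero_mul]
      rw [Units.val_one, one_smul]
      conv_rhs => rw [← X_fix_J R hirr h2 h1 hv]
      rw [← rho_mul, ← rho_mul]
      congr 2
      group
  obtain ⟨a, ha, e⟩ := h1 hs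
  have h3 := pow_sc e r
  rw [hsr, rho_one] at h3
  have h4 : a ^ r = 1 := Units.ext (smul_left_injective k hz (h3.symm.trans (one_smul k _).symm))
  have h5 : a = 1 := by
    rw [← orderOf_eq_one_iff, ← Nat.dvd_one, ← hr]
    exact Nat.dvd_gcd (orderOf_dvd_of_pow_eq_one h4) (orderOf_dvd_of_pow_eq_one ha)
  rw [e, h5, Units.val_one, one_smul]

/-- `V` is the sum of the vertices -/
theorem V0_top {i : I} (hi : i ∉ Jx cs h X ρ) (hd : finrank k (Le cs h T X ρ {i}) ≤ 2 * finrank k (D cs h X ρ))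
    (hZ : ∀ S : Subgroup Y, T ≤ S → (∀ w, X (rep cs h w (sr i)) ≤ S) → ∀ x, IsRoot cs h x → X x ≤ S)
    (hc : ∀ w, rep cs h w (sr i) ∈ NotJ cs h (Jx cs h X ρ) → ∃ u ∈ WJ cs (Jx cs h X ρ), rep cs h w (sr i) = rep cs h u (sr i))
    {g : W → Y} (hg : ∀ w, Rp cs R.nsys w (g w)) : (⨆ w, (D cs h X ρ).map (ρ (g w))) = ⊤ := by
  set V0 := ⨆ w, (D cs h X ρ).map (ρ (g w)) with hV0
  have hle : ∀ {w : W} {g' : Y}, Rp cs R.nsys w g' → (D cs h X ρ).map (ρ g') ≤ V0 := fun {w} {g'} hg' =>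
    (map_eq_of_mem R hirr (hg w) hg' (by rw [inv_mul_cancel]; exact one_mem _)).trans
      (le_iSup (fun w => (D cs h X ρ).map (ρ (g w))) w)
  have key : ∀ K : Subgroup Y, (∀ w, ∀ b ∈ K, ∀ v ∈ D cs h X ρ, ρ b (ρ (g w) v) ∈ V0) → Ivt ρ K V0 := by
    intro K hK b hb v hv
    have h1 : V0 ≤ V0.comap (ρ b) := iSup_le fun w => by
      rintro _ ⟨m, hm, rfl⟩
      exact hK w b hb m hm
    exact h1 hv
  have hT : Ivt ρ T V0 := by
    refine key T fun w t ht v hv => ?_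
    have h1 : Rp cs R.nsys w (t * g w) := by
      have := (rp_of_mem (cs := cs) (hN := R.nsys) ht).mul (hg w)
      rwa [one_mul] at this
    rw [← rho_mul]
    exact hle h1 ⟨v, hv, rfl⟩
  have hX : ∀ w₀, Ivt ρ (X (rep cs h w₀ (sr i))) V0 := by
    intro w₀
    have hx := (isRoot_sr cs h i).act w₀
    refine key _ fun w b hb v hv => ?_
    have h1 := R.conj_mem' (hg w) hx hb
    set y := rep cs h w⁻¹ (rep cs h w₀ (sr i)) with hy
    have hyr : IsRoot cs h y := hx.act _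
    have e : ρ b (ρ (g w) v) = ρ (g w) (ρ ((g w)⁻¹ * b * g w) v) := by
      rw [← rho_mul, ← rho_mul]
      congr 2
      group
    rw [e]
    rcases hyr.pos_or_neg with h0 | h0
    · rw [hv _ (RGD.le_Sup (S := RGD.Pos cs h) ⟨hyr, h0⟩ h1)]
      exact hle (hg w) ⟨v, hv, rfl⟩
    · rcases mem_PosJ_or_NotJ (Jx cs h X ρ) hyr.neg (neg_nonneg.2 h0) with h2 | h2
      · have h3 : y ∈ RootsJ cs h (Jx cs h X ρ) := by
          have := RootsJ.neg (PosJ_subset _ h2)
          rwa [neg_neg] at this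
        rw [X_fix_J R hirr h3 h1 hv]
        exact hle (hg w) ⟨v, hv, rfl⟩
      · have e1 : -y = rep cs h (w⁻¹ * w₀ * cs.simple i) (sr i) := by
          rw [rep_mul_apply, rep_simple_sr, map_neg, rep_mul_apply]
        obtain ⟨u, hu, e2⟩ := hc _ (e1 ▸ h2)
        obtain ⟨a, ha⟩ := exists_rp cs R.nsys u
        have h4 : y = rep cs h u (-sr i) := by rw [map_neg, ← e2, ← e1, neg_neg]
        rw [h4] at h1
        have h5 := R.conj_mem' ha ((isRoot_sr cs h i).neg.act u) h1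
        rw [rep_inv_apply] at h5
        have h6 : ρ a⁻¹ v ∈ D cs h X ρ := rp_D R hirr (inv_mem hu) ha.inv hv
        have h7 : ρ (a⁻¹ * ((g w)⁻¹ * b * g w) * a) (ρ a⁻¹ v) ∈ Le cs h T X ρ {i} :=
          Ivt_Le R {i} _ (X_le_LJ (RootsJ.neg (sr_mem_Roots i)) h5) _ (D_le_Le R {i} h6)
        obtain ⟨c, hcD, d, hdD, e3⟩ := Submodule.mem_sup.1 (edge_le R hirr hi hd h7)
        have h8 : ρ ((g w)⁻¹ * b * g w) v = ρ a c + ρ a d := by
          rw [← map_add, e3, ← rho_mul, ← rho_mul]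
          congr 2
          group
        rw [h8, map_add]
        obtain ⟨d', hd', rfl⟩ := hdD
        refine add_mem ?_ ?_
        · rw [← rho_mul]
          exact hle ((hg w).mul ha) ⟨c, hcD, rfl⟩
        · rw [← rho_mul, ← rho_mul]
          exact hle (((hg w).mul ha).mul (rp_simple cs R.nsys i)) ⟨d', hd', rfl⟩
  refine (hirr V0 ?_).resolve_left ?_
  · unfold GG
    exact Ivt.sup hT (Ivt_of_le ρ (RGD.Sup_le (hZ _ (Ivt.le_stS hT) fun w => Ivt.le_stS (hX w))))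
  · intro h0
    obtain ⟨c, hc, hc0⟩ := (Submodule.ne_bot_iff _).1 (simp_fx R ρ hirr).ne
    have h1 := hle (hg 1) ⟨c, hc, rfl⟩
    rw [h0, Submodule.mem_bot] at h1
    exact rho_ne_zero ρ _ hc0 h1

theorem dim_le_Z {i : I} (hi : i ∉ Jx cs h X ρ) (hJ : ∀ j, j ∉ Jx cs h X ρ → j = i)
    (hd : finrank k (Le cs h T X ρ {i}) ≤ 2 * finrank k (D cs h X ρ))
    (hZ : ∀ S : Subgroup Y, T ≤ S → (∀ w, X (rep cs h w (sr i)) ≤ S) → ∀ x, IsRoot cs h x → X x ≤ S)
    (L : List (List I)) (h0 : (Pi.single i 1 : I → ℤ) ∈ L.map (cf A i))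
    (hL : ∀ c ∈ L.map (cf A i), ∀ j, fire A c j ∈ L.map (cf A i))
    (S : List (I → ℤ)) (hS0 : (Pi.single i 1 : I → ℤ) ∈ S) (hS : ∀ x ∈ S, ∀ j, H925.Nat.rfn A j x ∈ S)
    (E : List (List I)) (hE0 : ∀ ω ∈ E, ∀ j ∈ ω, j ≠ i) (hE : ∀ x ∈ S, 0 < x i → x ∈ E.map (H925.Nat.rf A i)) :
    finrank k V ≤ L.length * finrank k (D cs h X ρ) := by
  choose g hg using fun w => exists_rp cs R.nsys w
  have h1 : (⨆ w, (D cs h X ρ).map (ρ (g w))) ≤ ⨆ a : Fin L.length, (D cs h X ρ).map (ρ (g (cs.wordProd (L.get a))⁻¹)) := by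
    refine iSup_le fun w => ?_
    obtain ⟨ω, hω, e⟩ := List.mem_map.1 (co_mem (cs := cs) (h := h) h0 hL w⁻¹)
    obtain ⟨a, rfl⟩ := List.mem_iff_get.1 hω
    refine (map_eq_of_mem R hirr (hg _) (hg _) ?_).trans
      (le_iSup (fun a : Fin L.length => (D cs h X ρ).map (ρ (g (cs.wordProd (L.get a))⁻¹))) a)
    rw [inv_inv, mem_WJ_iff (h := h)]
    intro x j hj
    rw [hJ j hj, rep_mul_apply, rep_eq_sum, co_wordProd, e, ← rep_eq_sum, rep_inv_apply]
  rw [V0_top R hirr hi hd hZ (by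
    rintro w ⟨-, -, j, hj, hxj⟩
    rw [hJ j hj] at hxj
    have h2 : rep cs h w (sr i) ∈ S := by
      clear hxj
      obtain ⟨ω, rfl⟩ := cs.wordProd_surjective w
      rw [H925.Nat.rep_wordProd_sr]
      induction ω with
      | nil => exact hS0
      | cons j ω ih => exact hS _ ih j
    obtain ⟨ω, hω, e⟩ := List.mem_map.1 (hE _ h2 hxj)
    refine ⟨cs.wordProd ω, ?_, by rw [H925.Nat.rep_wordProd_sr, e]⟩
    have h3 := hE0 ω hω
    clear hω e
    induction ω with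
    | nil => rw [cs.wordProd_nil]; exact one_mem _
    | cons a ω ih =>
      rw [cs.wordProd_cons]
      refine mul_mem (Subgroup.subset_closure ⟨a, ?_, rfl⟩) (ih fun j hj => h3 j (List.mem_cons_of_mem _ hj))
      by_contra hcon
      exact h3 a List.mem_cons_self (hJ a hcon)) hg, top_le_iff] at h1
  have h2 := finrank_iSup_le fun a : Fin L.length => (D cs h X ρ).map (ρ (g (cs.wordProd (L.get a))⁻¹))
  rw [h1, finrank_top] at h2
  simpa only [finrank_map, Finset.sum_const, Finset.card_univ, smul_eq_mul, Fintype.card_fin] using h2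

end abs

variable (R : RGD cs h p T nn X) [Finite Y] [Finite W] [hp : Fact p.Prime]
  {n : ℕ} {K : Type} [Field K] [Finite K] [CharP K p] {P : Subgroup (GL (Fin n) K)} (hC : Core P)
  (hG : GG cs h T X = ⊤) (hT : ∀ s ∈ T, ∀ t ∈ T, s * t = t * s) {φ : Y →* GL (Fin n) K} (hφ : φ.range = P)
include R hC hG hT hφ

/-- **fixed vertices** -/
theorem fix_ev {c : I → ℤ} (hc : ∀ s ∈ Jx cs h X (lin (acRep φ)), c s = 0) {S : Set I} {s : Y} (hs : s ∈ LJ cs h T X S) {r : ℕ}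
    (hsr : s ^ r = 1) (hr : r.Coprime (Nat.card T)) (L : List (List I))
    (h0 : ∀ ω ∈ L, ∀ i ∈ S, ∀ m, m ∉ Jx cs h X (lin (acRep φ)) → cf A m ω i = 0) (h3 : (L.map (cv A c)).Nodup) :
    L.length ≤ ev (φ s) 1 := by
  have hne := hC.nonempty
  have hchar : CharP (AlgebraicClosure K) p := charP_of_injective_algebraMap (algebraMap K _).injective p
  have hirr := ac_irr R hG hT hφ hC.absIrred
  choose g hg using fun w => exists_rp cs R.nsys w
  obtain ⟨x, hx, hx0⟩ := (Submodule.ne_bot_iff _).1 (simp_fx R (lin (acRep φ)) hirr).ne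
  have key := dim_ge' R hirr (α := Fin L.length) (β := Empty) (fun a => (cs.wordProd (L.get a))⁻¹)
    (fun a => g (cs.wordProd (L.get a))⁻¹) (fun a => hg _) (by
      intro a a' haa hm
      refine haa (inj_of_nodup h3 ?_)
      rw [inv_inv] at hm
      have h1 := cw_mul_left cs h hc hm (cs.wordProd (L.get a'))
      rwa [inv_mul_cancel_right, cw_wordProd, cw_wordProd] at h1)
    Empty.elim Empty.elim (fun b => b.elim) Empty.elim (fun b => b.elim) hx hx0 Empty.elim (fun b => b.elim) (fun b => b.elim)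
  rw [Fintype.card_fin] at key
  rw [ev_ac_one]
  refine (Nat.le_add_right _ _).trans (key.trans (Submodule.finrank_mono (sup_le (iSup_le fun a => ?_) (iSup_le fun b => b.elim))))
  rw [Submodule.span_singleton_le_iff_mem, Module.End.mem_eigenspace_iff, one_smul]
  exact fix_vertex R hirr (finrank_D R hirr hT) hs hsr hr (hg _)
    (fun i hi m hm => by rw [co_wordProd]; exact h0 _ (List.get_mem L a) i hi m hm) hx hx0

/-- **the field of the module** -/
theorem pow_of_J (hG1 : G1 cs h X = ⊤) {a : ℕ} (ha : a ≠ 0)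
    (hS : ∀ i, ∃ (E : Type) (_ : Field E) (σ : SL(2, E) →* Y), H948.Ppd.Nd T X i σ ∧
      (i ∈ Jx cs h X (lin (acRep φ)) ∨ ∀ x : E, x ^ p ^ a = x)) : ∃ j, 1 ≤ j ∧ Nat.card K ^ j = p ^ a := by
  have hne := hC.nonempty
  have hchar : CharP (AlgebraicClosure K) p := charP_of_injective_algebraMap (algebraMap K _).injective p
  have hirr := ac_irr R hG hT hφ hC.absIrred
  obtain ⟨c, hc, hc0, χ, hχ⟩ := exists_chi R hirr hT
  obtain ⟨s, hs⟩ := exists_frob K p a
  let S : Subgroup (AlgebraicClosure K)ˣ := (powMonoidHom (p ^ a) : _ →* (AlgebraicClosure K)ˣ).eqLocus (MonoidHom.id _)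
  have h1 : T ≤ sc (lin (acRep φ)) c S := by
    refine H948.Ppd.torus_ind R hG1 fun i => ?_
    obtain ⟨E, _, σ, N, h2⟩ := hS i
    refine ⟨E, _, σ, N, fun x => ?_⟩
    rcases h2 with h2 | h2
    · have h3 : X (sr i) ⊔ X (-sr i) ≤ sc (lin (acRep φ)) c S := sup_le
        (fun y hy => ⟨1, one_mem _, by
          rw [Units.val_one, one_smul]
          exact hc y (RGD.le_Sup (S := RGD.Pos cs h) ⟨isRoot_sr cs h i, sr_nonneg i⟩ hy)⟩)
        (fun y hy => ⟨1, one_mem _, by rw [Units.val_one, one_smul]; exact h2 y hy c hc⟩)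
      exact h3 (N.range_eq R ▸ ⟨_, rfl⟩)
    · have h3 := hχ _ (N.tor x)
      have h4 : χ (σ (hh x)) ≠ 0 := fun e => rho_ne_zero _ _ hc0 (by rw [h3, e, zero_smul])
      refine ⟨Units.mk0 _ h4, Units.ext ?_, h3⟩
      have h5 := chi_pow hc0 hχ (N.tor x) (p ^ a)
      have h6 : ∀ j : ℕ, hh x ^ j = hh (x ^ j) := fun j => by
        induction j with
        | zero => rw [pow_zero, pow_zero, H911.SLTwo.hh_one]
        | succ j ih => rw [pow_succ, ih, H911.SLTwo.hh_mul, pow_succ]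
      rw [← map_pow, h6, show x ^ p ^ a = x from Units.ext (h2 x)] at h5
      exact h5.symm
  refine card_pow_eq p ha (pow_eq_of_no_subfield hC.absIrred hC.no_subfield p a fun g hg => ?_)
  rw [← hφ] at hg
  obtain ⟨y, rfl⟩ := hg
  have h2 := trace_fixed R (acRep φ) hirr hc hc0 hχ s (fun t ht => by
    obtain ⟨x, hx, e⟩ := h1 ht
    rw [hs, smul_left_injective _ hc0 ((hχ t ht).symm.trans e)]
    exact congrArg Units.val hx) (g := y) (by rw [hG]; trivial)
  rw [hs, trace_acRep, ← map_pow] at h2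
  exact (algebraMap K (AlgebraicClosure K)).injective h2

end rgd

end Cfsg.Agent.N2C.RD.Mn
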