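import Cfsg.Agent.N2.Cl.RD.Mn1
import Cfsg.Agent.N2.Cl.RX.El

/-!
# N2 (S3519), defining characteristic: `PΩ⁻_8(s)` in degree `8` over the field of `s ^ 2` elements (helper92)

* **`eight`**.
-/

set_option autoImplicit false
set_option linter.unusedSectionVars false

namespace Cfsg.Agent.N2C.RD.Mn

open Cfsg Cfsg.Geo Cfsg.Agent.H902 Cfsg.Agent.N2C.Cyc Cfsg.Agent.N2C.RX Cfsg.Agent.H915.LD Subgroup

theorem ev_ne {n : ℕ} {K : Type} [Field K] {u : GL (Fin n) K} (hu : u ≠ 1) : ev u 1 ≠ n := fun h => hu (by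
  have h1 : Module.End.eigenspace (Matrix.toLin' (u : Matrix (Fin n) (Fin n) K)) 1 = ⊤ :=
    Submodule.eq_top_of_finrank_eq (h.trans (Module.finrank_fin_fun K).symm)
  refine Units.ext (Matrix.toLin'.injective (LinearMap.ext fun v => ?_))
  have h2 : v ∈ Module.End.eigenspace (Matrix.toLin' (u : Matrix (Fin n) (Fin n) K)) 1 := h1 ▸ Submodule.mem_top
  rw [Module.End.mem_eigenspace_iff.1 h2, one_smul, Units.val_one, Matrix.toLin'_one, LinearMap.id_apply])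

theorem num_s {s : ℕ} (hs : 3 ≤ s) : 64 * s * (s ^ 2 + 1) ^ 3 ≤ 5 * (s ^ 2) ^ 5 := by
  have h1 : 9 ≤ s ^ 2 := Nat.pow_le_pow_left hs 2
  have h2 : 27 ≤ s ^ 3 := Nat.pow_le_pow_left hs 3
  have h3 : (9 * (s ^ 2 + 1)) ^ 3 ≤ (10 * s ^ 2) ^ 3 := Nat.pow_le_pow_left (by omega) 3
  refine Nat.le_of_mul_le_mul_left ?_ (show 0 < 729 by norm_num)
  calc 729 * (64 * s * (s ^ 2 + 1) ^ 3) = 64 * s * (9 * (s ^ 2 + 1)) ^ 3 := by ring
    _ ≤ 64 * s * (10 * s ^ 2) ^ 3 := Nat.mul_le_mul_left _ h3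
    _ = 64000 * s ^ 7 := by ring
    _ ≤ 729 * 5 * s ^ 3 * s ^ 7 := Nat.mul_le_mul_right _ (by omega)
    _ = _ := by ring

theorem gcd_le {q x : ℕ} (hq : 1 ≤ q) (h : q % 2 = 0 → x % 2 = 1) : Nat.gcd 4 x ≤ Nat.gcd 2 (q - 1) ^ 3 := by
  rcases Nat.mod_two_eq_zero_or_one q with h1 | h1
  · rw [show Nat.gcd 4 x = 1 from (Nat.coprime_pow_left_iff two_pos 2 x).2 (Nat.coprime_two_left.2 (Nat.odd_iff.2 (h h1)))]
    exact Nat.one_le_pow _ _ (Nat.gcd_pos_of_pos_left _ two_pos)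
  · rw [Nat.gcd_eq_left (show 2 ∣ q - 1 by omega)]
    exact (ct_gcd x).2.trans (by norm_num)

variable {t : Kd} {q p T b : ℕ} {K : Type} [Field K] [Fintype K] {P : Subgroup (GL (Fin 8) K)} {G : Prop} {c f : P → ℕ}
  (M : Md t q p T b P G c f)
include M

/-- the centraliser of an element with the eigenvalues `1, 1` and six others -/
theorem cen_le (ht : bil t) {r : ℕ} (hr : r.Prime) (h5 : 5 ≤ r) (hrp : r ≠ p) (ho : orderOf ((q : ℕ) : ZMod r) = 3) {u : P}
    (hu : orderOf u = r) : ev (u : GL (Fin 8) K) 1 = 2 ∧ ∃ d, d ≤ 10 ∧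
      c u * zz t q * q ^ dl t 2 ≤ kp t 2 * q ^ es t d 2 * (q + 1) ^ dl t 2 := by
  have := Fact.mk hr
  obtain ⟨μ, h1, h2, h3, -, h4, h6, h7⟩ := M.semi r u hrp (by omega) hu
  have hf : ((fr t q : ℤ) : ZMod r) = (q : ℕ) := by
    cases t
    exacts [ht.elim, ht.elim, Int.cast_natCast q, Int.cast_natCast q, Int.cast_natCast q, Int.cast_natCast q]
  rw [hf] at h4 h7
  have hq : orderOf (-1 * ((q : ℕ) : ZMod r)) = 6 := by
    have h8 : orderOf (-1 : ZMod r) = 2 := by rw [orderOf_neg_one, ZMod.ringChar_zmod_n, if_neg (by omega)]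
    rw [(Commute.all _ _).orderOf_mul_eq_mul_orderOf_of_coprime (by rw [h8, ho]; norm_num), h8, ho]
  have h0 : -1 * ((q : ℕ) : ZMod r) ≠ 0 := by
    intro e
    rw [e, orderOf_eq_zero_iff'.2 (fun k hk => by rw [zero_pow hk.ne']; exact zero_ne_one)] at hq
    omega
  obtain ⟨h8, h9⟩ := free_of (μ := μ) (Γ := zpowers (Units.mk0 _ h0)) (zpowers_le.2 fun i => by
    rw [Units.val_mk0, mul_assoc, neg_one_mul, h6 ht, h4]) fun g _ i hi _ e =>
    Units.ext (mul_right_cancel₀ hi (e.trans (one_mul i).symm))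
  rw [Nat.card_zpowers, ← orderOf_units, Units.val_mk0, hq, h1] at h8 h9
  have h10 : μ 0 ≠ 8 := h2 ▸ ev_ne fun e => by
    rw [show u = 1 from Subtype.ext e, orderOf_one] at hu
    omega
  have h11 : μ 0 ≤ 8 := h1 ▸ Finset.single_le_sum (fun _ _ => Nat.zero_le _) (Finset.mem_univ 0)
  have h12 : μ 0 = 2 := by omega
  have h13 := h7 3 _ ho rfl
  have e1 : eq t 3 = 0 := by
    cases t
    exacts [rfl, ht.elim, rfl, rfl, rfl, rfl]
  rw [nu, if_pos e1, pow_zero, pow_zero, mul_one, mul_one, h12, ww, if_neg (fun e => by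
    have h14 := (Nat.prime_dvd_prime_iff_eq hr Nat.prime_two).1 (hr.dvd_of_dvd_pow (show r ∣ 2 ^ 3 from e.2))
    omega), one_mul] at h13
  rw [h12, ← h3] at h8
  exact ⟨h2 ▸ h12, _, by omega, h13⟩

variable {a : ℕ} (N : Nd (.DD 4) p a (Soc P)) (hq : q = (p ^ a) ^ 2)
include N hq

omit M in
theorem b_le' (M : Md0 t q p T b P G c f) : b ≤ 2 * a * q ^ 14 := by
  rw [hq, ← pow_mul]
  exact M.b_le N

/-- the orthogonal kinds -/
theorem eight_O (ht : bil t) (h1 : dl t 2 = 1) (h2 : kp t 2 = 2) (h3 : ∀ d, es t d 2 = (d - 2) / 2) (hz : zz t q = Nat.gcd 2 (q - 1))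
    (hT : oP 4 q ≤ zz t q ^ 3 * T) : G := by
  have hq2 := M.q_ge
  have hs := N.two_le
  have ha := N.real.hf
  have hb := b_le' N hq M.toMd0
  have key : ∀ {r : ℕ} {u : P}, r.Prime → 5 ≤ r → r ≠ p → orderOf ((q : ℕ) : ZMod r) = 3 → orderOf u = r →
      ev (u : GL (Fin 8) K) 1 = 2 ∧ c u * zz t q ≤ 2 * q ^ 3 * (q + 1) := fun hr h5 hrp ho hu => by
    obtain ⟨h4, d, hd, h6⟩ := cen_le M ht hr h5 hrp ho hu
    rw [h1, h2, h3, pow_one, pow_one] at h6
    refine ⟨h4, Nat.le_of_mul_le_mul_right (h6.trans ?_) (show 0 < q by omega)⟩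
    calc 2 * q ^ ((d - 2) / 2) * (q + 1) ≤ 2 * q ^ 4 * (q + 1) := by
          gcongr
          · omega
          · omega
      _ = _ := by ring
  rcases hs.eq_or_lt with h4 | h4
  · obtain ⟨rfl, rfl⟩ := (Nat.Prime.pow_eq_iff Nat.prime_two).1 h4.symm
    obtain rfl : q = 4 := hq
    have hN : Nat.card (Soc P) = 197406720 := by
      have h5 := N.ord_M
      have e1 : oD .M (2 * 4) (2 ^ 1) = 1 := by decide
      have e2 : oI .M (2 * 4) (2 ^ 1) = 197406720 := by decide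
      rwa [e1, e2, one_mul] at h5
    have h7 : Nat.Prime 7 := by norm_num
    have := Fact.mk h7
    obtain ⟨g, hg⟩ := exists_prime_orderOf_dvd_card' (G := Soc P) 7 (by rw [hN]; norm_num)
    obtain ⟨u, rfl, hu⟩ := exists_lift h7 (not_dvd_scal M.core h7 (Or.inl (by norm_num))) hg
    obtain ⟨h5, h6⟩ := key h7 (by norm_num) (by norm_num) (orderOf_eq_prime (by decide) (by decide)) hu
    have hz1 : zz t 4 = 1 := hz
    have h8 := M.fsyl u 7 h7 (by norm_num) (by rw [hz1]; norm_num) hu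
      (fun h => N.not_dvd_of h7 (by norm_num) (by norm_num) (by decide) (h.trans M.ba)) fun g hg' => by
        obtain ⟨x, hx⟩ := syl_conj h7 (by rw [hN]; norm_num) hg' hg
        obtain ⟨j, hj⟩ := (mem_powers_iff_mem_zpowers.2 (hx ▸ mem_zpowers g : g ∈ zpowers (x * toSoc P u * x⁻¹)))
        exact ⟨j, (isConj_iff.2 ⟨x, conj_pow.symm.trans hj⟩).symm⟩
    have h9 : 7 ≤ Nat.card (normalizer (zpowers (toSoc P u) : Set (Soc P))) := by
      rw [← hg, ← Nat.card_zpowers]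
      exact card_le_of_le le_normalizer
    have h10 : Nat.card (Soc P) ≤ b := Nat.le_of_dvd (Nat.pos_of_dvd_of_pos M.ba N.aut_pos) M.nb
    rw [hz1, mul_one] at h6
    rw [hz1, one_pow, one_mul, show oP 4 4 = 67010895544320000 by decide] at hT
    rw [h5, hN] at h8
    rw [hN] at h10
    have h11 : f u * 7 * b ≤ 640 * 6 * 197406720 := le_trans (by gcongr) (h8.trans (by gcongr; exact h6))
    have h12 : f u ≤ 548 := by
      have h13 : f u * 7 * 197406720 ≤ f u * 7 * b := Nat.mul_le_mul_left _ h10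
      omega
    refine M.good u (Nat.le_of_mul_le_mul_left ?_ (show 0 < 7 by norm_num))
    calc 7 * (f u ^ 3 * b) = f u ^ 2 * (f u * 7 * b) := by ring
      _ ≤ 548 ^ 2 * (640 * 6 * 197406720) := by gcongr
      _ ≤ _ := by omega
  · obtain ⟨r, u, hr, h5, -, h6, h7, hu, -⟩ := M.ppd N (k := 6) ⟨by norm_num, Or.inr ⟨rfl, by norm_num⟩⟩ (by omega) (by
      rintro ⟨rfl, e⟩
      obtain rfl : a = 1 := by omega
      omega)
    obtain ⟨-, h8⟩ := key hr h6 h7 (by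
      rw [hq, ← pow_mul, ord_pow h5 (by omega), Nat.gcd_mul_left, Nat.mul_div_mul_left _ _ (by omega)]
      rfl) hu
    have h9 := two_mul_le M.prime.two_le a
    have h10 := num_s h4
    rw [← hq] at h10
    have h11 : 5 * q ^ 28 ≤ 8 * oP 4 q := oP_ge hq2 (m := 3) le_rfl
    refine M.good u (Nat.le_of_mul_le_mul_left (le_trans ?_ hT) (pow_pos M.ct_zz 3))
    refine Nat.le_of_mul_le_mul_left (le_trans ?_ h11) (show 0 < 8 by norm_num)
    have h12 := M.fc u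
    calc 8 * (zz t q ^ 3 * (f u ^ 3 * b)) ≤ 8 * (zz t q ^ 3 * (c u ^ 3 * (p ^ a * q ^ 14))) := by
          gcongr
          exact hb.trans (Nat.mul_le_mul_right _ h9)
      _ = 8 * ((c u * zz t q) ^ 3 * (p ^ a * q ^ 14)) := by ring
      _ ≤ 8 * ((2 * q ^ 3 * (q + 1)) ^ 3 * (p ^ a * q ^ 14)) := by gcongr
      _ = 64 * p ^ a * (q + 1) ^ 3 * q ^ 23 := by ring
      _ ≤ 5 * q ^ 5 * q ^ 23 := Nat.mul_le_mul_right _ h10
      _ = _ := by ring

omit hq in
/-- **degree `8`** -/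
theorem eight (hK : Fintype.card K = (p ^ a) ^ 2) (hS : SD P) : G := by
  have h := M.frm
  have hq := M.card
  have hd := M.dim
  have ho := M.ord
  have hq2 := M.q_ge
  have ha := N.real.hf
  rw [hK] at hq
  have h4 : q % 2 = 0 → q ^ 4 % 2 = 0 := fun e => Nat.even_iff.1 ((Nat.even_iff.2 e).pow_of_ne_zero (by norm_num))
  have h5 : 0 < q ^ 4 := by positivity
  cases t
  · exact (h hS).elim
  · exact (h.2 hS).elim
  · have hb := b_le' N hq.symm M.toMd0
    obtain ⟨r, u, hr, h6, h7, hu, h8⟩ : ∃ (r : ℕ) (u : P), r.Prime ∧ 5 ≤ r ∧ r ≠ p ∧ orderOf u = r ∧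
        orderOf ((q : ℕ) : ZMod r) = 3 := by
      rw [show q = p ^ (a * 2) by rw [pow_mul]; exact hq.symm]
      by_cases h6 : p = 2 ∧ a * 3 = 6
      · obtain ⟨r, u, hr, h5, -, h7, h8, hu, -⟩ := M.ppd N (k := 6) ⟨by norm_num, Or.inr ⟨rfl, by norm_num⟩⟩ (by omega) (by omega)
        exact ⟨r, u, hr, h7, h8, hu, by
          rw [ord_pow h5 (by omega), Nat.gcd_mul_left, Nat.mul_div_mul_left _ _ (by omega)]
          rfl⟩
      · obtain ⟨r, u, hr, h5, -, h7, h8, hu, -⟩ := M.ppd N (k := 3) ⟨by norm_num, Or.inl (by norm_num)⟩ (by omega) h6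
        exact ⟨r, u, hr, h7, h8, hu, by
          rw [ord_pow h5 (by omega), Nat.gcd_mul_left, Nat.mul_div_mul_left _ _ (by omega)]
          rfl⟩
    obtain ⟨-, d, hd, h9⟩ := cen_le M trivial hr h6 h7 h8 hu
    have h10 : c u * zz .S q * q ^ 0 ≤ 1 * q ^ ((d + 2) / 2) * (q + 1) ^ 0 := h9
    have h11 : f u ≤ q ^ 6 := by
      rw [pow_zero, pow_zero, mul_one, mul_one, one_mul] at h10
      exact (M.fc u).trans ((Nat.le_mul_of_pos_right _ M.ct_zz).trans (h10.trans (Nat.pow_le_pow_right (by omega) (by omega))))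
    have h12 : 2 * q ^ 36 ≤ 3 * oSp 4 q := oSp_ge' hq2 4
    have h13 : Nat.gcd 2 (q - 1) * T = oSp 4 q := ho
    have h14 : oSp 4 q ≤ 2 * T := h13 ▸ Nat.mul_le_mul_right _ (Nat.gcd_le_left _ two_pos)
    have h15 : 2 * a ≤ q := (two_mul_le M.prime.two_le a).trans ((Nat.le_self_pow two_ne_zero _).trans hq.le)
    have h16 : 3 ≤ q ^ 3 := le_trans (by norm_num) (Nat.pow_le_pow_left hq2 3)
    refine M.good u (Nat.le_of_mul_le_mul_left (le_trans ?_ (show q ^ 36 ≤ 3 * T by omega)) (show 0 < 3 by norm_num))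
    calc 3 * (f u ^ 3 * b) ≤ q ^ 3 * ((q ^ 6) ^ 3 * (q * q ^ 14)) := by
          gcongr
          exact hb.trans (Nat.mul_le_mul_right _ h15)
      _ = _ := by ring
  · have := hd.2.1
    omega
  · refine eight_O M N hq.symm trivial rfl rfl (fun _ => rfl) rfl ?_
    have h6 : Nat.gcd 4 (q ^ 4 - 1) * T = oP 4 q := ho
    exact h6 ▸ Nat.mul_le_mul_right _ (gcd_le (by omega) fun e => by have := h4 e; omega)
  · refine eight_O M N hq.symm trivial rfl rfl (fun _ => rfl) rfl ((oP_le_oM 4 q).trans ?_)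
    have h6 : Nat.gcd 4 (q ^ 4 + 1) * T = oM 4 q := ho
    exact h6 ▸ Nat.mul_le_mul_right _ (gcd_le (by omega) fun e => by have := h4 e; omega)

end Cfsg.Agent.N2C.RD.Mn
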