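import Cfsg.Agent.N2.Cl.RD.Crit
import Cfsg.Agent.H947.EPO.PPlus
import Cfsg.Agent.H948.Ppd.Cover
import Cfsg.Agent.H924.D5N
import Cfsg.Agent.H218.SdFin
import Cfsg.Agent.H879.Nine.Ctx

/-!
# N2 (S3519), defining characteristic: the rows `PΩ⁺_{2m}` (helper86)

* **`rowD4`** : `Row (fD 4)`;  **`rowD`** : `Row (fD m)`, `m ≥ 5`.
-/

set_option autoImplicit false
set_option linter.unusedSectionVars false
set_option linter.style.longLine false

namespace Cfsg.Agent.N2C.RD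

namespace Dp

section abs

open CoxeterSystem Cfsg.Agent.ChevalleyStructure.CoxeterGeom Cfsg.Agent.Tits.Roots Cfsg.Agent.Tits.Core
  Cfsg.Agent.Tits.Exchange Cfsg.Agent.Nodes.Reps Cfsg.Agent.Nodes.BNOf Cfsg.Agent.Nodes.StabComb
  Cfsg.Agent.Nodes.Bruhat Cfsg.Agent.Nodes.OppDec Cfsg.Agent.Nodes.LeviDec Cfsg.Agent.KFacts.RgdOpp
  Cfsg.Agent.Omega.CR Cfsg.Agent.Omega.FOne.Lift.Sd Cfsg.Agent.H905.Md Cfsg.Agent.Nodes.TypeD
  Cfsg.Agent.Nodes.RGDLib Cfsg.Agent.H156.Ppd Cfsg.Agent.H947.EPO Cfsg.Agent.H911 Cfsg.Agent.H915.LD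
open Cfsg Cfsg.Geo Module

/-- the Cartan matrix -/
def mAD6 : Fin 6 → Fin 6 → ℤ := ![![2, -1, 0, 0, 0, 0], ![-1, 2, -1, 0, 0, 0], ![0, -1, 2, -1, 0, 0], ![0, 0, -1, 2, -1, -1],
  ![0, 0, 0, -1, 2, 0], ![0, 0, 0, -1, 0, 2]]

theorem mAD6_eq : (Nodes.TypeD.A 4) = mAD6 := by
  funext i j
  rw [Nodes.TypeD.A_apply]
  revert i j
  decide +kernel

section words

variable {I W Y : Type*} [Fintype I] [DecidableEq I] [Group W] [Group Y] {M : CoxeterMatrix I}
  {cs : CoxeterSystem M W} {A : I → I → ℤ} {hA : IsCartan M A} {p : ℕ} {T : Subgroup Y} {nn : I → Y}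
  {X : (I → ℤ) → Subgroup Y} (R : RGD cs hA p T nn X) [Finite Y] [Finite W] [hp : Fact p.Prime]
  {n : ℕ} {K : Type} [Field K] [CharP K p] {P : Subgroup (GL (Fin n) K)} (hC : Core P)
  (hG : GG cs hA T X = ⊤) (hT : ∀ s ∈ T, ∀ t ∈ T, s * t = t * s) {φ : Y →* GL (Fin n) K} (hφ : φ.range = P)
include R hC hG hT hφ

/-- `o` orbits of vertices of the same length -/
theorem words {i i' : I} (hi : i ∉ Jx cs hA X (lin (acRep φ))) (hi' : i' ∉ Jx cs hA X (lin (acRep φ))) (ω : List I)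
    (L : List (List I × ℕ)) (hV : ((Rg.pts L).map (Rg.orb A (fun s => if s = i ∨ s = i' then 1 else 0) ω)).Nodup) {o m : ℕ}
    (ho : L.length = o) (hm : (L.map Prod.snd).sum = m) :
    m ≤ n ∧ ∃ u : P, dm (u : GL (Fin n) K) ≤ o * n + (n - m) * (o + (n - m)) := by
  have h := Rg.exists_dm_le R hC hG hT hφ (c := fun s => if s = i ∨ s = i' then 1 else 0)
    (fun s hs => if_neg (by rintro (rfl | rfl); exacts [hi hs, hi' hs])) ω L [] [] [] (fun e he => absurd he (by simp))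
    (by rw [List.append_nil]; exact hV) List.nodup_nil (o := o) (o' := 0) (m := m) (m' := 0) ho hm rfl rfl
  exact h

end words

variable {W Y : Type*} [Group W] [Group Y] {p : ℕ} {T : Subgroup Y} [Finite Y] [Finite W] [hp : Fact p.Prime]
  {n : ℕ} {K : Type} [Field K] [CharP K p] {P : Subgroup (GL (Fin n) K)} {φ : Y →* GL (Fin n) K}

/-- type `D₄` -/
theorem four {cs : CoxeterSystem (Nodes.TypeD.M 2) W} {nn : Fin 4 → Y} {X : (Fin 4 → ℤ) → Subgroup Y} {A : Fin 4 → Fin 4 → ℤ}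
    {hA : IsCartan (Nodes.TypeD.M 2) A} (e : A = mAD4) (R : RGD cs hA p T nn X) (hC : Core P) (hG : GG cs hA T X = ⊤)
    (hT : ∀ s ∈ T, ∀ t ∈ T, s * t = t * s) (hφ : φ.range = P) {i : Fin 4} (hi : i ∉ Jx cs hA X (lin (acRep φ))) :
    n ≤ 8 ∨ 32 ≤ n ∨ 24 ≤ n ∧ ∃ u : P, dm (u : GL (Fin n) K) ≤ 4 * n + (n - 24) * (4 + (n - 24)) := by
  have hne := hC.nonempty
  have hchar : CharP (AlgebraicClosure K) p := charP_of_injective_algebraMap (algebraMap K _).injective p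
  have hirr := ac_irr R hG hT hφ hC.absIrred
  have hD := finrank_D R hirr hT
  have hdim : finrank (AlgebraicClosure K) (Fin n → AlgebraicClosure K) = n := by
    rw [Module.finrank_fintype_fun_eq_card, Fintype.card_fin]
  by_cases h1 : (1 : Fin 4) ∈ Jx cs hA X (lin (acRep φ))
  swap
  · subst e
    exact Or.inr (Or.inr (words R hC hG hT hφ h1 h1 [0, 1, 2, 3] [([], 6), ([1], 6), ([1, 2], 6), ([1, 3], 6)]
      (by decide +kernel) rfl rfl))
  have hi1 : i ≠ 1 := fun h => hi (h ▸ h1)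
  by_cases h2 : ∀ j, j ∉ Jx cs hA X (lin (acRep φ)) → j = i
  · have h3 := finrank_Io R hirr (ρ := lin (acRep φ)) i
    rcases dFour_one e R hirr hi with ⟨h4, -⟩ | ⟨-, h4⟩
    · exact absurd h4 hi1
    rw [hD, hdim] at h4
    by_cases h5 : finrank (AlgebraicClosure K) (Io cs hA T X (lin (acRep φ)) i) = 0
    · have h6 := dFour_le e R hirr hi h2 hi1 (by omega)
      rw [hD, hdim] at h6
      exact Or.inl h6
    · exact Or.inr (Or.inl (by omega))
  · push Not at h2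
    obtain ⟨j, hj, hji⟩ := h2
    have hj1 : j ≠ 1 := fun h => hj (h ▸ h1)
    subst e
    have k02 : (0 : Fin 4) ∉ Jx cs hA X (lin (acRep φ)) → (2 : Fin 4) ∉ Jx cs hA X (lin (acRep φ)) → _ := fun a b =>
      words R hC hG hT hφ a b [0, 1, 2, 3] [([], 6), ([0], 6), ([0, 1], 6), ([2, 1], 6)] (by decide +kernel) (o := 4) (m := 24) rfl rfl
    have k03 : (0 : Fin 4) ∉ Jx cs hA X (lin (acRep φ)) → (3 : Fin 4) ∉ Jx cs hA X (lin (acRep φ)) → _ := fun a b =>
      words R hC hG hT hφ a b [0, 1, 2, 3] [([], 6), ([0], 6), ([0, 1], 6), ([3, 1], 6)] (by decide +kernel) (o := 4) (m := 24) rfl rfl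
    have k23 : (2 : Fin 4) ∉ Jx cs hA X (lin (acRep φ)) → (3 : Fin 4) ∉ Jx cs hA X (lin (acRep φ)) → _ := fun a b =>
      words R hC hG hT hφ a b [0, 1, 2, 3] [([], 6), ([2], 6), ([3], 6), ([2, 1], 6)] (by decide +kernel) (o := 4) (m := 24) rfl rfl
    have key : ∀ i j : Fin 4, i ≠ 1 → j ≠ 1 → j ≠ i → (i = 0 ∧ j = 2) ∨ (i = 0 ∧ j = 3) ∨ (i = 2 ∧ j = 3) ∨ (i = 2 ∧ j = 0) ∨
        (i = 3 ∧ j = 0) ∨ (i = 3 ∧ j = 2) := by decide
    refine Or.inr (Or.inr ?_)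
    rcases key i j hi1 hj1 hji with ⟨rfl, rfl⟩ | ⟨rfl, rfl⟩ | ⟨rfl, rfl⟩ | ⟨rfl, rfl⟩ | ⟨rfl, rfl⟩ | ⟨rfl, rfl⟩
    exacts [k02 hi hj, k03 hi hj, k23 hi hj, k02 hj hi, k03 hj hi, k23 hj hi]

/-- type `D₅`, both half-spin nodes -/
theorem five {cs : CoxeterSystem (Nodes.TypeD.M 3) W} {nn : Fin 5 → Y} {X : (Fin 5 → ℤ) → Subgroup Y} {A : Fin 5 → Fin 5 → ℤ}
    {hA : IsCartan (Nodes.TypeD.M 3) A} (e : A = mAD5) (R : RGD cs hA p T nn X) (hC : Core P) (hG : GG cs hA T X = ⊤)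
    (hT : ∀ s ∈ T, ∀ t ∈ T, s * t = t * s) (hφ : φ.range = P) (h3 : (3 : Fin 5) ∉ Jx cs hA X (lin (acRep φ)))
    (h4 : (4 : Fin 5) ∉ Jx cs hA X (lin (acRep φ))) : 32 ≤ n := by
  subst e
  exact (words R hC hG hT hφ h3 h4 [0, 1, 2, 3, 4] [([], 8), ([3], 8), ([4], 8), ([3, 2], 8)] (by decide +kernel)
    (o := 4) (m := 32) rfl rfl).1

/-- type `D₆`, a half-spin node -/
theorem six {cs : CoxeterSystem (Nodes.TypeD.M 4) W} {nn : Fin 6 → Y} {X : (Fin 6 → ℤ) → Subgroup Y} {A : Fin 6 → Fin 6 → ℤ}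
    {hA : IsCartan (Nodes.TypeD.M 4) A} (e : A = mAD6) (R : RGD cs hA p T nn X) (hC : Core P) (hG : GG cs hA T X = ⊤)
    (hT : ∀ s ∈ T, ∀ t ∈ T, s * t = t * s) (hφ : φ.range = P) {i : Fin 6} (hi : i ∉ Jx cs hA X (lin (acRep φ)))
    (h4 : 4 ≤ (i : ℕ)) : ∃ u : P, dm (u : GL (Fin n) K) ≤ 3 * n + (n - 30) * (3 + (n - 30)) := by
  subst e
  obtain rfl | rfl : i = 4 ∨ i = 5 := by
    clear hi
    revert i
    decide
  · exact (words R hC hG hT hφ hi hi [0, 1, 2, 3, 4, 5] [([], 10), ([4, 3], 10), ([4, 3, 2], 10)] (by decide +kernel) rfl rfl).2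
  · exact (words R hC hG hT hφ hi hi [0, 1, 2, 3, 4, 5] [([], 10), ([5, 3], 10), ([5, 3, 2], 10)] (by decide +kernel) rfl rfl).2

/-- the field of the module is a proper subfield -/
theorem sub {d : ℕ} (hd : 2 ≤ d) {cs : CoxeterSystem (Nodes.TypeD.M d) W} {nn : Fin (d + 2) → Y}
    {X : (Fin (d + 2) → ℤ) → Subgroup Y} (R : RGD cs (isCartan d) p T nn X) (hC : Core P) (hG : GG cs (isCartan d) T X = ⊤)
    (hT : ∀ s ∈ T, ∀ t ∈ T, s * t = t * s) (hφ : φ.range = P) {i : Fin (d + 2)}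
    (hi : i ∉ Jx cs (isCartan d) X (lin (acRep φ))) {j e : ℕ} (hj : 2 ≤ j) (he : 2 ≤ e)
    (h : finrank (AlgebraicClosure K) (Le cs (isCartan d) T X (lin (acRep φ)) {i}) = e ^ j) :
    40 ≤ n ∧ (d + 2) * (d + 1) * j ≤ n := by
  have hne := hC.nonempty
  have hchar : CharP (AlgebraicClosure K) p := charP_of_injective_algebraMap (algebraMap K _).injective p
  have hirr := ac_irr R hG hT hφ hC.absIrred
  have hD := finrank_D R hirr hT
  have hdim : finrank (AlgebraicClosure K) (Fin n → AlgebraicClosure K) = n := by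
    rw [Module.finrank_fintype_fun_eq_card, Fintype.card_fin]
  have h1 := finrank_Io R hirr (ρ := lin (acRep φ)) i
  rw [hD, h] at h1
  have h2 : j + 2 ≤ e ^ j := by
    refine le_trans ?_ (Nat.pow_le_pow_left he j)
    have := two_mul_le le_rfl j
    omega
  have h3 := H156.Ppd.DSg.dim_E R hirr (by omega) i (α := Empty) Empty.elim (fun a => a.elim)
  rw [hdim, H156.Ppd.DSg.two_mul_choose d] at h3
  have h4 : (d + 2) * (d + 1) * j ≤ n :=
    (Nat.mul_le_mul_left _ (by omega)).trans ((Nat.le_add_left _ _).trans h3)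
  refine ⟨?_, h4⟩
  rcases hd.eq_or_lt with rfl | hd3
  · rcases dFour_one mAD4_eq R hirr hi with ⟨-, h5⟩ | ⟨-, h5⟩ <;> rw [hD, hdim] at h5 <;> omega
  · exact le_trans (Nat.mul_le_mul (Nat.mul_le_mul (show 5 ≤ d + 2 by omega) (show 4 ≤ d + 1 by omega)) hj) h4

end abs

/-! ### numbers -/

theorem num {d j n : ℕ} (hd : 2 ≤ d) (hj : 1 ≤ j) (h1 : 40 ≤ n) (h2 : (d + 2) * (d + 1) * j ≤ n) :
    4 * n + 3 * (n ^ 2 / 4 + 1) + 2 * (j * (2 * (d + 2) ^ 2 - (d + 2) + 1)) + 10 ≤ n ^ 2 := by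
  have e1 : 2 * (d + 2) ^ 2 - (d + 2) = 2 * d ^ 2 + 7 * d + 6 := by
    have : 2 * (d + 2) ^ 2 = 2 * d ^ 2 + 7 * d + 6 + (d + 2) := by ring
    omega
  have h3 : 40 * n ≤ n ^ 2 := by rw [sq]; exact Nat.mul_le_mul_right _ h1
  have h4 : 2 * (j * (2 * d ^ 2 + 7 * d + 6 + 1)) + 14 * j ≤ 6 * ((d + 2) * (d + 1) * j) := by
    have h5 : 2 * (2 * d ^ 2 + 7 * d + 6 + 1) + 14 ≤ 6 * ((d + 2) * (d + 1)) := by nlinarith
    calc _ = (2 * (2 * d ^ 2 + 7 * d + 6 + 1) + 14) * j := by ring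
      _ ≤ 6 * ((d + 2) * (d + 1)) * j := Nat.mul_le_mul_right _ h5
      _ = _ := by ring
  rw [e1]
  omega

theorem gk (m p : ℕ) : 16 * gX (.D m) p ^ 2 ≤ 2 ^ 10 := by
  show 16 * (if m = 4 then 6 else 2) ^ 2 ≤ _
  split_ifs <;> norm_num

open Cfsg Cfsg.Geo Cfsg.Agent.N2C.RX Cfsg.Agent.H915.LD

/-- the natural degree -/
theorem nat {t : Kd} {n q p T b : ℕ} {K : Type} [Field K] [Fintype K] {P : Subgroup (GL (Fin n) K)} {G : Prop} {c f : P → ℕ}
    (M : Md0 t q p T b P G c f) {m a : ℕ} (N : Nd (.D m) p a (Soc P)) (hn : n = 2 * m) (hK : Fintype.card K = p ^ a)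
    (h1 : SD P) (h2 : FixA P → FixQ P) : False := by
  subst hn
  have h := M.frm
  have hq := M.card
  have hd := M.dim
  have ho := N.ord_P
  rw [← hK, hq] at ho
  cases t
  · exact h h1
  · exact h.2 h1
  · exact h.2.2 (h2 h.1)
  · have := hd.2.1
    omega
  · exact M.not_nat ho
  · exact M.ct_notM ho

section main

open CoxeterSystem Cfsg.Agent.ChevalleyStructure.CoxeterGeom Cfsg.Agent.Tits.Roots Cfsg.Agent.Tits.Core
  Cfsg.Agent.Nodes.Reps Cfsg.Agent.Nodes.BNOf Cfsg.Agent.Nodes.Bruhat Cfsg.Agent.Nodes.RGDLib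
open QuadraticMap
open Cfsg.Agent.LieClassical Cfsg.Agent.LieClassical.OrthCore Cfsg.Agent.LieClassical.OrthTrans
open Cfsg.Agent.LieClassical.OrthSimple Cfsg.Agent.LieClassical.OrthFinite Cfsg.Agent.LieClassical.OrthForms
open Cfsg.Agent.TitsThree Cfsg.Agent.TitsThree.KSideO Cfsg.Agent.TitsThree.StdData
open Cfsg.Agent.Nodes Cfsg.Agent.Nodes.WittAll Cfsg.Agent.Nodes.WittInst Cfsg.Agent.Nodes.WittU
  Cfsg.Agent.TitsThree.Siegel Cfsg.Agent.TitsThree.SiegelGen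
  Cfsg.Agent.TitsThree.WittFrame Cfsg.Agent.TitsThree.WBridge Cfsg.Agent.TitsThree.WittWeyl
  Cfsg.Agent.TitsThree.FrameCN
open Cfsg.Agent.H905.Md Cfsg.Agent.H925.Nat Cfsg.Agent.H911
open Cfsg.Agent.H67.Cross Cfsg.Agent.H156.Ppd Cfsg.Agent.H156.Ppd.PPlus Cfsg.Agent.H947.EPO
open Cfsg.Agent.Omega.CR Cfsg.Agent.Omega.FOne.Lift.Sd Cfsg.Agent.Nodes.LeviDec
open Cfsg.Agent.KFacts.MulOdd.Inst (Lv)
open scoped MatrixGroups Matrix

theorem row {t : Kd} {n q p T b : ℕ} {F : Type} [Field F] [Fintype F] {P : Subgroup (GL (Fin n) F)} {G : Prop} {c g : P → ℕ}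
    (M : Md0 t q p T b P G c g) {K : Type} [Field K] [Fintype K] [CharP K p] {l : ℕ} (hl : 4 ≤ l)
    (e : Soc P ≃* POmega K (quadFormPlus l K)) : G := by
  classical
  have hp : Fact p.Prime := ⟨M.prime⟩
  have hFp := M.char
  have hC := M.core
  obtain ⟨a, ha1, ha⟩ := exists_f K p
  have N := nd_D hC.simple hC.nonabelian M.prime ha1 ha hl e
  have h12 : l = 4 → n ≤ 8 → n = 2 * l ∧ SD P ∧ (FixA P → FixQ P) := by
    rintro rfl h8
    have h1 : Fintype.card (Fin n) ≤ 12 := by rw [Fintype.card_fin]; omega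
    have h2 := H924.D5.po8plus_card p hC h1 e
    exact ⟨by rw [Fintype.card_fin] at h2; omega, H218.SdFin.sd_PO_plus (p := p) hC le_rfl (by omega) h1 e,
      (H924.D5.po8plus' (p := p) hC h1 e).fixQ⟩
  obtain ⟨d, rfl⟩ : ∃ d, l = d + 2 := ⟨l - 2, by omega⟩
  have hG : Good (plusForm (d + 2) K) := by
    apply good_of_finite (nondeg_plusForm (d + 2) K)
    rw [Module.finrank_fintype_fun_eq_card, Fintype.card_sum, Fintype.card_fin]
    omega
  rw [← coe_plusForm] at e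
  have hfin := hfin (K := K) d
  have hA := amb_plus (F := K) (d + 2)
  have h0 := adm_plus (F := K) (d + 2)
  have hWf : Finite (TypeD.M d).Group := TypeD.finite_W (TypeD.M d).toCoxeterSystem
  have hR := rgd_restrict (rgdD hA h0 (TypeD.M d).toCoxeterSystem (p := p))
    (E (plusForm (d + 2) K)) (fun x _ => rgD_le _ hA x) (fun i => WittRGDD.nn_mem hA i)
  have hperf : commutator ↥(E (plusForm (d + 2) K)) = ⊤ := Five.commutator_top hG.E_perfect
  have hG1 : G1 (TypeD.M d).toCoxeterSystem (TypeD.isCartan d) (XX d K) = ⊤ := by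
    have h1 := G1D_eq_top (wplus (d + 2) K) (MonoidHom.id (E (plusForm (d + 2) K))) Function.surjective_id h0
      (TypeD.M d).toCoxeterSystem
    rw [← h1]
    congr 1
    funext x
    exact (Subgroup.map_id _).symm
  obtain ⟨Y, _, _, f, φ, n₁, C⟩ := H156.Ppd.exists_cov hC hR hG1 hperf (toPOmega_surjective hG) e
  have rk : ∀ i, ∀ r : ℕ, r.Prime → r ≠ p → NoCE p r ↥(Lv (XX d K) i) := fun i r hr hne => noCE M.prime i hr hne
  have hT : ∀ s ∈ (TT d K).comap f, ∀ t ∈ (TT d K).comap f, s * t = t * s :=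
    comap_comm C.ker C.cop C.surj hR rk C.gen TT_comm
  have hpow : ∀ t ∈ (TT d K).comap f, t ^ p ^ a = t :=
    comap_pow C.ker C.cop C.surj hR rk C.gen TT_comm (TT_pow fun x => by rw [← ha]; exact FiniteField.pow_card x)
  have hD := C.finrank_D hC hT
  obtain ⟨j, hj1, hj⟩ := C.exists_j hC hT (by omega) hpow
  have hs : p ^ a ≤ Fintype.card F ^ j := by rw [← hj, Nat.card_eq_fintype_card]
  have hnV := C.nontriv hC
  have hne := hC.nonempty
  have hdim : Module.finrank F (Fin n → F) = n := by rw [Module.finrank_fintype_fun_eq_card, Fintype.card_fin]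
  have hJ := H69.Ppd.Jx_eq C.rgd C.hGG hT C.range hC.absIrred
  obtain ⟨i0, hi0⟩ : ∃ i, i ∉ Jx (TypeD.M d).toCoxeterSystem (TypeD.isCartan d) (fun x => Nodes.RGDLift.lft p f (XX d K x))
      (lrep φ) := by
    by_contra hcon
    push Not at hcon
    obtain ⟨y, v, hv⟩ := C.hnt hC
    exact hv (triv_of_Jx_univ C.rgd (C.hirr hC) C.gen hcon y v)
  have big : 40 ≤ n → (d + 2) * (d + 1) * j ≤ n → G := fun h1 h2 => M.ct_sc N hs (gk _ _) (num (by omega) hj1 h1 h2)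
  rcases hj1.eq_or_lt with rfl | hj2
  swap
  · have N0 : H948.Ppd.Nd (TT d K) (XX d K) i0 (OddHalf.NI.OmegaPlus.s (wplus (d + 2) K) i0) :=
      ⟨fun y => Set.ext_iff.1 ((OddHalf.NI.OmegaPlus.coord (wplus (d + 2) K)).up i0) y,
        fun y => Set.ext_iff.1 ((OddHalf.NI.OmegaPlus.coord (wplus (d + 2) K)).lo i0) y, dg_mem i0⟩
    obtain ⟨σ, -, N1⟩ := N0.exists_lift C.ker C.cop C.surj hR
    rw [← hJ] at hi0
    obtain ⟨e', h1, h2⟩ := H650.Ppd.edge_pow_of_card C.rgd C.hGG hT C.range hC.absIrred ⟨N1.up, N1.lo, N1.tor⟩ hi0 (s := j)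
      (by rw [hj, Nat.card_eq_fintype_card, ha])
    obtain ⟨h3, h4⟩ := sub (by omega) C.rgd hC C.hGG hT C.range hi0 hj2 h1 h2
    exact big h3 h4
  have hK : Fintype.card F = p ^ a := by rw [← hj, pow_one, Nat.card_eq_fintype_card]
  have hch := H156.Ppd.DSg.two_mul_choose d
  by_cases hd4 : d = 2
  · subst hd4
    have sc : 27 ≤ n → G := fun h1 => by
      rcases Nat.lt_or_ge n 40 with h2 | h2
      · refine M.ct_sc N hs (gk _ _) ?_
        show _ + 2 * (1 * (28 + 1)) + _ ≤ _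
        interval_cases n <;> norm_num
      · exact big h2 (by omega)
    rw [← hJ] at hi0
    rcases four H156.Ppd.mAD4_eq C.rgd hC C.hGG hT C.range hi0 with h1 | h1 | ⟨h1, u, hu⟩
    · obtain ⟨h2, h3, h4⟩ := h12 rfl h1
      exact (nat M N h2 hK h3 h4).elim
    · exact sc (by omega)
    · rcases Nat.lt_or_ge n 27 with h2 | h2
      · refine M.ct_dm N hs (gk _ _) u hu ?_
        show _ + 2 * (1 * (28 + 1)) + _ ≤ _
        clear hu
        interval_cases n <;> norm_num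
      · exact sc h2
  have hd3 : 3 ≤ d := by omega
  have h20 : 5 * 4 ≤ (d + 2) * (d + 1) := Nat.mul_le_mul (by omega) (by omega)
  by_cases hall : ∀ i, i ∉ Jx (TypeD.M d).toCoxeterSystem (TypeD.isCartan d) (fun x => Nodes.RGDLift.lft p f (XX d K x))
      (lrep φ) → i = 0
  · have h00 := hall i0 hi0
    subst h00
    have h1 := H156.Ppd.DSg.dim_O C.rgd (C.hirr hC) (by omega) hi0
    have h2 := finrank_Io C.rgd (C.hirr hC) (ρ := lrep φ) (0 : Fin (d + 2))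
    rw [hD, hdim, mul_one, show (d + 2).choose 2 * 4 = 2 * ((d + 2).choose 2 * 2) by ring, hch] at h1
    rw [hD] at h2
    generalize Module.finrank F (Io (TypeD.M d).toCoxeterSystem _ _ _ (lrep φ) _) = x at h1 h2
    by_cases h3 : x = 0
    · obtain ⟨σ, θ, hθ⟩ := C.ident hC (ψ := mt (E (plusForm (d + 2) K))) (o := (0 : Fin (d + 2)))
        (span_E hG (by rw [Fintype.card_sum, Fintype.card_fin]; omega))
        (natAt_D hA (by omega) rfl (TypeD.M d).toCoxeterSystem)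
        (fixD (by omega) rfl (TypeD.M d).toCoxeterSystem) (surjD hA rfl) hR
        (fun i => ⟨fun h4 h5 => hi0 (h5 ▸ h4), fun h4 => by_contra fun h5 => h4 (hall i h5)⟩) hD (by omega)
      obtain ⟨τ, rfl⟩ := ringEquiv_of_surj σ (identify_surj hC hθ)
      have hCj : CjOf (omegaGL (quadFormPlus (d + 2) F)) P := by
        refine cjOf_of (mem_omega_iff'' hG) (map_omega_glm τ fun v => ?_) hθ
        rw [coe_plusForm]
        exact quadFormPlus_map τ v
      have hQ : FixQ P := hCj.fixQ (by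
        rw [← coe_plusForm]
        exact H925.isND_of_nondeg (nondeg_plusForm (d + 2) F))
      have h4 := hCj.card_eq
      rw [Fintype.card_fin, Fintype.card_sum, Fintype.card_fin] at h4
      exact (nat M N (by omega) hK (H879.Nine.sd_of_fixQ hQ) fun _ => hQ).elim
    · have h4 := Nat.mul_le_mul_left (2 * ((d + 2) * (d + 1))) (Nat.one_le_iff_ne_zero.2 h3)
      exact big (by omega) (by omega)
  push Not at hall
  obtain ⟨i, hi, hi1⟩ := hall
  have hi2 : 1 ≤ (i : ℕ) := Nat.one_le_iff_ne_zero.2 fun h => hi1 (Fin.ext h)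
  rcases Nat.lt_or_ge (i : ℕ) d with h1 | h1
  · have h2 := H156.Ppd.DSg.dim_V C.rgd (C.hirr hC) hi hi2 h1
    have h3 := H905.Md.choose_two_le (m := d + 2) (k := (i : ℕ) + 1) (by omega) (by omega)
    rw [hD, hdim, mul_one] at h2
    exact big (by omega) (by omega)
  have h2 := H156.Ppd.DSg.dim_H C.rgd (C.hirr hC) (by omega) hi h1
  rw [hD, hdim, mul_one] at h2
  have h3 : 2 ^ (d + 1) ≤ n := by omega
  rcases Nat.lt_or_ge d 5 with h5 | h5
  swap
  · have h4 := two_pow_ge d h5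
    exact big (by omega) (by omega)
  rcases Nat.lt_or_ge n 40 with h40 | h40
  swap
  · refine big h40 ?_
    have : (d + 2) * (d + 1) ≤ 6 * 5 := Nat.mul_le_mul (by omega) (by omega)
    omega
  rw [← hJ] at hi
  obtain rfl | rfl : d = 3 ∨ d = 4 := by omega
  · by_cases ht : t = .L
    · refine M.ct_scL N ht hs (gk _ _) ?_
      show _ + 2 * (1 * (45 + 1)) + _ + _ ≤ _
      have h16 : 16 ≤ n := h3
      interval_cases n <;> norm_num
    obtain ⟨w, hw⟩ := w0_five (TypeD.M 3).toCoxeterSystem (TypeD.isCartan 3) H947.EPO.mAD5_eq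
    have h6 := M.ct_opp ht C.rgd C.hGG hT C.range hw 3
    rw [Equiv.swap_apply_left] at h6
    have h7 : i = (3 : Fin 5) ∨ i = (4 : Fin 5) := by
      have := i.2
      rcases (show (i : ℕ) = 3 ∨ (i : ℕ) = 4 by omega) with h7 | h7
      exacts [Or.inl (Fin.ext h7), Or.inr (Fin.ext h7)]
    have h8 : 32 ≤ n := by
      rcases h7 with rfl | rfl
      exacts [five H947.EPO.mAD5_eq C.rgd hC C.hGG hT C.range hi fun h => hi (h6.2 h),
        five H947.EPO.mAD5_eq C.rgd hC C.hGG hT C.range (fun h => hi (h6.1 h)) hi]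
    refine M.ct_sc N hs (gk _ _) ?_
    show _ + 2 * (1 * (45 + 1)) + _ ≤ _
    interval_cases n <;> norm_num
  · have h32 : 32 ≤ n := h3
    rcases Nat.lt_or_ge n 34 with h6 | h6
    · obtain ⟨u, hu⟩ := six mAD6_eq C.rgd hC C.hGG hT C.range hi h1
      refine M.ct_dm N hs (gk _ _) u hu ?_
      show _ + 2 * (1 * (66 + 1)) + _ ≤ _
      clear hu
      interval_cases n <;> norm_num
    · refine M.ct_sc N hs (gk _ _) ?_
      show _ + 2 * (1 * (66 + 1)) + _ ≤ _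
      interval_cases n <;> norm_num

end main

end Dp

/-- **[N2D-d]** -/
theorem rowD4 : Row (fD 4) := fun _ _ _ _ _ _ _ _ _ _ _ _ _ M ⟨_, _, _, _, ⟨e⟩⟩ => Dp.row M.toMd0 le_rfl e

/-- **[N2D-d]** -/
theorem rowD : ∀ m, 5 ≤ m → Row (fD m) :=
  fun _ hm _ _ _ _ _ _ _ _ _ _ _ _ _ M ⟨_, _, _, _, ⟨e⟩⟩ => Dp.row M.toMd0 (by omega) e

end Cfsg.Agent.N2C.RD
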