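import Cfsg.Agent.N2.Cl.RD.U3A
import Cfsg.Agent.N2.Cl.RD.Crit

/-!
# N2 (S3519), defining characteristic: the row `U₃` (helper97)

* `crit` : the criterion with the uniform lower bound for the order;
* `rowU`, `rowSD` : unitary and self-dual modules; **`rowU3`**.
-/

set_option autoImplicit false
set_option linter.unusedSectionVars false
set_option maxHeartbeats 400000

namespace Cfsg.Agent.N2C.RD.U3

open Cfsg Cfsg.Geo Cfsg.Agent.LieClassical.HermSiegel Cfsg.Agent.LieClassical.HermBasic Matrix Cfsg.Agent.H929.U3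
  Cfsg.Agent.H525.Ppd Module Cfsg.Agent.N2C.RX Cfsg.Agent.H915.LD Cfsg.Agent.H902
open Cfsg.Agent.H905.Md (acRep acRep_apply acRep_irr psu_cover exists_frob)

theorem six_free {r q : ℕ} [Fact r.Prime] (ho : orderOf (q : ZMod r) = 6) {μ : ZMod r → ℕ} (h : ∀ i, μ (q * i) = μ i) :
    6 * ∑ i, μ i ^ 2 ≤ 6 * μ 0 ^ 2 + (∑ i, μ i - μ 0) ^ 2 ∧ 6 ∣ ∑ i, μ i - μ 0 := by
  have h0 : (q : ZMod r) ≠ 0 := fun e => by
    have h1 := pow_orderOf_eq_one (q : ZMod r)
    rw [ho, e, zero_pow (by norm_num)] at h1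
    exact zero_ne_one h1
  have h1 := free_of (Γ := Subgroup.zpowers (Units.mk0 _ h0)) (μ := μ) (Subgroup.zpowers_le.2 h)
    fun g _ i hi _ e => Units.ext (mul_right_cancel₀ hi (e.trans (one_mul i).symm))
  rwa [Nat.card_zpowers, ← orderOf_units, Units.val_mk0, ho] at h1

theorem ev_lt {n : ℕ} {K : Type} [Field K] {u : GL (Fin n) K} (h : u ≠ 1) : ev u 1 < n := by
  refine lt_of_lt_of_eq (Submodule.finrank_lt fun e => h (Units.ext (toLin'.injective (LinearMap.ext fun v => ?_))))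
    (Module.finrank_fin_fun K)
  rw [End.mem_eigenspace_iff.1 (e.ge Submodule.mem_top), one_smul, Units.val_one, toLin'_one, LinearMap.id_apply]

section md

variable {t : Kd} {n q p T b : ℕ} {K : Type} [Field K] [Fintype K] {P : Subgroup (GL (Fin n) K)} {G : Prop} {c f : P → ℕ}

/-- the criterion -/
theorem crit (M : Md0 t q p T b P G c f) (u : P) {A B x y q0 : ℕ} (hA : 0 < A) (hc : c u * zz t q * A ≤ B * q ^ y)
    (hb : b ≤ q ^ x) (h0 : 2 ≤ q0) (hq : q0 ≤ q) (hx : 3 * y + x ≤ dimE t n)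
    (h : B ^ 3 * lD t n q0 ≤ lN t q0 * A ^ 3 * q0 ^ (dimE t n - (3 * y + x))) : G := by
  have h1 := unif hq (low_W M.dim M.ord h0 hq) (lD_pos M.dim h0) hx h
  refine M.good u (Nat.le_of_mul_le_mul_right ?_ (pow_pos (Nat.mul_pos M.ct_zz hA) 3))
  calc f u ^ 3 * b * (zz t q * A) ^ 3 = (f u * zz t q * A) ^ 3 * b := by ring
    _ ≤ (B * q ^ y) ^ 3 * q ^ x := Nat.mul_le_mul (Nat.pow_le_pow_left
      ((Nat.mul_le_mul_right _ (Nat.mul_le_mul_right _ (M.fc u))).trans hc) 3) hb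
    _ = B ^ 3 * q ^ (3 * y + x) := by ring
    _ ≤ T * zz t q ^ 3 * A ^ 3 := h1
    _ = _ := by ring

/-- unitary groups, Scott's element -/
theorem ssU (M : Md .U q p T b P G c f) {x q0 : ℕ} (hb : b ≤ q ^ x) (h0 : 2 ≤ q0) (hq : q0 ≤ q)
    (h : 3 * (n ^ 2 / 4 + 1) + x ≤ n ^ 2 + 2 ∧
      (n * (q0 + 1) ^ n) ^ 3 * (4 * n) ≤ 3 * (q0 ^ n) ^ 3 * q0 ^ (n ^ 2 + 2 - (3 * (n ^ 2 / 4 + 1) + x))) : G := by
  obtain ⟨u, hu⟩ := M.small
  refine crit M.toMd0 u (pow_pos (by omega) n) ?_ hb h0 hq h.1 h.2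
  refine (ratio (by omega) (Or.inr hq) le_rfl (M.ss u (Or.inl rfl))).trans ?_
  rw [mul_right_comm n]
  exact Nat.mul_le_mul_right _ (Nat.mul_le_mul ((mul_one _).trans_le (gcd_le_wmax M.dim)) (Nat.pow_le_pow_right (by omega) hu))

variable {E : Type} [Field E] [Fintype E] [hp : Fact p.Prime] [CharP K p] [CharP E p] {a : ℕ}

theorem b_le (M : Md0 t q p T b P G c f) (N : Nd (.U 3) p a (Soc P)) : b ≤ (p ^ a) ^ 9 :=
  (M.b_le N).trans (by
    rw [pow_succ']
    exact Nat.mul_le_mul_right _ (two_mul_le hp.out.two_le a))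

theorem exists_prime (M : Md0 t q p T b P G c f) (N : Nd (.U 3) p a (Soc P)) (h3 : 3 ≤ p ^ a) (e : Soc P ≃* PSU 3 E (p ^ a)) :
    ∃ r, r.Prime ∧ r ≠ p ∧ 5 ≤ r ∧ orderOf ((p ^ a : ℕ) : ZMod r) = 6 ∧ r ∣ ((p ^ a) ^ 2) ^ 2 + (p ^ a) ^ 2 + 1 ∧
      (∃ y : SU 3 E (p ^ a), orderOf y = r) ∧ ∃ u : P, orderOf u = r := by
  have ha : a ≠ 0 := by
    rintro rfl
    norm_num at h3
  obtain ⟨r, u, hr, h1, -, h5, hrp, hu, h2, -⟩ := M.ppd N (k := 6) (by simp [PdX]) (by omega) (by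
    rintro ⟨rfl, h⟩
    obtain rfl : a = 1 := by omega
    norm_num at h3)
  have := Fact.mk hr
  have h6 : orderOf ((p ^ a : ℕ) : ZMod r) = 6 := by
    rw [ord_pow h1 ha, Nat.gcd_mul_right_left, Nat.mul_div_cancel_left _ (Nat.pos_of_ne_zero ha)]
  refine ⟨r, hr, hrp, h5, h6, ?_, exists_prime_orderOf_dvd_card' r ?_, u, hu⟩
  · generalize p ^ a = s at h6
    rw [← ZMod.natCast_eq_zero_iff]
    push_cast
    have h7 := pow_orderOf_eq_one (s : ZMod r)
    have h8 : (s : ZMod r) ^ 2 - 1 ≠ 0 := fun h => by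
      have h9 := orderOf_dvd_of_pow_eq_one (sub_eq_zero.1 h)
      rw [h6] at h9
      norm_num at h9
    rw [h6] at h7
    exact mul_left_cancel₀ h8 (by linear_combination h7)
  · rw [Nat.card_congr e.toEquiv] at h2
    exact h2.trans (Subgroup.card_quotient_dvd_card _)

/-- unitary groups -/
theorem rowU (M : Md .U q p T b P G c f) (hE : Fintype.card E = (p ^ a) ^ 2) (h3 : 3 ≤ p ^ a) (N : Nd (.U 3) p a (Soc P))
    (e : Soc P ≃* PSU 3 E (p ^ a)) : G := by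
  have hq := M.q_ge
  have hK : Fintype.card K = q ^ 2 := M.card
  have hsd : ¬ SD P := M.frm.2
  have h5 : 5 ≤ n := M.dim
  have hb := b_le M.toMd0 N
  obtain ⟨j, h1, h2, h4⟩ := core_bound p M.core h3 hE e
  rw [Nat.card_eq_fintype_card, hK, ← pow_mul, mul_comm, pow_mul, Nat.pow_left_injective two_ne_zero |>.eq_iff] at h2
  rw [Fintype.card_fin] at h4
  have crude : 6 * (n ^ 2 / 4 + 1) + 6 * n + 18 * j + 12 ≤ 2 * n ^ 2 → G := fun h => by
    obtain ⟨u, hu⟩ := M.small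
    exact M.ct_e N (e := j) (k := 6) h2.ge le_rfl u hu
      (show 3 * (2 * (n ^ 2 / 4 + 1 + n)) + 2 * (j * 9) + 6 ≤ 2 * n ^ 2 - 6 by omega)
  by_cases hj : 3 ≤ j
  · have h6 := h4 hj
    by_cases h20 : 20 ≤ n
    · exact crude (by
        have h7 : 20 * n ≤ n ^ 2 := by rw [sq]; exact Nat.mul_le_mul_right _ h20
        omega)
    obtain rfl : j = 3 := by omega
    rw [← h2, ← pow_mul] at hb
    obtain rfl | rfl : n = 18 ∨ n = 19 := by omega
    all_goals exact ssU M hb le_rfl hq (by decide +kernel)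
  obtain rfl | rfl : j = 2 ∨ j = 1 := by omega
  · refine absurd (SD.of_fr_cj (fun g _ => ?_) (core_psu_cj p M.core le_rfl hE (by omega) e)) hsd
    rw [← h2, ← hK, FiniteField.pow_card]
  rw [pow_one] at h2
  subst h2
  by_cases h17 : 17 ≤ n
  · exact crude (by
      have h7 : 17 * n ≤ n ^ 2 := by rw [sq]; exact Nat.mul_le_mul_right _ h17
      omega)
  by_cases h13 : 13 ≤ n
  · obtain rfl | rfl | rfl | rfl : n = 13 ∨ n = 14 ∨ n = 15 ∨ n = 16 := by omega
    all_goals exact ssU M hb (by norm_num) h3 (by decide +kernel)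
  have h12 : Fintype.card (Fin n) ≤ 12 := by rw [Fintype.card_fin]; omega
  obtain ⟨-, h6⟩ := (core_psu3 p M.core h3 hE e h12).resolve_left hsd
  rw [Fintype.card_fin] at h6
  rcases h6 with rfl | ⟨rfl, -⟩ | ⟨rfl, g, h6, h7⟩ | ⟨rfl, h6⟩
  · omega
  · obtain ⟨D⟩ := core_model p M.core h3 hE e h12
    obtain ⟨r, hr, hrp, h6, -, h7, ⟨y, hy⟩, -⟩ := exists_prime M.toMd0 N h3 e
    have h8 : D.b = 2 := by
      rcases D.good with h | h | h | ⟨i, h⟩ | h
      · exact absurd h.2 (by decide)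
      · exact h.1
      · exact absurd h.2.2 (by decide)
      · exact absurd h.2.2.2 (by decide)
      · exact absurd ((D.sd_iff p M.core h3 hE h12).2 (h.trans (by rw [← D.hq]))) hsd
    have h9 := M.cyc ⟨D.rep y, D.range_rep.le ⟨y, rfl⟩⟩ (fun _ h => h.elim) (cr_sq hE rfl hr hrp h6 h7 hy
      (acRep_irr D.range_rep (H920.span_eq_top M.core.absIrred) rfl) D.wt.1 D.v_ne D.coef h8)
    have key : ∀ w q0, 2 ≤ q0 → q0 ≤ p ^ a → Nat.gcd 6 (p ^ a + 1) ≤ w →
        (w * (q0 + 1) ^ 6) ^ 3 * (4 * 6) ≤ 3 * (q0 ^ 6) ^ 3 * q0 ^ 11 → G := fun w q0 k1 k2 k3 k4 => by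
      refine crit M.toMd0 ⟨D.rep y, D.range_rep.le ⟨y, rfl⟩⟩ (y := 6) (pow_pos (by omega) 6) ?_ hb k1 k2 (by decide) k4
      rw [mul_right_comm w]
      refine ratio (by omega) (Or.inr k2) le_rfl ?_
      rw [mul_right_comm w]
      exact Nat.mul_le_mul_right _ (h9.trans (Nat.mul_le_mul_right _ k3))
    by_cases h10 : p ^ a = 3
    · exact key 2 3 (by norm_num) h3 (by rw [h10]; decide) (by decide +kernel)
    · exact key 6 4 (by norm_num) (by omega) (Nat.gcd_le_left _ (by norm_num)) (by decide +kernel)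
  · exact ssU M hb (q0 := 4) (by norm_num)
      (h7 ▸ (Nat.pow_le_pow_left hp.out.two_le 2).trans (Nat.pow_le_pow_right hp.out.pos h6)) (by decide +kernel)
  · exact ssU M hb (q0 := 5) (by norm_num) (h6.trans (Nat.le_self_pow (by rintro rfl; norm_num at h3) p)) (by decide +kernel)

/-- self-dual modules of dimension `9 ≤ n ≤ 20` -/
theorem ev_le (hC : Core P) (hK : Fintype.card K = p ^ a) (hE : Fintype.card E = (p ^ a) ^ 2) (h3 : 3 ≤ p ^ a)
    (e : Soc P ≃* PSU 3 E (p ^ a)) (h9 : 9 ≤ n) (h20 : n ≤ 20) {r : ℕ} (hr : r.Prime) (hrp : r ≠ p) (h5 : 5 ≤ r)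
    (hw : r ∣ ((p ^ a) ^ 2) ^ 2 + (p ^ a) ^ 2 + 1) {y : SU 3 E (p ^ a)} (hy : orderOf y = r) :
    ∃ u : P, u ^ r = 1 ∧ ev (u : GL (Fin n) K) 1 ≤ 6 := by
  classical
  have hne := hC.nonempty
  obtain ⟨φ, h1, -, -⟩ := psu_cover p hC.perfect le_rfl hE (by omega) e
  have hchar : CharP (AlgebraicClosure K) p := charP_of_injective_algebraMap (algebraMap K _).injective p
  obtain ⟨j⟩ := exists_embed E (AlgebraicClosure K) p
  have hM := span_acRep h1 (H920.span_eq_top hC.absIrred)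
  have hn3 : Fintype.card (Fin n) < (p ^ a) ^ 3 := by
    have : 3 ^ 3 ≤ (p ^ a) ^ 3 := Nat.pow_le_pow_left h3 3
    rw [Fintype.card_fin]
    omega
  obtain ⟨σ, hσ⟩ := exists_frob K p a
  have hfix : ∀ g, (acRep φ g).map σ = acRep φ g := fun g => by
    ext x z
    rw [acRep_apply, Matrix.map_apply, Matrix.map_apply, hσ, ← map_pow]
    exact congrArg _ ((congrArg (_ ^ ·) hK.symm).trans (FiniteField.pow_card _))
  generalize hs : p ^ a = s at *
  obtain ⟨e₀, he, he0⟩ : ∃ e : Fin 3 → E, hermForm 3 E s e e = 0 ∧ e ≠ 0 := by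
    obtain ⟨z, hz⟩ := exists_norm_eq hE (c := (-1 : E)) (by rw [neg_pow_q hE, one_pow])
    refine ⟨![1, z, 0], ?_, fun h0 => by simpa using congrFun h0 0⟩
    rw [herm_def, Fin.sum_univ_three]
    simp [zero_pow_q hE, hz]
  obtain ⟨a₀, ha1, ha2, ψ, v, hψ, hv0, hv, hc⟩ := exists_model (j := j) hE he he0 hM p hn3 hC.two_le
  obtain ⟨Φ, V, hker⟩ := exists_ker hE he he0 hM hψ hv0 hv hc
  have hfa := exp_fixed hE he he0 hM p hn3 (by omega) hψ hv0 hv hc σ (by omega) hσ hfix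
  obtain ⟨s', rfl⟩ : ∃ s', s = s' + 1 := ⟨s - 1, by omega⟩
  have h2 : (s' + 1) ^ 2 - 1 = (s' + 2) * s' := Nat.sub_eq_of_eq_add (by ring)
  obtain ⟨d, rfl⟩ : s' + 2 ∣ a₀ := by
    obtain ⟨z, hz⟩ := IsCyclic.exists_generator (α := Eˣ)
    have h4 : orderOf z = (s' + 2) * s' := by
      rw [orderOf_eq_card_of_forall_mem_zpowers hz, Nat.card_eq_fintype_card, Fintype.card_units, hE, h2]
    refine Nat.dvd_of_mul_dvd_mul_right (show 0 < s' by omega) (h4 ▸ orderOf_dvd_of_pow_eq_one (Units.ext ?_))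
    have h6 := hfa z
    rw [mul_add_one, pow_add] at h6
    exact mul_right_cancel₀ (pow_ne_zero a₀ z.ne_zero) (h6.trans (one_mul _).symm)
  have h4 : d ≤ s' := Nat.le_of_mul_le_mul_left (h2 ▸ ha2) (by omega)
  have h6 : (s' + 2) * d = d + (s' + 1) * d := by ring
  obtain ⟨i, rfl⟩ := exp_two hE hs.symm h3 (Nat.pos_of_mul_pos_left ha1) (by omega) (h6 ▸ hker)
    (by rwa [Fintype.card_fin]) (by rwa [Fintype.card_fin])
  refine ⟨⟨φ y, h1.le ⟨y, rfl⟩⟩, Subtype.ext (by rw [Subgroup.coe_pow, ← map_pow, ← hy, pow_orderOf_eq_one, map_one]; rfl),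
    cr_nn hE hs.symm hr hrp h5 hw hy (acRep_irr h1 (H920.span_eq_top hC.absIrred) rfl) hψ.1 hv0
      (j := j.comp (iterateFrobenius E p i)) (e₀ := e₀) (fun g => ?_) rfl⟩
  rw [hc, RingHom.comp_apply, iterateFrobenius_def, map_pow, ← pow_mul]
  congr 1
  ring

/-- self-dual modules -/
theorem rowSD (M : Md t q p T b P G c f) (ht : bil t) (hE : Fintype.card E = (p ^ a) ^ 2) (h3 : 3 ≤ p ^ a)
    (N : Nd (.U 3) p a (Soc P)) (e : Soc P ≃* PSU 3 E (p ^ a)) : G := by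
  have hq := M.q_ge
  have hd := M.dim
  obtain ⟨hK, hsd, hfr, hz⟩ : Fintype.card K = q ∧ SD P ∧ fr t q = q ∧ zz t q ≤ 2 := by
    have h1 := M.card
    have h2 := M.frm
    cases t
    exacts [ht.elim, ht.elim, ⟨h1, h2.2.1, rfl, Nat.gcd_le_left _ two_pos⟩, ⟨h1, h2.2, rfl, Nat.gcd_le_left _ two_pos⟩,
      ⟨h1, h2.2, rfl, Nat.gcd_le_left _ two_pos⟩, ⟨h1, h2.2, rfl, Nat.gcd_le_left _ two_pos⟩]
  have hb := b_le M.toMd0 N
  obtain ⟨m, hm, rfl⟩ := M.pow
  obtain ⟨j, hj0⟩ := dvd_of_pow_eq hp.out.two_le hK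
    (M.core.pow_eq p (Fr.of_sd_cj hsd (core_psu_cj p M.core le_rfl hE (by omega) e)))
  have crude : 4 * n + 3 * (n ^ 2 / 4 + 1) + 2 * (j * 9) + 6 ≤ n ^ 2 → G :=
    M.ct_sc N (j := j) (k := 6) (by rw [hK, hj0, pow_mul]) le_rfl
  by_cases hj : 2 ≤ j
  · obtain ⟨i, -, h2, h4⟩ := core_bound p M.core h3 hE e
    rw [Nat.card_eq_fintype_card, hK, hj0, ← pow_mul, ← pow_mul, mul_assoc] at h2
    obtain rfl := Nat.eq_of_mul_eq_mul_left hm (Nat.pow_right_injective hp.out.two_le h2)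
    have h5 := h4 (by omega)
    rw [Fintype.card_fin] at h5
    exact crude (by
      have h7 : 24 * n ≤ n ^ 2 := by rw [sq]; exact Nat.mul_le_mul_right _ (by omega)
      omega)
  obtain rfl : j = 1 := by
    obtain rfl | rfl : j = 0 ∨ j = 1 := by omega
    · norm_num [hj0] at h3
    · rfl
  by_cases h21 : 21 ≤ n
  · refine crude ?_
    by_cases h22 : n = 21
    · subst h22
      norm_num
    have h7 : 22 * n ≤ n ^ 2 := by rw [sq]; exact Nat.mul_le_mul_right _ (by omega)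
    omega
  clear crude
  obtain rfl : m = a := by omega
  obtain ⟨r, hr, hrp, h5, ho, hw, ⟨y, hy⟩, u, hu⟩ := exists_prime M.toMd0 N h3 e
  have := Fact.mk hr
  have hcp : r.Coprime p := (Nat.coprime_primes hr hp.out).2 hrp
  by_cases h13 : 13 ≤ n
  · obtain ⟨w, h1, h2⟩ := ev_le M.core hK hE h3 e (by omega) (by omega) hr hrp h5 hw hy
    obtain ⟨μ, hμ⟩ := exists_muD M.core hp.out hcp h1
    obtain ⟨h6, h7⟩ := six_free ho (hK ▸ hμ.frob)
    rw [hμ.sum, hμ.zero] at h6 h7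
    rw [← hμ.dm] at h6
    refine M.ct_dm N (j := 1) (k := 6) (by rw [hK, pow_one]) le_rfl w le_rfl ?_
    show 4 * n + 3 * _ + 18 + 6 ≤ _
    generalize ev (w : GL (Fin n) K) 1 = x at *
    generalize dm (w : GL (Fin n) K) = d at *
    have h8 : n ≤ 20 := by omega
    clear * - h2 h6 h7 h8 h13
    interval_cases n <;> interval_cases x <;> omega
  obtain ⟨μ, h1, h2, h4, -, h6, -, h7⟩ := M.semi r u hrp (by omega) hu
  rw [hfr, Int.cast_natCast] at h6 h7
  obtain ⟨h8, h9⟩ := six_free ho h6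
  have h10 : μ 0 < n := h2 ▸ ev_lt fun h => by
    rw [show u = 1 from Subtype.ext h, orderOf_one] at hu
    omega
  rw [h1] at h8 h9
  rw [← h4] at h8
  rcases core_psu3_sd p M.core h3 hE e (by rw [Fintype.card_fin]; omega) hsd with ⟨rfl, h⟩ | ⟨hp3, h⟩ <;>
    rw [Fintype.card_fin] at h <;> subst h
  · have h11 : μ 0 = 1 := by omega
    obtain rfl : t = .O := by
      cases t
      exacts [ht.elim, ht.elim, absurd hd.2 (by decide), rfl, absurd hd.2 (by decide), absurd hd.2 (by decide)]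
    have h12 := h7 6 _ ho rfl
    have h14 : (Finset.univ.filter fun i => i ≠ 0 ∧ μ i ≠ 0).card ≤ 6 := by
      rw [Finset.card_eq_sum_ones, show 6 = ∑ i, μ i - μ 0 by omega, ← sum_erase]
      exact (Finset.sum_le_sum fun i hi => Nat.pos_of_ne_zero (Finset.mem_filter.1 hi).2.2).trans
        (Finset.sum_le_sum_of_subset fun i hi => Finset.mem_erase.2 ⟨(Finset.mem_filter.1 hi).2.1, Finset.mem_univ _⟩)
    rw [h11] at h8 h12
    rw [show dl .O 1 = 0 from rfl, pow_zero, pow_zero, mul_one, mul_one, show eq .O 6 = 3 from rfl, show kp .O 1 = 2 from rfl,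
      show ww .O 7 (3 ^ m) r = 1 from if_neg fun h => absurd (Nat.le_of_dvd M.ct_zz h.1) (by omega)] at h12
    refine crit M.toMd0 u (A := 27 ^ 1) (B := 2 * 28 ^ 1) (y := 3) (by norm_num) ?_ hb (by norm_num) h3 (by decide)
      (by decide +kernel)
    refine (ratio (by norm_num) (Or.inr (Nat.pow_le_pow_left h3 3)) (Nat.div_le_div_right (c := 6) h14) h12).trans ?_
    rw [mul_right_comm]
    exact Nat.mul_le_mul (by norm_num) (Nat.pow_le_pow_right (by omega) (show (dm (u : GL (Fin 7) K) - 1) / 2 ≤ 3 by omega))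
  · have h11 : μ 0 = 2 := by omega
    have h12 := M.ss u (Or.inr (hu ▸ hcp))
    rw [e2_odd hp.out (m := r) (by rw [← Subgroup.coe_pow, ← hu, pow_orderOf_eq_one]; rfl) (hr.odd_of_ne_two (by omega)),
      ← h2, h11] at h12
    rw [h11] at h8
    have h14 : 4 ≤ p ^ m := by
      refine Nat.lt_of_le_of_ne h3 fun h => hp3 ?_
      exact (Nat.prime_dvd_prime_iff_eq hp.out Nat.prime_three).1 (h ▸ dvd_pow_self p hm.ne')
    have key : ∀ k y, k4 t = k → kk t 8 = 4 → es t (dm (u : GL (Fin 8) K)) 2 ≤ y → 3 * y + 9 ≤ dimE t 8 →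
        (2 * k * 5 ^ 4) ^ 3 * lD t 8 4 ≤ lN t 4 * (4 ^ 4) ^ 3 * 4 ^ (dimE t 8 - (3 * y + 9)) → G := fun k y k1 k2 k3 k5 k6 => by
      refine crit M.toMd0 u (by norm_num) ?_ hb (by norm_num) h14 k5 k6
      rw [k1, k2] at h12
      refine (ratio (by norm_num) (Or.inr h14) le_rfl h12).trans ?_
      rw [mul_right_comm (2 * k)]
      exact Nat.mul_le_mul_right _ (Nat.mul_le_mul (Nat.mul_le_mul_right _ ((Nat.gcd_le_right _ M.ct_zz).trans hz))
        (Nat.pow_le_pow_right (by omega) k3))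
    cases t
    · exact ht.elim
    · exact ht.elim
    · exact key 1 6 rfl rfl (show (_ + 2) / 2 ≤ 6 by omega) (by decide) (by decide +kernel)
    · exact absurd hd.2.1 (by decide)
    all_goals exact key 4 4 rfl rfl (show (_ - 2) / 2 ≤ 4 by omega) (by decide) (by decide +kernel)

end md

/-- **the row `U₃`** -/
theorem rowU3 : Row (fU 3) := by
  rintro t n q p T b K _ _ P G c f M ⟨E, _, _, _, s, hE, h32, ⟨e⟩⟩
  have hp := Fact.mk M.prime
  have := M.char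
  obtain ⟨a, ha, rfl⟩ := exists_f' E M.prime two_ne_zero hE
  have h2 := two_le hE
  have h3 : 3 ≤ p ^ a := by omega
  have N := nd_U M.core.simple M.core.nonabelian M.prime ha hE le_rfl h32 e
  cases t
  · exact absurd (core_psu_cj p M.core le_rfl hE h32 e) (M.ncj rfl a)
  · exact rowU M hE h3 N e
  all_goals exact rowSD M trivial hE h3 N e

end Cfsg.Agent.N2C.RD.U3
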