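import Cfsg.Agent.N2.Cl.RD.Lnk
import Cfsg.Agent.N2.Cl.RD.A1
import Cfsg.Agent.N2.Cl.RD.A3
import Cfsg.Agent.N2.Cl.RD.U3
import Cfsg.Agent.N2.Cl.RD.CbRow
import Cfsg.Agent.N2.Cl.RD.RowD
import Cfsg.Agent.N2.Cl.RD.G2
import Cfsg.Agent.N2.Cl.RD.ExcE
import Cfsg.Agent.N2.Cl.RD.ExcT

/-!
# N2 (S3519), class S in the defining characteristic: assembly of the first rows (helper69)
-/

set_option autoImplicit false

namespace Cfsg.Agent.N2C.RD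

theorem part (a2 : Row (fA 3)) (u4 : Row (fU 4)) (u5 : Row (fU 5)) (u : ∀ m, 6 ≤ m → Row (fU m)) (c2 : Row (fC 2))
    (c3 : Row (fC 3)) (b3 : Row (fB 3)) (m4 : Row (fM 4)) (m : ∀ m, 5 ≤ m → Row (fM m)) (td4 : Row f3D4) (sz : Row fSz)
    (ree : Row fRee) : On (pRes qDef) :=
  sdef_of ⟨rowA1, a2, row_a 4 le_rfl, fun m h => row_a m (by omega), U3.rowU3, u4, u5, u, c2, c3, rowC, b3, rowB, rowD4, rowD, m4, m,
    G2.row, row_f4, row_e6, row_e7, row_e8, row_te6, td4, sz, row_tf4, ree⟩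

end Cfsg.Agent.N2C.RD
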