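import Cfsg.Agent.N2.Cl.RD.Rgd
import Cfsg.Agent.N2.Cl.RD.Aut
import Cfsg.Agent.TwoF.DC.Pow.Main
import Cfsg.Agent.TwoF.DC.Fin.Main

/-!
# N2 (S3519), defining characteristic: the tensor product theorem of Steinberg for a core (helper54)

* `Rs r Ψ ρ θ` : `ρ` is the restriction along `Ψ` of the restricted module `H` (`r : H.Rep D`), `θ` is the isomorphism;
* `Rs.dim`, `Rs.eig`, `Rs.eig_le` (eigenvalues of elements which are conjugate into the torus), `Rs.gd` (criterion W with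
  all weights);
* **`core_iso`** : the module of a core is a tensor product; **`core_pow`** : as a module for the product datum;
* **`core_two`** : two nontrivial factors, or a Frobenius twist of one restricted module;
* `conj_hh` : the anisotropic torus of a rank one group; `cyc_of_eig` : the hypotheses of `Md0.cyc`.
-/

set_option autoImplicit false
set_option linter.unusedSectionVars false
set_option maxHeartbeats 400000

namespace Cfsg.Agent.N2C.RD.St

open Cfsg Cfsg.Geo Module Cfsg.Agent.TwoF Cfsg.Agent.TwoF.DC Cfsg.Agent.H915.LD Cfsg.Agent.H911 Cfsg.Agent.H905.Md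
open Cfsg.Agent.N2C.RD.WL Cfsg.Agent.N2C.RD.Rg

/-! ### eigenvalues -/

section lin

variable {k V : Type*} [Field k] [AddCommGroup V] [Module k V] [FiniteDimensional k V]

theorem card_le_deg {a : Module.End k V} {α : Type*} [Fintype α] {z : α → k} (hz : Function.Injective z)
    (h : ∀ i, a.HasEigenvalue (z i)) {m : Polynomial k} (hm : m ≠ 0) (hd : minpoly k a ∣ m) : Fintype.card α ≤ m.natDegree := by
  classical
  rw [← Finset.card_univ, ← Finset.card_image_of_injective _ hz]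
  refine Polynomial.card_le_degree_of_subset_roots fun x hx => ?_
  obtain ⟨i, -, rfl⟩ := Finset.mem_image.1 hx
  exact (Polynomial.mem_roots hm).2 ((Module.End.isRoot_of_hasEigenvalue (h i)).dvd hd)

variable {n : ℕ} {K : Type} [Field K]

/-- `n` distinct eigenvalues, all different from `1` -/
theorem cyc_of_eig (u : GL (Fin n) K) {z : Fin n → AlgebraicClosure K} (hz : Function.Injective z) (h1 : ∀ i, z i ≠ 1)
    (h : ∀ i, Module.End.HasEigenvalue
      (Matrix.toLin' ((u : Matrix (Fin n) (Fin n) K).map (algebraMap K (AlgebraicClosure K)))) (z i)) :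
    ev u 1 = 0 ∧ n ≤ (minpoly K (u : Matrix (Fin n) (Fin n) K)).natDegree := by
  constructor
  · have h2 := ev_le_eig (AlgebraicClosure K) u 1
    rw [map_one] at h2
    by_contra h3
    have h4 : Module.End.HasEigenvalue
        (Matrix.toLin' ((u : Matrix (Fin n) (Fin n) K).map (algebraMap K (AlgebraicClosure K)))) 1 := fun e => by
      rw [Module.End.eigenspace, e, finrank_bot] at h2
      omega
    have h5 := card_le_deg (α := Option (Fin n)) (z := fun o => o.elim 1 z) (by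
      rintro (_ | i) (_ | j) e
      · rfl
      · exact absurd (Eq.symm e) (h1 j)
      · exact absurd e (h1 i)
      · exact congrArg some (hz e)) (by
      rintro (_ | i)
      exacts [h4, h i]) (LinearMap.charpoly_monic _).ne_zero (LinearMap.minpoly_dvd_charpoly _)
    rw [LinearMap.charpoly_natDegree, Module.finrank_fintype_fun_eq_card, Fintype.card_option] at h5
    omega
  · have h2 : minpoly K ((u : Matrix (Fin n) (Fin n) K).map (algebraMap K (AlgebraicClosure K))) =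
        minpoly K (u : Matrix (Fin n) (Fin n) K) :=
      minpoly.algHom_eq ((Algebra.ofId K (AlgebraicClosure K)).mapMatrix (m := Fin n))
        (Matrix.map_injective (algebraMap K (AlgebraicClosure K)).injective) _
    have h3 := card_le_deg hz h (m := (minpoly K (u : Matrix (Fin n) (Fin n) K)).map (algebraMap K (AlgebraicClosure K)))
      (Polynomial.map_ne_zero (minpoly.ne_zero (Matrix.isIntegral _))) (by
        rw [Matrix.minpoly_toLin', ← h2]
        exact minpoly.dvd_map_of_isScalarTower K _ _)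
    rwa [Polynomial.natDegree_map, Fintype.card_fin] at h3

end lin

/-! ### restrictions of restricted modules -/

section rs

variable {p : ℕ} {ι Φ k G : Type} [Fintype ι] [DecidableEq ι] [Fintype Φ] [DecidableEq Φ] [Field k] [Group G]
  {D : RDat p ι Φ k G} {L : Type} [AddCommGroup L] [Module k L] {H : HW D.R p k L}

theorem rho_κ (r : H.Rep D) (c : ι → kˣ) {μ : ι → ℤ} {v : L} (hv : v ∈ H.w μ) : r.ρ (D.κ c) v = (wch k μ c : k) • v := by
  induction c using Pi.mulSingle_induction with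
  | one => simp
  | mul c d hc hd => rw [map_mul, map_mul, Module.End.mul_apply, hd, map_smul, hc, smul_smul, map_mul, Units.val_mul, mul_comm]
  | mulSingle j c => rw [D.κ_single, wch_single, r.ρ_hh j c μ v hv]

theorem rho_nwl (r : H.Rep D) (l : List ι) (v : L) : r.ρ (D.nwl l) v = H.nnl l v := by
  induction l with
  | nil => rw [D.nwl_nil, map_one]; rfl
  | cons i l ih => rw [D.nwl_cons, map_mul, Module.End.mul_apply, ih, H.nnl_cons]; exact r.ρ_n i _

theorem nnl_append (l l' : List ι) (v : L) : H.nnl (l ++ l') v = H.nnl l (H.nnl l' v) := by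
  induction l with
  | nil => rfl
  | cons i l ih => rw [List.cons_append, H.nnl_cons, H.nnl_cons, ih]

theorem cv_eq {R : RC ι Φ} {A : ι → ι → ℤ} (hA : ∀ j m, A j m = R.C m j) (μ : ι → ℤ) (l : List ι) :
    cv A μ l = R.swl l.reverse μ := by
  induction l using List.reverseRecOn with
  | nil => rfl
  | append_singleton l j ih =>
    rw [cv_append, ih, List.reverse_append, R.swl_append]
    funext m
    refine Eq.trans ?_ (R.sw_apply j _ m).symm
    rw [← hA, mul_comm]
    rfl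

theorem isWt_cv {A : ι → ι → ℤ} (hA : ∀ j m, A j m = D.R.C m j) {μ : ι → ℤ} (h : H.IsWt μ) (l : List ι) :
    H.IsWt (cv A μ l) := by
  rw [cv_eq hA]
  exact (H.isWt_swl _ _).2 h

/-- the anisotropic torus of a rank one group -/
theorem conj_hh (D : RDat p ι Φ k G) (i : ι) (η : kˣ) (hη : (η : k) ^ 2 ≠ 1) : ∃ γ δ : k,
    D.x i 1 * D.y i (η + (η⁻¹ : kˣ) - 2) = (D.y i γ * D.x i δ) * D.hh i η * (D.y i γ * D.x i δ)⁻¹ := by
  have h0 : (η : k) ≠ 0 := η.ne_zero
  have h1 : (1 : k) - η ^ 2 ≠ 0 := sub_ne_zero.2 hη.symm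
  refine ⟨1 - (η⁻¹ : kˣ), η / (1 - η ^ 2), ?_⟩
  rw [eq_mul_inv_iff_mul_eq, ← mul_assoc, mul_assoc (D.x i 1), ← D.y_add,
    D.rank i 1 _ η (by rw [Units.val_inv_eq_inv_val]; ring), mul_assoc, D.x_eq, D.x_eq, ← D.z_add, mul_assoc, mul_assoc,
    ← D.zi_eq, D.hh_z, D.R.wt_zi, D.R.C_self]
  congr 3
  · rw [Units.val_inv_eq_inv_val]
    field_simp
    ring
  · rw [zpow_two, Units.val_mul]
    field_simp
    ring

variable {T U : Type*} [Group T] [AddCommGroup U] [Module k U]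

/-- `ρ` is the restriction of `H` along `Ψ` -/
def Rs (r : H.Rep D) (Ψ : T →* G) (ρ : T →* Module.End k U) (θ : L ≃ₗ[k] U) : Prop :=
  ∀ s F, θ (r.ρ (Ψ s) F) = ρ s (θ F)

variable {r : H.Rep D} {Ψ : T →* G} {ρ : T →* Module.End k U} {θ : L ≃ₗ[k] U} (h : Rs r Ψ ρ θ)
include h

theorem Rs.dim : H.d = finrank k U := θ.finrank_eq

theorem Rs.mem_eig {s : T} {g : G} {c : ι → kˣ} (hs : Ψ s = g * D.κ c * g⁻¹) (z : k) (v : L) :
    θ (r.ρ g v) ∈ (ρ s).eigenspace z ↔ v ∈ Module.End.eigenspace (r.ρ (D.κ c)) z := by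
  have h1 : ∀ w, r.ρ g⁻¹ (r.ρ g w) = w := fun w => by rw [← Module.End.mul_apply, ← map_mul, inv_mul_cancel, map_one]; rfl
  rw [Module.End.mem_eigenspace_iff, Module.End.mem_eigenspace_iff, ← h, hs, map_mul, map_mul, Module.End.mul_apply,
    Module.End.mul_apply, h1, ← map_smul, ← map_smul, θ.injective.eq_iff]
  exact ⟨fun e => by rw [← h1 (r.ρ (D.κ c) v), e, h1], fun e => by rw [e]⟩

/-- the eigenvalues of an element which is conjugate into the torus -/
theorem Rs.eig {s : T} {g : G} {c : ι → kˣ} (hs : Ψ s = g * D.κ c * g⁻¹) {μ : ι → ℤ} (hμ : H.IsWt μ) :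
    (ρ s).HasEigenvalue (wch k μ c : k) := by
  obtain ⟨v, hv, h0⟩ := H.isWt_iff.1 hμ
  refine Module.End.hasEigenvalue_of_hasEigenvector (x := θ (r.ρ g v))
    ⟨(h.mem_eig hs _ v).2 (Module.End.mem_eigenspace_iff.2 (rho_κ r c hv)), fun e => h0 ?_⟩
  have h1 := congrArg (r.ρ g⁻¹) (θ.map_eq_zero_iff.1 e)
  rwa [← Module.End.mul_apply, ← map_mul, inv_mul_cancel, map_one, map_zero] at h1

/-- an upper bound for the eigenspaces -/
theorem Rs.eig_le {s : T} {g : G} {c : ι → kˣ} (hs : Ψ s = g * D.κ c * g⁻¹) (z : k) (A : Finset (ι → ℤ))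
    (hA : ∀ μ ∈ A, (wch k μ c : k) ≠ z) : finrank k ((ρ s).eigenspace z) + ∑ μ ∈ A, H.m μ ≤ H.d := by
  have := H.fd
  have h1 : finrank k ((ρ s).eigenspace z) ≤ finrank k (Module.End.eigenspace (r.ρ (D.κ c)) z) := by
    refine le_trans (Submodule.finrank_mono (t := (Module.End.eigenspace (r.ρ (D.κ c)) z).map (θ.toLinearMap ∘ₗ r.ρ g))
      fun v hv => ?_) (Submodule.finrank_map_le _ _)
    have h2 : θ (r.ρ g (r.ρ g⁻¹ (θ.symm v))) = v := by
      rw [← Module.End.mul_apply, ← map_mul, mul_inv_cancel, map_one]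
      exact θ.apply_symm_apply v
    exact ⟨_, (h.mem_eig hs z _).1 (h2.symm ▸ hv), h2⟩
  have h3 : ∀ ν u, H.pr ν (r.ρ (D.κ c) u) = r.ρ (D.κ c) (H.pr ν u) := fun ν u => by
    induction u using H.w_induction with
    | h0 => simp
    | hadd a b ha hb => simp only [map_add, ha, hb]
    | hw κ u hu =>
      by_cases hκ : κ = ν
      · rw [← hκ, rho_κ r c hu, map_smul, H.pr_of_mem hu, rho_κ r c hu]
      · rw [rho_κ r c hu, map_smul, H.pr_of_ne hu hκ, smul_zero, map_zero]
  have h2 := H.sum_m_le_codim (N := Module.End.eigenspace (r.ρ (D.κ c)) z) (fun v hv μ => by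
    rw [Module.End.mem_eigenspace_iff] at hv ⊢
    rw [← h3, hv, map_smul]) A fun μ hμ => (Submodule.eq_bot_iff _).2 fun v hv => by
      have h4 := Module.End.mem_eigenspace_iff.1 hv.1
      rw [rho_κ r c hv.2, ← sub_eq_zero, ← sub_smul] at h4
      exact (smul_eq_zero.1 h4).resolve_left (sub_ne_zero.2 (hA μ hμ))
  have h4 := Submodule.finrank_le (Module.End.eigenspace (r.ρ (D.κ c)) z)
  unfold HW.d at h2 ⊢
  omega

/-- **criterion W with all weights** -/
theorem Rs.gd {s : T} {ω : List ι} (hs : Ψ s = D.nwl ω.reverse) {A : ι → ι → ℤ} (hA : ∀ j m, A j m = D.R.C m j)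
    {μ μ' : ι → ℤ} (hμ : Dom μ) (hμ' : Dom μ') (hw : H.IsWt (μ + μ')) (LV : List (List ι × ℕ))
    (hV : ((pts LV).map (orb A μ ω)).Nodup) : Rg.Gd (ρ s) LV.length (LV.map Prod.snd).sum := by
  have := H.fd
  have := θ.finiteDimensional
  obtain ⟨v, hv, h0⟩ := H.isWt_iff.1 hw
  obtain ⟨u, hu⟩ : ∃ u : List ι × ℕ → L, ∀ x, u x = H.nnl (wd ω x.1 x.2).reverse v := ⟨_, fun _ => rfl⟩
  have h1 : LinearIndependent k fun a : Fin (pts LV).length => u ((pts LV).get a) := by
    refine iSupIndep.linearIndependent (fun a : Fin (pts LV).length =>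
      H.w (D.R.swl (wd ω ((pts LV).get a).1 ((pts LV).get a).2).reverse (μ + μ'))) (H.indep.comp fun a b e => ?_)
      (fun a => by rw [hu]; exact H.nnl_w _ hv) fun a e => h0 ((H.nnl _).map_eq_zero_iff.1 ((hu _).symm.trans e))
    refine inj_of_nodup hV ?_
    have h2 := D.R.swl_eq_of_add hμ hμ' e
    rwa [← cv_eq hA, ← cv_eq hA, ← orb_eq, ← orb_eq] at h2
  have h2 : finrank k (Submodule.span k (Set.range fun a : Fin (pts LV).length => θ (u ((pts LV).get a)))) =
      (LV.map Prod.snd).sum := by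
    rw [← length_pts LV]
    exact (finrank_span_eq_card (h1.map' θ.toLinearMap θ.ker)).trans (Fintype.card_fin _)
  have h5 := finrank_span_list (k := k) (LV.map fun e => θ (u (e.1, 0)))
  rw [List.length_map] at h5
  refine ⟨_, _, fun N hN hinv => ?_, h5, h2.ge⟩
  have h3 : ∀ e ∈ LV, ∀ j, θ (u (e.1, j)) ∈ N := fun e he j => by
    induction j with
    | zero => exact hN (Submodule.subset_span (List.mem_map.2 ⟨e, he, rfl⟩))
    | succ j ih =>
      have h4 := hinv _ ih
      rw [← h, hs, rho_nwl, hu, ← nnl_append, ← List.reverse_append] at h4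
      rw [hu]
      exact h4
  rw [Submodule.span_le]
  rintro _ ⟨a, rfl⟩
  obtain ⟨e, he, e1⟩ := mem_pts (List.get_mem (pts LV) a)
  have h4 := h3 e he ((pts LV).get a).2
  rw [e1] at h4
  exact h4

end rs

/-! ### the tensor product theorem -/

section st

variable {p : ℕ} [hp : Fact p.Prime] {ι Φ k G : Type} [Fintype ι] [DecidableEq ι] [Fintype Φ] [DecidableEq Φ] [Field k]
  [IsAlgClosed k] [CharP k p] [Group G] {D : RDat p ι Φ k G} {T S : Type} [Group T] [Finite T] [Group S]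
  {U : Type} [AddCommGroup U] [Module k U] [FiniteDimensional k U]

theorem exists_iso (M : Std D T S) {C : Can D} (hF : C.Fa) [Nontrivial U] (ρ : Representation k T U) (hirr : Irr ρ ⊤) :
    ∃ n ∈ M.pats, ∃ θ : M.Wc n ≃ₗ[k] U, ∀ s F, θ (M.ρW n s F) = ρ s (θ F) := by
  have hP := Pw.boxPow p ι Φ k G D T S M C
  obtain ⟨n, hn, h1⟩ := Std.exists_pat hF hP (ρ := ρ) (X := ⊤) (fun _ _ _ _ => trivial) top_ne_bot fun X _ h => hirr X h
  obtain ⟨θ, hθ, h0⟩ : ∃ θ ∈ M.Hm ρ n, θ ≠ 0 := by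
    by_contra hcon
    push Not at hcon
    refine top_ne_bot (le_bot_iff.1 (h1.trans (iSup₂_le fun θ hθ => ?_)))
    rw [hcon θ hθ, LinearMap.range_zero]
  exact ⟨n, hn, LinearEquiv.ofBijective θ ⟨(Std.cyc hF hP hn).inj M.hyp.Up hθ h0, LinearMap.range_eq_top.1
    ((hirr _ (inv_range hθ)).resolve_left fun e => h0 (LinearMap.range_eq_bot.1 e))⟩, hθ⟩

variable (M : Std D T S) (C : Can D) {ρ : T →* Module.End k U} {n : Fin M.f → ι → ℕ} (hn : n ∈ M.pats) {θ : M.Wc n ≃ₗ[k] U}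
  (hθ : ∀ s F, θ (M.ρW n s F) = ρ s (θ F))
include C hn

theorem dim_eq (θ : M.Wc n ≃ₗ[k] U) : finrank k U = ∏ a, dd D (n a) := θ.finrank_eq.symm.trans (Pw.finrank_cw C (M.mem_pats.1 hn))

theorem ne_zero (θ : M.Wc n ≃ₗ[k] U) (h2 : 2 ≤ finrank k U) : n ≠ 0 := by
  rintro rfl
  have h3 := (dim_eq M C hn θ).trans (Finset.prod_eq_one fun a _ => dd_zero D)
  omega

include hθ

theorem two (h2 : 2 ≤ finrank k U) :
    (∃ ν h h0 ν' h' h0', (C.H ν h h0).d * (C.H ν' h' h0').d ≤ finrank k U) ∨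
      ∃ ν h h0, ∃ (a : ℕ) (θ' : Lc D ν ≃ₗ[k] U), Rs (C.rep ν h h0) ((M.FrP a).comp M.φ) ρ θ' := by
  have hn' := M.mem_pats.1 hn
  obtain ⟨a, ha⟩ := Function.ne_iff.1 (ne_zero M C hn θ h2)
  by_cases h1 : ∃ c, c ≠ a ∧ n c ≠ 0
  · obtain ⟨c, hc, hc0⟩ := h1
    refine Or.inl ⟨n a, hn' a, ha, n c, hn' c, hc0, ?_⟩
    have h3 := dim_eq M C hn θ
    refine Nat.le_of_dvd (by omega) ?_
    rw [h3]
    exact (Finset.prod_pair (f := fun a => dd D (n a)) hc.symm).symm.dvd.trans
      (Finset.prod_dvd_prod_of_subset _ _ _ (Finset.subset_univ _))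
  · push Not at h1
    obtain ⟨ν, rfl⟩ : ∃ ν, n = Pi.single a ν := ⟨n a, funext fun c => by
      by_cases hc : c = a
      · rw [hc, Pi.single_eq_same]
      · rw [Pi.single_eq_of_ne hc, h1 c hc]⟩
    have h3 := hn' a
    rw [Pi.single_eq_same] at h3 ha
    refine Or.inr ⟨ν, h3, ha, a, ((Submodule.equivMapOfInjective _ (Pw.ev_inj a) _).trans
      (LinearEquiv.ofEq _ _ (Pw.Tr_single a ν).symm)).trans θ, fun s F => Eq.trans (congrArg θ ?_) (hθ s _)⟩
    rw [C.ρ_eq]
    rfl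

end st

/-! ### cores -/

section core

variable {p : ℕ} [hp : Fact p.Prime] {n : ℕ} {K : Type} [Field K] [Fintype K] [CharP K p] {P : Subgroup (GL (Fin n) K)}
  {ι Φ G : Type} [Fintype ι] [DecidableEq ι] [Fintype Φ] [DecidableEq Φ] [CharP (AlgebraicClosure K) p] [Group G]
  {D : RDat p ι Φ (AlgebraicClosure K) G} {S : Type} [Group S] (hC : Core P) (e : Soc P ≃* S)
include hC e

/-- the core is a quotient of the simply connected group -/
theorem cover {T : Type} [Group T] [Finite T] (M : Std D T S) :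
    ∃ φ : T →* GL (Fin n) K, φ.range = P ∧ ∀ s (h : φ s ∈ P), e (toSoc P ⟨φ s, h⟩) = M.π s := by
  have h1 : (scalars (Fin n) K).subgroupOf P = Subgroup.center P :=
    (ker_toSoc P).symm.trans (ker_eq_center hC.simple hC.nonabelian (toSoc_surjective P) (ker_toSoc_le P))
  have hs := hC.simple
  obtain ⟨ψ, h2, h3⟩ := M.cover P ⟨⟨hC.commutator_top⟩, (QuotientGroup.quotientMulEquivOfEq h1).symm.isSimpleGroup⟩ (by
    rw [← h1]
    refine not_dvd_scal hC hp.out (Or.inr fun h => ?_)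
    obtain ⟨a, -, ha⟩ := FiniteField.card K p
    have h4 : p ∣ Fintype.card K := ha ▸ dvd_pow_self p a.ne_zero
    exact hp.out.one_lt.ne' (Nat.dvd_one.1 ((Nat.dvd_sub_iff_right Fintype.card_pos h4).1 h)))
    ((QuotientGroup.quotientMulEquivOfEq h1).symm.trans e)
  refine ⟨P.subtype.comp ψ, ?_, fun s _ => h3 s⟩
  rw [MonoidHom.range_comp, MonoidHom.range_eq_top.2 h2, ← MonoidHom.range_eq_map, Subgroup.range_subtype]

/-- **the module of a core is a tensor product** -/
theorem core_iso {T : Type} [Group T] [Finite T] (M : Std D T S) {C : Can D} (hF : C.Fa) :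
    ∃ φ : T →* GL (Fin n) K, φ.range = P ∧ ∃ m ∈ M.pats, n = ∏ a, dd D (m a) ∧
      ∃ θ : M.Wc m ≃ₗ[AlgebraicClosure K] (Fin n → AlgebraicClosure K), ∀ s F, θ (M.ρW m s F) = lin (acRep φ) s (θ F) := by
  obtain ⟨φ, hφ, -⟩ := cover hC e M
  have hne := hC.nonempty
  obtain ⟨m, hm, θ, hθ⟩ := exists_iso M hF (lin (acRep φ)) fun L hL => acRep_irr hφ (H920.span_eq_top hC.absIrred) rfl L hL
  refine ⟨φ, hφ, m, hm, ?_, θ, hθ⟩
  rw [← dim_eq M C hm θ, Module.finrank_fintype_fun_eq_card, Fintype.card_fin]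

variable (Q : Tws D) (hN : Q.Num S) {ok : (ι → ℕ) → Prop} (hex : ∃ l : ι → ℕ, (∀ i, l i < p) ∧ l ≠ 0 ∧ ok l)
  (hfa : Faith D.R p (AlgebraicClosure K) ok)
include hN hex hfa

/-- **two nontrivial factors, or a Frobenius twist of a restricted module** -/
theorem core_two : ∃ φ : Q.TT →* GL (Fin n) K, φ.range = P ∧
    ((∃ (L : Type) (_ : AddCommGroup L) (_ : Module (AlgebraicClosure K) L) (H : HW D.R p (AlgebraicClosure K) L)
        (L' : Type) (_ : AddCommGroup L') (_ : Module (AlgebraicClosure K) L') (H' : HW D.R p (AlgebraicClosure K) L'),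
        H.d * H'.d ≤ n) ∨
      ∃ (L : Type) (_ : AddCommGroup L) (_ : Module (AlgebraicClosure K) L) (H : HW D.R p (AlgebraicClosure K) L)
        (r : H.Rep D) (a : ℕ) (θ : L ≃ₗ[AlgebraicClosure K] (Fin n → AlgebraicClosure K)),
        Rs r ((Q.FrP a).comp Q.TT.subtype) (lin (acRep φ)) θ) := by
  have hF := RDat.fa_of hex hfa
  have := Q.finite_TT hF
  obtain ⟨π, hπ, hT, hcv, -⟩ := Q.exists_std hF hN
  obtain ⟨C⟩ := boxHW p ι Φ _ G D
  obtain ⟨l, h1, h0, h2⟩ := hex
  obtain ⟨φ, hφ, m, hm, -, θ, hθ⟩ := core_iso hC e (Q.std hF π hπ hT hcv) (C := C)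
    fun b => ⟨l, h1, h0, hfa _ _ (by rwa [C.lam]) b⟩
  have hd : finrank (AlgebraicClosure K) (Fin n → AlgebraicClosure K) = n := by
    rw [Module.finrank_fintype_fun_eq_card, Fintype.card_fin]
  have h3 := hC.two_le
  rw [Fintype.card_fin] at h3
  refine ⟨φ, hφ, (two _ C hm hθ (by omega)).imp ?_ ?_⟩
  · rintro ⟨ν, h, h0, ν', h', h0', h4⟩
    exact ⟨_, _, _, C.H ν h h0, _, _, _, C.H ν' h' h0', hd ▸ h4⟩
  · rintro ⟨ν, h, h0, a, θ', h4⟩
    exact ⟨_, _, _, _, _, a, θ', h4⟩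

/-- **the module of a core as a restricted module for the product datum**; the highest weight is the pattern -/
theorem core_pow : ∃ φ : Q.TT →* GL (Fin n) K, φ.range = P ∧ ∃ m : Fin Q.f → ι → ℕ, n = ∏ a, dd D (m a) ∧
    ∃ (L : Type) (_ : AddCommGroup L) (_ : Module (AlgebraicClosure K) L)
      (H : HW (Pw.pw (Fin Q.f) D).R p (AlgebraicClosure K) L) (r : H.Rep (Pw.pw (Fin Q.f) D))
      (θ : L ≃ₗ[AlgebraicClosure K] (Fin n → AlgebraicClosure K)), (H.lam = fun x => m x.1 x.2) ∧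
      Rs r (MonoidHom.pi fun a : Fin Q.f => (Q.FrP a).comp Q.TT.subtype) (lin (acRep φ)) θ := by
  have hF := RDat.fa_of hex hfa
  have := Q.finite_TT hF
  obtain ⟨π, hπ, hT, hcv, -⟩ := Q.exists_std hF hN
  obtain ⟨C⟩ := boxHW p ι Φ _ G D
  obtain ⟨l, h1, h0, h2⟩ := hex
  obtain ⟨φ, hφ, m, hm, h4, θ, hθ⟩ := core_iso hC e (Q.std hF π hπ hT hcv) (C := C)
    fun b => ⟨l, h1, h0, hfa _ _ (by rwa [C.lam]) b⟩
  have h3 := hC.two_le
  obtain ⟨X⟩ := Pw.exists_pmod (D := D) ((Q.std hF π hπ hT hcv).mem_pats.1 hm)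
    (ne_zero _ C hm θ (by rwa [Module.finrank_fintype_fun_eq_card]))
  refine ⟨φ, hφ, m, h4, _, _, _, X.H, X.r, θ, X.lam, fun s F => Eq.trans (congrArg θ ?_) (hθ s F)⟩
  rw [X.ρ_eq]
  rfl

end core

end Cfsg.Agent.N2C.RD.St
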