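import Cfsg.Agent.N2.Cl.RD.Defs
import Cfsg.Agent.N2.Cl.RX.Semi
import Cfsg.Agent.N2.Cl.Sz.Rad
import Cfsg.Agent.N2.Cl.Sz.Ss

/-!
# N2 (S3519), class S in the defining characteristic: `SemiD` and `SsD` (helper96)
-/

set_option autoImplicit false
set_option linter.unusedSectionVars false
set_option maxHeartbeats 400000

namespace Cfsg.Agent.N2C.RD

open Cfsg Cfsg.Geo Subgroup Module Matrix Cfsg.Agent.DS.Cl Cfsg.Agent.DS.Cl.Fwd
open Cfsg.Agent.N2C.Cyc Cfsg.Agent.N2C.RX Cfsg.Agent.N2C.RX.Sm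
open Cfsg.Agent.N2C.Res (Rep repL repH)
open Cfsg.Agent.N2C.Sz (Mu)
open Cfsg.Agent.TH.Cl (KU KSp KO)
open Cfsg.Agent.N2C.RX.R0 (card_tw ZI_bil)

variable {K : Type} [Field K] [Fintype K] {n p : ℕ}

theorem cA_dm (u : GL (Fin n) K) : cA (u : Matrix (Fin n) (Fin n) K) = Fintype.card K ^ dm u := by
  rw [dm, ← Nat.card_eq_fintype_card, ← Module.natCard_eq_pow_finrank]
  exact Nat.card_congr (Equiv.subtypeEquivRight fun x => by simp [Subalgebra.mem_centralizer_iff, eq_comm])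

theorem ev_ml (u : GL (Fin n) K) (a : K) : ev u a = Sz.ml (u : Matrix (Fin n) (Fin n) K) a := rfl

section gen

variable {A : Type} [Ring A] [StarRing A] [Finite A] {F : FR A} {N : Subgroup (RingAut A)} (R : Rep F K n) {c : R.P N → ℕ}
  (hc : ∀ u (hu : u ∈ lft F N), c ⟨R.gl u, u, hu, rfl⟩ ≤ N2.cn (el (Res.lft_le F N hu))) {t : Kd} {q : ℕ}
  (hz : ∀ z ∈ ZI F, z ^ zz t q = 1) (hz' : zz t q ≤ Nat.card (ZI F))

include hc hz hz'

theorem semiD_of (hp : p.Prime) [CharP K p]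
    (hs : ∀ (s : ℕ) [Fact s.Prime], ∀ u ∈ F.Iso, (s : K) ≠ 0 → 2 < s → u ^ s = 1 → ∃ μ : ZMod s → ℕ,
      Mu (Fintype.card K) n (R.ρ u) μ ∧ μ 0 = Sz.ml (R.ρ u) 1 ∧ (∀ i, μ ((fr t q : ℤ) * i) = μ i) ∧ (bil t → ∀ i, μ (-i) = μ i) ∧
      ∀ e z : ℕ, orderOf ((fr t q : ℤ) : ZMod s) = e → (Finset.univ.filter fun i => i ≠ 0 ∧ μ i ≠ 0).card = z →
        cO F u * (q ^ eq t e) ^ nu t e z * q ^ dl t (μ 0) ≤
          kp t (μ 0) * q ^ es t (∑ i, μ i ^ 2) (μ 0) * (q ^ eq t e + 1) ^ nu t e z * (q + 1) ^ dl t (μ 0)) :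
    SemiD t q p (R.P N) c := by
  rintro s _ ⟨_, u, hu, rfl⟩ hsp h2 ho
  have hs' : s.Prime := Fact.out
  have hu' := Res.lft_le_Iso F N hu
  have hm : u ^ s = 1 := R.gl_inj (pow_mem hu' s) (one_mem _) (by
    rw [map_pow, map_one, ← ho]; exact congrArg Subtype.val (pow_orderOf_eq_one (⟨R.gl u, u, hu, rfl⟩ : R.P N)))
  obtain ⟨μ, h3, h4, h5, h6, h7⟩ := hs s u hu'
    (fun k => hsp ((Nat.prime_dvd_prime_iff_eq hp hs').1 ((CharP.cast_eq_zero_iff K p s).1 k)).symm) h2 hm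
  have h8 : dm (R.gl u) = ∑ i, μ i ^ 2 := Nat.pow_right_injective (Fintype.one_lt_card (α := K)) ((cA_dm _).symm.trans h3.card)
  refine ⟨μ, h3.sum, h4, h8, fun j hj => ?_, h5, h6, fun e z he hz2 => ?_⟩
  · obtain ⟨v, hv⟩ := isConj_iff.1 hj
    refine h3.conj (v : GL (Fin n) K) j (Units.isUnit _) ?_ (Nat.coprime_comm.1 (hs'.coprime_iff_not_dvd.2 fun k => ?_))
    · exact congrArg (fun x : R.P N => ((x : GL (Fin n) K) : Matrix (Fin n) (Fin n) K)) (mul_inv_eq_iff_eq_mul.1 hv)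
    · rw [orderOf_dvd_iff_pow_eq_one.1 (ho ▸ k), conj_eq_one_iff] at hv
      rw [hv, orderOf_one] at ho
      omega
  have h9 := cn_mul_le (Res.lft_le F N hu) (card_ww (R := R) hs' hm hz)
  rw [show dm ((⟨R.gl u, u, hu, rfl⟩ : R.P N) : GL (Fin n) K) = _ from h8]
  calc _ ≤ ww t n q s * (cO F u * (q ^ eq t e) ^ nu t e z * q ^ dl t (μ 0)) :=
        (Nat.mul_le_mul_right _ (Nat.mul_le_mul_right _ ((Nat.mul_le_mul (hc u hu) hz').trans h9))).trans_eq (by ring)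
    _ ≤ _ := (Nat.mul_le_mul_left _ (h7 e z he hz2)).trans_eq (by ring)

theorem ssD_of (hs : ∀ u ∈ F.Iso, (t = .U ∨ ∃ m : ℕ, m.Coprime p ∧ u ^ m = 1) →
      cO F u * q ^ kk t n ≤ k4 t * q ^ es t (dm (R.gl u)) (e2 p (R.gl u)) * (q + 1) ^ kk t n) : SsD t q p (R.P N) c := by
  rintro ⟨_, u, hu, rfl⟩ ho
  have hu' := Res.lft_le_Iso F N hu
  have h7 := hs u hu' (ho.imp_right fun k => ⟨_, k, R.gl_inj (pow_mem hu' _) (one_mem _) (by
    rw [map_pow, map_one]; exact congrArg Subtype.val (pow_orderOf_eq_one (⟨R.gl u, u, hu, rfl⟩ : R.P N)))⟩)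
  have h9 := cn_mul_le (Res.lft_le F N hu) (card_tw R u hz)
  calc _ ≤ Nat.gcd n (zz t q) * (cO F u * q ^ kk t n) :=
        (Nat.mul_le_mul_right _ ((Nat.mul_le_mul (hc u hu) hz').trans h9)).trans_eq (mul_assoc _ _ _)
    _ ≤ _ := (Nat.mul_le_mul_left _ h7).trans_eq (by rw [← mul_assoc, ← mul_assoc])

end gen

section L

variable {F : FR (LR (Fin n) K)} {N : Subgroup (RingAut (LR (Fin n) K))} (hn : 0 < n) {c : (repL F hn).P N → ℕ}
  (hc : ∀ u (hu : u ∈ lft F N), c ⟨(repL F hn).gl u, u, hu, rfl⟩ ≤ N2.cn (el (Res.lft_le F N hu)))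

include hc

theorem semiD_L (hp : p.Prime) [CharP K p] : SemiD .L (Fintype.card K) p ((repL F hn).P N) c := by
  refine semiD_of _ hc (fun _ => ZI_pow_L) (card_ZI_L F hn) hp fun s _ u hu hs h2 hm => ?_
  obtain ⟨μ, h1, h3⟩ := Sz.exists_mu (RingEquiv.refl _) hs (u := (repL F hn).ρ u) (by
    rw [← map_pow, ← Units.val_pow_eq_pow_val, hm, Units.val_one, map_one])
  rw [Fintype.card_fin] at h1
  refine ⟨μ, h1, h3, fun i => ?_, False.elim, fun e z _ _ => ?_⟩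
  · rw [show fr .L (Fintype.card K) = Fintype.card K from rfl, Int.cast_natCast, h1.frob]
  · show cO F u * 1 * 1 ≤ 1 * Fintype.card K ^ (∑ i, μ i ^ 2) * 1 * 1
    rw [mul_one, mul_one, mul_one, mul_one, one_mul, ← h1.card]
    exact Sz.cO_le_cA_L F u

theorem ssD_L : SsD .L (Fintype.card K) p ((repL F hn).P N) c := by
  refine ssD_of _ hc (fun _ => ZI_pow_L) (card_ZI_L F hn) fun u _ _ => ?_
  show cO F u * 1 ≤ 1 * Fintype.card K ^ dm ((repL F hn).gl u) * 1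
  rw [mul_one, mul_one, one_mul, ← cA_dm]
  exact Sz.cO_le_cA_L F u

end L

section H

variable {V : Type} [AddCommGroup V] [Module K V] [Finite V] {h : HF K V} {F : FR h.EB} {N : Subgroup (RingAut h.EB)}
  (b : Basis (Fin n) K V) (hn : 0 < n)

theorem ml_H (u : h.EB) : Sz.ml ((repH h F b hn).ρ u) 1 = finrank K (LinearMap.ker (h.ap u - 1)) :=
  (Sz.ml_toMatrix b (h.ap u) 1).trans (by rw [one_smul])

theorem e2_H (u : h.EBˣ) : e2 p ((repH h F b hn).gl u) = if p = 2 then finrank K (LinearMap.ker (h.ap u - 1))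
    else finrank K (LinearMap.ker (h.ap u - 1)) + finrank K (LinearMap.ker (h.ap (-u) - 1)) := by
  have h1 : ev ((repH h F b hn).gl u) (-1) = finrank K (LinearMap.ker (h.ap (-u) - 1)) := (Sz.ml_toMatrix b (h.ap u) (-1)).trans (by
    rw [← LinearMap.ker_neg, neg_one_smul, sub_neg_eq_add, neg_add, ← sub_eq_add_neg]; rfl)
  rw [← h1, ← ml_H (F := F) b hn]
  rfl

theorem mu_H {m : ℕ} [NeZero m] {u : h.EB} {μ : ZMod m → ℕ} (k : Mu (Fintype.card K) (finrank K V) u μ) :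
    Mu (Fintype.card K) n ((repH h F b hn).ρ u) μ :=
  ((finrank_eq_card_basis b).trans (Fintype.card_fin n)) ▸ mu_map (RingEquiv.ofBijective _ (SB.Idem.piB_bij h b)) k

theorem cA_H (u : h.EBˣ) : cA (u : h.EB) = Fintype.card K ^ dm ((repH h F b hn).gl u) :=
  (Sz.cA_map (RingEquiv.ofBijective _ (SB.Idem.piB_bij h b)) (u : h.EB)).symm.trans (cA_dm ((repH h F b hn).gl u))

variable {c : (repH h F b hn).P N → ℕ}
  (hc : ∀ u (hu : u ∈ lft F N), c ⟨(repH h F b hn).gl u, u, hu, rfl⟩ ≤ N2.cn (el (Res.lft_le F N hu)))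

include hc

theorem semiD_U {q : ℕ} (k : KU h F q) (hp : p.Prime) [CharP K p] : SemiD .U q p ((repH h F b hn).P N) c := by
  have := nontrivial_of_dim (K := K) (V := V) (by have := k.dim; omega)
  refine semiD_of _ hc (fun _ => ZI_pow_U k) (card_ZI_U k) hp fun s _ u hu hs h2 hm => ?_
  obtain ⟨μ, h1, h3, h4, h5⟩ := Sz.size_U k.u k.card hs hu.1 (by rw [← Units.val_pow_eq_pow_val, hm, Units.val_one])
  rw [show fr .U q = -q from rfl, Int.cast_neg, Int.cast_natCast]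
  refine ⟨μ, mu_H b hn h1, h3.trans (ml_H b hn _).symm, fun i => by rw [neg_mul, h4], False.elim, fun e z he hz => ?_⟩
  rw [show kp .U (μ 0) = 1 from rfl, show es .U (∑ i, μ i ^ 2) (μ 0) = ∑ i, μ i ^ 2 from rfl, one_mul]
  refine le_trans (Nat.mul_le_mul_right _ (Nat.mul_le_mul_right _ (cO_le_cU F u))) ?_
  have h6 : μ 0 ≠ 0 → 1 ≤ dl .U (μ 0) := fun t => (if_neg t).ge
  by_cases t : e % 2 = 1
  · rw [show eq .U e = e from if_pos t]
    exact h5 e _ _ he (fun _ => hz ▸ (if_neg fun o : eq .U e = 0 => by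
      rw [show eq .U e = e from if_pos t] at o; omega).ge) h6
  · rw [show nu .U e z = 0 from if_pos (if_neg t)]
    exact h5 e 0 _ he (fun o => absurd (Nat.odd_iff.1 o) t) h6

theorem ssD_U {q : ℕ} (k : KU h F q) : SsD .U q p ((repH h F b hn).P N) c := by
  refine ssD_of _ hc (fun _ => ZI_pow_U k) (card_ZI_U k) fun u hu _ => ?_
  show cO F u * q ^ n ≤ 1 * q ^ dm ((repH h F b hn).gl u) * (q + 1) ^ n
  have h1 := Sz.size_U_all k.u k.card hu.1 (cA_H (F := F) b hn u)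
  rw [finrank_eq_card_basis b, Fintype.card_fin] at h1
  rw [one_mul]
  exact (Nat.mul_le_mul_right _ (cO_le_cU F u)).trans h1

theorem semiD_S {j : ℕ} (k : KSp h F j) (hp : p.Prime) [CharP K p] : SemiD .S (Fintype.card K) p ((repH h F b hn).P N) c := by
  have h1 := k.dim
  have := nontrivial_of_dim (K := K) (V := V) (by rwa [finrank_eq_card_basis b, Fintype.card_fin])
  refine semiD_of _ hc (ZI_bil k.sp.1).1 (ZI_bil k.sp.1).2 hp fun s _ u hu hs h2 hm => ?_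
  obtain ⟨μ, h1, h3, h4, h5⟩ := Sz.size_Sp k.sp ⟨j, by omega⟩ h2 hs hu hm
  rw [show fr .S (Fintype.card K) = Fintype.card K from rfl, Int.cast_natCast]
  refine ⟨μ, mu_H b hn h1, h3.trans (ml_H b hn _).symm, h1.frob, fun _ => h4, fun e z he hz => ?_⟩
  rw [show kp .S (μ 0) = 1 from rfl, show es .S (∑ i, μ i ^ 2) (μ 0) = (∑ i, μ i ^ 2 + μ 0) / 2 from rfl,
    show dl .S (μ 0) = 0 from rfl, one_mul, pow_zero, pow_zero, mul_one, mul_one]
  rcases nu_bil (t := .S) trivial z (he ▸ ord_pos hs) with ⟨-, t2, t3⟩ | ⟨t1, t3⟩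
  · rw [t2, t3]
    exact h5 e _ he fun _ => hz ▸ le_rfl
  · rw [t3]
    exact h5 e 0 he fun o => absurd o t1

theorem ssD_S {j : ℕ} (k : KSp h F j) (hp : p.Prime) [CharP K p] : SsD .S (Fintype.card K) p ((repH h F b hn).P N) c := by
  have := nontrivial_of_dim (K := K) (V := V) (by rwa [finrank_eq_card_basis b, Fintype.card_fin])
  refine ssD_of _ hc (ZI_bil k.sp.1).1 (ZI_bil k.sp.1).2 fun u hu ho => ?_
  obtain ⟨m, h1, h2⟩ := ho.resolve_left (by decide)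
  have h3 := Sz.ss_Sp k.sp hp h1 hu h2 (cA_H (F := F) b hn u) (e2_H (F := F) b hn u)
  rw [finrank_eq_card_basis b, Fintype.card_fin, ← one_mul (_ ^ ((_ + _) / 2))] at h3
  exact h3

theorem semiD_O {Q : QuadraticForm K V} (k : KO h F Q) {t : Kd} (ht : t = .O ∨ t = .P ∨ t = .M) (hp : p.Prime) [CharP K p] :
    SemiD t (Fintype.card K) p ((repH h F b hn).P N) c := by
  have := nontrivial_of_dim (K := K) (V := V) (by rwa [finrank_eq_card_basis b, Fintype.card_fin])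
  have hz : zz t (Fintype.card K) = Nat.gcd 2 (Fintype.card K - 1) := by rcases ht with rfl | rfl | rfl <;> rfl
  have hf : fr t (Fintype.card K) = Fintype.card K := by rcases ht with rfl | rfl | rfl <;> rfl
  refine semiD_of _ hc (hz ▸ (ZI_bil k.o.1).1) (hz ▸ (ZI_bil k.o.1).2) hp fun s _ u hu hs h2 hm => ?_
  obtain ⟨μ, h1, h3, h4, h5⟩ := Sz.size_O k.o h2 hs hu hm
  rw [hf, Int.cast_natCast]
  refine ⟨μ, mu_H b hn h1, h3.trans (ml_H b hn _).symm, h1.frob, fun _ => h4, fun e z he hz => ?_⟩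
  rw [show kp t (μ 0) = if μ 0 = 0 then 1 else 2 by rcases ht with rfl | rfl | rfl <;> rfl,
    show dl t (μ 0) = if μ 0 = 2 then 1 else 0 by rcases ht with rfl | rfl | rfl <;> rfl,
    show es t (∑ i, μ i ^ 2) (μ 0) = (∑ i, μ i ^ 2 - μ 0) / 2 by rcases ht with rfl | rfl | rfl <;> rfl]
  rcases nu_bil (t := t) (by rcases ht with rfl | rfl | rfl <;> trivial) z (he ▸ ord_pos hs) with ⟨-, t2, t3⟩ | ⟨t1, t3⟩
  · rw [t2, t3]
    exact h5 e _ he fun _ => hz ▸ le_rfl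
  · rw [t3]
    exact h5 e 0 he fun o => absurd o t1

theorem ssD_O {Q : QuadraticForm K V} (k : KO h F Q) {t : Kd} (ht : t = .O ∨ t = .P ∨ t = .M) (hp : p.Prime) [CharP K p] :
    SsD t (Fintype.card K) p ((repH h F b hn).P N) c := by
  have := nontrivial_of_dim (K := K) (V := V) (by rwa [finrank_eq_card_basis b, Fintype.card_fin])
  have hz : zz t (Fintype.card K) = Nat.gcd 2 (Fintype.card K - 1) := by rcases ht with rfl | rfl | rfl <;> rfl
  refine ssD_of _ hc (hz ▸ (ZI_bil k.o.1).1) (hz ▸ (ZI_bil k.o.1).2) fun u hu ho => ?_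
  obtain ⟨m, h1, h2⟩ := ho.resolve_left (by rcases ht with rfl | rfl | rfl <;> decide)
  have h3 := Sz.ss_O k.o hp h1 hu h2 (cA_H (F := F) b hn u) (e2_H (F := F) b hn u)
  rw [finrank_eq_card_basis b, Fintype.card_fin] at h3
  rcases ht with rfl | rfl | rfl <;> exact h3

end H

end Cfsg.Agent.N2C.RD
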