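import Cfsg.Agent.N2.Cl.RD.G2A
import Cfsg.Agent.N2.Cl.RD.ExcNum
import Cfsg.Agent.H909.PpdSz

/-!
# N2 (S3519), defining characteristic: the row of the Suzuki groups (helper37)

* `SR.fin8`, `SR.c_ss`, `SR.sq_bd` : sharp forms of the criterion;  `SR.sz_dim` : `n = 4 ^ k`, `|K| ^ j = 2 ^ (2 l + 1)`, `j ≤ k`;
* **`row_szD : Row fSz`**.
-/

set_option autoImplicit false
set_option linter.unusedSectionVars false

namespace Cfsg.Agent.N2C.RD

open Cfsg Cfsg.Geo Matrix Cfsg.Agent.H915.LD Cfsg.Agent.H905.Md Cfsg.Agent.N2C.RX Cfsg.Agent.H902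

namespace SR

theorem sq_bd {q c x y k a b z : ℕ} (hq : 0 < q) (hb : 0 < b) (hab : b * (q + 1) ≤ a * q) (hx : x ≤ y)
    (h : c * q ^ k ≤ 4 * q ^ x * (q + 1) ^ k) (hz : 16 * (a ^ k) ^ 2 ≤ (b ^ k) ^ 2 * q ^ z) : c ^ 2 ≤ q ^ (2 * y + z) := by
  have h1 : q ^ x ≤ q ^ y := Nat.pow_le_pow_right hq hx
  refine Nat.le_of_mul_le_mul_right ?_ (show 0 < (b ^ k * q ^ k) ^ 2 by positivity)
  calc c ^ 2 * (b ^ k * q ^ k) ^ 2 = (b ^ k * (c * q ^ k)) ^ 2 := by ring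
    _ ≤ (b ^ k * (4 * q ^ y * (q + 1) ^ k)) ^ 2 := Nat.pow_le_pow_left (Nat.mul_le_mul_left _ (h.trans (by gcongr))) 2
    _ = (4 * q ^ y * (b * (q + 1)) ^ k) ^ 2 := by rw [mul_pow b (q + 1)]; ring
    _ ≤ (4 * q ^ y * (a * q) ^ k) ^ 2 := by gcongr
    _ = 16 * (a ^ k) ^ 2 * (q ^ y * q ^ k) ^ 2 := by rw [mul_pow a q]; ring
    _ ≤ (b ^ k) ^ 2 * q ^ z * (q ^ y * q ^ k) ^ 2 := Nat.mul_le_mul_right _ hz
    _ = _ := by ring

theorem odd_of_pow {K : Type} [Field K] [Fintype K] {p j l : ℕ} (hp : p.Prime) [CharP K p]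
    (h : Fintype.card K ^ j = p ^ (2 * l + 1)) : ∃ a, 1 ≤ a ∧ Fintype.card K = p ^ a ∧ a * j = 2 * l + 1 ∧ j % 2 = 1 := by
  obtain ⟨a, ha, h1⟩ := exists_f K p
  rw [h1, ← pow_mul] at h
  have h2 := Nat.pow_right_injective hp.two_le h
  exact ⟨a, ha, h1, h2, Nat.odd_iff.1 (Nat.odd_mul.1 (h2 ▸ odd_two_mul_add_one l)).2⟩

variable {t : Kd} {n q p T b : ℕ} {K : Type} [Field K] [Fintype K] {P : Subgroup (GL (Fin n) K)} {G : Prop} {c f : P → ℕ}

theorem bil_of (M : Md0 t q p T b P G c f) (h : SD P) : bil t := by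
  have k := M.frm
  cases t
  exacts [absurd h k, absurd h k.2, trivial, trivial, trivial, trivial]

theorem fin8 (M : Md0 t q p T b P G c f) (u : P) {x y : ℕ} (hc : c u ^ 2 ≤ q ^ x) (hb : 8 * b ≤ q ^ y)
    (h : 3 * x + 2 * y ≤ Gn.mm t n) : G := by
  have hq := M.q_ge
  refine M.good u ((Nat.pow_le_pow_iff_left two_ne_zero).1 (Nat.le_of_mul_le_mul_left ?_ (show 0 < 64 by norm_num)))
  calc 64 * (f u ^ 3 * b) ^ 2 = (f u ^ 2) ^ 3 * (8 * b) ^ 2 := by ring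
    _ ≤ (q ^ x) ^ 3 * (q ^ y) ^ 2 :=
      Nat.mul_le_mul (Nat.pow_le_pow_left ((Nat.pow_le_pow_left (M.fc u) 2).trans hc) 3) (Nat.pow_le_pow_left hb 2)
    _ = q ^ (3 * x + 2 * y) := by ring
    _ ≤ _ := (Nat.pow_le_pow_right (by omega) h).trans (Gn.low hq M.dim M.ord)

theorem c_ss (M : Md t q p T b P G c f) (ht : t = .O ∨ t = .P ∨ t = .M) {u : P} {m : ℕ} (ho : Odd m) (hp : m.Coprime p)
    (hu : u ^ m = 1) : c u * q ^ (n / 2) ≤
      4 * q ^ ((dm (u : GL (Fin n) K) - ev (u : GL (Fin n) K) 1) / 2) * (q + 1) ^ (n / 2) := by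
  have := M.char
  have h1 := M.ss u (Or.inr (hp.coprime_dvd_left (orderOf_dvd_of_pow_eq_one hu)))
  rw [e2_odd M.prime (congrArg Subtype.val hu) ho] at h1
  have h2 : c u * q ^ kk t n ≤ k4 t * q ^ es t (dm (u : GL (Fin n) K)) (ev (u : GL (Fin n) K) 1) * (q + 1) ^ kk t n := by
    refine Nat.le_of_mul_le_mul_left ?_ M.ct_zz
    calc _ = c u * zz t q * q ^ kk t n := by ring
      _ ≤ _ := h1
      _ ≤ zz t q * k4 t * _ * _ := by gcongr; exact Nat.gcd_le_right _ M.ct_zz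
      _ = _ := by ring
  rcases ht with rfl | rfl | rfl <;> exact h2

open Cfsg.Agent.H861.SzN Cfsg.Agent.H909.Ppd in
theorem sz_dim [CharP K 2] (hC : Core P) {E : Type} [Field E] [Fintype E] {l : ℕ} (hl : 1 ≤ l)
    (hE : Fintype.card E = 2 ^ (2 * l + 1)) (e : Soc P ≃* Lie.Sz E (2 ^ (l + 1))) :
    ∃ j k, j % 2 = 1 ∧ Fintype.card K ^ j = 2 ^ (2 * l + 1) ∧ j ≤ k ∧ n = 4 ^ k := by
  classical
  have : Fact (Nat.Prime 2) := ⟨Nat.prime_two⟩
  obtain ⟨ι⟩ := H861.SzN.exists_emb K hE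
  obtain ⟨φ, S, -, hS, hcard, htr⟩ := sz_model hC hl hE e ι
  obtain ⟨j, -, hj⟩ := card_pow_eq (F := K) 2 (a := 2 * l + 1) (by omega)
    (pow_eq_of_no_subfield hC.absIrred hC.no_subfield 2 _ fun g hg => by
      rw [← hE]
      exact (sz_both hC.absIrred hC.perfect hl hE e hg).1)
  rw [Nat.card_eq_fintype_card] at hj
  obtain ⟨a, -, h1, h2, h3⟩ := odd_of_pow Nat.prime_two hj
  refine ⟨j, S.card, h3, hj, le_card hS h2 (image_eq ι hE fun x => ?_), by rwa [Fintype.card_fin] at hcard⟩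
  obtain ⟨g, rfl⟩ := trace_surj hE x
  rw [← htr, ← map_pow, ← h1, FiniteField.pow_card]

theorem sixteen_mul_le {k : ℕ} (h : 3 ≤ k) : 16 * k ≤ 4 ^ k := by
  induction k, h using Nat.le_induction with
  | base => norm_num
  | succ k _ ih => rw [pow_succ]; omega

end SR

open SR Xc

/-- **the row of the Suzuki groups** -/
theorem row_szD : Row fSz := by
  rintro t n q p T b K _ _ P G c f M ⟨rfl, E, _, _, l, hl, hE, ⟨e⟩⟩
  have := M.char
  have hC := M.core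
  have D := nd_Sz hC.simple hC.nonabelian hl hE e
  obtain ⟨j, k, hj, h1, h2, h3⟩ := sz_dim hC hl hE e
  have h4 : b ≤ (2 * l + 1) * (2 ^ (2 * l + 1)) ^ 5 := (M.toMd0.b_le D).trans_eq (congrArg (· * _) (one_mul _))
  have h5 := two_mul_le le_rfl (2 * l + 1)
  have hb : b ≤ Fintype.card K ^ (6 * j) := by
    rw [mul_comm 6, pow_mul, h1, pow_succ' _ 5]
    exact h4.trans (Nat.mul_le_mul_right _ (by omega))
  by_cases hk : 3 ≤ k
  · have h6 := sixteen_mul_le hk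
    exact sc_mul M.toMd0 hb (by omega) (x := 16) (y := 6) (by omega) (by omega) (by norm_num)
  have h6 := five_le M.dim
  obtain rfl : k = 2 := by
    by_contra h7
    have h8 : 4 ^ k ≤ 4 ^ 1 := Nat.pow_le_pow_right (by norm_num) (by omega)
    omega
  obtain rfl : j = 1 := by omega
  obtain rfl : n = 16 := h3
  have hbil := bil_of M.toMd0 fun g hg => (sz_both hC.absIrred hC.perfect hl hE e hg).2
  have hK := G2.card_bil M.toMd0 hbil
  rw [pow_one] at h1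
  have hq : q = 2 ^ (2 * l + 1) := hK.symm.trans h1
  have h8 : 8 ≤ q := hq ▸ Nat.pow_le_pow_right two_pos (show 3 ≤ 2 * l + 1 by omega)
  by_cases ht : t = .O ∨ t = .P ∨ t = .M
  swap
  · obtain rfl : t = .S := by
      cases t
      exacts [hbil.elim, hbil.elim, rfl, absurd (by simp) ht, absurd (by simp) ht, absurd (by simp) ht]
    obtain ⟨u, hu⟩ := M.small
    exact fin M.toMd0 u (c_le M.toMd0 u hu) (hK ▸ hb) (by decide)
  obtain ⟨r, hr, h9, -, h10, h11, h12, -⟩ := D.ppd (k := 4) (Or.inr rfl) (by omega) (by omega)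
  have := Fact.mk hr
  have hcop : r.Coprime 2 := (Nat.coprime_primes hr Nat.prime_two).2 h11
  obtain ⟨x, hx⟩ := exists_prime_orderOf_dvd_card' r h12
  obtain ⟨u, hu, h13⟩ := exists_lift hr (not_dvd_scal hC hr (Or.inl fun d =>
    h11 ((Nat.prime_dvd_prime_iff_eq hr Nat.prime_two).1 (hr.dvd_of_dvd_pow (n := 4) d)))) hx
  have h14 : u ^ r = 1 := h13 ▸ pow_orderOf_eq_one u
  by_cases h15 : 12 ≤ ev (u : GL (Fin 16) K) 1
  · have h16 := (Nat.pow_le_pow_left h15 2).trans (G2.sq_ev M.toMd0 hcop h14)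
    obtain ⟨y, hy⟩ := M.scott u (by
      rw [hu]
      rintro rfl
      rw [orderOf_one] at hx
      omega)
    by_cases h17 : dm (y : GL (Fin 16) K) ≤ 57
    · exact crit M.toMd0 y h17 hb (by norm_num)
    · exact crit M.toMd0 (u * y) (d := 57) (by omega) hb (by norm_num)
  obtain ⟨μ, hμ⟩ := exists_muD hC Nat.prime_two hcop h14
  let g : (ZMod r)ˣ := ZMod.unitOfCoprime (Fintype.card K) (h1 ▸ hcop.symm.pow_left _)
  have h16 := hμ.free (Γ := Subgroup.zpowers g) ((Subgroup.zpowers_le).2 hμ.frob) fun x _ i h0 _ hx =>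
    Units.ext ((mul_eq_right₀ h0).1 hx)
  rw [Nat.card_zpowers, ← orderOf_units, show (g : ZMod r) = ((2 ^ (2 * l + 1) : ℕ) : ZMod r) by rw [← h1]; rfl,
    ord_pow h9 (by omega), Nat.gcd_eq_right (Dvd.intro _ rfl), Nat.mul_div_cancel_left _ (by omega)] at h16
  have h17 : (dm (u : GL (Fin 16) K) - ev (u : GL (Fin 16) K) 1) / 2 ≤ 36 := by
    obtain ⟨h18, h19⟩ := h16
    obtain h | h | h : ev (u : GL (Fin 16) K) 1 = 0 ∨ ev (u : GL (Fin 16) K) 1 = 4 ∨ ev (u : GL (Fin 16) K) 1 = 8 := by omega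
    all_goals rw [h] at h18 ⊢; omega
  have h18 : 8 ^ 3 ≤ q ^ 3 := Nat.pow_le_pow_left h8 3
  refine fin8 M.toMd0 u (sq_bd (a := 9) (b := 8) (z := 3) (by omega) (by norm_num) (by omega) h17
    (c_ss M ht (hr.odd_of_ne_two h11) hcop h14) (by norm_num; omega)) (y := 7) ?_ ?_
  · rw [← hq] at h4 h5
    calc 8 * b ≤ 4 * (2 * (2 * l + 1)) * q ^ 5 := by rw [← mul_assoc, mul_assoc]; exact Nat.mul_le_mul_left 8 h4
      _ ≤ q * q * q ^ 5 := by gcongr; omega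
      _ = _ := by ring
  · rcases ht with rfl | rfl | rfl <;> decide

end Cfsg.Agent.N2C.RD
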