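import Cfsg.Agent.N2.Cl.RD.Lin
import Cfsg.Agent.H525.Ppd.UMain
import Cfsg.Agent.H929.UThreeSD

/-!
# N2 (S3519), defining characteristic, the row `U₃`: representation theory (helper97)

* `rank_five` : `h ^ 18` has rank at least `21` for `q = 5`;
* `exp_two` : the self-dual exponents in dimensions `9 ≤ n ≤ 20`;
* `exists_quad` : the quadratic eigenfunctions of an element of the Singer type torus; `cr_sq`, `cr_nn`.
-/

set_option autoImplicit false
set_option linter.unusedSectionVars false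
set_option maxHeartbeats 400000

namespace Cfsg.Agent.N2C.RD.U3

open Cfsg Cfsg.Geo Cfsg.Agent.LieClassical.HermSiegel Cfsg.Agent.LieClassical.HermBasic Matrix Cfsg.Agent.H929.U3
  Cfsg.Agent.H929.U3.Dig Cfsg.Agent.H525.Ppd Module
open Cfsg.Agent.H905.Md (acRep acRep_apply acRep_irr)
open Cfsg.Agent.H911 (lin lin_apply)

/-! ### the exponent `18` for `q = 5` -/

/-- `(a, b)` stands for `a + b ω` -/
def zm (u v : ℤ × ℤ) : ℤ × ℤ := (u.1 * v.1 - u.2 * v.2, u.1 * v.2 + u.2 * v.1 - u.2 * v.2)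

/-- conjugate -/
def zc (u : ℤ × ℤ) : ℤ × ℤ := (u.1 - u.2, -u.2)

/-- norm -/
def zn (u : ℤ × ℤ) : ℤ := u.1 * u.1 - u.1 * u.2 + u.2 * u.2

/-- the form on vectors with first coordinate one -/
def hh (u v : (ℤ × ℤ) × ℤ × ℤ) : ℤ × ℤ := (1, 0) + zm u.1 (zc v.1) + zm u.2 (zc v.2)

/-- isotropic vectors -/
def W5 (i : Fin 21) : (ℤ × ℤ) × ℤ × ℤ :=
  [((0, 4), (3, 4)), ((3, 1), (2, 3)), ((4, 3), (0, 1)), ((4, 2), (1, 3)), ((4, 1), (0, 4)), ((0, 1), (2, 1)),
    ((1, 2), (0, 1)), ((0, 4), (1, 4)), ((2, 3), (4, 2)), ((2, 2), (0, 0)), ((2, 3), (2, 4)), ((3, 3), (0, 0)),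
    ((1, 4), (4, 0)), ((4, 1), (4, 0)), ((1, 1), (1, 2)), ((0, 2), (0, 0)), ((2, 3), (3, 2)), ((0, 0), (2, 2)),
    ((4, 4), (1, 2)), ((4, 2), (3, 2)), ((1, 4), (4, 4))].getD i ((0, 0), (0, 0))

/-- the pairing matrix -/
def A5 (i j : Fin 21) : ℤ := zn (hh (W5 i) (W5 j)) ^ 3

/-- its inverse modulo five -/
def B5 (i j : Fin 21) : ℤ :=
  (([466478104807477, 41430874887025, 370590639664759, 245540267753459, 178520571459471, 101889325410818, 77867293130212,
    411146837143441, 151873439698198, 298545197732814, 325742281332282, 206635216213671, 238958841244104, 246085241930803,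
    265512985355567, 289127279871335, 355044426103082, 320547620980146, 266753620863677, 203420918893489,
    334732067113454].getD i 0 / 5 ^ (j : ℕ) % 5 : ℕ) : ℤ)

theorem W5_iso : ∀ i, (5 : ℤ) ∣ (hh (W5 i) (W5 i)).1 ∧ (5 : ℤ) ∣ (hh (W5 i) (W5 i)).2 := by decide +kernel

theorem BA5 : ∀ s s', (5 : ℤ) ∣ ∑ t, B5 s t * A5 t s' - if s = s' then 1 else 0 := by decide +kernel

section ker

variable {E : Type*} [Field E] [Fintype E] {k : Type*} [Field k] {κ : Type} [Fintype κ] [DecidableEq κ]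

theorem rank_five [CharP E 5] [CharP k 5] (hE : Fintype.card E = 5 ^ 2) {j : E →+* k} {Φ V : Iso 5 E → κ → k}
    (h : Ker 5 j 18 Φ V) : 21 ≤ Fintype.card κ := by
  classical
  have : Fact (Nat.Prime 5) := ⟨by norm_num⟩
  obtain ⟨ω, hω⟩ : ∃ ω : Eˣ, orderOf ω = 3 := by
    have : Fact (Nat.Prime 3) := ⟨Nat.prime_three⟩
    apply exists_prime_orderOf_dvd_card 3
    rw [Fintype.card_units, hE]
    norm_num
  have hω3 : (ω : E) ^ 3 = 1 := by
    rw [← Units.val_pow_eq_pow_val, ← hω, pow_orderOf_eq_one, Units.val_one]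
  have hω1 : (ω : E) - 1 ≠ 0 := by
    intro h0
    rw [Units.ext (sub_eq_zero.1 h0 : (ω : E) = (1 : Eˣ)), orderOf_one] at hω
    norm_num at hω
  have hω2 : (ω : E) ^ 2 + ω + 1 = 0 :=
    (mul_eq_zero.1 (show ((ω : E) - 1) * ((ω : E) ^ 2 + ω + 1) = 0 by linear_combination hω3)).resolve_left hω1
  have hωq : (ω : E) ^ 5 = -1 - ω := by linear_combination (ω : E) ^ 2 * hω3 + hω2
  let φ : ℤ × ℤ → E := fun u => (u.1 : E) + u.2 * ω
  have hφm : ∀ u v, φ (zm u v) = φ u * φ v := by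
    intro u v
    simp only [φ, zm]
    push_cast
    linear_combination (-(u.2 : E) * v.2) * hω2
  have hφa : ∀ u v, φ (u + v) = φ u + φ v := by
    intro u v
    simp only [φ, Prod.fst_add, Prod.snd_add]
    push_cast
    ring
  have hφc : ∀ u, φ (zc u) = φ u ^ 5 := by
    intro u
    have h4 : ∀ x : E, x ^ 5 = frobenius E 5 x := fun x => rfl
    simp only [φ, zc]
    rw [h4, map_add, map_mul, map_intCast, map_intCast, ← h4, hωq]
    push_cast
    ring
  have hφn : ∀ u, φ u ^ 6 = ((zn u : ℤ) : E) := by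
    intro u
    rw [pow_succ, ← hφc]
    simp only [φ, zc, zn]
    push_cast
    linear_combination (-(u.2 : E) * u.2) * hω2
  let W : Fin 21 → Fin 3 → E := fun i => ![1, φ (W5 i).1, φ (W5 i).2]
  have hW : ∀ i i', hermForm 3 E 5 (W i) (W i') = φ (hh (W5 i) (W5 i')) := by
    intro i i'
    rw [herm_three, hh, hφa, hφa, hφm, hφm, hφc, hφc]
    simp [W, φ]
  let w : Fin 21 → Iso 5 E := fun i => ⟨W i, by
    rw [hW]
    show ((_ : ℤ) : E) + ((_ : ℤ) : E) * ω = 0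
    rw [(CharP.intCast_eq_zero_iff E 5 _).2 (W5_iso i).1, (CharP.intCast_eq_zero_iff E 5 _).2 (W5_iso i).2, zero_mul,
      add_zero], fun h0 => one_ne_zero (congrFun h0 0)⟩
  have h1 := card_le_of_pairing (fun s => Φ (w s)) (fun s => V (w s)) fun x hx => ?_
  · rwa [Fintype.card_fin] at h1
  have h2 : ∀ s, ∑ t, ((A5 s t : ℤ) : k) * x t = 0 := fun s => by
    rw [← hx s]
    refine Finset.sum_congr rfl fun t _ => ?_
    rw [h.coef, hW, show 18 = 6 * 3 from rfl, pow_mul, ← map_pow, hφn, map_intCast, A5, Int.cast_pow]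
  funext s
  have h3 : ∀ s', ∑ t, ((B5 s t : ℤ) : k) * ((A5 t s' : ℤ) : k) = if s = s' then 1 else 0 := fun s' => by
    have h4 := (CharP.intCast_eq_zero_iff k 5 _).2 (BA5 s s')
    push_cast at h4
    exact sub_eq_zero.1 h4
  calc x s = ∑ s', (∑ t, ((B5 s t : ℤ) : k) * ((A5 t s' : ℤ) : k)) * x s' := by simp [h3]
    _ = ∑ t, ((B5 s t : ℤ) : k) * ∑ s', ((A5 t s' : ℤ) : k) * x s' := by
      simp only [Finset.sum_mul, Finset.mul_sum, mul_assoc]
      exact Finset.sum_comm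
    _ = 0 := by simp [h2]

variable {p : ℕ} [hp : Fact p.Prime] [CharP E p] [CharP k p] {s f : ℕ}

/-- the self-dual exponents of small rank -/
theorem exp_two (hE : Fintype.card E = s ^ 2) (hs : s = p ^ f) (h3 : 3 ≤ s) {j : E →+* k} {Φ V : Iso s E → κ → k} {c : ℕ}
    (hc1 : 1 ≤ c) (hc : c < s) (h : Ker s j (c + s * c) Φ V) (h9 : 9 ≤ Fintype.card κ) (h20 : Fintype.card κ ≤ 20) :
    ∃ i, c = p ^ i * 2 := by
  classical
  have hp2 := hp.out.two_le
  have hst : c + 1 = s → False := fun e => by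
    have h1 : c + s * c = s ^ 2 - 1 := by
      subst e
      exact Nat.eq_sub_of_add_eq (by ring)
    rw [h1] at h
    have h2 := h.steinberg hE
    have h4 : 3 ^ 3 ≤ s ^ 3 := Nat.pow_le_pow_left h3 3
    omega
  have hd : 2 * (dc p f c * dc p f c) ≤ Fintype.card κ + 1 := by
    by_cases hsum : c + c < s
    · exact rank_two' hE hs h hsum
    by_cases hk : ∀ i < f, p ≤ c / p ^ i % p + c / p ^ i % p + 1
    · exfalso
      have h1 := rank_planes' hE h (by nlinarith) (exists_cover_res (K := k) (p := p) hE hs hc hc hk (by omega))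
      have h2 : ∀ r : ℕ, r.Prime → r ∣ s → p = r := fun r hr hd =>
        ((Nat.prime_dvd_prime_iff_eq hr hp.out).1 (hr.dvd_of_dvd_pow (hs ▸ hd))).symm
      obtain rfl | rfl | rfl | rfl : s = 3 ∨ s = 4 ∨ s = 5 ∨ s = 6 := by omega
      · exact hst (by omega)
      · obtain rfl := h2 2 Nat.prime_two (by norm_num)
        have h4 := hk 0 (Nat.pos_of_ne_zero (by rintro rfl; norm_num at hs))
        rw [pow_zero, Nat.div_one] at h4
        exact hst (by omega)
      · obtain rfl := h2 5 (by norm_num) (by norm_num)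
        by_cases h4 : c = 3
        · subst h4
          have := rank_five hE h
          omega
        · exact hst (by omega)
      · have h4 := h2 2 Nat.prime_two (by norm_num)
        have h5 := h2 3 Nat.prime_three (by norm_num)
        omega
    · push Not at hk
      obtain ⟨i, hi, hk⟩ := hk
      obtain ⟨m, u', v', u'', v'', hm, h1, h2, h4, h5⟩ := rotate' (p := p) (hs ▸ hc) (hs ▸ hc) hi (by omega)
      have hrot : Rot E p (c + s * c) ((v' + p ^ (f - m) * u'') + s * (v'' + p ^ (f - m) * u')) := by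
        have h6 := Rot.rotate (p := p) (u' := u') (v' := v') (u'' := u'') (v'' := v'') hE hs hm
        rwa [← h1, ← h2] at h6
      obtain ⟨j', h'⟩ := h.rot hrot
      have h6 := rank_two' (p := p) hE hs h' (by omega)
      rwa [h5] at h6
  have hd3 : dc p f c ≤ 3 := by
    by_contra h0
    have : 4 * 4 ≤ dc p f c * dc p f c := Nat.mul_le_mul (by omega) (by omega)
    omega
  obtain ⟨i, c', h1, h2⟩ := classify hc1 (hs ▸ hc) (by omega : dc p f c ≤ 5)
  obtain rfl | rfl : c' = 1 ∨ c' = 2 := by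
    rcases h2 with h2 | ⟨_, -, -, h2⟩ <;> omega
  · exfalso
    have h4 : c + s * c = p ^ i * (1 + s) := by rw [h1]; ring
    rw [h4] at h
    obtain ⟨j', h'⟩ := h.rot (Rot.mul p i _)
    have := h'.le_adj hE
    omega
  · exact ⟨i, h1⟩

end ker

/-! ### eigenfunctions -/

/-- the quadratic monomials -/
def pr : Fin 6 → Fin 3 × Fin 3 := ![(0, 0), (1, 1), (2, 2), (1, 2), (0, 2), (0, 1)]

/-- their weights -/
def cw : Fin 6 → ℤ × ℤ := ![(2, 0), (0, 2), (-2, -2), (-1, 0), (0, -1), (1, 1)]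

theorem cw_norm : ∀ a b : Fin 6, a ≠ b → zn (cw a - cw b) ∣ 36 := by decide

theorem pr_inj {r w : ℕ} (hr : r.Prime) (h5 : 5 ≤ r) (hw : r ∣ w ^ 2 + w + 1) {a b : Fin 6}
    (h : w ^ ((pr a).1 : ℕ) + w ^ ((pr a).2 : ℕ) ≡ w ^ ((pr b).1 : ℕ) + w ^ ((pr b).2 : ℕ) [MOD r]) : a = b := by
  have hW : (w : ZMod r) ^ 2 + w + 1 = 0 := by exact_mod_cast (ZMod.natCast_eq_zero_iff _ _).2 hw
  have key : ∀ a : Fin 6, ((w ^ ((pr a).1 : ℕ) + w ^ ((pr a).2 : ℕ) : ℕ) : ZMod r) = (cw a).1 + (cw a).2 * w := by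
    intro a
    fin_cases a <;> simp [pr, cw]
    · ring
    · linear_combination 2 * hW
    · linear_combination hW
    · linear_combination hW
  by_contra hab
  have h1 := (ZMod.natCast_eq_natCast_iff _ _ _).2 h
  rw [key, key] at h1
  have h2 : ((zn (cw a - cw b) : ℤ) : ZMod r) = 0 := by
    simp only [zn, Prod.fst_sub, Prod.snd_sub]
    push_cast
    linear_combination (((cw a).1 - (cw b).1 : ZMod r) - ((cw a).2 - (cw b).2) * (w + 1)) * h1 +
      ((cw a).2 - (cw b).2 : ZMod r) ^ 2 * hW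
  have h3 : r ∣ 2 ^ 2 * 3 ^ 2 := by
    exact_mod_cast ((ZMod.intCast_zmod_eq_zero_iff_dvd _ _).1 h2).trans (cw_norm a b hab)
  rcases hr.dvd_mul.1 h3 with h4 | h4 <;> have := Nat.le_of_dvd (by norm_num) (hr.dvd_of_dvd_pow h4) <;> omega

section eig

variable {E : Type} [Field E] [Fintype E] {k : Type} [Field k] [IsAlgClosed k] {p : ℕ} [hp : Fact p.Prime] [CharP E p]
  [CharP k p] {s f r : ℕ} (hE : Fintype.card E = s ^ 2) (hs : s = p ^ f) (j : E →+* k) (hr : r.Prime) (hrp : r ≠ p)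
  (h5 : 5 ≤ r) (hw : r ∣ (s ^ 2) ^ 2 + s ^ 2 + 1) {y : SU 3 E s} (hy : orderOf y = r)

include hE hs hr hrp h5 hw hy

theorem exists_eig : ∃ (l : Fin 3 → Fin 3 → k) (lam : Fin 3 → k), (∀ i, l i ᵥ* (mat y⁻¹).map j = lam i • l i) ∧
    Submodule.span k (Set.range l) = ⊤ ∧ Function.Injective fun a => lam (pr a).1 * lam (pr a).2 := by
  classical
  have hrk : (r : k) ≠ 0 := fun h0 =>
    hrp ((Nat.prime_dvd_prime_iff_eq hp.out hr).1 ((CharP.cast_eq_zero_iff k p r).1 h0)).symm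
  have : NeZero (r : k) := ⟨hrk⟩
  have : NeZero r := ⟨hr.ne_zero⟩
  obtain ⟨ζ₀, hζ₀⟩ := HasEnoughRootsOfUnity.exists_primitiveRoot k r
  let mj : SU 3 E s →* Matrix (Fin 3) (Fin 3) k :=
    ⟨⟨fun g => (mat g).map j, by rw [mat_one, Matrix.map_one _ j.map_zero j.map_one]⟩, fun g h => by
      show (mat (g * h)).map j = (mat g).map j * (mat h).map j
      rw [mat_mul, Matrix.map_mul]⟩
  obtain ⟨U, hU⟩ : ∃ U, U = (mat y⁻¹).map j := ⟨_, rfl⟩
  rw [← hU]
  let T : End k (Fin 3 → k) := toLin' Uᵀ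
  have hT : ∀ v, T v = v ᵥ* U := fun v => by rw [toLin'_apply, mulVec_transpose]
  have hTr : T ^ r = 1 := by
    have h1 : U ^ r = 1 := by
      rw [hU, ← show mj y⁻¹ = (mat y⁻¹).map j from rfl, ← map_pow, inv_pow, ← hy, pow_orderOf_eq_one, inv_one, map_one]
    rw [← toLin'_pow, ← transpose_pow, h1, transpose_one, toLin'_one]
    rfl
  obtain ⟨b, hb, v, hv, hv0⟩ : ∃ b : Fin r, (b : ℕ) ≠ 0 ∧ ∃ v ∈ T.eigenspace (ζ₀ ^ (b : ℕ)), v ≠ 0 := by
    by_contra h0
    push Not at h0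
    have h1 : T = 1 := Sz.ext_sp hζ₀ hr.pos hTr fun b v hv => by
      by_cases hb : (b : ℕ) = 0
      · rw [End.mem_eigenspace_iff.1 hv, hb, pow_zero, one_smul, End.one_apply]
      · rw [h0 b hb v hv, map_zero, map_zero]
    have h2 : U = 1 := by
      rw [← transpose_transpose U, toLin'.injective (h1.trans toLin'_one.symm), transpose_one]
    have h3 : y⁻¹ = 1 := mat_injective (Matrix.map_injective j.injective (by
      show (mat y⁻¹).map j = (mat 1).map j
      rw [← hU, h2, mat_one, Matrix.map_one _ j.map_zero j.map_one]))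
    rw [inv_eq_one.1 h3, orderOf_one] at hy
    omega
  obtain ⟨ζ, hζe⟩ : ∃ ζ, ζ = ζ₀ ^ (b : ℕ) := ⟨_, rfl⟩
  have hζ : IsPrimitiveRoot ζ r := hζe ▸ hζ₀.pow_of_coprime _ (Nat.coprime_comm.1 ((Nat.Prime.coprime_iff_not_dvd hr).2
    fun h0 => absurd (Nat.le_of_dvd (Nat.pos_of_ne_zero hb) h0) (not_le.2 b.2)))
  rw [← hζe, End.mem_eigenspace_iff, hT] at hv
  let σ : k →+* k := iterateFrobenius k p (f * 2)
  have hσ : ∀ x, σ x = x ^ s ^ 2 := fun x => by rw [iterateFrobenius_def, pow_mul, ← hs]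
  have hσU : U.map σ = U := by
    ext a c
    rw [hU, Matrix.map_apply, Matrix.map_apply, hσ, ← map_pow, ← hE, FiniteField.pow_card]
  have step : ∀ (w : Fin 3 → k) (z : k), w ≠ 0 ∧ w ᵥ* U = z • w → σ ∘ w ≠ 0 ∧ (σ ∘ w) ᵥ* U = z ^ s ^ 2 • (σ ∘ w) := by
    rintro w z ⟨h0, h1⟩
    refine ⟨fun h2 => h0 (funext fun i => σ.injective ((congrFun h2 i).trans (map_zero σ).symm)), funext fun i => ?_⟩
    have h2 := RingHom.map_vecMul σ U w i
    rw [hσU, h1] at h2
    rw [← h2, Pi.smul_apply, Pi.smul_apply, smul_eq_mul, smul_eq_mul, map_mul, hσ z]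
    rfl
  have e0 : v ≠ 0 ∧ v ᵥ* U = ζ • v := ⟨hv0, hv⟩
  have e1 := step _ _ e0
  have e2 := step _ _ e1
  let l : Fin 3 → Fin 3 → k := ![v, σ ∘ v, σ ∘ σ ∘ v]
  let lam : Fin 3 → k := fun i => ζ ^ (s ^ 2) ^ (i : ℕ)
  have hl : ∀ i, l i ≠ 0 ∧ l i ᵥ* U = lam i • l i := by
    intro i
    fin_cases i
    · simpa [l, lam] using e0
    · simpa [l, lam] using e1
    · refine ⟨e2.1, e2.2.trans ?_⟩
      rw [← pow_mul, ← sq]
      rfl
  have hinj : Function.Injective fun a => lam (pr a).1 * lam (pr a).2 := fun a c h => by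
    refine pr_inj hr h5 hw ?_
    rw [hζ.eq_orderOf]
    refine (isOfFinOrder_iff_pow_eq_one.2 ⟨r, hr.pos, hζ.pow_eq_one⟩).pow_eq_pow_iff_modEq.1 ?_
    rw [pow_add, pow_add]
    exact h
  refine ⟨l, lam, fun i => (hl i).2, ?_, hinj⟩
  have hli : LinearIndependent k l := End.eigenvectors_linearIndependent' T lam (fun a c h => by
    have h1 : ∀ i : Fin 3, pr (i.castLE (by norm_num)) = (i, i) := by decide
    refine Fin.castLE_injective (show 3 ≤ 6 by norm_num) (hinj ?_)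
    show lam (pr _).1 * lam (pr _).2 = lam (pr _).1 * lam (pr _).2
    rw [h1, h1, h]) l fun i => ⟨End.mem_eigenspace_iff.2 ((hT _).trans (hl i).2), (hl i).1⟩
  exact hli.span_eq_top_of_card_eq_finrank' (by simp)

/-- **the quadratic eigenfunctions** -/
theorem exists_quad (e₀ : Fin 3 → E) : ∃ (Q : Fin 6 → SU 3 E s → k) (μ : Fin 6 → k), Function.Injective μ ∧
    (∀ a g, Q a (g * y) = μ a * Q a g) ∧
    ∀ x, ∃ d : Fin 6 → k, ∀ g, j (hermForm 3 E s (act (g * x)⁻¹ e₀) e₀) ^ 2 = ∑ a, d a * Q a g := by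
  obtain ⟨l, lam, h1, h2, h3⟩ := exists_eig hE hs j hr hrp h5 hw hy
  let L : Fin 3 → SU 3 E s → k := fun i g => l i ⬝ᵥ (j ∘ act g⁻¹ e₀)
  have hL : ∀ i g, L i (g * y) = lam i * L i g := fun i g => by
    have h4 : j ∘ act (g * y)⁻¹ e₀ = (mat y⁻¹).map j *ᵥ (j ∘ act g⁻¹ e₀) := funext fun m => by
      rw [_root_.mul_inv_rev, act_mul, act_def]
      exact RingHom.map_mulVec j _ _ m
    show l i ⬝ᵥ _ = _
    rw [h4, dotProduct_mulVec, h1, smul_dotProduct, smul_eq_mul]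
  refine ⟨fun a g => L (pr a).1 g * L (pr a).2 g, _, h3, fun a g => by simp only [hL]; ring, fun x => ?_⟩
  obtain ⟨c, hc⟩ := (Submodule.mem_span_range_iff_exists_fun k).1
    (h2.ge (Submodule.mem_top (x := fun m => j (act x e₀ m ^ s))))
  refine ⟨![c 0 ^ 2, c 1 ^ 2, c 2 ^ 2, 2 * c 1 * c 2, 2 * c 0 * c 2, 2 * c 0 * c 1], fun g => ?_⟩
  have h4 : j (hermForm 3 E s (act (g * x)⁻¹ e₀) e₀) = ∑ i, c i * L i g := by
    rw [_root_.mul_inv_rev, act_mul, herm_act_left, inv_inv, herm_def, map_sum]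
    have h6 : ∑ i, c i * L i g = (∑ i, c i • l i) ⬝ᵥ (j ∘ act g⁻¹ e₀) := by
      rw [sum_dotProduct]
      exact Finset.sum_congr rfl fun i _ => by rw [smul_dotProduct, smul_eq_mul]
    rw [h6, hc]
    exact Finset.sum_congr rfl fun m _ => by rw [map_mul, mul_comm]; rfl
  rw [h4, Fin.sum_univ_three, Fin.sum_univ_six]
  simp [pr]
  ring

end eig

section cr

variable {E : Type} [Field E] [Fintype E] {K : Type} [Field K] {p : ℕ} [hp : Fact p.Prime] [CharP E p]
  [CharP K p] {s f r n : ℕ} (hE : Fintype.card E = s ^ 2) (hs : s = p ^ f) {j : E →+* AlgebraicClosure K} (hr : r.Prime)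
  (hrp : r ≠ p) (h5 : 5 ≤ r) (hw : r ∣ (s ^ 2) ^ 2 + s ^ 2 + 1) {y : SU 3 E s} (hy : orderOf y = r)
  {φ : SU 3 E s →* GL (Fin n) K}
  (hirr : ∀ L : Submodule (AlgebraicClosure K) (Fin n → AlgebraicClosure K),
    (∀ t ∈ (⊤ : Subgroup (SU 3 E s)), ∀ v ∈ L, lin (acRep φ) t v ∈ L) → L = ⊥ ∨ L = ⊤)
  {ψ v : Fin n → AlgebraicClosure K} (hψ : ψ ≠ 0) (hv : v ≠ 0) {e₀ : Fin 3 → E} {b : ℕ}
  (hc : ∀ g : SU 3 E s, ψ ⬝ᵥ (acRep φ g⁻¹ *ᵥ v) = j (hermForm 3 E s (act g e₀) e₀) ^ b)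

omit hp in
include hψ in
theorem dual_ne : (dotProductBilin (AlgebraicClosure K) (AlgebraicClosure K) ψ) ≠ 0 := fun h =>
  hψ (dotProduct_eq_zero _ fun w => LinearMap.congr_fun h w)

include hE hs hr hrp h5 hw hy hirr hψ hv hc

/-- the symmetric square -/
theorem cr_sq (hb : b = 2) : n ≤ (minpoly K (φ y : Matrix (Fin n) (Fin n) K)).natDegree := by
  classical
  have : CharP (AlgebraicClosure K) p := charP_of_injective_algebraMap (algebraMap K _).injective p
  obtain ⟨Q, μ, h1, h2, h3⟩ := exists_quad hE hs j hr hrp h5 hw hy e₀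
  refine cr_cyc (emb_of hirr (dual_ne hψ) hv Q (fun x _ => (h3 x).imp fun d hd g _ => ?_) (Subgroup.mem_top y) μ
    fun a g _ => h2 a g) h1
  rw [← hd, ← hb, ← hc, inv_inv, lin_apply]
  rfl

/-- the symmetric square times its dual -/
theorem cr_nn (hb : b = 2 + s * 2) : ev (φ y) 1 ≤ 6 := by
  classical
  have : CharP (AlgebraicClosure K) p := charP_of_injective_algebraMap (algebraMap K _).injective p
  obtain ⟨Q, μ, h1, h2, h3⟩ := exists_quad hE hs j hr hrp h5 hw hy e₀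
  have hσ : ∀ x : AlgebraicClosure K, x ^ s = iterateFrobenius _ p f x := fun x => by rw [iterateFrobenius_def, hs]
  refine (cr_ev (emb_of hirr (dual_ne hψ) hv (fun (a : Fin 6 × Fin 6) g => Q a.1 g * Q a.2 g ^ s) (fun x _ => ?_)
    (Subgroup.mem_top y) (fun a => μ a.1 * μ a.2 ^ s) fun a g _ => by simp only [h2]; ring)).trans ?_
  · obtain ⟨d, hd⟩ := h3 x
    refine ⟨fun a => d a.1 * d a.2 ^ s, fun g _ => ?_⟩
    have h4 := hc (g * x)⁻¹
    rw [inv_inv, hb, pow_add, mul_comm s, pow_mul, hd, hσ, map_sum, Finset.sum_mul_sum, ← Fintype.sum_prod_type'] at h4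
    rw [lin_apply]
    refine h4.trans (Finset.sum_congr rfl fun a _ => ?_)
    rw [← hσ]
    ring
  · refine (Finset.card_le_card_of_injOn (t := Finset.univ) Prod.snd (fun _ _ => Finset.mem_coe.2 (Finset.mem_univ _))
      fun a ha c hc e => ?_).trans_eq (by simp)
    have h6 : μ a.1 * μ a.2 ^ s = 1 := (Finset.mem_filter.1 ha).2
    have h7 : μ c.1 * μ c.2 ^ s = 1 := (Finset.mem_filter.1 hc).2
    rw [← e] at h7
    exact Prod.ext (h1 (mul_right_cancel₀ (right_ne_zero_of_mul_eq_one h6) (h6.trans h7.symm))) e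

end cr

end Cfsg.Agent.N2C.RD.U3
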