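import Cfsg.Agent.N2.Cl.RD.U45A
import Cfsg.Agent.N2.Cl.RD.Lin
import Cfsg.Agent.H929.UThreeSD

/-!
# N2 (S3519), defining characteristic, `U₄`, `U₅` (2): eigenfunctions and eigenvalues (helper82)

* `CR u c lam` : the right translates of `c` are combinations of eigenfunctions of `u`; `CR.ev`;
* `Eg` : a diagonalised matrix, `exists_eg` : elements of primitive prime order; `setup` : the bridge for a core.
-/

set_option autoImplicit false
set_option maxHeartbeats 400000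
set_option linter.unusedSectionVars false

namespace Cfsg.Agent.N2C.RD.U45

open Module Finset Matrix Cfsg.Agent.TwoF.DC Cfsg.Agent.TwoF.DC.TA Cfsg.Agent.TwoF.DC.TA.I Cfsg.Agent.H915.LD
open Cfsg.Agent.H356.TA (DA dlt ld_eq le_of_fin blk)
open Cfsg.Agent.H356.TU (SJ Jm Jm_Jm)
open Cfsg.Agent.H905.Md (acRep acRep_apply acRep_irr psu_cover exists_frob)
open Cfsg.Agent.H911 (lin lin_apply)
open Cfsg.Agent.N2C.Sz (ml ml_map ml_conj ml_transpose ml_inv ml_ne_zero)

section cr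

variable {k Y A B : Type} [Field k] [Group Y] [Fintype A] [Fintype B] {u : Y} {c c' : Y → k} {lam : A → k} {lam' : B → k}

/-- the right translates of `c` are combinations of eigenfunctions of `u` -/
def CR (u : Y) (c : Y → k) (lam : A → k) : Prop :=
  ∃ F : A → Y → k, (∀ y, ∃ d : A → k, ∀ g, c (g * y) = ∑ a, d a * F a g) ∧ ∀ a g, F a (g * u) = lam a * F a g

theorem CR.mul (h : CR u c lam) (h' : CR u c' lam') : CR u (fun g => c g * c' g) fun a : A × B => lam a.1 * lam' a.2 := by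
  obtain ⟨F, h1, h2⟩ := h
  obtain ⟨F', h3, h4⟩ := h'
  refine ⟨fun a g => F a.1 g * F' a.2 g, fun y => ?_, fun a g => by beta_reduce; rw [h2, h4, mul_mul_mul_comm]⟩
  obtain ⟨d, hd⟩ := h1 y
  obtain ⟨d', hd'⟩ := h3 y
  exact ⟨fun a => d a.1 * d' a.2, fun g => by
    beta_reduce
    rw [hd, hd', Finset.sum_mul_sum, Fintype.sum_prod_type]
    exact Finset.sum_congr rfl fun _ _ => Finset.sum_congr rfl fun _ _ => mul_mul_mul_comm _ _ _ _⟩

theorem CR.map (h : CR u c lam) (σ : k →+* k) : CR u (fun g => σ (c g)) fun a => σ (lam a) := by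
  obtain ⟨F, h1, h2⟩ := h
  refine ⟨fun a g => σ (F a g), fun y => ?_, fun a g => by beta_reduce; rw [h2, map_mul]⟩
  obtain ⟨d, hd⟩ := h1 y
  exact ⟨fun a => σ (d a), fun g => by simp only [hd, map_sum, map_mul]⟩

theorem CR.comp {Y' : Type} [Group Y'] (θ : Y' →* Y) {u : Y'} (h : CR (θ u) c lam) : CR u (fun g => c (θ g)) lam := by
  obtain ⟨F, h1, h2⟩ := h
  refine ⟨fun a g => F a (θ g), fun y => ?_, fun a g => by beta_reduce; rw [map_mul, h2]⟩
  obtain ⟨d, hd⟩ := h1 (θ y)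
  exact ⟨d, fun g => by beta_reduce; rw [map_mul, hd]⟩

theorem card_le {S : Finset (A × B)} (h : ∀ a b b', (a, b) ∈ S → (a, b') ∈ S → b = b') : S.card ≤ Fintype.card A := by
  refine Finset.card_le_card_of_injOn Prod.fst (fun _ _ => Finset.mem_univ _) ?_
  rintro ⟨a, b⟩ h1 ⟨a', b'⟩ h2 (rfl : a = a')
  rw [h a b b' h1 h2]

end cr

section eg

variable {p : ℕ} [hp : Fact p.Prime] {n : ℕ} {k : Type} [Field k] {u : SLn n k} {lam : Fin (n + 1) → k}

/-- a diagonalised matrix -/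
def Eg (u : SLn n k) (lam : Fin (n + 1) → k) : Prop :=
  ∃ C C' : Matrix (Fin (n + 1)) (Fin (n + 1)) k, C * C' = 1 ∧ u.1 * C = C * diagonal lam

/-- the eigenvalues on the exterior square -/
def l2 (lam : Fin (n + 1) → k) (a : Fin (n + 1) × Fin (n + 1)) : k := if a.1 < a.2 then lam a.1 * lam a.2 else 0

theorem Eg.th (h : Eg u lam) (ι : kˣ) : Eg (th1 ι u) fun i => (lam i)⁻¹ := by
  obtain ⟨C, C', h1, h2⟩ := h
  have h3 : ∀ i, lam i ≠ 0 := fun i e => by
    have h3 := congrArg det h2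
    have h4 := congrArg det h1
    rw [det_mul, det_mul, u.2, one_mul, det_diagonal, Finset.prod_eq_zero (Finset.mem_univ i) e, mul_zero] at h3
    rw [det_mul, h3, zero_mul, det_one] at h4
    exact zero_ne_one h4
  have h4 : C' * (u⁻¹).1 = diagonal (fun i => (lam i)⁻¹) * C' := by
    have h4 : diagonal (fun i => (lam i)⁻¹) * diagonal lam = 1 := by
      rw [diagonal_mul_diagonal, ← diagonal_one]
      exact congrArg diagonal (funext fun i => inv_mul_cancel₀ (h3 i))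
    calc C' * (u⁻¹).1 = diagonal (fun i => (lam i)⁻¹) * (C' * C) * diagonal lam * C' * (u⁻¹).1 := by
          rw [mul_eq_one_comm.1 h1, mul_one, h4, one_mul]
      _ = diagonal (fun i => (lam i)⁻¹) * C' * (C * diagonal lam * C') * (u⁻¹).1 := by simp only [mul_assoc]
      _ = _ := by rw [← h2, mul_assoc u.1, h1, mul_one, mul_assoc, val_mul_inv, mul_one]
  refine ⟨(dlt n ι).1 * C'ᵀ.submatrix Fin.revPerm (Equiv.refl _), Cᵀ.submatrix (Equiv.refl _) Fin.revPerm * (dlt n ι)⁻¹.1, ?_, ?_⟩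
  · rw [mul_assoc, ← mul_assoc (submatrix _ _ _), submatrix_mul_equiv, ← transpose_mul, h1, transpose_one,
      submatrix_one_equiv, one_mul, val_mul_inv]
  · rw [th1_apply, val_mul, val_mul, mul_assoc, ← mul_assoc (dlt n ι)⁻¹.1, val_inv_mul, one_mul, mul_assoc, mul_assoc]
    congr 1
    show (u⁻¹).1ᵀ.submatrix Fin.revPerm Fin.revPerm * _ = _
    rw [submatrix_mul_equiv, ← transpose_mul, h4, transpose_mul, diagonal_transpose]
    ext a b
    simp only [submatrix_apply, mul_diagonal]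
    rfl

theorem Eg.cr0 (h : Eg u lam) {i : Fin n} (hi : (i : ℕ) = 0) : CR u (DA i) lam := by
  obtain ⟨C, C', h1, h2⟩ := h
  refine ⟨fun a g => (g.1 * C) 0 a, fun y => ⟨fun a => (C' * y.1) a 0, fun g => ?_⟩, fun a g => by
    beta_reduce
    rw [val_mul, mul_assoc, h2, ← mul_assoc, mul_diagonal, mul_comm]⟩
  have h4 : (g * y).1 = g.1 * C * (C' * y.1) := by rw [val_mul, mul_assoc, ← mul_assoc C, h1, one_mul]
  rw [DA, hi, ld_eq (by omega), det_fin_one]
  show (g * y).1 0 0 = _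
  rw [h4, mul_apply]
  exact Finset.sum_congr rfl fun _ _ => mul_comm _ _

theorem sum_alt {m : ℕ} (x y z w : Fin m → k) : (∑ a, x a * z a) * (∑ a, y a * w a) - (∑ a, x a * w a) * ∑ a, y a * z a =
    ∑ a : Fin m × Fin m, (z a.1 * w a.2 - w a.1 * z a.2) * if a.1 < a.2 then x a.1 * y a.2 - x a.2 * y a.1 else 0 := by
  have h1 : ∀ a : Fin m × Fin m, x a.1 * z a.1 * (y a.2 * w a.2) - x a.1 * w a.1 * (y a.2 * z a.2) =
      (if a.1 < a.2 then (z a.1 * w a.2 - w a.1 * z a.2) * (x a.1 * y a.2) else 0) +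
        if a.2 < a.1 then (z a.1 * w a.2 - w a.1 * z a.2) * (x a.1 * y a.2) else 0 := fun a => by
    rcases lt_trichotomy a.1 a.2 with h | h | h
    · rw [if_pos h, if_neg h.not_gt]; ring
    · rw [h, if_neg (lt_irrefl _)]; ring
    · rw [if_neg h.not_gt, if_pos h]; ring
  rw [Finset.sum_mul_sum, Finset.sum_mul_sum, ← Fintype.sum_prod_type', ← Fintype.sum_prod_type', ← Finset.sum_sub_distrib,
    Finset.sum_congr rfl fun a _ => h1 a, Finset.sum_add_distrib, ← Equiv.sum_comp (Equiv.prodComm _ _)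
      fun a : Fin m × Fin m => if a.2 < a.1 then _ else _, ← Finset.sum_add_distrib]
  refine Finset.sum_congr rfl fun a _ => ?_
  simp only [Equiv.prodComm_apply, Prod.fst_swap, Prod.snd_swap]
  by_cases h : a.1 < a.2
  · simp only [h, if_true]; ring
  · simp only [h, if_false]; ring

theorem Eg.cr1 (h : Eg u lam) {i : Fin n} (hi : (i : ℕ) = 1) : CR u (DA i) (l2 lam) := by
  obtain ⟨C, C', h1, h2⟩ := h
  have h3 : ∀ (g : SLn n k) a b, ((g * u).1 * C) a b = lam b * (g.1 * C) a b := fun g a b => by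
    rw [val_mul, mul_assoc, h2, ← mul_assoc, mul_diagonal, mul_comm]
  refine ⟨fun a g => if a.1 < a.2 then (g.1 * C) 0 a.1 * (g.1 * C) i.castSucc a.2 - (g.1 * C) 0 a.2 * (g.1 * C) i.castSucc a.1 else 0,
    fun y => ⟨fun a => (C' * y.1) a.1 0 * (C' * y.1) a.2 i.castSucc - (C' * y.1) a.1 i.castSucc * (C' * y.1) a.2 0, fun g => ?_⟩,
    fun a g => ?_⟩
  · have h4 : (g * y).1 = g.1 * C * (C' * y.1) := by rw [val_mul, mul_assoc, ← mul_assoc C, h1, one_mul]
    have h5 : Fin.castLE (show 1 + 1 ≤ n + 1 by omega) 1 = i.castSucc := Fin.ext hi.symm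
    refine Eq.trans ?_ (sum_alt ((g.1 * C) 0) ((g.1 * C) i.castSucc) (fun a => (C' * y.1) a 0) fun a => (C' * y.1) a i.castSucc)
    rw [← mul_apply, ← mul_apply, ← mul_apply, ← mul_apply, ← h4, DA, hi, ld_eq (by omega), det_fin_two, ← h5]
    rfl
  · simp only [l2, h3]
    split_ifs <;> ring

theorem cr_rev [Infinite k] {ι : kˣ} (hι : (ι : k) ^ 2 = -1) {A : Type} [Fintype A] {μ : A → k} {i j : Fin n} (hj : j = i.rev)
    (h : CR (th1 ι u) (DA i) μ) : CR u (DA j) μ := by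
  have h1 : DA j = fun g : SLn n k => DA i (th1 ι g) := funext fun g =>
    (Δ_map (rdA 2 n k) T_le (γ := Fin.revPerm) (th1_x hι) (th1_y hι) j g).symm.trans (by rw [hj]; exact congrArg (DA · _) (Fin.rev_rev i))
  exact h1 ▸ h.comp (th1 ι)

theorem d_le1 [IsAlgClosed k] [CharP k p] (i : Fin n) : dd (rdA p n k) (Pi.single i 1) ≤ (n + 1).choose (i + 1) := by
  obtain ⟨C⟩ := boxHW p _ _ k _ (rdA p n k)
  refine IsA.d_single_le isA_RA (C.H _ (fun j => ?_) fun e => by simpa using congrFun e i) (C.lam _ _ _)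
  have := hp.out.one_lt
  rw [Pi.single_apply]
  split_ifs <;> omega

/-- **elements of primitive prime order** -/
theorem exists_eg [IsAlgClosed k] [CharP k p] {ι : kˣ} {f r : ℕ} [hr : Fact r.Prime] (hrp : r ≠ p) (hu : orderOf u = r)
    (h : th1 ι (mp (iterateFrobenius k p f) u) = u) (ho : orderOf (-((p ^ f : ℕ) : ZMod r)) = n + 1) :
    ∃ ψ : AddChar (ZMod r) k, (∀ a, ψ a = 1 → a = 0) ∧ Eg u fun i => ψ ((-((p ^ f : ℕ) : ZMod r)) ^ (i : ℕ)) := by
  have : NeZero (r : k) := ⟨fun e => hrp ((Nat.prime_dvd_prime_iff_eq hp.out hr.out).1 ((CharP.cast_eq_zero_iff k p r).1 e)).symm⟩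
  obtain ⟨ζ, hζ⟩ := HasEnoughRootsOfUnity.exists_primitiveRoot k r
  obtain ⟨b, hb, h1⟩ : ∃ b : Fin r, (b : ℕ) ≠ 0 ∧ ml u.1 (ζ ^ (b : ℕ)) ≠ 0 := by
    by_contra h0
    push Not at h0
    have h1 : toLinAlgEquiv' u.1 = 1 := Sz.ext_sp hζ hr.out.pos (T := toLinAlgEquiv' u.1) (by
      rw [← map_pow, show u.1 ^ r = (u ^ r).1 from rfl, ← hu, pow_orderOf_eq_one]
      exact map_one _) fun b v hv => by
        by_cases hb : (b : ℕ) = 0
        · rw [End.mem_eigenspace_iff.1 hv, hb, pow_zero, one_smul, End.one_apply]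
        · rw [Submodule.finrank_eq_zero.1 (h0 b hb), Submodule.mem_bot] at hv
          rw [hv, map_zero, map_zero]
    rw [show u = 1 from Subtype.ext (toLinAlgEquiv'.injective (h1.trans (map_one _).symm)), orderOf_one] at hu
    exact hr.out.ne_one hu.symm
  have h2 := hζ.pow_of_coprime b (Nat.coprime_comm.1 (hr.out.coprime_iff_not_dvd.2
    fun h0 => absurd (Nat.le_of_dvd (Nat.pos_of_ne_zero hb) h0) (not_le.2 b.2)))
  generalize ζ ^ (b : ℕ) = z at h1 h2
  let ψ := AddChar.zmodChar r h2.pow_eq_one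
  have hψ : ∀ a, ψ a = 1 → a = 0 := fun a =>
    ((AddChar.zmodChar_primitive_of_primitive_root r h2).zmod_char_eq_one_iff r a).1
  have step : ∀ a, ml u.1 (ψ (-((p ^ f : ℕ) : ZMod r) * a)) = ml u.1 (ψ a) := fun a => by
    have hJ : IsUnit (Jm k n) := IsUnit.of_mul_eq_one _ Jm_Jm
    rw [← ml_map (iterateFrobenius k p f) u.1 (ψ a), ← mp_val]
    generalize mp (iterateFrobenius k p f) u = w at h
    rw [← h, ← ml_conj (M := (th0 w).1) (IsUnit.of_mul_eq_one _ (val_mul_inv (dlt n ι))) (by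
        rw [th1_apply, ← val_mul, ← val_mul, inv_mul_cancel_right]),
      ← ml_conj (M := (w⁻¹).1ᵀ) hJ (by rw [th0_val, mul_assoc, Jm_Jm, mul_one]), ml_transpose]
    refine ml_inv (J := 1) (by simp) (by rw [mul_one, val_mul_inv]) ?_
    rw [iterateFrobenius_def, ← AddChar.map_nsmul_eq_pow, ← AddChar.map_add_eq_mul, nsmul_eq_mul, neg_mul, neg_add_cancel,
      AddChar.map_zero_eq_one]
  generalize -((p ^ f : ℕ) : ZMod r) = x at ho step ⊢
  have h3 : ∀ i : ℕ, ml u.1 (ψ (x ^ i)) ≠ 0 := fun i => by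
    induction i with
    | zero => rwa [pow_zero, show ψ 1 = z from (congrArg ψ Nat.cast_one.symm).trans ((AddChar.zmodChar_apply' _ 1).trans (pow_one z))]
    | succ i ih => rwa [pow_succ', step]
  choose v h4 h5 using fun i : Fin (n + 1) => ml_ne_zero.1 (h3 i)
  have h6 : IsUnit (Matrix.of v)ᵀ := linearIndependent_cols_iff_isUnit.1 (End.eigenvectors_linearIndependent' (toLin' u.1)
    (fun i : Fin (n + 1) => ψ (x ^ (i : ℕ))) (fun i j e => Fin.ext (pow_injOn_Iio_orderOf (by rw [ho]; exact i.2)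
      (by rw [ho]; exact j.2) (sub_eq_zero.1 (hψ _ (by
        rw [AddChar.map_sub_eq_div, show ψ (x ^ (i : ℕ)) = _ from e, div_self (AddChar.val_isUnit ψ _).ne_zero]))))) v
    fun i => ⟨End.mem_eigenspace_iff.2 ((toLin'_apply _ _).trans (h5 i)), h4 i⟩)
  refine ⟨ψ, hψ, (Matrix.of v)ᵀ, _, mul_nonsing_inv _ ((isUnit_iff_isUnit_det _).1 h6), ?_⟩
  ext a b
  rw [mul_diagonal, mul_comm]
  exact congrFun (h5 b) a

end eg

section core

variable {n l p a c : ℕ} [hp : Fact p.Prime] {K : Type} [Field K] [Fintype K] [CharP K p] {P : Subgroup (GL (Fin n) K)}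

variable (l a c P) in
/-- the data -/
structure Su {T : Type} [Group T] (φ : T →* SLn l (AlgebraicClosure K)) (ψ : T →* GL (Fin n) K) (ι : (AlgebraicClosure K)ˣ)
    (pat : ℕ → Fin l → ℕ) : Prop where
  core : Core P
  sq : (ι : AlgebraicClosure K) ^ 2 = -1
  range : ψ.range = P
  inj : Function.Injective φ
  fix : ∀ s, th1 ι (mp (iterateFrobenius _ p a) (φ s)) = φ s
  br : Br (rdA p l (AlgebraicClosure K)) Fin.rev φ (lin (acRep ψ)) a c pat

/-- **the bridge** -/
theorem setup (hC : Core P) (hK : Fintype.card K = p ^ c) {E : Type} [Field E] [Fintype E] [CharP E p]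
    (hE : Fintype.card E = (p ^ a) ^ 2) (ha : 0 < a) (hl : 3 ≤ l) (e : Soc P ≃* PSU (l + 1) E (p ^ a)) :
    ∃ (T : Type) (_ : Group T) (_ : Finite T) (φ : T →* SLn l (AlgebraicClosure K)) (ψ : T →* GL (Fin n) K)
      (ι : (AlgebraicClosure K)ˣ) (pat : ℕ → Fin l → ℕ), Su (p := p) l a c P φ ψ ι pat := by
  obtain ⟨j⟩ := H929.U3.exists_embed E (AlgebraicClosure K) p
  let _ := j.toAlgebra
  obtain ⟨M, ι, h1, h2, h3, h4, ⟨U⟩⟩ := exists_std (k := AlgebraicClosure K) ha hE hl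
  obtain ⟨ψ, h5, -⟩ := psu_cover p hC.perfect (by omega) hE (by omega) e
  have h6 : (ψ.comp U.symm.toMonoidHom).range = P := by
    rw [MonoidHom.range_comp, MonoidHom.range_eq_top.2 U.symm.surjective, ← MonoidHom.range_eq_map, h5]
  obtain ⟨C⟩ := boxHW p _ _ _ _ (rdA p l (AlgebraicClosure K))
  obtain ⟨ω, hω⟩ := exists_frob K p c
  have := hC.nonempty
  obtain ⟨pat, h7⟩ := br_of M (C := C) (ρ := lin (acRep (ψ.comp U.symm.toMonoidHom)))
    (fun b => ⟨fun _ => 1, fun _ => hp.out.one_lt, fun e => one_ne_zero (congrFun e ⟨0, by omega⟩), IsA.E_ne isA_RA _ _⟩)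
    (acRep_irr h6 (H920.span_eq_top hC.absIrred) rfl) ω hω (ω.symm.toAddMonoidHom.compLeft _)
    (fun v => ⟨ω ∘ v, funext fun i => ω.symm_apply_apply _⟩) (fun x v => funext fun i => map_mul ω.symm _ _) fun t v => by
      have h7 : (acRep (ψ.comp U.symm.toMonoidHom) t).map ω.symm.toRingHom = acRep (ψ.comp U.symm.toMonoidHom) t := by
        ext x y
        rw [acRep_apply, map_apply, map_apply]
        exact ω.symm_apply_eq.2 (by rw [hω, ← map_pow, ← hK, FiniteField.pow_card])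
      funext i
      refine (congrArg ω.symm (congrFun (lin_apply _ _ _) i)).trans ((RingHom.map_mulVec ω.symm.toRingHom _ _ i).trans ?_)
      rw [h7, lin_apply]
      rfl
  rw [h2, h3] at h7
  exact ⟨_, _, inferInstance, M.φ, _, ι, pat, hC, h1, h6, M.φ_inj, h4, h7⟩

namespace Su

variable {T : Type} [Group T] [Finite T] {φ : T →* SLn l (AlgebraicClosure K)} {ψ : T →* GL (Fin n) K}
  {ι : (AlgebraicClosure K)ˣ} {pat : ℕ → Fin l → ℕ} (X : Su (p := p) l a c P φ ψ ι pat)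
include X

theorem two : 2 ≤ finrank (AlgebraicClosure K) (Fin n → AlgebraicClosure K) := by simpa using X.core.two_le

theorem big {d e j : ℕ} (h0 : 0 < d) (hd : ∀ x, pat x ≠ 0 → d ≤ dd (rdA p l (AlgebraicClosure K)) (pat x)) (hf : a = e * j)
    (he : ∀ x, pat (x + e) = 0 ↔ pat x = 0) : d ^ j ≤ n := by simpa using X.br.big X.two h0 hd hf he

/-- one factor; `u` has order `r` and few fixed vectors -/
theorem one {d : ℕ} (h0 : 0 < d) (hd : ∀ x, pat x ≠ 0 → d ≤ dd (rdA p l (AlgebraicClosure K)) (pat x)) (h1 : n < d ^ 2) :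
    ∃ x, pat x ≠ 0 ∧ n = dd (rdA p l (AlgebraicClosure K)) (pat x) ∧ ∀ (r : ℕ) [Fact r.Prime], r ≠ p → r ∣ Nat.card (Soc P) →
      orderOf (-((p ^ a : ℕ) : ZMod r)) = l + 1 → ∀ m < n,
      (∀ (u : SLn l (AlgebraicClosure K)) (χ : AddChar (ZMod r) (AlgebraicClosure K)), (∀ z, χ z = 1 → z = 0) →
        (Eg u fun i => χ ((-((p ^ a : ℕ) : ZMod r)) ^ (i : ℕ))) → ∃ (A : Type) (_ : Fintype A) (μ : A → AlgebraicClosure K)
          (S : Finset A), CR u (fun g => ∏ i, DA i g ^ pat x i) μ ∧ (∀ z, μ z = 1 → z ∈ S) ∧ S.card ≤ m) →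
      ∃ u : P, orderOf u = r ∧ ev (u : GL (Fin n) K) 1 ≤ m := by
  classical
  obtain ⟨x, h2, h3, v, χ, h4, h5⟩ := X.br.one X.two h0 hd (by simpa using h1)
  refine ⟨x, h2, by simpa using h3, fun r hr hrp h6 h7 m hm h8 => ?_⟩
  obtain ⟨y, hy⟩ := exists_prime_orderOf_dvd_card' (G := T) r (h6.trans ((Subgroup.card_quotient_dvd_card _).trans
    (X.range ▸ Subgroup.card_range_dvd ψ)))
  obtain ⟨χ', h9, h10⟩ := exists_eg hrp ((orderOf_injective φ X.inj y).trans hy) (X.fix y) h7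
  obtain ⟨A, _, μ, S, h11, h12, h13⟩ := h8 _ _ h9 h10
  obtain ⟨F, h14, h15⟩ := (h11.map (iterateFrobenius _ p x)).comp φ
  have h16 : ev (ψ y) 1 ≤ m := (cr_ev (emb_of (G := ⊤) (acRep_irr X.range (H920.span_eq_top X.core.absIrred) rfl) (ψ := χ)
    (fun e => by simp [e] at h4) (v := v) (fun e => by simp [e] at h4) F (fun y _ => (h14 y).imp fun _ h g _ => (h5 _).trans (h g))
    (Subgroup.mem_top y) _ fun a g _ => h15 a g)).trans ((Finset.card_le_card fun z hz => h12 z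
      ((iterateFrobenius _ p x).injective ((Finset.mem_filter.1 hz).2.trans (map_one _).symm))).trans h13)
  refine ⟨⟨ψ y, X.range.le ⟨y, rfl⟩⟩, orderOf_eq_prime (Subtype.ext ?_) fun e => ?_, h16⟩
  · rw [SubmonoidClass.coe_pow, ← map_pow, ← hy, pow_orderOf_eq_one, map_one, OneMemClass.coe_one]
  · rw [show ψ y = 1 from congrArg Subtype.val e, ev, Units.val_one, toLin'_one, (Submodule.eq_top_iff'.2 fun v =>
      End.mem_eigenspace_iff.2 (one_smul _ _).symm : End.eigenspace (LinearMap.id : End K (Fin n → K)) (1 : K) = ⊤), finrank_top, finrank_fin_fun] at h16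
    omega

end Su

end core

end Cfsg.Agent.N2C.RD.U45
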