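import Cfsg.Agent.N2.Cl.RD.U45B

/-!
# N2 (S3519), defining characteristic, `U₄`, `U₅` (3): small weights and their fixed spaces (helper82)

* `cls` : the restricted weights of small degree;
* `Few` : the eigenvalue `1` is rare; `few4U`, `few4S`, `few4T`, `few5U`, `few5S`.
-/

set_option autoImplicit false
set_option maxHeartbeats 400000
set_option linter.unusedSectionVars false

namespace Cfsg.Agent.N2C.RD.U45

open Module Finset Matrix Cfsg.Agent.TwoF.DC Cfsg.Agent.TwoF.DC.TA Cfsg.Agent.TwoF.DC.TA.I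
open Cfsg.Agent.H356.TA (DA)

section wt

variable {n : ℕ}

/-- a weight with support `s` -/
def wv (s : Fin n → Bool) : Fin (n + 1) → ℤ := fun i => ∑ j : Fin n, if i ≤ j.castSucc ∧ s j then 1 else 0

theorem tw_wv {s : Fin n → Bool} {i : Fin n} (h : s i = false) : tw (wv s) i = 0 :=
  sub_eq_zero.2 (Finset.sum_congr rfl fun j _ => if_congr (and_congr_left fun h1 => by
    have h2 : (j : ℕ) ≠ i := fun e => by rw [Fin.ext e, h] at h1; cases h1
    simp only [Fin.le_def, Fin.val_castSucc, Fin.val_succ]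
    omega) rfl rfl)

def ix (s : Fin n → Bool) : ℕ := ∑ j : Fin n, if s j then 2 ^ (j : ℕ) else 0

/-- a lower bound for the degree -/
def lo (t : List ℕ) (l : Fin n → ℕ) : ℕ := t.getD (ix fun i => l i != 0) 0 +
  univ.sup fun j => if 2 ≤ l j then t.getD (ix fun i => (l i : ℤ) != CA i j) 0 else 0

def t3 : List ℕ := [1, 4, 6, 12, 4, 12, 12, 24]
def t4 : List ℕ := [1, 5, 10, 20, 10, 30, 30, 60, 5, 20, 30, 60, 20, 60, 60, 120]

theorem tab3 : ∀ s : Fin 3 → Bool, t3.getD (ix s) 0 ≤ (oc (wv s)).card := by decide +kernel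
theorem tab4 : ∀ s : Fin 4 → Bool, t4.getD (ix s) 0 ≤ (oc (wv s)).card := by decide +kernel

/-- the check -/
def Ck (t : List ℕ) (sy : Bool) (B : ℕ) (L : List (Fin n → ℕ)) : Prop := ∀ v : Fin n → Fin 4, lo t (fun i => (v i : ℕ)) ≤ B →
  (sy = true → ∀ i, v i.rev = v i) → (∀ i, v i ≠ 3) ∧ ((∀ i, v i = 0) ∨ (fun i => (v i : ℕ)) ∈ L)

instance (t : List ℕ) (sy : Bool) (B : ℕ) (L : List (Fin n → ℕ)) : Decidable (Ck t sy B L) := by unfold Ck; infer_instance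

variable {p : ℕ} [hp : Fact p.Prime] {k : Type} [Field k] [IsAlgClosed k] [CharP k p] {t : List ℕ} {l : Fin n → ℕ}

theorem lo_le (ht : ∀ s : Fin n → Bool, t.getD (ix s) 0 ≤ (oc (wv s)).card) (hl : ∀ i, l i < p) (h0 : l ≠ 0) :
    lo t l ≤ dd (rdA p n k) l := by
  have h1 : ∀ i, l i = 0 → tw (wv fun i => l i != 0) i = 0 := fun i h => tw_wv (by simp [h])
  have h2 := (ht _).trans (d_ge1 (k := k) hl h0 _ h1)
  rw [lo, ← Nat.le_sub_iff_add_le' h2, Finset.sup_le_iff]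
  intro j _
  split_ifs with h3
  · exact Nat.le_sub_of_add_le' ((Nat.add_le_add (ht _) (ht _)).trans (d_ge2 hl h0 _ _ j h3 h1 fun i h => tw_wv (by simp [h])))
  · exact Nat.zero_le _

/-- **weights of small degree** -/
theorem cls (ht : ∀ s : Fin n → Bool, t.getD (ix s) 0 ≤ (oc (wv s)).card) (hl : ∀ i, l i < p) (h0 : l ≠ 0) {sy : Bool} {B : ℕ}
    {L : List (Fin n → ℕ)} (h : Ck t sy B L) (hB : dd (rdA p n k) l ≤ B) (hs : sy = true → ∀ i, l i.rev = l i) : l ∈ L := by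
  have h1 : lo t (fun i => min (l i) 3) = lo t l := by
    unfold lo
    congr 3
    · funext i
      rw [Bool.eq_iff_iff]
      simp only [bne_iff_ne]
      omega
    · funext j
      refine if_congr (by beta_reduce; omega) (congrArg (fun s => t.getD (ix s) 0) (funext fun i => ?_)) rfl
      rw [Bool.eq_iff_iff, CA]
      simp only [bne_iff_ne]
      split_ifs <;> omega
  obtain ⟨h2, h3⟩ := h (fun i => ⟨min (l i) 3, by omega⟩) (h1.le.trans ((lo_le ht hl h0).trans hB))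
    fun e i => Fin.ext (congrArg (min · 3) (hs e i))
  have h4 : ∀ i, min (l i) 3 = l i := fun i => by
    have h4 : min (l i) 3 ≠ 3 := fun e => h2 i (Fin.ext e)
    omega
  exact (funext h4 : (fun i => min (l i) 3) = l) ▸ h3.resolve_left fun e => h0 (funext fun i => (h4 i).symm.trans (congrArg Fin.val (e i)))

end wt

section few

variable {n r : ℕ} [hr : Fact r.Prime] {k : Type} [Field k] [Infinite k]

/-- the eigenvalue `1` occurs at most `m` times -/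
def Fw (u : SLn n k) (c : SLn n k → k) (m : ℕ) : Prop :=
  ∃ (A : Type) (_ : Fintype A) (μ : A → k) (S : Finset A), CR u c μ ∧ (∀ z, μ z = 1 → z ∈ S) ∧ S.card ≤ m

variable (k) in
/-- the same for all elements of primitive order -/
def Few (x : ZMod r) (l : Fin n → ℕ) (m : ℕ) : Prop := ∀ (u : SLn n k) (χ : AddChar (ZMod r) k), (∀ z, χ z = 1 → z = 0) →
  (Eg u fun i => χ (x ^ (i : ℕ))) → Fw u (fun g => ∏ i, DA i g ^ l i) m

variable {u : SLn n k} {c c' : SLn n k → k} {A : Type} [Fintype A] {μ μ' : A → k}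

theorem fw_mul (h : CR u c μ) (h' : CR u c' μ') (hi : Function.Injective μ') : Fw u (fun g => c g * c' g) (Fintype.card A) := by
  classical
  refine ⟨_, _, _, univ.filter fun z : A × A => μ z.1 * μ' z.2 = 1, h.mul h', fun z hz => Finset.mem_filter.2 ⟨mem_univ _, hz⟩,
    card_le fun a b b' h1 h2 => hi ?_⟩
  have h3 := (Finset.mem_filter.1 h1).2
  exact mul_left_cancel₀ (left_ne_zero_of_mul_eq_one h3) (h3.trans (Finset.mem_filter.1 h2).2.symm)

theorem fw_zero (h : CR u c μ) (h1 : ∀ z, μ z ≠ 1) : Fw u c 0 := ⟨_, _, _, ∅, h, fun z hz => (h1 z hz).elim, le_rfl⟩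

variable {x : ZMod r} {χ : AddChar (ZMod r) k} {ι : kˣ}

theorem inj_of (ho : orderOf x = n + 1) (hχ : ∀ z, χ z = 1 → z = 0) : Function.Injective fun i : Fin (n + 1) => χ (x ^ (i : ℕ)) :=
  fun i j e => Fin.ext (pow_injOn_Iio_orderOf (by rw [ho]; exact i.2) (by rw [ho]; exact j.2) (sub_eq_zero.1 (hχ _ (by
    rw [AddChar.map_sub_eq_div, show χ (x ^ (i : ℕ)) = _ from e, div_self (AddChar.val_isUnit χ _).ne_zero]))))

theorem two_ne (h2 : 2 < r) : (2 : ZMod r) ≠ 0 := fun e =>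
  absurd (Nat.le_of_dvd two_pos ((ZMod.natCast_eq_zero_iff 2 r).1 e)) (by omega)

theorem few4U (hι : (ι : k) ^ 2 = -1) (ho : orderOf x = 4) {l : Fin 3 → ℕ} (h : l = ![2, 0, 0] ∨ l = ![0, 0, 2]) : Few k x l 4 := by
  intro u χ hχ E
  have h1 := cr_rev hι (i := 0) (j := 2) rfl ((E.th ι).cr0 rfl)
  rcases h with rfl | rfl
  · simpa [Fin.prod_univ_succ, sq] using fw_mul (E.cr0 (i := 0) rfl) (E.cr0 (i := 0) rfl) (inj_of ho hχ)
  · simpa [Fin.prod_univ_succ, sq] using fw_mul h1 h1 (inv_injective.comp (inj_of ho hχ))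

theorem few4S (hι : (ι : k) ^ 2 = -1) (ho : orderOf x = 4) : Few k x ![1, 0, 1] 4 := fun u χ hχ E => by
  simpa [Fin.prod_univ_succ] using fw_mul (E.cr0 (i := 0) rfl) (cr_rev hι (i := 0) (j := 2) rfl ((E.th ι).cr0 rfl))
    (inv_injective.comp (inj_of ho hχ))

theorem few5S (hι : (ι : k) ^ 2 = -1) (ho : orderOf x = 5) : Few k x ![1, 0, 0, 1] 5 := fun u χ hχ E => by
  simpa [Fin.prod_univ_succ] using fw_mul (E.cr0 (i := 0) rfl) (cr_rev hι (i := 0) (j := 3) rfl ((E.th ι).cr0 rfl))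
    (inv_injective.comp (inj_of ho hχ))

/-- real and imaginary parts of sums of four powers of `i` -/
def ga (g : Fin 4 → ℤ) (z : (Fin 4 × Fin 4) × Fin 4 × Fin 4) : ℤ := g z.1.1 + g z.1.2 + g z.2.1 + g z.2.2

def gn (z : (Fin 4 × Fin 4) × Fin 4 × Fin 4) : ℤ := ga ![1, 0, -1, 0] z ^ 2 + ga ![0, 1, 0, -1] z ^ 2

theorem few4T (h2 : 2 < r) (ho : orderOf x = 4) : Few k x ![0, 2, 0] 8 := fun u χ hχ E => by
  have h1 : x ^ 2 = -1 := by
    refine (mul_self_eq_one_iff.1 ((pow_add x 2 2).symm.trans (show x ^ 4 = 1 from ho ▸ pow_orderOf_eq_one x))).resolve_left fun h => ?_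
    exact absurd (ho ▸ orderOf_dvd_of_pow_eq_one h) (by norm_num)
  have h3 : ∀ i : Fin 4, x ^ (i : ℕ) = (![1, 0, -1, 0] i : ℤ) + (![0, 1, 0, -1] i : ℤ) * x := fun i => by
    fin_cases i <;> simp [pow_succ x 2, h1]
  refine ⟨_, _, _, univ.filter fun z => z.1.1 < z.1.2 ∧ z.2.1 < z.2.2 ∧ gn z = 0,
    by simpa [Fin.prod_univ_succ, sq] using (E.cr1 (i := 1) rfl).mul (E.cr1 (i := 1) rfl), fun z hz => ?_, by decide +kernel⟩
  simp only [l2] at hz
  split_ifs at hz with h4 h5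
  · rw [← AddChar.map_add_eq_mul, ← AddChar.map_add_eq_mul, ← AddChar.map_add_eq_mul, h3, h3, h3, h3] at hz
    have h6 : ((gn z : ℤ) : ZMod r) = 0 := by
      have h6 := hχ _ hz
      simp only [gn, ga]
      push_cast
      generalize ((![1, 0, -1, 0] z.1.1 : ℤ) : ZMod r) = a1, ((![1, 0, -1, 0] z.1.2 : ℤ) : ZMod r) = a2,
        ((![1, 0, -1, 0] z.2.1 : ℤ) : ZMod r) = a3, ((![1, 0, -1, 0] z.2.2 : ℤ) : ZMod r) = a4,
        ((![0, 1, 0, -1] z.1.1 : ℤ) : ZMod r) = b1, ((![0, 1, 0, -1] z.1.2 : ℤ) : ZMod r) = b2,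
        ((![0, 1, 0, -1] z.2.1 : ℤ) : ZMod r) = b3, ((![0, 1, 0, -1] z.2.2 : ℤ) : ZMod r) = b4 at h6 ⊢
      linear_combination (a1 + a2 + a3 + a4 - (b1 + b2 + b3 + b4) * x) * h6 + (b1 + b2 + b3 + b4) ^ 2 * h1
    refine Finset.mem_filter.2 ⟨mem_univ _, h4, h5, ((by decide +kernel : ∀ z : (Fin 4 × Fin 4) × Fin 4 × Fin 4, z.1.1 < z.1.2 →
      z.2.1 < z.2.2 → gn z = 0 ∨ gn z ∣ 2 ^ 3) z h4 h5).resolve_right fun h7 => ?_⟩
    obtain ⟨w, h7⟩ := h7
    have h8 := congrArg (Int.cast : ℤ → ZMod r) h7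
    rw [Int.cast_mul, h6, zero_mul, Int.cast_pow, Int.cast_ofNat] at h8
    exact pow_ne_zero 3 (two_ne h2) h8
  all_goals simp at hz

theorem few5U (hι : (ι : k) ^ 2 = -1) (h2 : 2 < r) (ho : orderOf x = 5) {l : Fin 4 → ℕ}
    (h : l = ![2, 0, 0, 0] ∨ l = ![0, 0, 0, 2] ∨ l = ![0, 1, 0, 0] ∨ l = ![0, 0, 1, 0]) : Few k x l 0 := by
  intro u χ hχ E
  have h1 : ∀ a b : Fin 5, χ (x ^ (a : ℕ)) * χ (x ^ (b : ℕ)) ≠ 1 := fun a b e => by
    have h1 := congrArg (· ^ 5) (eq_neg_of_add_eq_zero_left (hχ _ ((AddChar.map_add_eq_mul _ _ _).trans e)))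
    simp only [Odd.neg_pow (show Odd 5 by decide), ← pow_mul, mul_comm _ 5] at h1
    simp only [pow_mul, show x ^ 5 = 1 from ho ▸ pow_orderOf_eq_one x, one_pow] at h1
    exact two_ne h2 (by linear_combination h1)
  have h3 : ∀ a b : Fin 5, (χ (x ^ (a : ℕ)))⁻¹ * (χ (x ^ (b : ℕ)))⁻¹ ≠ 1 := fun a b e =>
    h1 a b (by rwa [← mul_inv, inv_eq_one] at e)
  have h4 : ∀ lam : Fin 5 → k, (∀ a b, lam a * lam b ≠ 1) → ∀ z, l2 lam z ≠ 1 := fun lam h z => by
    rw [l2]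
    split_ifs
    exacts [h _ _, zero_ne_one]
  have h5 := cr_rev hι (i := 0) (j := 3) rfl ((E.th ι).cr0 rfl)
  rcases h with rfl | rfl | rfl | rfl
  · simpa [Fin.prod_univ_succ, sq] using fw_zero ((E.cr0 (i := 0) rfl).mul (E.cr0 (i := 0) rfl)) fun z => h1 _ _
  · simpa [Fin.prod_univ_succ, sq] using fw_zero (h5.mul h5) fun z => h3 _ _
  · simpa [Fin.prod_univ_succ] using fw_zero (E.cr1 (i := 1) rfl) (h4 _ h1)
  · simpa [Fin.prod_univ_succ] using fw_zero (cr_rev hι (i := 1) (j := 2) rfl ((E.th ι).cr1 rfl)) (h4 _ h3)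

end few

end Cfsg.Agent.N2C.RD.U45
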