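import Cfsg.Agent.N2.Cl.RD.Defs
import Mathlib.LinearAlgebra.LinearIndependent.BaseChange

/-!
# N2 (S3519), defining characteristic: the commutant of an endomorphism with few generators (helper69)

* `Gn a S U` : `U` is contained in the `k[a]`-module generated by `S`;
* `eig_le` : the eigenspaces have dimension at most `dim S + codim U`;
* **`Cm_le`** : `dim C(a) ≤ dim S * n + codim U * g` if `g` bounds the dimensions of the eigenspaces;
* `dm_le_Cm`, `ev_le_eig` : extension of the field.
-/

set_option autoImplicit false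

namespace Cfsg.Agent.N2C.RD.WL

open Module

section lin

variable {k V : Type*} [Field k] [AddCommGroup V] [Module k V]

/-- the commutant -/
def Cm (a : Module.End k V) : Submodule k (Module.End k V) where
  carrier := {x | ∀ v, x (a v) = a (x v)}
  zero_mem' := fun v => by simp
  add_mem' := fun {x y} hx hy v => by rw [LinearMap.add_apply, LinearMap.add_apply, map_add, hx v, hy v]
  smul_mem' := fun c x hx v => by rw [LinearMap.smul_apply, LinearMap.smul_apply, map_smul, hx v]

/-- the endomorphisms which kill `U` -/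
def Kl (U : Submodule k V) : Submodule k (Module.End k V) where
  carrier := {x | ∀ v ∈ U, x v = 0}
  zero_mem' := fun _ _ => rfl
  add_mem' := fun {x y} hx hy v hv => by rw [LinearMap.add_apply, hx v hv, hy v hv, add_zero]
  smul_mem' := fun c x hx v hv => by rw [LinearMap.smul_apply, hx v hv, smul_zero]

/-- `U ≤ k[a] S` -/
def Gn (a : Module.End k V) (S U : Submodule k V) : Prop := ∀ L : Submodule k V, S ≤ L → (∀ v ∈ L, a v ∈ L) → U ≤ L

variable [FiniteDimensional k V] {a : Module.End k V}

theorem eig_le {S U : Submodule k V} (h : Gn a S U) (z : k) :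
    finrank k (a.eigenspace z) + finrank k U ≤ finrank k V + finrank k S := by
  have h1 : U ≤ S ⊔ LinearMap.range (a - z • 1) := by
    refine h _ le_sup_left fun v hv => ?_
    have e : a v = (a - z • 1 : Module.End k V) v + z • v := by simp
    rw [e]
    exact add_mem (Submodule.mem_sup_right ⟨v, rfl⟩) (Submodule.smul_mem _ _ hv)
  have h2 := Submodule.finrank_mono h1
  have h3 := Submodule.finrank_add_le_finrank_add_finrank S (LinearMap.range (a - z • 1))
  have h4 := LinearMap.finrank_range_add_finrank_ker (a - z • 1)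
  rw [Module.End.eigenspace_def]
  omega

theorem finrank_le_of_map {N N' : Type*} [AddCommGroup N] [Module k N] [AddCommGroup N'] [Module k N'] [FiniteDimensional k N]
    [FiniteDimensional k N'] {C K : Submodule k N} (f : N →ₗ[k] N') {E : Submodule k N'} (h1 : ∀ x ∈ C, f x ∈ E)
    (h2 : ∀ x ∈ C, f x = 0 → x ∈ K) : finrank k C ≤ finrank k E + finrank k K := by
  have h3 := LinearMap.finrank_range_add_finrank_ker (f.domRestrict C)
  have h4 : finrank k (LinearMap.range (f.domRestrict C)) ≤ finrank k E :=
    Submodule.finrank_mono (by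
      rintro _ ⟨x, rfl⟩
      exact h1 x x.2)
  have h5 : finrank k (LinearMap.ker (f.domRestrict C)) ≤ finrank k K := by
    rw [← Submodule.finrank_map_subtype_eq]
    refine Submodule.finrank_mono ?_
    rintro _ ⟨x, hx, rfl⟩
    exact h2 x x.2 hx
  omega

theorem kill_le [IsAlgClosed k] {g : ℕ} (hg : ∀ z, finrank k (a.eigenspace z) ≤ g) (r : ℕ) :
    ∀ U : Submodule k V, (∀ v ∈ U, a v ∈ U) → finrank k U + r = finrank k V →
      finrank k (Cm a ⊓ Kl U : Submodule k (Module.End k V)) ≤ r * g := by
  induction r with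
  | zero =>
    intro U _ h
    have h1 : U = ⊤ := Submodule.eq_top_of_finrank_eq (by omega)
    have h2 : (Cm a ⊓ Kl U : Submodule k (Module.End k V)) = ⊥ := by
      rw [eq_bot_iff]
      intro x hx
      rw [Submodule.mem_bot]
      ext v
      exact hx.2 v (by rw [h1]; trivial)
    rw [h2, finrank_bot, zero_mul]
  | succ r ih =>
    intro U hU h
    have hne : U ≠ ⊤ := by
      rintro rfl
      rw [finrank_top] at h
      omega
    have hnt : Nontrivial (V ⧸ U) := Submodule.Quotient.nontrivial_iff.2 hne
    obtain ⟨z, hz⟩ := Module.End.exists_eigenvalue (U.mapQ U a hU : Module.End k (V ⧸ U))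
    obtain ⟨w, hw⟩ := hz.exists_hasEigenvector
    obtain ⟨u, rfl⟩ := U.mkQ_surjective w
    have hu : u ∉ U := fun h1 => hw.2 ((Submodule.Quotient.mk_eq_zero U).2 h1)
    have hau : a u - z • u ∈ U := by
      have h1 := Module.End.mem_eigenspace_iff.1 hw.1
      rw [← Submodule.Quotient.eq]
      exact h1
    have h1 := ih (U ⊔ Submodule.span k {u}) (by
      intro v hv
      obtain ⟨x, hx, y, hy, rfl⟩ := Submodule.mem_sup.1 hv
      obtain ⟨c, rfl⟩ := Submodule.mem_span_singleton.1 hy
      have e : a (x + c • u) = (a x + c • (a u - z • u)) + (c * z) • u := by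
        rw [map_add, map_smul, smul_sub, mul_smul]
        abel
      rw [e]
      exact Submodule.add_mem_sup (add_mem (hU x hx) (Submodule.smul_mem _ _ hau))
        (Submodule.smul_mem _ _ (Submodule.mem_span_singleton_self u))) (by
      have h2 := Submodule.finrank_sup_add_finrank_inf_eq U (Submodule.span k {u})
      rw [(Submodule.disjoint_span_singleton_of_notMem hu).eq_bot, finrank_bot,
        finrank_span_singleton (fun h3 => hu (by rw [h3]; exact zero_mem _))] at h2
      omega)
    have h2 := finrank_le_of_map (C := Cm a ⊓ Kl U) (K := Cm a ⊓ Kl (U ⊔ Submodule.span k {u}))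
      (LinearMap.applyₗ u : Module.End k V →ₗ[k] V) (E := a.eigenspace z) (by
        intro x hx
        rw [Module.End.mem_eigenspace_iff, LinearMap.applyₗ_apply_apply, ← hx.1 u, ← map_smul, ← sub_eq_zero, ← map_sub]
        exact hx.2 _ hau) (by
        intro x hx h0
        refine ⟨hx.1, fun v hv => ?_⟩
        obtain ⟨x', hx', y, hy, rfl⟩ := Submodule.mem_sup.1 hv
        obtain ⟨c, rfl⟩ := Submodule.mem_span_singleton.1 hy
        rw [LinearMap.applyₗ_apply_apply] at h0
        rw [map_add, map_smul, h0, hx.2 _ hx', smul_zero, add_zero])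
    have h3 := hg z
    rw [add_mul, one_mul]
    omega

/-- **the commutant** -/
theorem Cm_le [IsAlgClosed k] {S U : Submodule k V} (h : Gn a S U) {g : ℕ} (hg : ∀ z, finrank k (a.eigenspace z) ≤ g) :
    finrank k (Cm a) ≤ finrank k S * finrank k V + (finrank k V - finrank k U) * g := by
  let U' : Submodule k V := sInf {L | S ≤ L ∧ ∀ v ∈ L, a v ∈ L}
  have h1 : U ≤ U' := le_sInf fun L hL => h L hL.1 hL.2
  have h2 : ∀ v ∈ U', a v ∈ U' := fun v hv =>
    Submodule.mem_sInf.2 fun L hL => hL.2 v (Submodule.mem_sInf.1 hv L hL)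
  have h3 := Submodule.finrank_le U'
  have h4 := kill_le hg (finrank k V - finrank k U') U' h2 (by omega)
  have h5 := finrank_le_of_map (C := Cm a) (K := Cm a ⊓ Kl U') (LinearMap.lcomp k V S.subtype) (E := ⊤)
    (fun _ _ => trivial) (by
      intro x hx h0
      refine ⟨hx, fun v hv => ?_⟩
      refine Submodule.mem_sInf.1 hv (LinearMap.ker x) ⟨fun s hs => ?_, fun w hw => ?_⟩
      · exact LinearMap.congr_fun h0 ⟨s, hs⟩
      · rw [LinearMap.mem_ker] at hw ⊢
        rw [hx w, hw, map_zero])
  rw [finrank_top, Module.finrank_linearMap] at h5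
  have h6 := Submodule.finrank_mono h1
  have h7 : (finrank k V - finrank k U') * g ≤ (finrank k V - finrank k U) * g := Nat.mul_le_mul_right _ (by omega)
  omega

end lin

section ext

variable {n : ℕ} {K : Type} [Field K] (k : Type*) [Field k] [Algebra K k]

theorem finrank_le_ext {ι : Type*} [Fintype ι] {N : Type*} [AddCommGroup N] [Module K N] [FiniteDimensional K N]
    (f : N →ₗ[K] (ι → K)) (hf : Function.Injective f) {N' : Type*} [AddCommGroup N'] [Module k N'] [FiniteDimensional k N']
    (f' : N' →ₗ[k] (ι → k)) (h : ∀ x, ∃ y, f' y = algebraMap K k ∘ f x) : finrank K N ≤ finrank k N' := by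
  let b := Module.finBasis K N
  choose y hy using h
  have h1 : LinearIndependent K (f ∘ b) := b.linearIndependent.map' f (LinearMap.ker_eq_bot.2 hf)
  have h2 : LinearIndependent k fun i => algebraMap K k ∘ (f ∘ b) i := linearIndependent_algebraMap_comp_iff.2 h1
  have h3 : LinearIndependent k (f' ∘ fun i => y (b i)) := by
    have e : (f' ∘ fun i => y (b i)) = fun i => algebraMap K k ∘ (f ∘ b) i := funext fun i => hy (b i)
    rwa [e]
  have h4 := (LinearIndependent.of_comp f' h3).fintype_card_le_finrank
  rwa [Fintype.card_fin] at h4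

theorem ev_le_eig (u : GL (Fin n) K) (z : K) :
    ev u z ≤ finrank k (Module.End.eigenspace
      (Matrix.toLin' ((u : Matrix (Fin n) (Fin n) K).map (algebraMap K k))) (algebraMap K k z)) := by
  refine finrank_le_ext k (Submodule.subtype _) Subtype.val_injective (Submodule.subtype _) fun x => ⟨⟨algebraMap K k ∘ x, ?_⟩, rfl⟩
  have h1 := Module.End.mem_eigenspace_iff.1 x.2
  rw [Matrix.toLin'_apply] at h1
  rw [Module.End.mem_eigenspace_iff, Matrix.toLin'_apply]
  funext i
  rw [← RingHom.map_mulVec, h1]
  simp

theorem dm_le_Cm (u : GL (Fin n) K) :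
    dm u ≤ finrank k (Cm (Matrix.toLin' ((u : Matrix (Fin n) (Fin n) K).map (algebraMap K k)))) := by
  let f : Subalgebra.centralizer K {(u : Matrix (Fin n) (Fin n) K)} →ₗ[K] (Fin n × Fin n → K) :=
    { toFun := fun x ij => x.1 ij.1 ij.2
      map_add' := fun _ _ => rfl
      map_smul' := fun _ _ => rfl }
  let f' : Cm (Matrix.toLin' ((u : Matrix (Fin n) (Fin n) K).map (algebraMap K k))) →ₗ[k] (Fin n × Fin n → k) :=
    { toFun := fun x ij => LinearMap.toMatrix' x.1 ij.1 ij.2
      map_add' := fun _ _ => by ext ij; simp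
      map_smul' := fun _ _ => by ext ij; simp }
  refine finrank_le_ext k (N' := Cm (Matrix.toLin' ((u : Matrix (Fin n) (Fin n) K).map (algebraMap K k)))) f
    (fun x y h => Subtype.ext (Matrix.ext fun i j => congrFun h (i, j))) f' fun x =>
    ⟨⟨Matrix.toLin' (x.1.map (algebraMap K k)), fun v => ?_⟩, ?_⟩
  · have h1 : (u : Matrix (Fin n) (Fin n) K) * x.1 = x.1 * u := (Subalgebra.mem_centralizer_iff K).1 x.2 _ rfl
    rw [← LinearMap.comp_apply, ← LinearMap.comp_apply, ← Matrix.toLin'_mul, ← Matrix.toLin'_mul, ← Matrix.map_mul,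
      ← Matrix.map_mul, h1]
  · funext ij
    change LinearMap.toMatrix' (Matrix.toLin' _) ij.1 ij.2 = _
    rw [LinearMap.toMatrix'_toLin']
    rfl

end ext

end Cfsg.Agent.N2C.RD.WL
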